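import Mathlib

/-!
Numbers of subspaces, of flags and of complementary pairs.
-/

set_option autoImplicit false
set_option linter.unusedSectionVars false
set_option linter.style.haveILetI false

namespace Cfsg.Agent.Elusive

open Module

variable {F : Type*} [Field F] [Fintype F] {V : Type*} [AddCommGroup V] [Module F V] [FiniteDimensional F V]

/-- `∏_{j < k} (q ^ (N - j) - 1)`. -/
def fallProd (q N k : ℕ) : ℕ := ∏ j ∈ Finset.range k, (q ^ (N - j) - 1)

theorem fallProd_split (q : ℕ) {N k : ℕ} : ∀ {l : ℕ}, l ≤ N → l + k ≤ N →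
    fallProd q N (l + k) = fallProd q N l * fallProd q (N - l) k := by
  intro l h1 h2
  simp only [fallProd]
  rw [Finset.prod_range_add]
  congr 1
  exact Finset.prod_congr rfl fun j _ => by rw [Nat.sub_sub]

theorem fallProd_self_split (q : ℕ) {N k : ℕ} (h : k ≤ N) :
    fallProd q N N = fallProd q N k * fallProd q (N - k) (N - k) := by
  conv_lhs => arg 3; rw [← Nat.add_sub_cancel' h]
  exact fallProd_split q h (by omega)

theorem fallProd_pos {q N k : ℕ} (hq : 1 < q) (h : k ≤ N) : 0 < fallProd q N k :=
  Finset.prod_pos fun j hj => by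
    have hj' := Finset.mem_range.1 hj
    have : 1 < q ^ (N - j) := Nat.one_lt_pow (by omega) hq
    omega

theorem prod_frames (q : ℕ) {N k : ℕ} (h : k ≤ N) :
    ∏ i : Fin k, (q ^ N - q ^ i.val) = (∏ j ∈ Finset.range k, q ^ j) * fallProd q N k := by
  rw [Fin.prod_univ_eq_prod_range (fun i => q ^ N - q ^ i) k, fallProd, ← Finset.prod_mul_distrib]
  refine Finset.prod_congr rfl fun j hj => ?_
  have hj' := Finset.mem_range.1 hj
  rw [Nat.mul_sub, mul_one, ← pow_add, Nat.add_sub_cancel' (by omega : j ≤ N)]

/-- The number of `k`-dimensional subspaces. -/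
theorem card_subspace_mul {N : ℕ} (hN : finrank F V = N) {k : ℕ} (hk : k ≤ N) :
    Nat.card {W : Submodule F V // finrank F W = k} * fallProd (Fintype.card F) k k =
      fallProd (Fintype.card F) N k := by
  classical
  haveI : Finite V := Module.finite_of_finite F
  haveI := Fintype.ofFinite {W : Submodule F V // finrank F W = k}
  have hq : 0 < Fintype.card F := Fintype.card_pos
  let Φ : {s : Fin k → V // LinearIndependent F s} → {W : Submodule F V // finrank F W = k} :=
    fun s => ⟨Submodule.span F (Set.range s.1), by rw [finrank_span_eq_card s.2, Fintype.card_fin]⟩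
  have hfib : ∀ W, Nat.card {s // Φ s = W} = ∏ i : Fin k, (Fintype.card F ^ k - Fintype.card F ^ i.val) := by
    intro W
    haveI := Fintype.ofFinite W.1
    have h2 : Nat.card {s : Fin k → W.1 // LinearIndependent F s} =
        ∏ i : Fin k, (Fintype.card F ^ k - Fintype.card F ^ i.val) := by
      rw [card_linearIndependent (le_of_eq W.2.symm), W.2]
    rw [← h2]
    refine Nat.card_congr
      { toFun := fun v => ⟨fun i => ⟨v.1.1 i, by
          have h : Submodule.span F (Set.range v.1.1) = W.1 := congrArg Subtype.val v.2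
          rw [← h]
          exact Submodule.subset_span (Set.mem_range_self i)⟩, LinearIndependent.of_comp W.1.subtype v.1.2⟩
        invFun := fun s => ⟨⟨fun i => (s.1 i : V), s.2.map' W.1.subtype W.1.ker_subtype⟩, Subtype.ext <| by
            refine Submodule.eq_of_le_of_finrank_eq (Submodule.span_le.2 ?_) ?_
            · rintro _ ⟨i, rfl⟩
              exact (s.1 i).2
            · have hs' : LinearIndependent F fun i => (s.1 i : V) := s.2.map' W.1.subtype W.1.ker_subtype
              rw [finrank_span_eq_card hs', Fintype.card_fin, W.2]⟩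
        left_inv := fun v => rfl
        right_inv := fun s => rfl }
  have h : Nat.card {s : Fin k → V // LinearIndependent F s} =
      Nat.card {W : Submodule F V // finrank F W = k} *
        ∏ i : Fin k, (Fintype.card F ^ k - Fintype.card F ^ i.val) := by
    rw [← Nat.card_congr (Equiv.sigmaFiberEquiv Φ), Nat.card_sigma]
    simp only [hfib, Finset.sum_const, Finset.card_univ, smul_eq_mul, Nat.card_eq_fintype_card]
  rw [card_linearIndependent (hk.trans hN.ge), hN, prod_frames _ hk, prod_frames _ le_rfl, ← mul_assoc,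
    mul_comm (Nat.card _), mul_assoc] at h
  exact (Nat.eq_of_mul_eq_mul_left (Finset.prod_pos fun j _ => pow_pos hq j) h).symm

/-- The number of flags `U ≤ W` of dimensions `m`, `N - m`. -/
theorem card_flag_mul {N : ℕ} (hN : finrank F V = N) {m : ℕ} (hm : 2 * m ≤ N) :
    Nat.card {P : Submodule F V × Submodule F V //
        P.1 ≤ P.2 ∧ finrank F P.1 = m ∧ finrank F P.2 = N - m} *
      fallProd (Fintype.card F) m m ^ 2 = fallProd (Fintype.card F) N (2 * m) := by
  classical
  haveI : Finite V := Module.finite_of_finite F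
  haveI := Fintype.ofFinite {W : Submodule F V // finrank F W = m}
  set q := Fintype.card F
  have hq1 : 1 < q := Fintype.one_lt_card
  let e : {P : Submodule F V × Submodule F V // P.1 ≤ P.2 ∧ finrank F P.1 = m ∧ finrank F P.2 = N - m} ≃
      Σ U : {W : Submodule F V // finrank F W = m},
        {W : Submodule F V // U.1 ≤ W ∧ finrank F W = N - m} :=
    { toFun := fun P => ⟨⟨P.1.1, P.2.2.1⟩, ⟨P.1.2, P.2.1, P.2.2.2⟩⟩
      invFun := fun P => ⟨(P.1.1, P.2.1), P.2.2.1, P.1.2, P.2.2.2⟩
      left_inv := fun P => rfl
      right_inv := fun P => rfl }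
  have hfib : ∀ U : {W : Submodule F V // finrank F W = m},
      Nat.card {W : Submodule F V // U.1 ≤ W ∧ finrank F W = N - m} *
        fallProd q (N - 2 * m) (N - 2 * m) = fallProd q (N - m) (N - 2 * m) := by
    intro U
    have hquot : finrank F (V ⧸ U.1) = N - m := by
      have := Submodule.finrank_quotient_add_finrank U.1
      have := U.2
      omega
    rw [← card_subspace_mul (F := F) hquot (k := N - 2 * m) (by omega)]
    congr 1
    refine Nat.card_congr ?_
    let o := Submodule.comapMkQRelIso U.1
    have hdim : ∀ W' : Submodule F (V ⧸ U.1), finrank F (o W').1 = m + finrank F W' := by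
      intro W'
      show finrank F (W'.comap U.1.mkQ) = _
      have h1 := LinearMap.finrank_range_add_finrank_ker (U.1.mkQ.comp (W'.comap U.1.mkQ).subtype)
      rw [LinearMap.range_comp, Submodule.range_subtype, LinearMap.ker_comp,
        Submodule.map_comap_eq_self (by simp), Submodule.ker_mkQ,
        LinearEquiv.finrank_eq (Submodule.comapSubtypeEquivOfLe (Submodule.le_comap_mkQ U.1 W')), U.2] at h1
      omega
    exact
      { toFun := fun W => ⟨o.symm ⟨W.1, W.2.1⟩, by
          have h1 := hdim (o.symm ⟨W.1, W.2.1⟩)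
          rw [OrderIso.apply_symm_apply] at h1
          have h2 := W.2.2
          simp only at h1
          omega⟩
        invFun := fun W' => ⟨(o W'.1).1, (o W'.1).2, by rw [hdim, W'.2]; omega⟩
        left_inv := fun W => by simp
        right_inv := fun W' => Subtype.ext (o.symm_apply_apply W'.1) }
  have hcount : Nat.card {P : Submodule F V × Submodule F V //
        P.1 ≤ P.2 ∧ finrank F P.1 = m ∧ finrank F P.2 = N - m} * fallProd q (N - 2 * m) (N - 2 * m) =
      Nat.card {W : Submodule F V // finrank F W = m} * fallProd q (N - m) (N - 2 * m) := by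
    rw [Nat.card_congr e, Nat.card_sigma, Finset.sum_mul]
    simp only [hfib, Finset.sum_const, Finset.card_univ, smul_eq_mul, Nat.card_eq_fintype_card]
  set c := Nat.card {P : Submodule F V × Submodule F V //
    P.1 ≤ P.2 ∧ finrank F P.1 = m ∧ finrank F P.2 = N - m}
  set G := Nat.card {W : Submodule F V // finrank F W = m}
  have hG : G * fallProd q m m = fallProd q N m := card_subspace_mul hN (by omega)
  have h1 : fallProd q (N - m) (N - 2 * m) * fallProd q m m = fallProd q (N - m) (N - m) := by
    rw [fallProd_self_split q (show N - 2 * m ≤ N - m by omega),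
      show N - m - (N - 2 * m) = m by omega]
  have h2 : fallProd q (N - m) (N - m) =
      fallProd q (N - m) m * fallProd q (N - 2 * m) (N - 2 * m) := by
    rw [fallProd_self_split q (show m ≤ N - m by omega), show N - m - m = N - 2 * m by omega]
  have h3 : fallProd q N (2 * m) = fallProd q N m * fallProd q (N - m) m := by
    rw [two_mul]; exact fallProd_split q (by omega) (by omega)
  apply Nat.eq_of_mul_eq_mul_right (fallProd_pos hq1 (le_refl (N - 2 * m)))
  rw [h3, mul_assoc (fallProd q N m), ← h2, ← h1, ← hG, pow_two]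
  calc c * (fallProd q m m * fallProd q m m) * fallProd q (N - 2 * m) (N - 2 * m) =
      c * fallProd q (N - 2 * m) (N - 2 * m) * fallProd q m m * fallProd q m m := by ring
    _ = _ := by rw [hcount]; ring

/-- The number of complementary pairs. -/
theorem card_compl_pairs {N : ℕ} (hN : finrank F V = N) (m : ℕ) :
    Nat.card {P : Submodule F V × Submodule F V // IsCompl P.1 P.2 ∧ finrank F P.1 = m} =
      Nat.card {W : Submodule F V // finrank F W = m} * Fintype.card F ^ ((N - m) * m) := by
  classical
  haveI : Finite V := Module.finite_of_finite F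
  haveI := Fintype.ofFinite {W : Submodule F V // finrank F W = m}
  let e : {P : Submodule F V × Submodule F V // IsCompl P.1 P.2 ∧ finrank F P.1 = m} ≃
      Σ U : {W : Submodule F V // finrank F W = m}, {W : Submodule F V // IsCompl U.1 W} :=
    { toFun := fun P => ⟨⟨P.1.1, P.2.2⟩, ⟨P.1.2, P.2.1⟩⟩
      invFun := fun P => ⟨(P.1.1, P.2.1), P.2.2, P.1.2⟩
      left_inv := fun P => rfl
      right_inv := fun P => rfl }
  have hfib : ∀ U : {W : Submodule F V // finrank F W = m},
      Nat.card {W : Submodule F V // IsCompl U.1 W} = Fintype.card F ^ ((N - m) * m) := by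
    intro U
    obtain ⟨W₀, hW₀⟩ := exists_isCompl U.1
    let f₀ := (Submodule.isComplEquivProj U.1 ⟨W₀, hW₀⟩)
    rw [Nat.card_congr (Submodule.isComplEquivProj U.1)]
    let e' : {f : V →ₗ[F] U.1 // ∀ x : U.1, f x = x} ≃ ((V ⧸ U.1) →ₗ[F] U.1) :=
      { toFun := fun f => U.1.liftQ (f.1 - f₀.1) fun x hx => by
          simp [f.2 ⟨x, hx⟩, f₀.2 ⟨x, hx⟩]
        invFun := fun g => ⟨f₀.1 + g.comp U.1.mkQ, fun x => by
          simp [f₀.2 x, (Submodule.Quotient.mk_eq_zero _).2 x.2]⟩
        left_inv := fun f => Subtype.ext (by ext x; simp)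
        right_inv := fun g => by ext x; simp }
    rw [Nat.card_congr e']
    haveI : Finite ((V ⧸ U.1) →ₗ[F] U.1) := Module.finite_of_finite F
    rw [Module.natCard_eq_pow_finrank (K := F), Nat.card_eq_fintype_card, Module.finrank_linearMap]
    have h1 := Submodule.finrank_quotient_add_finrank U.1
    rw [U.2, hN] at h1
    rw [U.2, show finrank F (V ⧸ U.1) = N - m by omega]
  rw [Nat.card_congr e, Nat.card_sigma]
  simp only [hfib, Finset.sum_const, Finset.card_univ, smul_eq_mul, Nat.card_eq_fintype_card]

/-- A prime dividing the falling product gives a small residue of `N` modulo the order of `q`. -/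
theorem exists_order_dvd {q r N k : ℕ} [Fact r.Prime] (hq : 1 < q) (hk : k ≤ N)
    (h : r ∣ fallProd q N k) :
    (q : ZMod r) ≠ 0 ∧ ∃ j < k, orderOf (q : ZMod r) ∣ N - j := by
  rw [fallProd, (Fact.out : r.Prime).prime.dvd_finsetProd_iff] at h
  obtain ⟨j, hj, hd⟩ := h
  have hj' := Finset.mem_range.1 hj
  have hpow : (q : ZMod r) ^ (N - j) = 1 := by
    rw [← ZMod.natCast_eq_zero_iff, Nat.cast_sub (Nat.one_le_pow _ _ (by omega)), Nat.cast_pow,
      Nat.cast_one, sub_eq_zero] at hd
    exact hd
  refine ⟨fun h0 => ?_, j, hj', orderOf_dvd_iff_pow_eq_one.2 hpow⟩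
  rw [h0, zero_pow (by omega)] at hpow
  exact zero_ne_one hpow

end Cfsg.Agent.Elusive
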