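import Cfsg.Agent.Lib.Elusive.Sl
import Cfsg.Prelude.Def_GeometricClasses

/-!
Elements of prime order and decompositions of the space into subspaces of equal dimension.
-/

set_option autoImplicit false
set_option linter.unusedSectionVars false
set_option linter.style.haveILetI false

namespace Cfsg.Agent.Elusive.Decomp

open Polynomial Module

section Families

variable {F : Type*} [Field F] [Fintype F] {V : Type*} [AddCommGroup V] [Module F V] [FiniteDimensional F V]
  {f : End F V} {r : ℕ} [Fact r.Prime]

theorem geom_mul_sub_one (hpow : f ^ r = 1) :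
    aeval f (∑ j ∈ Finset.range r, X ^ j : F[X]) * (f - 1) = 0 := by
  rw [map_sum]
  simp only [map_pow, aeval_X]
  rw [geom_sum_mul, hpow, sub_self]

/-- An invariant subspace meets the fixed space in enough: it splits into `t` invariant parts of dimension `a`. -/
theorem exists_inv_family (hr : (r : F) ≠ 0) (hpow : f ^ r = 1) {a : ℕ} :
    ∀ (t : ℕ) (S : Submodule F V), Inv f S → finrank F S = t * a →
      t * (a % orderOf (Fintype.card F : ZMod r)) ≤ finrank F ↥(LinearMap.ker (f - 1) ⊓ S) →
      ∃ v : Fin t × Fin a → V, Submodule.span F (Set.range v) = S ∧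
        ∀ l i, f (v (l, i)) ∈ Submodule.span F (Set.range fun i' => v (l, i')) := by
  intro t
  set c := orderOf (Fintype.card F : ZMod r) with hc
  induction t with
  | zero =>
    intro S _ hS _
    refine ⟨fun p => p.1.elim0, ?_, fun l => l.elim0⟩
    rw [Set.range_eq_empty, Submodule.span_empty]
    exact (Submodule.finrank_eq_zero.1 (by simpa using hS)).symm
  | succ t ih =>
    intro S hS hdim hfix
    set K := LinearMap.ker (f - 1) with hK
    set M := LinearMap.ker (aeval f (∑ j ∈ Finset.range r, X ^ j : F[X])) with hM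
    have hss := isSemisimple_of_pow hr hpow
    have hKM : IsCompl K M := isCompl_parts hr hpow
    set S' := S.map (f - 1) with hS'
    have hS'M : S' ≤ M := by
      rintro _ ⟨w, -, rfl⟩
      exact LinearMap.congr_fun (geom_mul_sub_one hpow) w
    have hS'S : S' ≤ S := by
      rintro _ ⟨w, hw, rfl⟩
      exact S.sub_mem (hS w hw) hw
    have hS'inv : Inv f S' := by
      rintro _ ⟨w, hw, rfl⟩
      exact ⟨f w, hS w hw, by simp⟩
    have hKann : ∀ v ∈ K ⊓ S, aeval f (X - 1 : F[X]) v = 0 := fun v hv => by
      simpa using (show (f - 1) v = 0 from hv.1)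
    have hKinv : Inv f (K ⊓ S) := fun v hv => by
      have hfv : f v = v := sub_eq_zero.1 (show (f - 1) v = 0 from hv.1)
      rw [hfv]; exact hv
    obtain ⟨C, hC⟩ := dvd_finrank (factorDeg_geom hr) hS'inv fun v hv => hS'M hv
    rw [← hc] at hC
    have hsplit : finrank F S = finrank F ↥(K ⊓ S) + c * C := by
      have h := LinearMap.finrank_range_add_finrank_ker ((f - 1).comp S.subtype)
      rw [LinearMap.range_comp, Submodule.range_subtype, LinearMap.ker_comp,
        LinearEquiv.finrank_eq (Submodule.equivMapOfInjective S.subtype S.injective_subtype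
          (Submodule.comap S.subtype K)),
        Submodule.map_comap_subtype, inf_comm, ← hS', hC] at h
      omega
    set j0 := finrank F ↥(K ⊓ S) with hj0
    set A := a / c with hA
    have hdm := Nat.mod_add_div a c
    rw [← hA] at hdm
    rw [hsplit, Nat.succ_mul] at hdim
    rw [Nat.succ_mul] at hfix
    have htl : t * (a % c) ≤ t * a := Nat.mul_le_mul_left t (Nat.mod_le a c)
    set w := min A C with hw
    have hwA : c * w ≤ c * A := Nat.mul_le_mul_left c (Nat.min_le_left _ _)
    have hwC : c * w ≤ c * C := Nat.mul_le_mul_left c (Nat.min_le_right _ _)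
    have hwcase : c * w = c * A ∨ c * w = c * C := by
      rcases le_total A C with h | h
      · exact Or.inl (by rw [hw, min_eq_left h])
      · exact Or.inr (by rw [hw, min_eq_right h])
    have hja : a - c * w ≤ j0 ∧ t * (a % c) + (a - c * w) ≤ j0 := by
      rcases hwcase with h | h <;> omega
    obtain ⟨P, hPle, hPinv, hPd⟩ := exists_sub hss factorDeg_X_sub_one hKinv hKann (a - c * w) (by omega)
    obtain ⟨Qw, hQle, hQinv, hQd⟩ := exists_sub hss (factorDeg_geom hr) hS'inv (fun v hv => hS'M hv) w
      (by rw [hC, ← hc, mul_comm w]; exact hwC)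
    rw [← hc, mul_comm w] at hQd
    rw [mul_one] at hPd
    set U := P ⊔ Qw with hU
    have hPK : P ≤ K := hPle.trans inf_le_left
    have hQM : Qw ≤ M := hQle.trans hS'M
    have hUd : finrank F U = a := by
      have h := Submodule.finrank_sup_add_finrank_inf_eq P Qw
      rw [le_bot_iff.1 ((inf_le_inf hPK hQM).trans hKM.inf_eq_bot.le), finrank_bot, hPd, hQd] at h
      rw [hU]; omega
    have hUS : U ≤ S := sup_le (hPle.trans inf_le_right) (hQle.trans hS'S)
    have hUinv : Inv f U := hPinv.sup hQinv
    have hKU : K ⊓ U = P := by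
      rw [hU, inf_comm, sup_inf_assoc_of_le Qw hPK,
        le_bot_iff.1 ((inf_le_inf hQM le_rfl).trans (by rw [inf_comm]; exact hKM.inf_eq_bot.le)), sup_bot_eq]
    obtain ⟨Q, hQ, hUQ⟩ := exists_compl hss hUinv
    set R := S ⊓ Q with hR
    have hsup : U ⊔ R = S := by
      rw [hR, inf_comm, ← sup_inf_assoc_of_le Q hUS, hUQ.sup_eq_top, top_inf_eq]
    have hdis : U ⊓ R = ⊥ := le_bot_iff.1 ((inf_le_inf_left U inf_le_right).trans hUQ.inf_eq_bot.le)
    have hRd : finrank F R = t * a := by
      have h := Submodule.finrank_sup_add_finrank_inf_eq U R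
      rw [hsup, hdis, finrank_bot, hUd, hsplit] at h
      omega
    have hRfix : t * (a % c) ≤ finrank F ↥(K ⊓ R) := by
      have hle : K ⊓ S ≤ (K ⊓ U) ⊔ (K ⊓ R) := by
        rintro v ⟨hvK, hvS⟩
        rw [← hsup] at hvS
        obtain ⟨u, hu, x, hx, rfl⟩ := Submodule.mem_sup.1 hvS
        have h0 : (f - 1) u + (f - 1) x = 0 := by rw [← map_add]; exact hvK
        have h1 : (f - 1) u ∈ U := U.sub_mem (hUinv u hu) hu
        have h2 : (f - 1) x ∈ R := R.sub_mem ((hS.inf hQ) x hx) hx
        have h3 : (f - 1) u = 0 := by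
          have : (f - 1) u ∈ U ⊓ R := ⟨h1, by rw [eq_neg_of_add_eq_zero_left h0]; exact R.neg_mem h2⟩
          rwa [hdis, Submodule.mem_bot] at this
        rw [h3, zero_add] at h0
        exact Submodule.add_mem_sup ⟨h3, hu⟩ ⟨h0, hx⟩
      have h := Submodule.finrank_mono hle
      have h' := Submodule.finrank_sup_add_finrank_inf_eq (K ⊓ U) (K ⊓ R)
      rw [hKU, hPd] at h'
      rw [hKU] at h
      omega
    obtain ⟨v, hv, hvinv⟩ := ih R (hS.inf hQ) hRd hRfix
    let b := Module.finBasisOfFinrankEq F U hUd
    have hb : Submodule.span F (Set.range fun i => (b i : V)) = U := by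
      rw [show (fun i => (b i : V)) = U.subtype ∘ b from rfl, Set.range_comp, Submodule.span_image, b.span_eq,
        Submodule.map_subtype_top]
    refine ⟨fun p => (Fin.cons (fun i => (b i : V)) fun l i => v (l, i) : Fin (t + 1) → Fin a → V) p.1 p.2, ?_, ?_⟩
    · refine le_antisymm (Submodule.span_le.2 ?_) ?_
      · rintro _ ⟨⟨l, i⟩, rfl⟩
        induction l using Fin.cases with
        | zero => simpa using hUS (b i).2
        | succ l =>
          have h1 : v (l, i) ∈ R := hv.le (Submodule.subset_span ⟨(l, i), rfl⟩)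
          simpa using h1.1
      · refine hsup.symm.le.trans (sup_le (hb.symm.le.trans (Submodule.span_mono ?_))
          (hv.symm.le.trans (Submodule.span_mono ?_)))
        · rintro _ ⟨i, rfl⟩; exact ⟨(0, i), by simp⟩
        · rintro _ ⟨⟨l, i⟩, rfl⟩; exact ⟨(l.succ, i), by simp⟩
    · intro l i
      induction l using Fin.cases with
      | zero =>
        simp only [Fin.cons_zero]
        rw [hb]
        exact hUinv _ (b i).2
      | succ l => simpa only [Fin.cons_succ] using hvinv l i

/-- Cyclic vectors generating an invariant subspace all of whose irreducible parts have dimension `d`. -/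
theorem exists_cyclic_family (hss : f.IsSemisimple) {h : F[X]} {d : ℕ} (hdeg : FactorDeg h d) (hd : 0 < d)
    {lam : F} (hpow : f ^ r = lam • 1) :
    ∀ (s : ℕ) (S : Submodule F V), Inv f S → (∀ v ∈ S, aeval f h v = 0) → finrank F S = s * d →
      ∃ w : Fin s → V, (∀ l, w l ∈ S) ∧
        Submodule.span F (Set.range fun p : Fin s × Fin r => (f ^ (p.2 : ℕ)) (w p.1)) = S := by
  intro s
  induction s with
  | zero =>
    intro S _ _ hS
    refine ⟨Fin.elim0, fun l => l.elim0, ?_⟩
    rw [Set.range_eq_empty, Submodule.span_empty]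
    exact (Submodule.finrank_eq_zero.1 (by simpa using hS)).symm
  | succ s ih =>
    intro S hS hann hdim
    obtain ⟨U, hUS, hUinv, hUd⟩ := exists_block hdeg hS hann (fun h0 => by
      rw [h0, finrank_bot, Nat.succ_mul] at hdim
      omega)
    obtain ⟨u, hu, hu0⟩ := Submodule.exists_mem_ne_zero_of_ne_bot (p := U) (fun h0 => by
      rw [h0, finrank_bot] at hUd; omega)
    have hpowU : ∀ (i : ℕ), (f ^ i) u ∈ U := fun i => by
      induction i with
      | zero => simpa using hu
      | succ i ih => rw [pow_succ', Module.End.mul_apply]; exact hUinv _ ih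
    set T := Submodule.span F (Set.range fun i : Fin r => (f ^ (i : ℕ)) u) with hT
    have hr := (Fact.out : r.Prime)
    have hTinv : Inv f T := by
      intro v hv
      induction hv using Submodule.span_induction with
      | mem y hy =>
        obtain ⟨i, rfl⟩ := hy
        rw [← Module.End.mul_apply, ← pow_succ']
        by_cases hi : (i : ℕ) + 1 < r
        · exact Submodule.subset_span ⟨⟨_, hi⟩, rfl⟩
        · rw [show (i : ℕ) + 1 = r by omega, hpow, LinearMap.smul_apply, Module.End.one_apply]
          exact Submodule.smul_mem _ _ (Submodule.subset_span ⟨⟨0, hr.pos⟩, by simp⟩)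
      | zero => rw [map_zero]; exact zero_mem _
      | add a b _ _ ha hb => rw [map_add]; exact add_mem ha hb
      | smul a y _ hy => rw [map_smul]; exact Submodule.smul_mem _ a hy
    have hTU : T ≤ U := Submodule.span_le.2 (by rintro _ ⟨i, rfl⟩; exact hpowU i)
    have hTeq : T = U := by
      refine Submodule.eq_of_le_of_finrank_le hTU ?_
      rw [hUd]
      refine Nat.le_of_dvd (Nat.pos_of_ne_zero fun h0 => hu0 ?_)
        (dvd_finrank hdeg hTinv fun v hv => hann v (hUS (hTU hv)))
      have : u ∈ T := Submodule.subset_span ⟨⟨0, hr.pos⟩, by simp⟩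
      rwa [Submodule.finrank_eq_zero.1 h0, Submodule.mem_bot] at this
    obtain ⟨Q, hQ, hUQ⟩ := exists_compl hss hUinv
    have hsup : U ⊔ S ⊓ Q = S := by
      rw [inf_comm, ← sup_inf_assoc_of_le Q hUS, hUQ.sup_eq_top, top_inf_eq]
    have hRd : finrank F ↥(S ⊓ Q) = s * d := by
      have hdd := Submodule.finrank_sup_add_finrank_inf_eq U (S ⊓ Q)
      rw [hsup, le_bot_iff.1 ((inf_le_inf_left U inf_le_right).trans hUQ.inf_eq_bot.le), finrank_bot, hdim, hUd,
        Nat.succ_mul] at hdd
      omega
    obtain ⟨w, hwS, hw⟩ := ih (S ⊓ Q) (hS.inf hQ) (fun v hv => hann v hv.1) hRd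
    refine ⟨Fin.cons u w, fun l => ?_, le_antisymm (Submodule.span_le.2 ?_) ?_⟩
    · induction l using Fin.cases with
      | zero => simpa using hUS hu
      | succ l => simpa using (hwS l).1
    · rintro _ ⟨⟨l, i⟩, rfl⟩
      induction l using Fin.cases with
      | zero => simpa using hUS (hpowU i)
      | succ l => simpa using (inf_le_left : S ⊓ Q ≤ S) (hw ▸ Submodule.subset_span ⟨(l, i), rfl⟩)
    · conv_lhs => rw [← hsup, ← hTeq, hT, ← hw]
      refine sup_le (Submodule.span_mono ?_) (Submodule.span_mono ?_)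
      · rintro _ ⟨i, rfl⟩; exact ⟨(0, i), by simp⟩
      · rintro _ ⟨⟨l, i⟩, rfl⟩; exact ⟨(l.succ, i), by simp⟩

end Families

section Bounds

variable {F : Type*} [Field F] {V : Type*} [AddCommGroup V] [Module F V] [FiniteDimensional F V]

theorem eq_zero_of_sum {ι : Type*} [Fintype ι] {D : ι → Submodule F V} (hD : iSupIndep D) (z : ι → V)
    (hz : ∀ i, z i ∈ D i) (h0 : ∑ i, z i = 0) (i : ι) : z i = 0 := by
  classical
  rw [Fintype.sum_eq_add_sum_compl i, add_eq_zero_iff_eq_neg] at h0
  have hmem : z i ∈ ⨆ (j) (_ : j ≠ i), D j := by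
    rw [h0]
    refine Submodule.neg_mem _ (Submodule.sum_mem _ fun j hj => ?_)
    exact Submodule.mem_iSup_of_mem j (Submodule.mem_iSup_of_mem (by simpa using hj) (hz j))
  exact Submodule.disjoint_def.1 (iSupIndep_def.1 hD i) _ (hz i) hmem

variable {t a : ℕ} {D : Fin t → Submodule F V} (hD : iSupIndep D) (hdim : ∀ l, finrank F (D l) = a)
  (ha : 1 ≤ a) {f : End F V} (σ : Equiv.Perm (Fin t)) (hmap : ∀ l, (D l).map f = D (σ l))

include hmap in
theorem mem_pow {l : Fin t} {v : V} (hv : v ∈ D l) : ∀ i : ℕ, (f ^ i) v ∈ D ((σ ^ i) l) := fun i => by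
  induction i with
  | zero => simpa using hv
  | succ i ih =>
    rw [pow_succ' σ, Equiv.Perm.mul_apply, pow_succ' f, Module.End.mul_apply, ← hmap]
    exact Submodule.mem_map_of_mem ih

include hD hdim ha hmap in
theorem sigma_pow {r : ℕ} (hpow : f ^ r = 1) : σ ^ r = 1 := by
  refine Equiv.ext fun l => by_contra fun hne => ?_
  obtain ⟨v, hv, hv0⟩ := Submodule.exists_mem_ne_zero_of_ne_bot (p := D l) (fun h0 => by
    have := hdim l; rw [h0, finrank_bot] at this; omega)
  have h := mem_pow σ hmap hv r
  rw [hpow, Module.End.one_apply] at h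
  exact hv0 (Submodule.disjoint_def.1 (hD.pairwiseDisjoint (Ne.symm hne)) v hv h)

include hD hdim ha hmap in
/-- A moved block forces large fixed and moved parts. -/
theorem moved_bounds {r : ℕ} (hr : r.Prime) (hpow : f ^ r = 1) {l : Fin t} (hl : σ l ≠ l) :
    a ≤ finrank F (LinearMap.ker (f - 1)) ∧ (r - 1) * a ≤ finrank F (LinearMap.range (f - 1)) := by
  obtain ⟨r', rfl⟩ : ∃ r', r = r' + 1 := ⟨r - 1, by have := hr.pos; omega⟩
  have hinj : Function.Injective fun i : Fin (r' + 1) => (σ ^ (i : ℕ)) l := by
    have hper : Function.minimalPeriod σ l = r' + 1 := by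
      have hp : Function.IsPeriodicPt σ (r' + 1) l := by
        show σ^[r' + 1] l = l
        rw [← Equiv.Perm.coe_pow, sigma_pow hD hdim ha σ hmap hpow]
        rfl
      rcases hr.eq_one_or_self_of_dvd _ hp.minimalPeriod_dvd with h | h
      · exact absurd (Function.minimalPeriod_eq_one_iff_isFixedPt.1 h) hl
      · exact h
    intro i j hij
    simp only [Equiv.Perm.coe_pow] at hij
    exact Fin.ext (Function.iterate_injOn_Iio_minimalPeriod (by rw [hper]; exact i.2) (by rw [hper]; exact j.2) hij)
  let Φ : (Fin (r' + 1) → D l) →ₗ[F] V :=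
    ∑ i : Fin (r' + 1), (f ^ (i : ℕ)).comp ((D l).subtype.comp (LinearMap.proj i))
  have hΦ : ∀ g, Φ g = ∑ i : Fin (r' + 1), (f ^ (i : ℕ)) (g i : V) := fun g => by
    simp [Φ, LinearMap.sum_apply]
  have hΦinj : ∀ g, Φ g = 0 → g = 0 := fun g hg => by
    rw [hΦ] at hg
    funext i
    refine Subtype.ext ?_
    have h0 := eq_zero_of_sum (hD.comp hinj) (fun i : Fin (r' + 1) => (f ^ (i : ℕ)) (g i : V))
      (fun i => mem_pow σ hmap (g i).2 i) hg i
    have h1 : (f ^ (r' + 1 - (i : ℕ))) ((f ^ (i : ℕ)) (g i : V)) = (g i : V) := by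
      rw [← Module.End.mul_apply, ← pow_add, Nat.sub_add_cancel i.2.le, hpow, Module.End.one_apply]
    rw [h0, map_zero] at h1
    exact h1.symm
  constructor
  · let ψ : D l →ₗ[F] LinearMap.ker (f - 1) :=
      (Φ.comp (LinearMap.pi fun _ => LinearMap.id)).codRestrict _ fun u => by
        show (f - 1) (Φ fun _ => u) = 0
        rw [LinearMap.sub_apply, Module.End.one_apply, hΦ, map_sum]
        simp only [← Module.End.mul_apply, ← pow_succ']
        rw [Fin.sum_univ_eq_sum_range (fun i => (f ^ (i + 1)) (u : V)),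
          Fin.sum_univ_eq_sum_range (fun i => (f ^ i) (u : V)), Finset.sum_range_succ, hpow,
          Finset.sum_range_succ' (fun i => (f ^ i) (u : V)), pow_zero, sub_self]
    rw [← hdim l]
    refine LinearMap.finrank_le_finrank_of_injective (f := ψ) ((injective_iff_map_eq_zero ψ).2 fun u hu => ?_)
    have := hΦinj _ (congrArg Subtype.val hu : Φ (fun _ => u) = 0)
    exact congrFun this 0
  · let ψ : (Fin r' → D l) →ₗ[F] LinearMap.range (f - 1) :=
      ((f - 1).comp (Φ.comp (LinearMap.pi fun i => Fin.lastCases (motive := fun _ => (Fin r' → D l) →ₗ[F] D l)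
        0 (fun j => LinearMap.proj j) i))).codRestrict _ fun g => LinearMap.mem_range_self _ _
    have hψ : Function.Injective ψ := (injective_iff_map_eq_zero ψ).2 fun g hg => by
      set e : Fin (r' + 1) → D l := fun i => Fin.lastCases (motive := fun _ => D l) 0 g i with he
      have hg' : (f - 1) (Φ e) = 0 := by
        have h := congrArg Subtype.val hg
        refine Eq.trans ?_ h
        show (f - 1) (Φ e) = (f - 1) (Φ _)
        congr 2
        funext i
        induction i using Fin.lastCases <;> simp [he]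
      -- shifting
      let e' : Fin (r' + 1) → D l := Fin.cons 0 g
      have hshift : f (Φ e) = Φ e' := by
        rw [hΦ, hΦ, map_sum, Fin.sum_univ_castSucc, Fin.sum_univ_succ (fun i => (f ^ (i : ℕ)) (e' i : V))]
        simp only [he, Fin.lastCases_last, Fin.lastCases_castSucc, e', Fin.cons_zero, Fin.cons_succ,
          Fin.val_castSucc, Fin.val_succ, ← Module.End.mul_apply, ← pow_succ', Submodule.coe_zero, map_zero,
          add_zero, zero_add]
      rw [LinearMap.sub_apply, Module.End.one_apply, hshift, ← map_sub] at hg'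
      have h0 := hΦinj _ hg'
      funext j
      have key : ∀ (k : ℕ) (hk : k < r'), g ⟨k, hk⟩ = 0 := fun k => by
        induction k with
        | zero =>
          intro hk
          have h1 := congrFun h0 (Fin.castSucc ⟨0, hk⟩)
          have h2 : (Fin.castSucc ⟨0, hk⟩ : Fin (r' + 1)) = 0 := rfl
          rw [Pi.sub_apply, Pi.zero_apply] at h1
          simp only [he, Fin.lastCases_castSucc] at h1
          rw [h2] at h1
          simp only [e', Fin.cons_zero, zero_sub, neg_eq_zero] at h1
          exact h1
        | succ k ih =>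
          intro hk
          have h1 := congrFun h0 (Fin.castSucc ⟨k + 1, hk⟩)
          have h2 : (Fin.castSucc ⟨k + 1, hk⟩ : Fin (r' + 1)) = Fin.succ ⟨k, by omega⟩ := rfl
          rw [Pi.sub_apply, Pi.zero_apply] at h1
          simp only [he, Fin.lastCases_castSucc] at h1
          rw [h2] at h1
          simp only [e', Fin.cons_succ, ih (by omega), zero_sub, neg_eq_zero] at h1
          exact h1
      exact key j j.2
    have h := LinearMap.finrank_le_finrank_of_injective hψ
    rw [Module.finrank_pi_fintype, Finset.sum_congr rfl fun i _ => hdim l, Finset.sum_const, Finset.card_univ,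
      Fintype.card_fin, smul_eq_mul] at h
    simpa using h

include hD hdim ha hmap in
/-- Lines permuted by `f`: the fixed space is at least the number of orbits. -/
theorem lines_bound [Fintype F] {r : ℕ} [Fact r.Prime] (hr : (r : F) ≠ 0) (hroot : ∀ μ : F, μ ^ r = 1 → μ = 1)
    (hpow : f ^ r = 1) (ha1 : a = 1) (hsup : iSup D = ⊤) :
    t ≤ r * finrank F (LinearMap.ker (f - 1)) := by
  classical
  subst ha1
  have hrp := (Fact.out : r.Prime)
  have hσr := sigma_pow hD hdim ha σ hmap hpow
  choose y hy hy0 using fun l => Submodule.exists_mem_ne_zero_of_ne_bot (p := D l) (fun h0 => by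
    have := hdim l; rw [h0, finrank_bot] at this; omega)
  have hline : ∀ l v, v ∈ D l → ∃ c : F, v = c • y l := fun l v hv => by
    obtain ⟨c, hc⟩ := (finrank_eq_one_iff_of_nonzero' (⟨y l, hy l⟩ : D l) (fun h => hy0 l (congrArg Subtype.val h))).1
      (hdim l) ⟨v, hv⟩
    exact ⟨c, (congrArg Subtype.val hc).symm⟩
  let T := Finset.univ.filter fun l : Fin t => ∀ i : ℕ, l ≤ (σ ^ i) l
  have hT : t ≤ r * T.card := by
    have hsurj : Function.Surjective fun p : T × Fin r => (σ ^ (p.2 : ℕ)) p.1.1 := by
      intro l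
      obtain ⟨m, hm, hmin⟩ := Finset.exists_min_image ((Finset.range r).image fun i => (σ ^ i) l) id
        ⟨l, Finset.mem_image.2 ⟨0, Finset.mem_range.2 hrp.pos, rfl⟩⟩
      obtain ⟨i, hi, rfl⟩ := Finset.mem_image.1 hm
      have hmT : (σ ^ i) l ∈ T := by
        refine Finset.mem_filter.2 ⟨Finset.mem_univ _, fun j => hmin _ (Finset.mem_image.2
          ⟨(j + i) % r, Finset.mem_range.2 (Nat.mod_lt _ hrp.pos), ?_⟩)⟩
        rw [← Equiv.Perm.mul_apply, ← pow_add, ← pow_eq_pow_mod _ hσr]
      refine ⟨(⟨_, hmT⟩, ⟨(r - i) % r, Nat.mod_lt _ hrp.pos⟩), ?_⟩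
      show (σ ^ ((r - i) % r)) ((σ ^ i) l) = l
      rw [← pow_eq_pow_mod _ hσr, ← Equiv.Perm.mul_apply, ← pow_add,
        Nat.sub_add_cancel (Finset.mem_range.1 hi).le, hσr, Equiv.Perm.one_apply]
    have h := Fintype.card_le_of_surjective _ hsurj
    rw [Fintype.card_fin, Fintype.card_prod, Fintype.card_coe, Fintype.card_fin, mul_comm] at h
    exact h
  refine hT.trans (Nat.mul_le_mul_left r ?_)
  have hz : ∀ l i, ∃ c : F, (f ^ i) (y l) = c • y ((σ ^ i) l) := fun l i => hline _ _ (mem_pow σ hmap (hy l) i)
  let P : V →ₗ[F] V := ∑ i ∈ Finset.range r, f ^ i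
  have hPK : ∀ v, P v ∈ LinearMap.ker (f - 1) := fun v => by
    show (f - 1) ((∑ i ∈ Finset.range r, f ^ i) v) = 0
    rw [← Module.End.mul_apply, mul_geom_sum, hpow, sub_self, LinearMap.zero_apply]
  have hli : LinearIndependent F (fun l : T => (⟨P (y l.1), hPK _⟩ : LinearMap.ker (f - 1))) := by
    rw [Fintype.linearIndependent_iff]
    intro g hg l
    have h0 : ∑ j : T, g j • P (y j.1) = 0 := by simpa using congrArg Subtype.val hg
    choose c hc using hz
    -- collect the terms by blocks
    let z : Fin t → V := fun k => ∑ j : T, ∑ i ∈ (Finset.range r).filter (fun i => (σ ^ i) j.1 = k),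
      g j • c j.1 i • y k
    have hz0 : ∑ k, z k = 0 := by
      rw [← h0, Finset.sum_comm]
      refine Finset.sum_congr rfl fun j _ => ?_
      simp only [P, LinearMap.sum_apply, Finset.smul_sum, hc]
      rw [← Finset.sum_fiberwise (Finset.range r) (fun i => (σ ^ i) j.1)
        (fun i => g j • c j.1 i • y ((σ ^ i) j.1))]
      exact Finset.sum_congr rfl fun k _ => Finset.sum_congr rfl fun i hi => by rw [(Finset.mem_filter.1 hi).2]
    have hzl := eq_zero_of_sum hD z (fun k => Submodule.sum_mem _ fun j _ => Submodule.sum_mem _ fun i _ =>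
      Submodule.smul_mem _ _ (Submodule.smul_mem _ _ (hy k))) hz0 l.1
    simp only [z] at hzl
    rw [Finset.sum_eq_single l] at hzl
    · simp only [← Finset.smul_sum, ← Finset.sum_smul, smul_smul] at hzl
      have h' := (smul_eq_zero.1 hzl).resolve_right (hy0 _)
      rw [← Finset.mul_sum] at h'
      refine (mul_eq_zero.1 h').resolve_right ?_
      by_cases hfix : σ l.1 = l.1
      · have hpw : ∀ i : ℕ, (σ ^ i) l.1 = l.1 := fun i => by
          induction i with
          | zero => rfl
          | succ i ih => rw [pow_succ', Equiv.Perm.mul_apply, ih, hfix]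
        have hfy : f (y l.1) = y l.1 := by
          have h1 := hc l.1 1
          rw [pow_one, hpw] at h1
          have hpw' : ∀ i : ℕ, (f ^ i) (y l.1) = c l.1 1 ^ i • y l.1 := fun i => by
            induction i with
            | zero => simp
            | succ i ih => rw [pow_succ', Module.End.mul_apply, ih, map_smul, h1, smul_smul, pow_succ]
          have h2 := hpw' r
          rw [hpow, Module.End.one_apply] at h2
          have h3 : c l.1 1 ^ r = 1 := (smul_left_injective F (hy0 _)) (by simpa using h2.symm)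
          rw [h1, hroot _ h3, one_smul]
        have hci : ∀ i, c l.1 i = 1 := fun i => by
          have h1 := hc l.1 i
          rw [hpw] at h1
          have h4 : (f ^ i) (y l.1) = y l.1 := by
            induction i with
            | zero => simp
            | succ i ih => rw [pow_succ', Module.End.mul_apply, ih (hc l.1 i |>.trans (by rw [hpw])), hfy]
          exact (smul_left_injective F (hy0 _)) (by simpa using (h4.symm.trans h1).symm)
        simp only [hpw, hci, Finset.sum_const, Finset.filter_true_of_mem (fun _ _ => trivial), Finset.card_range,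
          nsmul_eq_mul, mul_one]
        exact hr
      · have hper : Function.minimalPeriod σ l.1 = r := by
          have hp : Function.IsPeriodicPt σ r l.1 := by
            show σ^[r] l.1 = l.1
            rw [← Equiv.Perm.coe_pow, hσr]
            rfl
          rcases hrp.eq_one_or_self_of_dvd _ hp.minimalPeriod_dvd with h | h
          · exact absurd (Function.minimalPeriod_eq_one_iff_isFixedPt.1 h) hfix
          · exact h
        have hfilt : (Finset.range r).filter (fun i => (σ ^ i) l.1 = l.1) = {0} := by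
          ext i
          simp only [Finset.mem_filter, Finset.mem_range, Finset.mem_singleton, Equiv.Perm.coe_pow]
          refine ⟨fun h => ?_, fun h => by subst h; exact ⟨hrp.pos, rfl⟩⟩
          exact Function.iterate_injOn_Iio_minimalPeriod (by rw [hper]; exact h.1) (by rw [hper]; exact hrp.pos)
            (by simpa using h.2)
        rw [hfilt, Finset.sum_singleton]
        intro h1
        have h2 := hc l.1 0
        rw [h1, zero_smul] at h2
        exact hy0 _ (by simpa using h2)
    · intro j _ hj
      refine Finset.sum_eq_zero fun i hi => ?_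
      exfalso
      have hi2 := (Finset.mem_filter.1 hi).2
      have hir := Finset.mem_range.1 (Finset.mem_filter.1 hi).1
      have h1 : j.1 ≤ l.1 := hi2 ▸ (Finset.mem_filter.1 j.2).2 i
      have h2 : l.1 ≤ j.1 := by
        have h3 := (Finset.mem_filter.1 l.2).2 (r - i)
        rwa [← hi2, ← Equiv.Perm.mul_apply, ← pow_add, Nat.sub_add_cancel hir.le, hσr, Equiv.Perm.one_apply,
          hi2] at h3
      exact hj (Subtype.ext (le_antisymm h1 h2))
    · simp
  simpa using hli.fintype_card_le_finrank

include hD hdim in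
/-- Invariant blocks: each uses at least `a % c` fixed dimensions, and one of them moves when `f ≠ 1`. -/
theorem invariant_bounds [Fintype F] {r : ℕ} [Fact r.Prime] (hr : (r : F) ≠ 0) (hpow : f ^ r = 1)
    (hinv : ∀ l, Inv f (D l)) (hsup : iSup D = ⊤) :
    t * (a % orderOf (Fintype.card F : ZMod r)) ≤ finrank F (LinearMap.ker (f - 1)) ∧
      (f ≠ 1 → orderOf (Fintype.card F : ZMod r) ≤ a) := by
  classical
  choose b hb using fun l => dim_eq hr hpow (hinv l)
  constructor
  · let Φ : ((l : Fin t) → ↥(LinearMap.ker (f - 1) ⊓ D l)) →ₗ[F] LinearMap.ker (f - 1) :=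
      ∑ l, ((Submodule.inclusion inf_le_left).comp (LinearMap.proj l))
    have hΦ : Function.Injective Φ := (injective_iff_map_eq_zero Φ).2 fun g hg => funext fun l => Subtype.ext
      (eq_zero_of_sum hD (fun l => (g l : V)) (fun l => (g l).2.2)
        (by simpa [Φ, LinearMap.sum_apply] using congrArg Subtype.val hg) l)
    refine le_trans ?_ (LinearMap.finrank_le_finrank_of_injective hΦ)
    rw [Module.finrank_pi_fintype]
    refine le_trans ?_ (Finset.card_nsmul_le_sum Finset.univ _ (a % orderOf (Fintype.card F : ZMod r))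
      fun l _ => ?_)
    · simp
    · conv_lhs => rw [← hdim l, hb l, Nat.add_mul_mod_self_right]
      exact Nat.mod_le _ _
  · intro hf
    by_contra hlt
    push Not at hlt
    apply hf
    have htop : (⊤ : Submodule F V) ≤ LinearMap.ker (f - 1) := by
      rw [← hsup]
      refine iSup_le fun l => ?_
      have h := hb l
      rw [hdim l] at h
      have hb0 : b l = 0 := by
        by_contra hne
        have := Nat.le_mul_of_pos_left (orderOf (Fintype.card F : ZMod r)) (Nat.pos_of_ne_zero hne)
        omega
      rw [hb0, zero_mul, add_zero] at h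
      exact (Submodule.eq_of_le_of_finrank_le (inf_le_right : LinearMap.ker (f - 1) ⊓ D l ≤ D l)
        (by rw [hdim l, ← h])).symm.le.trans inf_le_left
    exact LinearMap.ext fun v => sub_eq_zero.1 (show (f - 1) v = 0 from htop trivial)

end Bounds

section Matrices

variable {F : Type*} [Field F] {n a t : ℕ}

/-- A spanning family in `t` classes of size `a`, permuted by `x`. -/
theorem decomp_of_spanning (hat : n = a * t) (ht : 2 ≤ t) (ha : 1 ≤ a) (x : Matrix (Fin n) (Fin n) F)
    (hx : Function.Injective (Matrix.toLin' x)) (v : Fin t × Fin a → (Fin n → F))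
    (hv : Submodule.span F (Set.range v) = ⊤) (σ : Equiv.Perm (Fin t))
    (hσ : ∀ l i, Matrix.toLin' x (v (l, i)) ∈ Submodule.span F (Set.range fun i' => v (σ l, i'))) :
    ∃ D : Fin t → Submodule F (Fin n → F), Cfsg.Geo.IsMDecomposition a D ∧
      ∃ σ : Equiv.Perm (Fin t), ∀ j, (D j).map (Matrix.toLin' x) = D (σ j) := by
  have hli : LinearIndependent F v := linearIndependent_of_top_le_span_of_card_eq_finrank hv.ge (by
    rw [Fintype.card_prod, Fintype.card_fin, Fintype.card_fin, Module.finrank_fin_fun, hat, mul_comm])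
  set D : Fin t → Submodule F (Fin n → F) := fun l => Submodule.span F (Set.range fun i => v (l, i))
  have hfr : ∀ l, finrank F (D l) = a := fun l =>
    (finrank_span_eq_card (hli.comp (fun i => (l, i)) fun i j h => (Prod.ext_iff.1 h).2)).trans (Fintype.card_fin a)
  have himg : ∀ l, D l = Submodule.span F (v '' {p | p.1 = l}) := fun l => congrArg (Submodule.span F) (Set.ext fun y => by
    constructor
    · rintro ⟨i, rfl⟩; exact ⟨(l, i), rfl, rfl⟩
    · rintro ⟨⟨l', i⟩, rfl, rfl⟩; exact ⟨i, rfl⟩)
  refine ⟨D, ⟨ht, ha, hfr, ?_, ?_⟩, σ, fun j => ?_⟩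
  · rw [iSupIndep_def]
    intro l
    have hle : (⨆ (j) (_ : j ≠ l), D j) ≤ Submodule.span F (v '' {p | p.1 ≠ l}) := iSup₂_le fun j hj => by
      rw [himg]
      exact Submodule.span_mono (Set.image_mono fun p hp => by
        show p.1 ≠ l
        rw [show p.1 = j from hp]; exact hj)
    refine Disjoint.mono_right hle ?_
    rw [himg]
    exact hli.disjoint_span_image (Set.disjoint_left.2 fun p hp hp' => hp' hp)
  · refine eq_top_iff.2 (hv ▸ Submodule.span_le.2 ?_)
    rintro _ ⟨⟨l, i⟩, rfl⟩
    exact Submodule.mem_iSup_of_mem l (Submodule.subset_span ⟨i, rfl⟩)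
  · refine Submodule.eq_of_le_of_finrank_eq ?_ ?_
    · rw [Submodule.map_span_le]
      rintro _ ⟨i, rfl⟩
      exact hσ j i
    · rw [← (Submodule.equivMapOfInjective _ hx (D j)).finrank_eq, hfr, hfr]

/-- The linear group is transitive on decompositions, and the symmetric group acts freely on them. -/
theorem exists_aut_of_dvd [Fintype F] {r : ℕ} [Fact r.Prime] (hat : n = a * t) (ht : 2 ≤ t) (ha : 1 ≤ a)
    (hΩ : r ∣ Nat.card {D : Fin t → Submodule F (Fin n → F) // Cfsg.Geo.IsMDecomposition a D} / Nat.factorial t) :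
    ∃ g : (Fin n → F) ≃ₗ[F] (Fin n → F), orderOf g = r := by
  classical
  haveI : Finite ((Fin n → F) ≃ₗ[F] (Fin n → F)) := Finite.of_injective _ DFunLike.coe_injective
  set X := {D : Fin t → Submodule F (Fin n → F) // Cfsg.Geo.IsMDecomposition a D}
  haveI : Finite X := Subtype.finite
  refine exists_prime_orderOf_dvd_card' r ?_
  have hfree : Nat.factorial t ∣ Nat.card X := by
    letI : MulAction (Equiv.Perm (Fin t)) X :=
      { smul := fun π D => ⟨D.1 ∘ π.symm, D.2.two_le, D.2.pos, fun i => D.2.finrank_eq _,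
          D.2.indep.comp π.symm.injective, by rw [Function.comp_def, π.symm.surjective.iSup_comp D.1]; exact D.2.iSup_eq_top⟩
        one_smul := fun D => rfl
        mul_smul := fun π π' D => rfl }
    have hst : ∀ D : X, MulAction.stabilizer (Equiv.Perm (Fin t)) D = ⊥ := fun D => by
      rw [Subgroup.eq_bot_iff_forall]
      intro π hπ
      refine Equiv.ext fun i => by_contra fun hne' => ?_
      have hne : π i ≠ i := hne'
      have h := congrFun (congrArg Subtype.val hπ) (π i)
      change D.1 (π.symm (π i)) = D.1 (π i) at h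
      rw [π.symm_apply_apply] at h
      have hd := D.2.indep.pairwiseDisjoint hne
      rw [Function.onFun, ← h, disjoint_self] at hd
      have := D.2.finrank_eq i
      rw [hd, finrank_bot] at this
      exact absurd D.2.pos (by omega)
    haveI := Fintype.ofFinite (Quotient (MulAction.orbitRel (Equiv.Perm (Fin t)) X))
    rw [Nat.card_congr (MulAction.selfEquivSigmaOrbitsQuotientStabilizer (Equiv.Perm (Fin t)) X), Nat.card_sigma]
    refine Finset.dvd_sum fun o _ => ?_
    rw [hst, ← Subgroup.index_eq_card, Subgroup.index_bot, Nat.card_eq_fintype_card, Fintype.card_perm,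
      Fintype.card_fin]
  refine (hΩ.trans (Nat.div_dvd_of_dvd hfree)).trans ?_
  obtain ⟨D₀, hD₀⟩ : ∃ D : Fin t → Submodule F (Fin n → F), Cfsg.Geo.IsMDecomposition a D := by
    obtain ⟨e⟩ : Nonempty (Fin t × Fin a ≃ Fin n) := ⟨finProdFinEquiv.trans (finCongr (by rw [hat, mul_comm]))⟩
    obtain ⟨D, hD, -⟩ := decomp_of_spanning hat ht ha (1 : Matrix (Fin n) (Fin n) F)
      (fun u w h => by simpa using h) (Pi.basisFun F (Fin n) ∘ e)
      (by rw [e.surjective.range_comp]; exact (Pi.basisFun F (Fin n)).span_eq) 1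
      (fun l i => by rw [Matrix.toLin'_one]; exact Submodule.subset_span ⟨i, rfl⟩)
    exact ⟨D, hD⟩
  obtain ⟨D₀, rfl⟩ : ∃ D : X, D.1 = D₀ := ⟨⟨D₀, hD₀⟩, rfl⟩
  letI : MulAction ((Fin n → F) ≃ₗ[F] (Fin n → F)) (Fin t → Submodule F (Fin n → F)) :=
    { smul := fun g D l => (D l).map g.toLinearMap
      one_smul := fun D => funext fun l => Submodule.map_id _
      mul_smul := fun g g' D => funext fun l => Submodule.map_comp g'.toLinearMap g.toLinearMap _ }
  have horb : MulAction.orbit ((Fin n → F) ≃ₗ[F] (Fin n → F)) D₀.1 = {D | Cfsg.Geo.IsMDecomposition a D} := by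
    ext D
    constructor
    · rintro ⟨g, rfl⟩
      refine ⟨D₀.2.two_le, D₀.2.pos, fun i => ?_, ?_, ?_⟩
      · show finrank F ↥((D₀.1 i).map g.toLinearMap) = a
        rw [LinearEquiv.finrank_map_eq, D₀.2.finrank_eq]
      · exact D₀.2.indep.map_orderIso (Submodule.orderIsoMapComap g)
      · show ⨆ l, (D₀.1 l).map g.toLinearMap = ⊤
        rw [← Submodule.map_iSup, D₀.2.iSup_eq_top, Submodule.map_top, LinearEquiv.range]
    · intro hD
      have h1 : DirectSum.IsInternal D₀.1 :=
        DirectSum.isInternal_submodule_of_iSupIndep_of_iSup_eq_top D₀.2.indep D₀.2.iSup_eq_top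
      have h2 : DirectSum.IsInternal D :=
        DirectSum.isInternal_submodule_of_iSupIndep_of_iSup_eq_top hD.indep hD.iSup_eq_top
      let b₀ := h1.collectedBasis fun l => Module.finBasisOfFinrankEq F _ (D₀.2.finrank_eq l)
      let b := h2.collectedBasis fun l => Module.finBasisOfFinrankEq F _ (hD.finrank_eq l)
      refine ⟨b₀.equiv b (Equiv.refl _), funext fun l => ?_⟩
      show (D₀.1 l).map (b₀.equiv b (Equiv.refl _)).toLinearMap = D l
      refine Submodule.eq_of_le_of_finrank_eq ?_ (by
        rw [LinearEquiv.finrank_map_eq, D₀.2.finrank_eq, hD.finrank_eq])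
      rw [Submodule.map_le_iff_le_comap]
      intro v hv
      have e := ((Module.finBasisOfFinrankEq F _ (D₀.2.finrank_eq l)).sum_repr ⟨v, hv⟩)
      have e' := congrArg Subtype.val e
      rw [Submodule.coe_sum] at e'
      rw [show v = _ from e'.symm]
      refine Submodule.sum_mem _ fun i _ => ?_
      rw [Submodule.coe_smul]
      refine Submodule.smul_mem _ _ ?_
      show b₀.equiv b (Equiv.refl _) _ ∈ D l
      have hb₀ : ((Module.finBasisOfFinrankEq F _ (D₀.2.finrank_eq l)) i : Fin n → F) = b₀ ⟨l, i⟩ := by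
        simp [b₀]
      rw [hb₀, Module.Basis.equiv_apply]
      exact h2.collectedBasis_mem (fun l => Module.finBasisOfFinrankEq F _ (hD.finrank_eq l)) ⟨l, i⟩
  have hX : Nat.card X = Nat.card (MulAction.orbit ((Fin n → F) ≃ₗ[F] (Fin n → F)) D₀.1) := by
    rw [horb]; rfl
  rw [hX, Nat.card_congr (MulAction.orbitEquivQuotientStabilizer _ _)]
  exact Subgroup.card_quotient_dvd_card _

/-- An element of order `r` moving exactly one block of dimension `c`. -/
theorem exists_single_block [Fintype F] (p : ℕ) [Fact p.Prime] [CharP F p] {r : ℕ} [Fact r.Prime] (hrp : r ≠ p)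
    (hc2 : 2 ≤ orderOf (Fintype.card F : ZMod r)) (hcn : orderOf (Fintype.card F : ZMod r) ≤ n) :
    ∃ x : Matrix.SpecialLinearGroup (Fin n) F, endOf x ^ r = 1 ∧ endOf x ≠ 1 ∧
      finrank F (LinearMap.range (endOf x - 1)) ≤ orderOf (Fintype.card F : ZMod r) := by
  set c := orderOf (Fintype.card F : ZMod r)
  obtain ⟨y, -, hy2, hyr, -, -⟩ := exists_witness (n := c) p hrp hc2 le_rfl
  let g : End F ((Fin (n - c) → F) × (Fin c → F)) := (1 : End F (Fin (n - c) → F)).prodMap (endOf y)
  have hg : g ^ r = 1 := by
    have : ∀ k, g ^ k = LinearMap.prodMap 1 (endOf y ^ k) := fun k => by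
      induction k with
      | zero => rw [pow_zero, pow_zero]; exact LinearMap.prodMap_one.symm
      | succ k ih => rw [pow_succ, ih, pow_succ]; exact (LinearMap.prodMap_mul _ _ _ _).trans (by rw [one_mul])
    rw [this, hyr, LinearMap.prodMap_one]
  have hdet : LinearMap.det g = 1 := by
    show LinearMap.det ((1 : End F (Fin (n - c) → F)).prodMap (endOf y)) = 1
    rw [LinearMap.det_prodMap, map_one, one_mul, endOf, LinearMap.det_toLin']
    exact y.2
  have hfin : finrank F ((Fin (n - c) → F) × (Fin c → F)) = n := by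
    rw [Module.finrank_prod, Module.finrank_fin_fun, Module.finrank_fin_fun]
    omega
  obtain ⟨x, e, hx⟩ := exists_sl_of_end hfin g hdet
  refine ⟨x, by rw [hx, ← map_pow, hg, map_one], fun h1 => ?_, ?_⟩
  · rw [hx, map_eq_one_iff _ (AlgEquiv.injective _)] at h1
    refine hy2 1 ((endOf_scalar_iff y 1).1 ?_)
    rw [one_smul]
    exact LinearMap.ext fun v => congrArg Prod.snd (LinearMap.congr_fun h1 (0, v))
  · have hr : LinearMap.range (endOf x - 1) ≤
        (LinearMap.range (LinearMap.inr F (Fin (n - c) → F) (Fin c → F))).map e.toLinearMap := by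
      rintro _ ⟨v, rfl⟩
      obtain ⟨u, rfl⟩ := e.surjective v
      refine ⟨(0, (endOf y - 1) u.2), ⟨_, rfl⟩, ?_⟩
      rw [hx, LinearMap.sub_apply, Module.End.one_apply]
      show e (0, _) = e (g (e.symm (e u))) - e u
      rw [e.symm_apply_apply, ← map_sub]
      congr 1
      exact Prod.ext (by simp [g]) (by simp [g])
    refine (Submodule.finrank_mono hr).trans (le_of_eq ?_)
    rw [LinearEquiv.finrank_map_eq, LinearMap.finrank_range_of_inj LinearMap.inr_injective, Module.finrank_fin_fun]

end Matrices

end Cfsg.Agent.Elusive.Decomp
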