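import Mathlib
import Cfsg.Agent.Lib.Semisimple.Basic

/-!
Dimensions of invariant subspaces of semisimple maps all of whose eigenvalues have the same degree,
and of maps `f` with `f ^ r = 1` for a prime `r` different from the characteristic.
-/

set_option autoImplicit false
set_option linter.unusedSectionVars false
set_option linter.style.haveILetI false

namespace Cfsg.Agent.Elusive

open Polynomial Module

variable {F : Type*} [Field F] {V : Type*} [AddCommGroup V] [Module F V]

/-- Invariance of a submodule. -/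
abbrev Inv (f : End F V) (W : Submodule F V) : Prop := ∀ v ∈ W, f v ∈ W

theorem inv_iff_map {f : End F V} {W : Submodule F V} : Inv f W ↔ W.map f ≤ W := by
  rw [Submodule.map_le_iff_le_comap]; rfl

theorem Inv.aeval_mem {f : End F V} {W : Submodule F V} (hW : Inv f W) (P : F[X]) :
    ∀ v ∈ W, aeval f P v ∈ W := by
  induction P using Polynomial.induction_on' with
  | add a b iha ihb => intro v hv; simpa using W.add_mem (iha v hv) (ihb v hv)
  | monomial m a =>
    induction m with
    | zero => intro v hv; simpa [aeval_monomial, Module.algebraMap_end_apply] using W.smul_mem a hv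
    | succ m ih =>
      intro v hv
      have := hW _ (ih v hv)
      rw [aeval_monomial, Module.End.mul_apply, pow_succ', Module.End.mul_apply,
        Module.algebraMap_end_apply, ← LinearMap.map_smul]
      simpa [aeval_monomial, Module.algebraMap_end_apply] using this

theorem Inv.inf {f : End F V} {U W : Submodule F V} (hU : Inv f U) (hW : Inv f W) : Inv f (U ⊓ W) :=
  fun v hv => ⟨hU v hv.1, hW v hv.2⟩

theorem Inv.sup {f : End F V} {U W : Submodule F V} (hU : Inv f U) (hW : Inv f W) : Inv f (U ⊔ W) := by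
  intro v hv
  obtain ⟨a, ha, b, hb, rfl⟩ := Submodule.mem_sup.1 hv
  rw [map_add]
  exact Submodule.add_mem_sup (hU a ha) (hW b hb)

/-- Every irreducible factor of `h` has degree `i`. -/
def FactorDeg (h : F[X]) (i : ℕ) : Prop := ∀ g : F[X], Irreducible g → g ∣ h → g.natDegree = i

variable [FiniteDimensional F V] {f : End F V} {h : F[X]} {i : ℕ}

theorem factor_dvd {W : Submodule F V} (hW : Inv f W) (hann : ∀ v ∈ W, aeval f h v = 0)
    {g : F[X]} (hg : Irreducible g) (hd : g ∣ (f.restrict hW).charpoly) :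
    g ∣ h ∧ ∃ v ∈ W, v ≠ 0 ∧ aeval f g v = 0 := by
  obtain ⟨v, hv0, hv⟩ := Semisimple.exists_vec_of_dvd (f.restrict hW) hg hd
  have key : ∀ P : F[X], ∀ x : W, ((aeval (f.restrict hW) P x : W) : V) = aeval f P x := by
    intro P
    induction P using Polynomial.induction_on' with
    | add a b iha ihb => intro x; simp [iha, ihb]
    | monomial m a =>
      intro x
      simp only [aeval_monomial, Module.End.mul_apply, Module.algebraMap_end_apply, Submodule.coe_smul]
      congr 1
      induction m with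
      | zero => simp
      | succ m ih =>
        rw [pow_succ', pow_succ', Module.End.mul_apply, Module.End.mul_apply,
          LinearMap.coe_restrict_apply, ih]
  have hv' : aeval f g (v : V) = 0 := by rw [← key, hv, Submodule.coe_zero]
  have hne : (v : V) ≠ 0 := fun h0 => hv0 (Subtype.ext h0)
  refine ⟨?_, v, v.2, hne, hv'⟩
  by_contra hnd
  obtain ⟨a, b, hab⟩ := hg.coprime_iff_not_dvd.2 hnd
  apply hne
  have h1 := congrArg (fun P : F[X] => aeval f P (v : V)) hab
  simpa [Module.End.mul_apply, hv', hann _ v.2] using h1.symm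

/-- An invariant subspace annihilated by `h` has dimension a multiple of `i`. -/
theorem dvd_finrank (hdeg : FactorDeg h i) {W : Submodule F V} (hW : Inv f W)
    (hann : ∀ v ∈ W, aeval f h v = 0) : i ∣ finrank F W := by
  suffices H : ∀ (n : ℕ) (P : F[X]), P.Monic → P.natDegree = n →
      (∀ g : F[X], Irreducible g → g ∣ P → g.natDegree = i) → i ∣ n by
    refine H _ (f.restrict hW).charpoly (LinearMap.charpoly_monic _) (LinearMap.charpoly_natDegree _)
      fun g hg hd => hdeg g hg (factor_dvd hW hann hg hd).1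
  intro n
  induction n using Nat.strong_induction_on with
  | _ n ih =>
    intro P hP hn hfac
    by_cases hu : IsUnit P
    · rw [← hn, natDegree_eq_zero_of_isUnit hu]; exact dvd_zero i
    obtain ⟨g, hgm, hg, c, rfl⟩ := Polynomial.exists_monic_irreducible_factor P hu
    have hcm : c.Monic := hgm.of_mul_monic_left hP
    rw [← hn, natDegree_mul hgm.ne_zero hcm.ne_zero, hfac g hg (dvd_mul_right _ _)]
    refine dvd_add dvd_rfl (ih c.natDegree ?_ c hcm rfl fun g' hg' hd => hfac g' hg' (hd.mul_left g))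
    rw [← hn, natDegree_mul hgm.ne_zero hcm.ne_zero]
    have := hg.natDegree_pos
    omega

/-- A non-zero invariant subspace annihilated by `h` contains an invariant subspace of dimension `i`. -/
theorem exists_block (hdeg : FactorDeg h i) {T : Submodule F V} (hT : Inv f T)
    (hann : ∀ v ∈ T, aeval f h v = 0) (hne : T ≠ ⊥) :
    ∃ U : Submodule F V, U ≤ T ∧ Inv f U ∧ finrank F U = i := by
  have hpos : 0 < finrank F T := Nat.pos_of_ne_zero fun h0 => hne (Submodule.finrank_eq_zero.1 h0)
  obtain ⟨g, hgm, hg, hd⟩ := Polynomial.exists_monic_irreducible_factor (f.restrict hT).charpoly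
    (fun hu => by
      have := natDegree_eq_zero_of_isUnit hu
      rw [LinearMap.charpoly_natDegree] at this
      omega)
  obtain ⟨hgh, v, hvT, hv0, hv⟩ := factor_dvd hT hann hg hd
  let φ : F[X] →ₗ[F] V :=
    { toFun := fun P => aeval f P v
      map_add' := fun a b => by simp
      map_smul' := fun c a => by simp }
  have hinv : Inv f (LinearMap.range φ) := by
    rintro _ ⟨P, rfl⟩
    exact ⟨X * P, by simp [φ, Module.End.mul_apply]⟩
  have hle : LinearMap.range φ ≤ T := by
    rintro _ ⟨P, rfl⟩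
    exact hT.aeval_mem P v hvT
  refine ⟨LinearMap.range φ, hle, hinv, ?_⟩
  have hdeg' := hdeg g hg hgh
  have hsub : LinearMap.range φ ≤ (degreeLT F i).map φ := by
    rintro _ ⟨P, rfl⟩
    refine ⟨P %ₘ g, ?_, ?_⟩
    · have hlt := degree_modByMonic_lt P hgm
      rw [degree_eq_natDegree hgm.ne_zero, hdeg'] at hlt
      exact mem_degreeLT.2 hlt
    · show aeval f (P %ₘ g) v = aeval f P v
      conv_rhs => rw [← modByMonic_add_div P g]
      rw [mul_comm g, map_add, map_mul, LinearMap.add_apply, Module.End.mul_apply, hv, map_zero,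
        add_zero]
  haveI : FiniteDimensional F (degreeLT F i) := (degreeLTEquiv F i).symm.finiteDimensional
  have h1 : finrank F (LinearMap.range φ) ≤ i :=
    calc finrank F (LinearMap.range φ) ≤ finrank F ((degreeLT F i).map φ) := Submodule.finrank_mono hsub
      _ ≤ finrank F (degreeLT F i) := Submodule.finrank_map_le φ _
      _ = i := by rw [(degreeLTEquiv F i).finrank_eq, Module.finrank_fin_fun]
  have h2 := dvd_finrank hdeg hinv fun w hw => hann w (hle hw)
  refine le_antisymm h1 (Nat.le_of_dvd ?_ h2)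
  refine Nat.pos_of_ne_zero fun h0 => hv0 ?_
  have : φ 1 ∈ LinearMap.range φ := ⟨1, rfl⟩
  rw [Submodule.finrank_eq_zero.1 h0, Submodule.mem_bot] at this
  simpa [φ] using this

/-- Invariant subspaces of every admissible dimension. -/
theorem exists_sub (hf : f.IsSemisimple) (hdeg : FactorDeg h i) {S : Submodule F V} (hS : Inv f S)
    (hann : ∀ v ∈ S, aeval f h v = 0) :
    ∀ j : ℕ, j * i ≤ finrank F S → ∃ P : Submodule F V, P ≤ S ∧ Inv f P ∧ finrank F P = j * i := by
  intro j
  induction j with
  | zero =>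
    exact fun _ => ⟨⊥, bot_le, fun v hv => by rw [Submodule.mem_bot] at hv; simp [hv], by simp⟩
  | succ j ih =>
    intro hj
    rw [Nat.add_mul, one_mul] at hj
    obtain ⟨P, hPS, hP, hPd⟩ := ih (by omega)
    obtain ⟨Q, hQ, hPQ⟩ := Module.End.isSemisimple_iff.1 hf P hP
    have hQ' : Inv f (S ⊓ Q) := hS.inf hQ
    by_cases hi : i = 0
    · exact ⟨P, hPS, hP, by simp [hi, hPd]⟩
    have hmod : P ⊔ S ⊓ Q = S := by
      rw [inf_comm, ← sup_inf_assoc_of_le Q hPS, hPQ.sup_eq_top, top_inf_eq]
    have hd : P ⊓ (S ⊓ Q) = ⊥ := le_bot_iff.1 ((inf_le_inf_left P inf_le_right).trans hPQ.inf_eq_bot.le)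
    have hdim := Submodule.finrank_sup_add_finrank_inf_eq P (S ⊓ Q)
    rw [hmod, hd, finrank_bot] at hdim
    obtain ⟨U, hU, hUinv, hUd⟩ := exists_block hdeg hQ' (fun v hv => hann v hv.1) (by
      intro h0
      rw [h0, finrank_bot] at hdim
      omega)
    refine ⟨P ⊔ U, sup_le hPS (hU.trans inf_le_left), hP.sup hUinv, ?_⟩
    have h1 := Submodule.finrank_sup_add_finrank_inf_eq P U
    rw [le_bot_iff.1 ((inf_le_inf_left P hU).trans hd.le), finrank_bot, hPd, hUd] at h1
    rw [Nat.add_mul, one_mul]
    omega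

theorem exists_compl (hf : f.IsSemisimple) {U : Submodule F V} (hU : Inv f U) :
    ∃ W : Submodule F V, Inv f W ∧ IsCompl U W := by
  obtain ⟨Q, hQ, hUQ⟩ := Module.End.isSemisimple_iff.1 hf U hU
  exact ⟨Q, hQ, hUQ⟩

section PrimeOrder

variable [Fintype F] {r : ℕ} [Fact r.Prime]

theorem factorDeg_X_sub_one : FactorDeg (X - 1 : F[X]) 1 := by
  intro g hg hd
  have hle := natDegree_le_of_dvd hd (by simpa using X_sub_C_ne_zero (1 : F))
  rw [show (X - 1 : F[X]) = X - C 1 by simp, natDegree_X_sub_C] at hle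
  have := hg.natDegree_pos
  omega

theorem coprime_sub_one (hr : (r : F) ≠ 0) :
    IsCoprime (X - 1 : F[X]) (∑ j ∈ Finset.range r, X ^ j) := by
  have hirr : Irreducible (X - 1 : F[X]) := by simpa using irreducible_X_sub_C (1 : F)
  refine hirr.coprime_iff_not_dvd.2 fun hd => hr ?_
  have := (dvd_iff_isRoot (a := (1 : F))).1 (by simpa using hd)
  simpa [IsRoot.def, eval_finsetSum] using this

/-- The non-trivial factors of `X ^ r - 1` have degree the order of `q` modulo `r`. -/
theorem factorDeg_geom (hr : (r : F) ≠ 0) :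
    FactorDeg (∑ j ∈ Finset.range r, X ^ j : F[X]) (orderOf (Fintype.card F : ZMod r)) := by
  intro g hg hd
  set i := orderOf (Fintype.card F : ZMod r) with hi
  haveI : Fact (Irreducible g) := ⟨hg⟩
  haveI : FiniteDimensional F (AdjoinRoot g) := (AdjoinRoot.powerBasis hg.ne_zero).finite
  haveI : Finite (AdjoinRoot g) := Module.finite_of_finite F
  have hdeg : finrank F (AdjoinRoot g) = g.natDegree := by
    rw [(AdjoinRoot.powerBasis hg.ne_zero).finrank, AdjoinRoot.powerBasis_dim]
  set α := AdjoinRoot.root g with hα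
  have hX : (X ^ r - 1 : F[X]) = (∑ j ∈ Finset.range r, X ^ j) * (X - 1) := (geom_sum_mul X r).symm
  have hpow : α ^ r = 1 := by
    have h0 : AdjoinRoot.mk g (X ^ r - 1 : F[X]) = 0 := AdjoinRoot.mk_eq_zero.2 (hX ▸ hd.mul_right _)
    simpa [sub_eq_zero] using h0
  have hne : α ≠ 1 := by
    intro h1
    have h0 : AdjoinRoot.mk g (X - 1 : F[X]) = 0 := by simp [← hα, h1]
    exact hg.not_isUnit ((coprime_sub_one hr).isUnit_of_dvd' (AdjoinRoot.mk_eq_zero.1 h0) hd)
  have hα0 : α ≠ 0 := fun h0 => by simp [h0, (Fact.out : r.Prime).ne_zero] at hpow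
  have hord : orderOf α = r := orderOf_eq_prime hpow hne
  have h1 : i ∣ g.natDegree := by
    rw [hi, orderOf_dvd_iff_pow_eq_one]
    have h2 : α ^ (Nat.card (AdjoinRoot g) - 1) = 1 := by
      haveI := Fintype.ofFinite (AdjoinRoot g)
      rw [Nat.card_eq_fintype_card]
      exact FiniteField.pow_card_sub_one_eq_one α hα0
    rw [← orderOf_dvd_iff_pow_eq_one, hord, Module.natCard_eq_pow_finrank (K := F), hdeg,
      Nat.card_eq_fintype_card, ← ZMod.natCast_eq_zero_iff, Nat.cast_sub (Nat.one_le_pow _ _ Fintype.card_pos),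
      Nat.cast_pow, Nat.cast_one, sub_eq_zero] at h2
    exact h2
  have h2 : g.natDegree ∣ i := by
    rw [← hdeg, ← FiniteField.orderOf_frobeniusAlgHom F (AdjoinRoot g), orderOf_dvd_iff_pow_eq_one]
    refine AdjoinRoot.algHom_ext ?_
    rw [AlgHom.coe_pow, FiniteField.coe_frobeniusAlgHom, pow_iterate, AlgHom.one_apply]
    show α ^ (Fintype.card F ^ i) = α
    conv_rhs => rw [← pow_one α]
    refine pow_eq_pow_of_modEq ?_ (hord ▸ pow_orderOf_eq_one α)
    rw [← ZMod.natCast_eq_natCast_iff, Nat.cast_pow, hi, pow_orderOf_eq_one, Nat.cast_one]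
  exact Nat.dvd_antisymm h2 h1

variable (hr : (r : F) ≠ 0) (hpow : f ^ r = 1)
include hr hpow

theorem isSemisimple_of_pow : f.IsSemisimple :=
  Module.End.isSemisimple_of_squarefree_aeval_eq_zero
    (separable_X_pow_sub_C 1 hr one_ne_zero).squarefree (by simp [hpow])

theorem isCompl_parts :
    IsCompl (LinearMap.ker (f - 1)) (LinearMap.ker (aeval f (∑ j ∈ Finset.range r, X ^ j : F[X]))) := by
  have e : (f - 1 : End F V) = aeval f (X - 1 : F[X]) := by simp
  rw [e]
  refine ⟨disjoint_ker_aeval_of_isCoprime f (coprime_sub_one hr), codisjoint_iff.2 ?_⟩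
  rw [sup_ker_aeval_eq_ker_aeval_mul_of_coprime f (coprime_sub_one hr), mul_comm, geom_sum_mul]
  simp [hpow]

/-- The dimension of an invariant subspace is its fixed dimension plus a multiple of `i`. -/
theorem dim_eq {W : Submodule F V} (hW : Inv f W) :
    ∃ b, finrank F W =
      finrank F ↥(LinearMap.ker (f - 1) ⊓ W) + b * orderOf (Fintype.card F : ZMod r) := by
  have hinv : Inv f (W.map (f - 1)) := by
    rintro _ ⟨w, hw, rfl⟩
    exact ⟨f w, hW w hw, by simp⟩
  have hann : ∀ v ∈ W.map (f - 1), aeval f (∑ j ∈ Finset.range r, X ^ j : F[X]) v = 0 := by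
    rintro _ ⟨w, -, rfl⟩
    have : aeval f (∑ j ∈ Finset.range r, X ^ j : F[X]) * (f - 1) = 0 := by
      rw [map_sum]
      simp only [map_pow, aeval_X]
      rw [geom_sum_mul, hpow, sub_self]
    exact LinearMap.congr_fun this w
  obtain ⟨b, hb⟩ := dvd_finrank (factorDeg_geom hr) hinv hann
  refine ⟨b, ?_⟩
  have h := LinearMap.finrank_range_add_finrank_ker ((f - 1).comp W.subtype)
  rw [LinearMap.range_comp, Submodule.range_subtype, LinearMap.ker_comp,
    LinearEquiv.finrank_eq (Submodule.equivMapOfInjective W.subtype W.injective_subtype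
      (Submodule.comap W.subtype (LinearMap.ker (f - 1)))),
    Submodule.map_comap_subtype, inf_comm, hb] at h
  rw [mul_comm b]
  omega

/-- Nested invariant subspaces of prescribed dimensions. -/
theorem exists_nested {a b a' b' : ℕ} (haa : a ≤ a') (hbb : b ≤ b')
    (ha : a' ≤ finrank F (LinearMap.ker (f - 1)))
    (hb : finrank F (LinearMap.ker (f - 1)) + b' * orderOf (Fintype.card F : ZMod r) ≤ finrank F V) :
    ∃ U W : Submodule F V, Inv f U ∧ Inv f W ∧ U ≤ W ∧
      finrank F U = a + b * orderOf (Fintype.card F : ZMod r) ∧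
      finrank F W = a' + b' * orderOf (Fintype.card F : ZMod r) := by
  set C := LinearMap.ker (f - 1) with hC
  set M := LinearMap.ker (aeval f (∑ j ∈ Finset.range r, X ^ j : F[X])) with hM
  have hcomp : IsCompl C M := isCompl_parts hr hpow
  have hss := isSemisimple_of_pow hr hpow
  have hCinv : Inv f C := fun v hv => by
    rw [hC, LinearMap.mem_ker, LinearMap.sub_apply, Module.End.one_apply, sub_eq_zero] at hv ⊢
    rw [hv, hv]
  have hMinv : Inv f M := fun v hv => by
    rw [hM, LinearMap.mem_ker] at hv ⊢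
    rw [← Module.End.mul_apply]
    have hc : aeval f (∑ j ∈ Finset.range r, X ^ j : F[X]) * f =
        f * aeval f (∑ j ∈ Finset.range r, X ^ j : F[X]) := by
      conv_lhs => arg 2; rw [← aeval_X (R := F) f]
      conv_rhs => arg 1; rw [← aeval_X (R := F) f]
      rw [← map_mul, ← map_mul, mul_comm]
    rw [hc, Module.End.mul_apply, hv, map_zero]
  have hCann : ∀ v ∈ C, aeval f (X - 1 : F[X]) v = 0 := fun v hv => by
    simpa using (show (f - 1) v = 0 from hv)
  have hdimM : finrank F C + finrank F M = finrank F V := Submodule.finrank_add_eq_of_isCompl hcomp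
  obtain ⟨C', hC'le, hC'inv, hC'd⟩ := exists_sub hss factorDeg_X_sub_one hCinv hCann a' (by omega)
  obtain ⟨M', hM'le, hM'inv, hM'd⟩ := exists_sub hss (factorDeg_geom hr) hMinv (fun v hv => hv) b'
    (by omega)
  obtain ⟨C₁, hC₁le, hC₁inv, hC₁d⟩ := exists_sub hss factorDeg_X_sub_one hC'inv
    (fun v hv => hCann v (hC'le hv)) a (by omega)
  obtain ⟨M₁, hM₁le, hM₁inv, hM₁d⟩ := exists_sub hss (factorDeg_geom hr) hM'inv
    (fun v hv => hM'le hv) b (by rw [hM'd]; exact Nat.mul_le_mul_right _ hbb)
  have hdim : ∀ (A B : Submodule F V), A ≤ C → B ≤ M →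
      finrank F ↥(A ⊔ B) = finrank F A + finrank F B := fun A B hA hB => by
    rw [← Submodule.finrank_sup_add_finrank_inf_eq A B,
      le_bot_iff.1 ((inf_le_inf hA hB).trans hcomp.inf_eq_bot.le), finrank_bot, add_zero]
  refine ⟨C₁ ⊔ M₁, C' ⊔ M', hC₁inv.sup hM₁inv, hC'inv.sup hM'inv, sup_le_sup hC₁le hM₁le, ?_, ?_⟩
  · rw [hdim _ _ (hC₁le.trans hC'le) (hM₁le.trans hM'le), hC₁d, hM₁d, mul_one]
  · rw [hdim _ _ hC'le hM'le, hC'd, hM'd, mul_one]

end PrimeOrder

end Cfsg.Agent.Elusive
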