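import Mathlib
import Cfsg.Agent.Lib.Elusive.Dims
import Cfsg.Agent.Lib.Semisimple.PrimeOrder

/-!
Elements of prime order `r ≠ p` of `SL_n(q)` modulo scalars: the invariant subspaces.
-/

set_option autoImplicit false
set_option linter.unusedSectionVars false
set_option linter.style.haveILetI false

open scoped MatrixGroups

namespace Cfsg.Agent.Elusive

open Polynomial Module

variable {F : Type*} [Field F] [Fintype F] {r : ℕ} [Fact r.Prime] {n : ℕ}

/-- The linear map of a matrix of determinant one. -/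
noncomputable abbrev endOf (x : Matrix.SpecialLinearGroup (Fin n) F) : End F (Fin n → F) :=
  Matrix.toLin' (x : Matrix (Fin n) (Fin n) F)

theorem endOf_eq (x : Matrix.SpecialLinearGroup (Fin n) F) :
    endOf x = Matrix.toLinAlgEquiv' (x : Matrix (Fin n) (Fin n) F) := rfl

theorem endOf_pow_iff (x : Matrix.SpecialLinearGroup (Fin n) F) (k : ℕ) (z : F) :
    endOf x ^ k = z • 1 ↔
      ((x ^ k : Matrix.SpecialLinearGroup (Fin n) F) : Matrix (Fin n) (Fin n) F) =
        z • (1 : Matrix (Fin n) (Fin n) F) := by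
  rw [endOf_eq, ← map_pow, ← map_one (Matrix.toLinAlgEquiv' (R := F) (n := Fin n)), ← map_smul,
    EmbeddingLike.apply_eq_iff_eq, Matrix.SpecialLinearGroup.coe_pow]

theorem endOf_scalar_iff (x : Matrix.SpecialLinearGroup (Fin n) F) (z : F) :
    endOf x = z • 1 ↔
      (x : Matrix (Fin n) (Fin n) F) = z • (1 : Matrix (Fin n) (Fin n) F) := by
  simpa using endOf_pow_iff x 1 z

theorem exists_sl_of_end {V : Type*} [AddCommGroup V] [Module F V] [FiniteDimensional F V]
    (hV : finrank F V = n) (f : End F V) (hdet : LinearMap.det f = 1) :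
    ∃ (x : Matrix.SpecialLinearGroup (Fin n) F) (e : V ≃ₗ[F] (Fin n → F)), endOf x = e.conjAlgEquiv F f := by
  obtain ⟨e⟩ : Nonempty (V ≃ₗ[F] (Fin n → F)) :=
    FiniteDimensional.nonempty_linearEquiv_of_finrank_eq (by rw [hV, Module.finrank_fin_fun])
  refine ⟨⟨LinearMap.toMatrix' (e.conjAlgEquiv F f), ?_⟩, e, ?_⟩
  · rw [LinearMap.det_toMatrix']
    show LinearMap.det (e.toLinearMap ∘ₗ f ∘ₗ e.symm.toLinearMap) = 1
    rw [LinearMap.det_conj, hdet]
  · exact Matrix.toLin'_toMatrix' _

theorem dvd_card_sub_one (h : orderOf (Fintype.card F : ZMod r) = 1) : r ∣ Fintype.card F - 1 := by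
  rw [orderOf_eq_one_iff] at h
  rw [← ZMod.natCast_eq_zero_iff, Nat.cast_sub Fintype.card_pos, h, Nat.cast_one, sub_self]

theorem not_dvd_card_sub_one (h : 2 ≤ orderOf (Fintype.card F : ZMod r)) : ¬ r ∣ Fintype.card F - 1 := by
  intro hd
  rw [← ZMod.natCast_eq_zero_iff, Nat.cast_sub Fintype.card_pos, Nat.cast_one, sub_eq_zero] at hd
  rw [hd, orderOf_one] at h
  omega

theorem ne_zero_of_order (h : 1 ≤ orderOf (Fintype.card F : ZMod r)) : (r : F) ≠ 0 := by
  intro h0
  obtain ⟨p, hp⟩ := CharP.exists F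
  have hpp : p.Prime := Fact.out (self := ⟨CharP.char_is_prime F p⟩)
  haveI : Fact p.Prime := ⟨hpp⟩
  obtain ⟨k, -, hk⟩ := FiniteField.card F p
  rw [CharP.cast_eq_zero_iff F p, Nat.prime_dvd_prime_iff_eq hpp Fact.out] at h0
  subst h0
  rw [hk, Nat.cast_pow, ZMod.natCast_self, zero_pow (by simp)] at h
  have hz : orderOf (0 : ZMod p) = 0 :=
    orderOf_eq_zero fun hf => by simpa using hf.isUnit
  omega

/-- If `r ∤ q - 1` a scalar multiple of every element of order `r` modulo scalars has order `r`. -/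
theorem exists_normalised (hr1 : ¬ r ∣ Fintype.card F - 1) (x : Matrix.SpecialLinearGroup (Fin n) F)
    (hc : ∃ c : F, ((x ^ r : Matrix.SpecialLinearGroup (Fin n) F) : Matrix (Fin n) (Fin n) F) =
      c • (1 : Matrix (Fin n) (Fin n) F))
    (hx : ∀ c : F, (x : Matrix (Fin n) (Fin n) F) ≠ c • (1 : Matrix (Fin n) (Fin n) F)) (hn : 0 < n) :
    ∃ e : F, e ≠ 0 ∧ (e • endOf x) ^ r = 1 ∧ (∀ d : F, e • endOf x ≠ d • 1) := by
  obtain ⟨c, hc⟩ := hc
  have hc0 : c ≠ 0 := by
    intro h0
    have := (x ^ r).2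
    haveI := Fin.pos_iff_nonempty.1 hn
    have h2 := (x ^ r).2
    rw [hc, h0, zero_smul, Matrix.det_zero] at h2
    exact zero_ne_one h2
  have hcop : (Nat.card Fˣ).Coprime r := by
    rw [Nat.card_units, Nat.card_eq_fintype_card, Nat.coprime_comm]
    exact (Fact.out : r.Prime).coprime_iff_not_dvd.2 hr1
  obtain ⟨u, hu⟩ := (powCoprime hcop).surjective (Units.mk0 c hc0)
  rw [powCoprime_apply] at hu
  have hu' : (u : F) ^ r = c := by rw [← Units.val_pow_eq_pow_val, hu]; rfl
  refine ⟨(u : F)⁻¹, inv_ne_zero u.ne_zero, ?_, fun d hd => hx ((u : F) * d) ?_⟩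
  · rw [_root_.smul_pow, (endOf_pow_iff x r c).2 hc, smul_smul, inv_pow, hu', inv_mul_cancel₀ hc0, one_smul]
  · rw [← endOf_scalar_iff, mul_smul, ← hd, smul_inv_smul₀ u.ne_zero]

theorem inv_smul_iff {V : Type*} [AddCommGroup V] [Module F V] {f : End F V} {e : F} (he : e ≠ 0)
    (W : Submodule F V) : Inv (e • f) W ↔ Inv f W := by
  refine forall₂_congr fun v hv => ?_
  rw [LinearMap.smul_apply]
  exact W.smul_mem_iff he

/-- An element of order `r` whose fixed space has dimension `n % i`. -/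
theorem exists_witness (p : ℕ) [Fact p.Prime] [CharP F p] (hrp : r ≠ p)
    (hi : 2 ≤ orderOf (Fintype.card F : ZMod r)) (hin : orderOf (Fintype.card F : ZMod r) ≤ n) :
    ∃ x : Matrix.SpecialLinearGroup (Fin n) F,
      (∃ z : F, ((x ^ r : Matrix.SpecialLinearGroup (Fin n) F) : Matrix (Fin n) (Fin n) F) =
        z • (1 : Matrix (Fin n) (Fin n) F)) ∧
      (∀ z : F, (x : Matrix (Fin n) (Fin n) F) ≠ z • (1 : Matrix (Fin n) (Fin n) F)) ∧
      endOf x ^ r = 1 ∧
      finrank F (LinearMap.ker (endOf x - 1)) = n % orderOf (Fintype.card F : ZMod r) ∧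
      ∃ g : F[X], Irreducible g ∧ g ∣ (∑ j ∈ Finset.range r, X ^ j) ∧ aeval (endOf x) ((X - C 1) * g) = 0 := by
  obtain ⟨K, _, _, _, ζ, hK⟩ := Semisimple.exists_rootField (F := F) (r := r) p hrp
  set i := orderOf (Fintype.card F : ZMod r) with hi'
  haveI : Module.Finite F K := Module.Finite.of_finite
  let V := (Fin (n % i) → F) × (Fin (n / i) → K)
  let f : End F V := (1 : End F (Fin (n % i) → F)).prodMap
    (LinearMap.pi fun j => (LinearMap.mulLeft F ζ).comp (LinearMap.proj j))
  have happ : ∀ v : V, f v = (v.1, ζ • v.2) := fun v => rfl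
  have hfin : finrank F V = n := by
    rw [Module.finrank_prod, Module.finrank_fin_fun, Module.finrank_pi_fintype, Finset.sum_const,
      Finset.card_univ, Fintype.card_fin, smul_eq_mul, hK.deg, ← hi', mul_comm]
    exact Nat.mod_add_div n i
  have hpowapp : ∀ (k : ℕ) (v : V), (f ^ k) v = (v.1, ζ ^ k • v.2) := by
    intro k
    induction k with
    | zero => intro v; simp
    | succ k ih => intro v; rw [pow_succ', Module.End.mul_apply, ih, happ, smul_smul, ← pow_succ']
  have hfr : f ^ r = 1 := LinearMap.ext fun v => by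
    rw [hpowapp, hK.prim.pow_eq_one, one_smul]; rfl
  have hdet : LinearMap.det f = 1 := by
    have h1 : LinearMap.det f ^ r = 1 := by rw [← map_pow, hfr, map_one]
    by_contra hne
    have h0 : LinearMap.det f ≠ 0 := fun h0 => by
      rw [h0, zero_pow (Fact.out : r.Prime).ne_zero] at h1; exact zero_ne_one h1
    have h2 := FiniteField.pow_card_sub_one_eq_one _ h0
    rw [← orderOf_dvd_iff_pow_eq_one, orderOf_eq_prime h1 hne] at h2
    exact not_dvd_card_sub_one hi h2
  obtain ⟨x, e, hx⟩ := exists_sl_of_end hfin f hdet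
  have hxr : endOf x ^ r = 1 := by rw [hx, ← map_pow, hfr, map_one]
  have hζ1 : ζ ≠ 1 := hK.prim.ne_one (Fact.out : r.Prime).one_lt
  have hker : LinearMap.ker (endOf x - 1) = (LinearMap.ker (f - 1)).map e.toLinearMap := by
    rw [hx]
    ext w
    obtain ⟨v, rfl⟩ := e.surjective w
    constructor
    · intro h
      refine ⟨v, ?_, rfl⟩
      simpa [LinearEquiv.conjAlgEquiv_apply, sub_eq_zero] using h
    · rintro ⟨v', hv', h⟩
      rw [show v' = v from e.injective h] at hv'
      simpa [LinearEquiv.conjAlgEquiv_apply, sub_eq_zero] using hv'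
  have hker1 : LinearMap.ker (f - 1) = LinearMap.range (LinearMap.inl F (Fin (n % i) → F) (Fin (n / i) → K)) := by
    ext v
    rw [LinearMap.mem_ker, LinearMap.sub_apply, Module.End.one_apply, sub_eq_zero, happ]
    constructor
    · intro h
      refine ⟨v.1, Prod.ext rfl ?_⟩
      have h2 : ζ • v.2 = v.2 := congrArg Prod.snd h
      funext j
      have h3 : ζ * v.2 j = v.2 j := congrFun h2 j
      by_contra h0
      exact hζ1 ((mul_eq_right₀ (Ne.symm h0)).1 h3)
    · rintro ⟨a, rfl⟩
      exact Prod.ext rfl (smul_zero ζ)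
  have hC : finrank F (LinearMap.ker (endOf x - 1)) = n % i := by
    rw [hker, LinearEquiv.finrank_map_eq, hker1,
      LinearMap.finrank_range_of_inj LinearMap.inl_injective, Module.finrank_fin_fun]
  have hint : IsIntegral F ζ := Algebra.IsIntegral.isIntegral ζ
  have hP : ∃ g : F[X], Irreducible g ∧ g ∣ (∑ j ∈ Finset.range r, X ^ j) ∧
      aeval (endOf x) ((X - C 1) * g) = 0 := by
    refine ⟨minpoly F ζ, minpoly.irreducible hint, minpoly.dvd F ζ ?_, ?_⟩
    · rw [map_sum]
      simp only [map_pow, aeval_X]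
      exact hK.prim.geom_sum_eq_zero (Fact.out : r.Prime).one_lt
    · have happP : ∀ (P : F[X]) (v : V), aeval f P v = (P.eval 1 • v.1, aeval ζ P • v.2) := by
        intro P
        induction P using Polynomial.induction_on' with
        | add a b iha ihb => intro v; simp [iha, ihb, add_smul]; rfl
        | monomial k a =>
          intro v
          rw [aeval_monomial, Module.End.mul_apply, hpowapp, Module.algebraMap_end_apply, aeval_monomial]
          simp [mul_smul, algebraMap_smul]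
          rfl
      rw [hx, aeval_algEquiv, AlgHom.comp_apply, show aeval f ((X - C 1) * minpoly F ζ) = 0 from
        LinearMap.ext fun v => by rw [happP]; simp; rfl]
      exact map_zero _
  refine ⟨x, ⟨1, (endOf_pow_iff x r 1).1 (by rw [hxr, one_smul])⟩, fun z hz => ?_, hxr, hC, hP⟩
  have hz' := (endOf_scalar_iff x z).2 hz
  have hn : 0 < n := by omega
  haveI : Nonempty (Fin n) := ⟨⟨0, hn⟩⟩
  rw [hz', _root_.smul_pow, one_pow] at hxr
  have hzr : z ^ r = 1 := by
    have := congrArg (fun g : End F (Fin n → F) => g (fun _ => 1) ⟨0, hn⟩) hxr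
    simpa using this
  have hz1 : z = 1 := by
    by_contra hne
    have h0 : z ≠ 0 := fun h0 => by
      rw [h0, zero_pow (Fact.out : r.Prime).ne_zero] at hzr; exact zero_ne_one hzr
    have h2 := FiniteField.pow_card_sub_one_eq_one z h0
    rw [← orderOf_dvd_iff_pow_eq_one, orderOf_eq_prime hzr hne] at h2
    exact not_dvd_card_sub_one hi h2
  rw [hz', hz1, one_smul, sub_self, LinearMap.ker_zero, finrank_top, Module.finrank_fin_fun] at hC
  have := Nat.mod_lt n (show i > 0 by omega)
  omega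

theorem exists_root_of_pow_eq_one (c : F) (hc : c ≠ 0) (hr1 : r ∣ Fintype.card F - 1)
    (h : c ^ ((Fintype.card F - 1) / r) = 1) : ∃ b : F, b ^ r = c := by
  obtain ⟨g, hg⟩ := IsCyclic.exists_generator (α := Fˣ)
  obtain ⟨k, hk : g ^ k = Units.mk0 c hc⟩ := (Submonoid.mem_powers_iff _ _).1
    (mem_powers_iff_mem_zpowers.2 (hg (Units.mk0 c hc)))
  have hord : orderOf g = Fintype.card F - 1 := by
    rw [orderOf_eq_card_of_forall_mem_zpowers hg, Nat.card_units, Nat.card_eq_fintype_card]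
  have hpos : 0 < (Fintype.card F - 1) / r :=
    Nat.div_pos (Nat.le_of_dvd (by have := Fintype.one_lt_card (α := F); omega) hr1) (Fact.out : r.Prime).pos
  have h1 : g ^ (k * ((Fintype.card F - 1) / r)) = 1 := by
    rw [pow_mul, hk]; exact Units.ext (by simpa using h)
  rw [← orderOf_dvd_iff_pow_eq_one, hord] at h1
  conv at h1 => arg 1; rw [← Nat.mul_div_cancel' hr1]
  obtain ⟨j, rfl⟩ := Nat.dvd_of_mul_dvd_mul_right hpos h1
  refine ⟨((g ^ j : Fˣ) : F), ?_⟩
  rw [← Units.val_pow_eq_pow_val, ← pow_mul, mul_comm j r, hk]; rfl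

/-- `-c` when `r = 2`, `c` when `r` is odd. -/
theorem det_value (r : ℕ) (hr : r.Prime) (c : F) : (-1 : F) ^ r * -c = if r = 2 then -c else c := by
  split_ifs with h
  · subst h; simp
  · rw [(hr.odd_of_ne_two h).neg_one_pow]; simp

theorem not_le_of_det (hr1 : r ∣ Fintype.card F - 1) (c : F) (hc : c ≠ 0) (hnp : ∀ b : F, b ^ r ≠ c)
    (s : ℕ) (hs : 0 < s) (hd : ((-1 : F) ^ r * -c) ^ s = 1) :
    ¬ (padicValNat r (r * s) ≤ padicValNat r (Fintype.card F - 1) ∧
      (r = 2 → Even (r * s) → Fintype.card F % 4 = 1)) := by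
  rintro ⟨hv, h4⟩
  have hr := (Fact.out : r.Prime)
  set Q := Fintype.card F - 1 with hQ
  have hQ0 : Q ≠ 0 := by have := Fintype.one_lt_card (α := F); omega
  set d := (-1 : F) ^ r * -c with hd'
  have hd0 : d ≠ 0 := by simp [hd', hc]
  rw [padicValNat.mul hr.ne_zero hs.ne', padicValNat.self hr.one_lt] at hv
  obtain ⟨t, ht⟩ := Nat.gcd_dvd_right s Q
  have hg0 : Nat.gcd s Q ≠ 0 := fun h0 => hs.ne' (Nat.gcd_eq_zero_iff.1 h0).1
  have ht0 : t ≠ 0 := fun h0 => hQ0 (by rw [ht, h0, mul_zero])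
  have h1 : padicValNat r (Nat.gcd s Q) ≤ padicValNat r s :=
    (padicValNat_dvd_iff_le hs.ne').1 (pow_padicValNat_dvd.trans (Nat.gcd_dvd_left s Q))
  have h2 := padicValNat.mul (p := r) hg0 ht0
  rw [← ht] at h2
  have hrt : r ∣ t := dvd_of_one_le_padicValNat (by omega)
  have hdiv : Nat.gcd s Q ∣ Q / r := by
    obtain ⟨t', rfl⟩ := hrt
    refine ⟨t', ?_⟩
    conv_lhs => rw [ht, mul_left_comm, Nat.mul_div_cancel_left _ hr.pos]
  have hdQ : d ^ (Q / r) = 1 := by
    rw [← orderOf_dvd_iff_pow_eq_one]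
    refine dvd_trans (Nat.dvd_gcd (orderOf_dvd_of_pow_eq_one hd) ?_) hdiv
    exact orderOf_dvd_of_pow_eq_one (FiniteField.pow_card_sub_one_eq_one d hd0)
  have hcQ : c ^ (Q / r) = 1 := by
    rw [hd', det_value r hr] at hdQ
    split_ifs at hdQ with h
    · have h4' := h4 h (h ▸ even_two_mul s)
      have he : Even (Q / r) := Nat.even_iff.2 (by subst h; omega)
      rwa [he.neg_pow] at hdQ
    · exact hdQ
  obtain ⟨b, hb⟩ := exists_root_of_pow_eq_one c hc hr1 hcQ
  exact hnp b hb

theorem exists_nonpower (hr1 : r ∣ Fintype.card F - 1) (s : ℕ) (hs : 0 < s)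
    (h : ¬ (padicValNat r (r * s) ≤ padicValNat r (Fintype.card F - 1) ∧
      (r = 2 → Even (r * s) → Fintype.card F % 4 = 1))) :
    ∃ c : F, c ≠ 0 ∧ (∀ b : F, b ^ r ≠ c) ∧ ((-1 : F) ^ r * -c) ^ s = 1 := by
  have hr := (Fact.out : r.Prime)
  set Q := Fintype.card F - 1 with hQ
  have hQ0 : Q ≠ 0 := by have := Fintype.one_lt_card (α := F); omega
  by_cases h3 : r = 2 ∧ Fintype.card F % 4 = 3
  · obtain ⟨rfl, h3⟩ := h3
    refine ⟨-1, by simp, fun b hb => FiniteField.isSquare_neg_one_iff.1 ⟨b, by rw [← hb, sq]⟩ h3, by simp⟩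
  have hv : padicValNat r Q ≤ padicValNat r s := by
    rw [padicValNat.mul hr.ne_zero hs.ne', padicValNat.self hr.one_lt] at h
    by_contra hlt
    apply h
    refine ⟨by omega, fun h2 _ => ?_⟩
    subst h2
    obtain ⟨k, hk⟩ := hr1
    omega
  set v := padicValNat r Q with hv'
  obtain ⟨t, ht⟩ := (pow_padicValNat_dvd : r ^ v ∣ Q)
  obtain ⟨g, hg⟩ := IsCyclic.exists_generator (α := Fˣ)
  have hord : orderOf g = Q := by
    rw [orderOf_eq_card_of_forall_mem_zpowers hg, Nat.card_units, Nat.card_eq_fintype_card]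
  set d : Fˣ := g ^ t with hd
  have hdord : orderOf d = r ^ v := by
    rw [hd, orderOf_pow_of_dvd (by rintro rfl; exact hQ0 (by rw [ht, mul_zero])) (hord ▸ ⟨r ^ v, by
      rw [ht, mul_comm]⟩), hord, ht, Nat.mul_div_cancel _ (Nat.pos_of_ne_zero (by
        rintro rfl; exact hQ0 (by rw [ht, mul_zero])))]
  have hds : (d : F) ^ s = 1 := by
    rw [← Units.val_pow_eq_pow_val]
    have : d ^ s = 1 := orderOf_dvd_iff_pow_eq_one.1
      (hdord ▸ (padicValNat_dvd_iff_le hs.ne').2 hv)
    rw [this, Units.val_one]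
  have hnp : ∀ b : F, b ^ r ≠ (d : F) := by
    intro b hb
    have hb0 : b ≠ 0 := fun h0 => d.ne_zero (by rw [← hb, h0, zero_pow hr.ne_zero])
    have h1 : d ^ (Q / r) = 1 := by
      refine Units.ext ?_
      rw [Units.val_pow_eq_pow_val, ← hb, ← pow_mul, Nat.mul_div_cancel' hr1, Units.val_one]
      exact FiniteField.pow_card_sub_one_eq_one b hb0
    rw [← orderOf_dvd_iff_pow_eq_one, hdord] at h1
    have h2 : r ^ (v + 1) ∣ Q := by
      rw [pow_succ']
      calc r * r ^ v ∣ r * (Q / r) := mul_dvd_mul_left r h1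
        _ = Q := Nat.mul_div_cancel' hr1
    have := (padicValNat_dvd_iff_le hQ0).1 h2
    omega
  by_cases h2 : r = 2
  · subst h2
    refine ⟨-(d : F), by simp, fun b hb => ?_, by simpa using hds⟩
    have h41 : Fintype.card F % 4 = 1 := by
      obtain ⟨k, hk⟩ := hr1
      have h3' : ¬ Fintype.card F % 4 = 3 := fun h' => h3 ⟨rfl, h'⟩
      omega
    obtain ⟨w, hw⟩ := FiniteField.isSquare_neg_one_iff (F := F) |>.2 (by omega)
    refine hnp (w * b) ?_
    rw [mul_pow, hb, sq, ← hw]; ring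
  · refine ⟨(d : F), d.ne_zero, hnp, ?_⟩
    rw [det_value r hr, if_neg h2]; exact hds

theorem det_of_single_factor {V : Type*} [AddCommGroup V] [Module F V] [FiniteDimensional F V]
    (c : F) (hirr : Irreducible (X ^ r - C c : F[X])) (f : End F V) (hf : f ^ r = c • 1) :
    ∃ s, finrank F V = r * s ∧ LinearMap.det f = ((-1 : F) ^ r * -c) ^ s := by
  have hr := (Fact.out : r.Prime)
  have hann : ∀ v ∈ (⊤ : Submodule F V), aeval f (X ^ r - C c : F[X]) v = 0 := fun v _ => by
    simp [hf, Module.algebraMap_end_apply]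
  have hm : (X ^ r - C c : F[X]).Monic := monic_X_pow_sub_C c hr.ne_zero
  suffices H : ∀ (k : ℕ) (P : F[X]), P.Monic → P.natDegree = k →
      (∀ g : F[X], Irreducible g → g ∣ P → g ∣ X ^ r - C c) →
      ∃ s, k = r * s ∧ P = (X ^ r - C c) ^ s by
    obtain ⟨s, hs, hP⟩ := H _ f.charpoly (LinearMap.charpoly_monic f) (LinearMap.charpoly_natDegree f)
      fun g hg hd => by
        obtain ⟨v, hv0, hv⟩ := Semisimple.exists_vec_of_dvd f hg hd
        by_contra hnd
        obtain ⟨a, b, hab⟩ := hg.coprime_iff_not_dvd.2 hnd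
        apply hv0
        have h1 := congrArg (fun P : F[X] => aeval f P v) hab
        simpa [Module.End.mul_apply, hv, hann v trivial, hf] using h1.symm
    refine ⟨s, hs, ?_⟩
    rw [LinearMap.det_eq_sign_charpoly_coeff, hP, hs, coeff_zero_eq_eval_zero]
    simp [hr.ne_zero, pow_mul]
    rw [← mul_pow, mul_neg]
  intro k
  induction k using Nat.strong_induction_on with
  | _ k ih =>
    intro P hP hk hfac
    by_cases hu : IsUnit P
    · exact ⟨0, by rw [← hk, natDegree_eq_zero_of_isUnit hu, mul_zero], by rw [hP.eq_one_of_isUnit hu, pow_zero]⟩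
    obtain ⟨g, hgm, hg, P', rfl⟩ := Polynomial.exists_monic_irreducible_factor P hu
    have hg' : g = X ^ r - C c :=
      eq_of_monic_of_associated hgm hm (hg.associated_of_dvd hirr (hfac g hg (dvd_mul_right _ _)))
    subst hg'
    have hPm : P'.Monic := hgm.of_mul_monic_left hP
    rw [natDegree_mul hgm.ne_zero hPm.ne_zero, natDegree_X_pow_sub_C] at hk
    obtain ⟨s, hs, rfl⟩ := ih P'.natDegree (by have := hr.pos; omega) P' hPm rfl
      fun g' hg' hd => hfac g' hg' (hd.mul_left _)
    exact ⟨s + 1, by rw [← hk, hs]; ring, by rw [pow_succ']⟩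

theorem factorDeg_irreducible {V : Type*} [AddCommGroup V] [Module F V] {g : F[X]} (hg : Irreducible g) :
    FactorDeg g g.natDegree := fun h hh hd =>
  natDegree_eq_of_degree_eq (degree_eq_degree_of_associated (hh.associated_of_dvd hg hd))

/-- For `i = 1`: the dimensions of the invariant subspaces. -/
theorem exists_structure_one (h1 : orderOf (Fintype.card F : ZMod r) = 1) (hn : 0 < n) {m : ℕ}
    (hcond : r ∣ m ∨ (padicValNat r n ≤ padicValNat r (Fintype.card F - 1) ∧
      (r = 2 → Even n → Fintype.card F % 4 = 1)))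
    (x : Matrix.SpecialLinearGroup (Fin n) F)
    (hc : ∃ c : F, ((x ^ r : Matrix.SpecialLinearGroup (Fin n) F) : Matrix (Fin n) (Fin n) F) =
      c • (1 : Matrix (Fin n) (Fin n) F)) :
    ∃ (h : F[X]) (d : ℕ), (endOf x).IsSemisimple ∧ FactorDeg h d ∧ aeval (endOf x) h = 0 ∧ d ∣ m ∧ d ∣ n ∧ 0 < d := by
  have hr := (Fact.out : r.Prime)
  have hr0 : (r : F) ≠ 0 := ne_zero_of_order h1.ge
  obtain ⟨c, hc⟩ := hc
  have hc' := (endOf_pow_iff x r c).2 hc
  have hc0 : c ≠ 0 := by
    intro h0
    have := (x ^ r).2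
    haveI := Fin.pos_iff_nonempty.1 hn
    have h2 := (x ^ r).2
    rw [hc, h0, zero_smul, Matrix.det_zero] at h2
    exact zero_ne_one h2
  have hann : aeval (endOf x) (X ^ r - C c : F[X]) = 0 := by
    simp [hc', Algebra.algebraMap_eq_smul_one]
  have hss : (endOf x).IsSemisimple :=
    Module.End.isSemisimple_of_squarefree_aeval_eq_zero (separable_X_pow_sub_C c hr0 hc0).squarefree hann
  by_cases hp : ∃ b : F, b ^ r = c
  · obtain ⟨b, hb⟩ := hp
    refine ⟨X ^ r - C c, 1, hss, fun g hg hd => ?_, hann, one_dvd m, one_dvd n, one_pos⟩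
    -- the roots are `b` times the `r`-th roots of unity
    haveI : NeZero r := ⟨hr.ne_zero⟩
    obtain ⟨ζ, hζ⟩ : ∃ ζ : Fˣ, orderOf ζ = r := by
      refine exists_prime_orderOf_dvd_card' r ?_
      rw [Nat.card_units, Nat.card_eq_fintype_card]
      exact dvd_card_sub_one h1
    have hprim : IsPrimitiveRoot (ζ : F) r :=
      IsPrimitiveRoot.coe_units_iff.2 (hζ ▸ IsPrimitiveRoot.orderOf ζ)
    have hsplit : (X ^ r - C c : F[X]).Splits :=
      X_pow_sub_C_splits_of_isPrimitiveRoot hprim hb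
    have hdeg := Splits.degree_eq_one_of_irreducible (Splits.of_dvd hsplit (X_pow_sub_C_ne_zero hr.pos c) hd) hg
    exact natDegree_eq_of_degree_eq_some hdeg
  push Not at hp
  have hirr : Irreducible (X ^ r - C c : F[X]) := X_pow_sub_C_irreducible_of_prime hr hp
  obtain ⟨s, hs, hdet⟩ := det_of_single_factor c hirr (endOf x) hc'
  rw [Module.finrank_fin_fun] at hs
  rw [endOf, LinearMap.det_toLin', x.2] at hdet
  have hrm : r ∣ m := hcond.resolve_right fun hcond => by
    rw [hs] at hcond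
    exact not_le_of_det (dvd_card_sub_one h1) c hc0 hp s
      (Nat.pos_of_ne_zero fun h0 => by simp [hs, h0] at hn) hdet.symm hcond
  refine ⟨X ^ r - C c, r, hss, ?_, hann, hrm, ⟨s, hs⟩, hr.pos⟩
  simpa using factorDeg_irreducible (V := Fin n → F) hirr

/-- For `i = 1`: an element all of whose invariant subspaces have dimension a multiple of `r`. -/
theorem exists_witness_one (h1 : orderOf (Fintype.card F : ZMod r) = 1) (hn : 0 < n)
    (hcond : ¬ (padicValNat r n ≤ padicValNat r (Fintype.card F - 1) ∧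
      (r = 2 → Even n → Fintype.card F % 4 = 1))) :
    ∃ x : Matrix.SpecialLinearGroup (Fin n) F,
      (∃ z : F, ((x ^ r : Matrix.SpecialLinearGroup (Fin n) F) : Matrix (Fin n) (Fin n) F) =
        z • (1 : Matrix (Fin n) (Fin n) F)) ∧
      (∀ z : F, (x : Matrix (Fin n) (Fin n) F) ≠ z • (1 : Matrix (Fin n) (Fin n) F)) ∧
      ∀ W : Submodule F (Fin n → F), W.map (endOf x) ≤ W → r ∣ finrank F W := by
  have hr := (Fact.out : r.Prime)
  have hr1 := dvd_card_sub_one h1
  have hQ0 : Fintype.card F - 1 ≠ 0 := by have := Fintype.one_lt_card (α := F); omega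
  obtain ⟨s, hs⟩ : r ∣ n := by
    by_contra hnd
    apply hcond
    refine ⟨by rw [padicValNat.eq_zero_of_not_dvd hnd]; exact Nat.zero_le _, fun h2 he => ?_⟩
    exact absurd (h2 ▸ even_iff_two_dvd.1 he) hnd
  have hs0 : 0 < s := Nat.pos_of_ne_zero fun h0 => by simp [hs, h0] at hn
  obtain ⟨c, hc0, hnp, hds⟩ := exists_nonpower hr1 s hs0 (hs ▸ hcond)
  have hirr : Irreducible (X ^ r - C c : F[X]) := X_pow_sub_C_irreducible_of_prime hr hnp
  have hm : (X ^ r - C c : F[X]).Monic := monic_X_pow_sub_C c hr.ne_zero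
  set g : F[X] := X ^ r - C c with hg
  haveI : Fact (Irreducible g) := ⟨hirr⟩
  let L := AdjoinRoot g
  haveI : FiniteDimensional F L := (AdjoinRoot.powerBasis' hm).finite
  have hL : finrank F L = r := by
    rw [(AdjoinRoot.powerBasis' hm).finrank]
    simp [hg, natDegree_X_pow_sub_C]
  set α : L := AdjoinRoot.root g with hα
  let f : End F (Fin s → L) := LinearMap.restrictScalars F (α • (LinearMap.id : End L (Fin s → L)))
  have hfin : finrank F (Fin s → L) = n := by
    rw [Module.finrank_pi_fintype, Finset.sum_const, Finset.card_univ, Fintype.card_fin, smul_eq_mul, hL, hs,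
      mul_comm]
  have hαr : α ^ r = algebraMap F L c := by
    have h0 : AdjoinRoot.mk g g = 0 := AdjoinRoot.mk_self
    conv at h0 => lhs; arg 2; rw [hg]
    simp only [map_sub, map_pow, AdjoinRoot.mk_X, AdjoinRoot.mk_C, sub_eq_zero] at h0
    exact h0
  have hfapp : ∀ (k : ℕ) (v : Fin s → L), (f ^ k) v = α ^ k • v := by
    intro k
    induction k with
    | zero => intro v; simp
    | succ k ih =>
      intro v
      rw [pow_succ', Module.End.mul_apply, ih]
      show α • (α ^ k • v) = _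
      rw [smul_smul, ← pow_succ']
  have hfr : f ^ r = c • 1 := LinearMap.ext fun v => by
    rw [hfapp, hαr, algebraMap_smul]; rfl
  have hnorm : Algebra.norm F α = (-1 : F) ^ r * -c := by
    have hgen : (AdjoinRoot.powerBasis' hm).gen = α := by simp [hα]
    rw [← hgen, Algebra.PowerBasis.norm_gen_eq_coeff_zero_minpoly, hgen, hα,
      AdjoinRoot.minpoly_root hm.ne_zero]
    have hdim : (AdjoinRoot.powerBasis' hm).dim = r := by
      rw [← (AdjoinRoot.powerBasis' hm).finrank, hL]
    rw [hdim, hm.leadingCoeff]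
    simp [hg, hr.ne_zero.symm]
  have hdet : LinearMap.det f = 1 := by
    show LinearMap.det (LinearMap.restrictScalars F (α • (LinearMap.id : End L (Fin s → L)))) = 1
    rw [LinearMap.det_restrictScalars, LinearMap.det_smul, LinearMap.det_id, mul_one,
      Module.finrank_fin_fun, map_pow, hnorm, hds]
  obtain ⟨x, e, hx⟩ := exists_sl_of_end hfin f hdet
  have hxr : endOf x ^ r = c • 1 := by rw [hx, ← map_pow, hfr, map_smul, map_one]
  refine ⟨x, ⟨c, (endOf_pow_iff x r c).1 hxr⟩, fun z hz => ?_, fun W hW => ?_⟩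
  · rw [(endOf_scalar_iff x z).2 hz, _root_.smul_pow, one_pow] at hxr
    refine hnp z ?_
    have := congrArg (fun g : End F (Fin n → F) => g (fun _ => 1) ⟨0, hn⟩) hxr
    simpa using this
  · refine dvd_finrank (h := g) (i := r) ?_ (inv_iff_map.2 hW) fun v _ => ?_
    · have := factorDeg_irreducible (V := Fin n → F) hirr
      rwa [hg, natDegree_X_pow_sub_C] at this
    · simp [hg, hxr, Module.algebraMap_end_apply]

end Cfsg.Agent.Elusive
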