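import Cfsg.Prelude.Def_GeometricClasses
import Cfsg.Agent.Lib.Elusive.Sl

/-!
Elements of `SL_n(q)` squaring to a scalar: normal bases and centralisers of full determinant.
-/

set_option autoImplicit false
set_option linter.unusedSectionVars false
set_option linter.style.haveILetI false

open scoped MatrixGroups Matrix

namespace Cfsg.Agent.Elusive

open Module Matrix

section basis

variable {F V : Type*} [Field F] [AddCommGroup V] [Module F V] [FiniteDimensional F V]

/-- Eigenvectors of `f` with `f² = w²` in odd characteristic. -/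
theorem exists_eigen_basis {f : End F V} {w : F} (h2 : (2 : F) ≠ 0) (hw : w ≠ 0)
    (hf : ∀ v, f (f v) = (w * w) • v) :
    ∃ (m l : ℕ) (b : Basis (Fin m ⊕ Fin l) F V),
      (∀ i, f (b (.inl i)) = (-w) • b (.inl i)) ∧ ∀ i, f (b (.inr i)) = w • b (.inr i) := by
  set A := LinearMap.ker (f + w • (1 : End F V)) with hA
  set B := LinearMap.ker (f - w • (1 : End F V)) with hB
  have hmA : ∀ v, v ∈ A ↔ f v = (-w) • v := fun v => by
    simp [hA, neg_smul, eq_neg_iff_add_eq_zero]
  have hmB : ∀ v, v ∈ B ↔ f v = w • v := fun v => by simp [hB, sub_eq_zero]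
  have hc : IsCompl A B := by
    refine ⟨Submodule.disjoint_def.2 fun v h1 h3 => ?_, codisjoint_iff.2 (eq_top_iff.2 fun v _ => ?_)⟩
    · rw [hmA] at h1
      rw [hmB, h1] at h3
      have h4 : (2 * w) • v = 0 := by linear_combination (norm := module) -h3
      exact (smul_eq_zero.1 h4).resolve_left (mul_ne_zero h2 hw)
    · refine Submodule.mem_sup.2 ⟨(2 * w)⁻¹ • (w • v - f v), Submodule.smul_mem _ _ ((hmA _).2 ?_),
        (2 * w)⁻¹ • (w • v + f v), Submodule.smul_mem _ _ ((hmB _).2 ?_), ?_⟩
      · rw [map_sub, map_smul, hf]; module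
      · rw [map_add, map_smul, hf]; module
      · rw [← smul_add, show w • v - f v + (w • v + f v) = (2 * w) • v by module, smul_smul,
          inv_mul_cancel₀ (mul_ne_zero h2 hw), one_smul]
  let bA := finBasis F A
  let bB := finBasis F B
  refine ⟨_, _, (bA.prod bB).map (Submodule.prodEquivOfIsCompl A B hc), fun i => ?_, fun i => ?_⟩
  · have e : ((bA.prod bB).map (Submodule.prodEquivOfIsCompl A B hc)) (.inl i) = (bA i : V) := by simp
    rw [e]; exact (hmA _).1 (bA i).2
  · have e : ((bA.prod bB).map (Submodule.prodEquivOfIsCompl A B hc)) (.inr i) = (bB i : V) := by simp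
    rw [e]; exact (hmB _).1 (bB i).2

/-- `f² = z` for a non-square `z`: pairs `v, f v`. -/
theorem exists_swap_basis {f : End F V} {z : F} (hz : ∀ w : F, w * w ≠ z)
    (hf : ∀ v, f (f v) = z • v) :
    ∃ (k : ℕ) (b : Basis (Fin 2 × Fin k) F V),
      (∀ i, f (b (0, i)) = b (1, i)) ∧ ∀ i, f (b (1, i)) = z • b (0, i) := by
  have step : ∀ k, 2 * k ≤ finrank F V + 1 → ∃ v : Fin k → V,
      LinearIndependent F (Sum.elim v (f ∘ v)) := by
    intro k
    induction k with
    | zero => exact fun _ => ⟨Fin.elim0, linearIndependent_empty_type⟩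
    | succ k ih =>
      intro hk
      obtain ⟨v, hv⟩ := ih (by omega)
      set P := Submodule.span F (Set.range (Sum.elim v (f ∘ v))) with hP
      have hPinv : ∀ y ∈ P, f y ∈ P := by
        intro y hy
        induction hy using Submodule.span_induction with
        | mem y hy =>
          obtain ⟨i | i, rfl⟩ := hy
          · exact Submodule.subset_span ⟨Sum.inr i, rfl⟩
          · show f (f (v i)) ∈ P
            rw [hf]
            exact Submodule.smul_mem _ _ (Submodule.subset_span ⟨Sum.inl i, rfl⟩)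
        | zero => rw [map_zero]; exact zero_mem _
        | add a b _ _ ha hb => rw [map_add]; exact add_mem ha hb
        | smul c a _ ha => rw [map_smul]; exact Submodule.smul_mem _ c ha
      obtain ⟨u, hu⟩ : ∃ u, u ∉ P := by
        by_contra hall
        push Not at hall
        have := finrank_span_eq_card hv
        rw [← hP, show P = ⊤ from eq_top_iff.mpr fun y _ => hall y, finrank_top, Fintype.card_sum,
          Fintype.card_fin] at this
        omega
      refine ⟨Fin.cons u v, ?_⟩
      have key : ∀ a c : F, a • u + c • f u ∈ P → a = 0 ∧ c = 0 := by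
        intro a c hm
        have hm' := hPinv _ hm
        rw [map_add, map_smul, map_smul, hf] at hm'
        have h3 : a * a - c * c * z = 0 := by
          have h2 : (a * a - c * c * z) • u ∈ P := by
            have : (a * a - c * c * z) • u =
                a • (a • u + c • f u) - c • (a • f u + c • z • u) := by module
            rw [this]; exact sub_mem (Submodule.smul_mem _ _ hm) (Submodule.smul_mem _ _ hm')
          by_contra h
          exact hu (by simpa [smul_smul, inv_mul_cancel₀ h] using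
            Submodule.smul_mem P (a * a - c * c * z)⁻¹ h2)
        by_cases hc : c = 0
        · subst hc
          exact ⟨mul_self_eq_zero.mp (by linear_combination h3), rfl⟩
        · exact absurd (by field_simp; linear_combination h3) (hz (a / c))
      have hind : LinearIndependent F (Sum.elim (Sum.elim v (f ∘ v)) ![u, f u]) := by
        refine hv.sum_type ?_ ?_
        · rw [LinearIndependent.pair_iff]
          intro a c h
          exact key a c (h ▸ zero_mem P)
        · rw [Submodule.disjoint_def]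
          intro y hy hy'
          rw [Matrix.range_cons, Matrix.range_cons, Matrix.range_empty, Set.union_empty,
            Set.singleton_union, Submodule.mem_span_pair] at hy'
          obtain ⟨a, c, rfl⟩ := hy'
          obtain ⟨rfl, rfl⟩ := key a c hy
          simp
      let g : Fin (k + 1) ⊕ Fin (k + 1) → (Fin k ⊕ Fin k) ⊕ Fin 2 :=
        Sum.elim (Fin.cons (Sum.inr 0) (fun i => Sum.inl (Sum.inl i)))
          (Fin.cons (Sum.inr 1) (fun i => Sum.inl (Sum.inr i)))
      have hg : Function.Injective g := by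
        rintro (i | i) (j | j) h <;> cases i using Fin.cases <;> cases j using Fin.cases <;>
          simp [g] at h ⊢ <;> try exact h
      convert hind.comp g hg using 1
      funext i
      rcases i with i | i <;> cases i using Fin.cases <;> simp [g]
  set k := (finrank F V + 1) / 2 with hk
  obtain ⟨v, hv⟩ := step k (by omega)
  have hle := hv.fintype_card_le_finrank
  rw [Fintype.card_sum, Fintype.card_fin] at hle
  let e : Fin k ⊕ Fin k ≃ Fin 2 × Fin k :=
    (Equiv.boolProdEquivSum (Fin k)).symm.trans (Equiv.prodCongr finTwoEquiv.symm (Equiv.refl _))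
  let b := (Basis.mk hv (hv.span_eq_top_of_card_eq_finrank' (by simp; omega)).ge).reindex e
  refine ⟨k, b, fun i => ?_, fun i => ?_⟩
  · simp [b, e, Equiv.boolProdEquivSum, finTwoEquiv]
  · simp [b, e, Equiv.boolProdEquivSum, finTwoEquiv, hf]

/-- `f² = w²` in characteristic two: pairs `v, f v` and fixed vectors. -/
theorem exists_unipotent_basis {f : End F V} {w : F} (h2 : (2 : F) = 0)
    (hf : ∀ v, f (f v) = (w * w) • v) :
    ∃ (k l : ℕ) (b : Basis ((Fin 2 × Fin k) ⊕ Fin l) F V),
      (∀ i, f (b (.inl (0, i))) = b (.inl (1, i))) ∧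
      (∀ i, f (b (.inl (1, i))) = (w * w) • b (.inl (0, i))) ∧
      ∀ i, f (b (.inr i)) = w • b (.inr i) := by
  set N : V →ₗ[F] V := f - w • LinearMap.id with hN
  have hfN : ∀ v, f v = N v + w • v := fun v => by simp [hN]
  have hNN : ∀ v, N (N v) = 0 := by
    intro v
    simp only [hN, LinearMap.sub_apply, LinearMap.smul_apply, LinearMap.id_coe, id_eq, map_sub, map_smul, hf]
    rw [show (w * w) • v - w • f v - w • (f v - w • v) = (2 : F) • ((w * w) • v - w • f v) by module,
      h2, zero_smul]
  let bR := finBasis F (LinearMap.range N)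
  set k := finrank F (LinearMap.range N)
  choose v hv using fun i => LinearMap.mem_range.mp (bR i).2
  have hRK : LinearMap.range N ≤ LinearMap.ker N := by
    rintro _ ⟨y, rfl⟩; exact hNN y
  obtain ⟨C, hC⟩ := Submodule.exists_isCompl (LinearMap.range N)
  let L : Submodule F V := LinearMap.ker N ⊓ C
  let bL := finBasis F L
  set l := finrank F L
  have hker : LinearMap.range N ⊔ L = LinearMap.ker N := by
    show LinearMap.range N ⊔ (LinearMap.ker N ⊓ C) = _
    rw [inf_comm, ← sup_inf_assoc_of_le C hRK, hC.sup_eq_top, top_inf_eq]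
  let g : (Fin 2 × Fin k) ⊕ Fin l → V :=
    Sum.elim (fun p => if p.1 = 0 then v p.2 else f (v p.2)) (fun i => (bL i : V))
  have hspan : ⊤ ≤ Submodule.span F (Set.range g) := by
    intro y _
    have hbR : ∀ i, (bR i : V) ∈ Submodule.span F (Set.range g) := by
      intro i
      rw [← hv i, show N (v i) = f (v i) - w • v i by simp [hN]]
      exact sub_mem (Submodule.subset_span ⟨Sum.inl (1, i), by simp [g]⟩)
        (Submodule.smul_mem _ _ (Submodule.subset_span ⟨Sum.inl (0, i), by simp [g]⟩))
    have hy' : y - ∑ i, bR.repr ⟨N y, LinearMap.mem_range_self N y⟩ i • v i ∈ LinearMap.ker N := by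
      rw [LinearMap.mem_ker, map_sub, map_sum]
      simp only [map_smul, hv]
      have := congrArg Subtype.val (bR.sum_repr ⟨N y, LinearMap.mem_range_self N y⟩)
      simp only [AddSubmonoidClass.coe_finsetSum, SetLike.val_smul] at this
      rw [this, sub_self]
    rw [← hker, Submodule.mem_sup] at hy'
    obtain ⟨r, hr, c, hc, hrc⟩ := hy'
    rw [show y = r + c + ∑ i, bR.repr ⟨N y, LinearMap.mem_range_self N y⟩ i • v i by rw [hrc]; abel]
    refine add_mem (add_mem ?_ ?_)
      (Submodule.sum_mem _ fun i _ => Submodule.smul_mem _ _ (Submodule.subset_span ⟨Sum.inl (0, i), by simp [g]⟩))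
    · rw [show r = ∑ i, bR.repr ⟨r, hr⟩ i • (bR i : V) by
        refine (congrArg Subtype.val (bR.sum_repr ⟨r, hr⟩)).symm.trans ?_
        simp only [AddSubmonoidClass.coe_finsetSum, SetLike.val_smul]]
      exact Submodule.sum_mem _ fun i _ => Submodule.smul_mem _ _ (hbR i)
    · rw [show c = ∑ i, bL.repr ⟨c, hc⟩ i • (bL i : V) by
        refine (congrArg Subtype.val (bL.sum_repr ⟨c, hc⟩)).symm.trans ?_
        simp only [AddSubmonoidClass.coe_finsetSum, SetLike.val_smul]]
      exact Submodule.sum_mem _ fun i _ => Submodule.smul_mem _ _ (Submodule.subset_span ⟨Sum.inr i, rfl⟩)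
  have hcard : Fintype.card ((Fin 2 × Fin k) ⊕ Fin l) = finrank F V := by
    have h1 := LinearMap.finrank_range_add_finrank_ker N
    have h3 := Submodule.finrank_sup_add_finrank_inf_eq (LinearMap.range N) L
    have h4 : LinearMap.range N ⊓ L = ⊥ := le_bot_iff.mp
      (le_trans (inf_le_inf_left _ inf_le_right) hC.inf_eq_bot.le)
    rw [hker, h4, finrank_bot] at h3
    simp only [Fintype.card_sum, Fintype.card_fin, Fintype.card_prod]
    omega
  refine ⟨k, l, basisOfTopLeSpanOfCardEqFinrank g hspan hcard, fun i => ?_, fun i => ?_, fun i => ?_⟩ <;>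
    rw [coe_basisOfTopLeSpanOfCardEqFinrank g hspan hcard]
  · simp [g]
  · simp [g, hf]
  · have h0 : N (bL i : V) = 0 := (bL i).2.1
    simp [g, hfN, h0]

/-- Commuting maps of every determinant. -/
def DetSurj (f : End F V) : Prop := ∀ u : F, u ≠ 0 → ∃ g : End F V, g * f = f * g ∧ LinearMap.det g = u

/-- A monomial map fixing a basis line. -/
theorem detSurj_of_fixed {ι : Type*} [Fintype ι] [DecidableEq ι] (b : Basis ι F V) {f : End F V}
    (π : Equiv.Perm ι) (c : ι → F) (hb : ∀ i, f (b i) = c i • b (π i)) {i₀ : ι} (h : π i₀ = i₀) :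
    DetSurj f := by
  intro u _
  refine ⟨b.constr F fun i => (if i = i₀ then u else 1) • b i, b.ext fun i => ?_, ?_⟩
  · have hi : π i = i₀ ↔ i = i₀ := ⟨fun e => π.injective (e.trans h.symm), fun e => e ▸ h⟩
    rw [Module.End.mul_apply, Module.End.mul_apply, hb, map_smul, Basis.constr_basis, Basis.constr_basis,
      map_smul, hb, smul_comm]
    simp only [hi]
  · rw [← LinearMap.det_toMatrix b, show LinearMap.toMatrix b b (b.constr F fun i => (if i = i₀ then u else 1) • b i) =
        Matrix.diagonal fun i => if i = i₀ then u else 1 from Matrix.ext fun i j => by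
      rw [LinearMap.toMatrix_apply, Basis.constr_basis, map_smul, Finsupp.smul_apply, Basis.repr_self,
        Matrix.diagonal_apply, Finsupp.single_apply]
      by_cases hij : i = j <;> simp [hij, eq_comm (a := j)]]
    rw [Matrix.det_diagonal]
    simp

/-- The matrix of a map given on pairs. -/
theorem toMatrix_pairs {k : ℕ} (b : Basis (Fin 2 × Fin k) F V) (M : Fin k → Matrix (Fin 2) (Fin 2) F)
    {g : End F V} (h : ∀ a i, g (b (a, i)) = M i 0 a • b (0, i) + M i 1 a • b (1, i)) :
    LinearMap.toMatrix b b g = Matrix.blockDiagonal M := by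
  ext ⟨a, i⟩ ⟨a', i'⟩
  rw [LinearMap.toMatrix_apply, h, map_add, map_smul, map_smul, Basis.repr_self, Basis.repr_self,
    Matrix.blockDiagonal_apply, Finsupp.add_apply, Finsupp.smul_apply, Finsupp.smul_apply,
    Finsupp.single_apply, Finsupp.single_apply]
  fin_cases a <;> by_cases hi : i = i' <;> simp [hi, eq_comm (a := i')]

theorem det_pairs {k : ℕ} (b : Basis (Fin 2 × Fin k) F V) (M : Fin k → Matrix (Fin 2) (Fin 2) F)
    {g : End F V} (h : ∀ a i, g (b (a, i)) = M i 0 a • b (0, i) + M i 1 a • b (1, i)) :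
    LinearMap.det g = ∏ i, (M i).det := by
  rw [← LinearMap.det_toMatrix b, toMatrix_pairs b M h, Matrix.det_blockDiagonal]

theorem det_swap {k : ℕ} (b : Basis (Fin 2 × Fin k) F V) {f : End F V} {z : F}
    (h0 : ∀ i, f (b (0, i)) = b (1, i)) (h1 : ∀ i, f (b (1, i)) = z • b (0, i)) :
    LinearMap.det f = (-z) ^ k := by
  rw [det_pairs b (fun _ => !![0, z; 1, 0]) fun a i => by fin_cases a <;> simp [h0, h1]]
  simp [Matrix.det_fin_two]

theorem det_eigen {m l : ℕ} (b : Basis (Fin m ⊕ Fin l) F V) {f : End F V} {a c : F}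
    (h0 : ∀ i, f (b (.inl i)) = a • b (.inl i)) (h1 : ∀ i, f (b (.inr i)) = c • b (.inr i)) :
    LinearMap.det f = a ^ m * c ^ l := by
  rw [← LinearMap.det_toMatrix b, show LinearMap.toMatrix b b f =
      Matrix.diagonal (Sum.elim (fun _ => a) fun _ => c) from Matrix.ext fun i j => by
    rw [LinearMap.toMatrix_apply, Matrix.diagonal_apply]
    cases j <;> simp only [h0, h1, map_smul, Finsupp.smul_apply, Basis.repr_self, Finsupp.single_apply] <;>
      cases i <;> simp [eq_comm]
    ]
  rw [Matrix.det_diagonal, Fintype.prod_sum_type]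
  simp

/-- `a² - z c²` takes every value. -/
theorem exists_norm_value [Fintype F] (z u : F) (hz : z ≠ 0) : ∃ a c : F, a * a - c * (c * z) = u := by
  by_cases hc : ringChar F = 2
  · obtain ⟨a, ha⟩ := FiniteField.isSquare_of_char_two hc u
    exact ⟨a, 0, by simp [ha]⟩
  · obtain ⟨a, c, h⟩ := FiniteField.exists_root_sum_quadratic
      (f := Polynomial.X ^ 2 - Polynomial.C u) (g := Polynomial.C (-z) * Polynomial.X ^ 2)
      (Polynomial.degree_X_pow_sub_C (by norm_num) u) (Polynomial.degree_C_mul_X_pow 2 (neg_ne_zero.2 hz))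
      (FiniteField.odd_card_of_char_ne_two hc)
    simp only [Polynomial.eval_sub, Polynomial.eval_pow, Polynomial.eval_X, Polynomial.eval_C,
      Polynomial.eval_mul] at h
    exact ⟨a, c, by linear_combination h⟩

theorem detSurj_of_swap [Fintype F] {k : ℕ} (hk : 0 < k) (b : Basis (Fin 2 × Fin k) F V) {f : End F V} {z : F}
    (hz : z ≠ 0) (h0 : ∀ i, f (b (0, i)) = b (1, i)) (h1 : ∀ i, f (b (1, i)) = z • b (0, i)) :
    DetSurj f := by
  intro u _
  obtain ⟨a, c, hac⟩ := exists_norm_value z u hz
  let i₀ : Fin k := ⟨0, hk⟩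
  let M : Fin k → Matrix (Fin 2) (Fin 2) F := fun i => if i = i₀ then !![a, c * z; c, a] else 1
  let g : End F V := b.constr F fun p => M p.2 0 p.1 • b (0, p.2) + M p.2 1 p.1 • b (1, p.2)
  have hg : ∀ p, g (b p) = M p.2 0 p.1 • b (0, p.2) + M p.2 1 p.1 • b (1, p.2) := fun p =>
    b.constr_basis F _ p
  refine ⟨g, b.ext fun p => ?_, ?_⟩
  · obtain ⟨x, i⟩ := p
    rw [Module.End.mul_apply, Module.End.mul_apply]
    fin_cases x
    · simp only [Fin.isValue, Fin.zero_eta, hg, h0, h1, map_add, map_smul, smul_smul]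
      by_cases hi : i = i₀ <;> simp [M, hi, add_comm]
    · simp only [Fin.isValue, Fin.mk_one, hg, h0, h1, map_add, map_smul, smul_smul]
      by_cases hi : i = i₀ <;> simp [M, hi, mul_comm z, smul_smul, add_comm]
  · rw [det_pairs b M fun x i => hg (x, i)]
    rw [Finset.prod_eq_single i₀ (fun i _ hi => by simp [M, hi]) (fun h => absurd (Finset.mem_univ _) h)]
    simp [M, Matrix.det_fin_two]
    linear_combination hac

end basis

section sl

variable {F : Type*} [Field F] [Fintype F] {n : ℕ}

theorem endOf_mul_self (x : Matrix.SpecialLinearGroup (Fin n) F) {z : F}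
    (h : ((x ^ 2 : Matrix.SpecialLinearGroup (Fin n) F) : Matrix (Fin n) (Fin n) F) =
      z • (1 : Matrix (Fin n) (Fin n) F)) (v : Fin n → F) : endOf x (endOf x v) = z • v := by
  have h1 := (endOf_pow_iff x 2 z).2 h
  rw [pow_two] at h1
  exact DFunLike.congr_fun h1 v

theorem ne_zero_of_sq (hn : 0 < n) (x : Matrix.SpecialLinearGroup (Fin n) F) {z : F}
    (h : ((x ^ 2 : Matrix.SpecialLinearGroup (Fin n) F) : Matrix (Fin n) (Fin n) F) =
      z • (1 : Matrix (Fin n) (Fin n) F)) : z ≠ 0 := by
  intro h0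
  haveI := Fin.pos_iff_nonempty.1 hn
  have h2 := (x ^ 2).2
  rw [h, h0, zero_smul, Matrix.det_zero] at h2
  exact zero_ne_one h2

theorem det_endOf (x : Matrix.SpecialLinearGroup (Fin n) F) : LinearMap.det (endOf x) = 1 := by
  rw [LinearMap.det_toLin']; exact x.2

theorem pow_eq_one_of_square (x : Matrix.SpecialLinearGroup (Fin n) F) {z : F}
    (h : ((x ^ 2 : Matrix.SpecialLinearGroup (Fin n) F) : Matrix (Fin n) (Fin n) F) =
      z • (1 : Matrix (Fin n) (Fin n) F)) : z ^ n = 1 := by
  have h2 := (x ^ 2).2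
  rwa [h, Matrix.det_smul, Matrix.det_one, mul_one, Fintype.card_fin] at h2

/-- Every element squaring to a scalar has centraliser of full determinant. -/
theorem detSurj_of_sq (hn : 0 < n) (x : Matrix.SpecialLinearGroup (Fin n) F) {z : F}
    (h : ((x ^ 2 : Matrix.SpecialLinearGroup (Fin n) F) : Matrix (Fin n) (Fin n) F) =
      z • (1 : Matrix (Fin n) (Fin n) F)) : DetSurj (endOf x) := by
  have hf := endOf_mul_self x h
  have hz0 := ne_zero_of_sq hn x h
  have hfin : finrank F (Fin n → F) = n := Module.finrank_fin_fun F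
  by_cases hsq : ∃ w : F, w * w = z
  · obtain ⟨w, rfl⟩ := hsq
    by_cases h2 : (2 : F) = 0
    · obtain ⟨k, l, b, e0, e1, e2⟩ := exists_unipotent_basis h2 hf
      rcases Nat.eq_zero_or_pos l with rfl | hl
      · have hk : 0 < k := by
          have := finrank_eq_card_basis b
          simp [hfin] at this
          omega
        exact detSurj_of_swap hk (b.reindex (Equiv.sumEmpty _ _)) hz0 (fun i => by simpa using e0 i)
          (fun i => by simpa using e1 i)
      · refine detSurj_of_fixed b (Equiv.sumCongr (Equiv.prodCongr (Equiv.swap 0 1) (Equiv.refl _))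
          (Equiv.refl _)) (Sum.elim (fun p => if p.1 = 0 then 1 else w * w) fun _ => w) (fun i => ?_)
          (i₀ := .inr ⟨0, hl⟩) rfl
        rcases i with ⟨a, i⟩ | i
        · fin_cases a <;> simp [e0, e1]
        · simp [e2]
    · obtain ⟨m, l, b, e0, e1⟩ := exists_eigen_basis h2 (left_ne_zero_of_mul hz0) hf
      have hne : Nonempty (Fin m ⊕ Fin l) := by
        rw [← Fintype.card_pos_iff, ← finrank_eq_card_basis b, hfin]; exact hn
      obtain ⟨i₀⟩ := hne
      exact detSurj_of_fixed b (Equiv.refl _) (Sum.elim (fun _ => -w) fun _ => w)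
        (fun i => by cases i <;> simp [e0, e1]) (i₀ := i₀) rfl
  · push Not at hsq
    obtain ⟨k, b, e0, e1⟩ := exists_swap_basis hsq hf
    have hk : 0 < k := by
      have := finrank_eq_card_basis b
      simp [hfin] at this
      omega
    exact detSurj_of_swap hk b hz0 e0 e1

/-- The change of basis. -/
theorem exists_gl_of_basis (x : Matrix.SpecialLinearGroup (Fin n) F) {ι : Type*} [Fintype ι] [DecidableEq ι]
    (b : Basis ι F (Fin n → F)) :
    ∃ (e : ι ≃ Fin n) (P : GL (Fin n) F), (P⁻¹ * SpecialLinearGroup.toGL x * P : GL (Fin n) F).val =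
      Matrix.reindex e e (LinearMap.toMatrix b b (endOf x)) := by
  let e : ι ≃ Fin n := Fintype.equivFinOfCardEq (by rw [← finrank_eq_card_basis b, Module.finrank_fin_fun])
  set b' := b.reindex e with hb'
  set s := Pi.basisFun F (Fin n)
  refine ⟨e, ⟨s.toMatrix b', b'.toMatrix s, Basis.toMatrix_mul_toMatrix_flip _ _,
    Basis.toMatrix_mul_toMatrix_flip _ _⟩, ?_⟩
  show b'.toMatrix s * x.1 * s.toMatrix b' = _
  rw [show x.1 = LinearMap.toMatrix s s (endOf x) from by
    rw [LinearMap.toMatrix_eq_toMatrix']; exact (LinearMap.toMatrix'_toLin' _).symm,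
    basis_toMatrix_mul_linearMap_toMatrix_mul_basis_toMatrix]
  ext i j
  simp [hb', LinearMap.toMatrix_apply]

/-- From conjugation by a matrix to conjugation by one of determinant one. -/
theorem exists_sl_conj_of (H : Subgroup (GL (Fin n) F)) (x : Matrix.SpecialLinearGroup (Fin n) F)
    (P : GL (Fin n) F) (hP : P⁻¹ * SpecialLinearGroup.toGL x * P ∈ H) {g : End F (Fin n → F)}
    (hgx : g * endOf x = endOf x * g) (hgd : LinearMap.det g = P.val.det⁻¹) :
    ∃ Q : Matrix.SpecialLinearGroup (Fin n) F, Q⁻¹ * x * Q ∈ H.comap SpecialLinearGroup.toGL := by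
  have hPd : P.val.det ≠ 0 := ((Matrix.isUnit_iff_isUnit_det _).1 P.isUnit).ne_zero
  set C := LinearMap.toMatrix' g with hC
  have hCx : C * x.1 = x.1 * C := by
    have h1 := congrArg LinearMap.toMatrix' hgx
    rwa [Module.End.mul_eq_comp, Module.End.mul_eq_comp, LinearMap.toMatrix'_comp, LinearMap.toMatrix'_comp,
      LinearMap.toMatrix'_toLin'] at h1
  have hCd : C.det = P.val.det⁻¹ := by rw [hC, LinearMap.det_toMatrix', hgd]
  let Cg : GL (Fin n) F := Matrix.GeneralLinearGroup.mkOfDetNeZero C (by rw [hCd]; exact inv_ne_zero hPd)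
  let Q : Matrix.SpecialLinearGroup (Fin n) F :=
    ⟨C * P.val, by rw [Matrix.det_mul, hCd, inv_mul_cancel₀ hPd]⟩
  refine ⟨Q, ?_⟩
  rw [Subgroup.mem_comap, map_mul, map_mul, map_inv, show SpecialLinearGroup.toGL Q = Cg * P from Units.ext rfl]
  have hc : Cg * SpecialLinearGroup.toGL x = SpecialLinearGroup.toGL x * Cg := Units.ext hCx
  rw [show (Cg * P)⁻¹ * SpecialLinearGroup.toGL x * (Cg * P) = P⁻¹ * SpecialLinearGroup.toGL x * P by
    rw [_root_.mul_inv_rev, mul_assoc P⁻¹, mul_assoc P⁻¹, mul_assoc Cg⁻¹, ← mul_assoc (SpecialLinearGroup.toGL x),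
      ← hc, mul_assoc Cg, inv_mul_cancel_left, ← mul_assoc]]
  exact hP

theorem exists_sl_conj (H : Subgroup (GL (Fin n) F)) (x : Matrix.SpecialLinearGroup (Fin n) F)
    (hx : DetSurj (endOf x)) (P : GL (Fin n) F) (hP : P⁻¹ * SpecialLinearGroup.toGL x * P ∈ H) :
    ∃ Q : Matrix.SpecialLinearGroup (Fin n) F, Q⁻¹ * x * Q ∈ H.comap SpecialLinearGroup.toGL := by
  obtain ⟨g, hgx, hgd⟩ := hx _ (inv_ne_zero ((Matrix.isUnit_iff_isUnit_det _).1 P.isUnit).ne_zero)
  exact exists_sl_conj_of H x P hP hgx hgd

/-- An element of order two modulo scalars made of `m` companion blocks. -/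
theorem exists_swap_element {m : ℕ} (hm : n = 2 * m) (hm0 : 0 < m) {z : F} (hd : (-z) ^ m = 1) :
    ∃ x : Matrix.SpecialLinearGroup (Fin n) F,
      ((x ^ 2 : Matrix.SpecialLinearGroup (Fin n) F) : Matrix (Fin n) (Fin n) F) =
        z • (1 : Matrix (Fin n) (Fin n) F) ∧
      ∀ c : F, (x : Matrix (Fin n) (Fin n) F) ≠ c • (1 : Matrix (Fin n) (Fin n) F) := by
  subst hm
  set M := Matrix.blockDiagonal fun _ : Fin m => (!![0, z; 1, 0] : Matrix (Fin 2) (Fin 2) F) with hM
  let e : Fin 2 × Fin m ≃ Fin (2 * m) := finProdFinEquiv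
  have hdet : (Matrix.reindex e e M).det = 1 := by
    rw [Matrix.det_reindex_self, hM, Matrix.det_blockDiagonal, Finset.prod_const, Finset.card_univ,
      Fintype.card_fin, Matrix.det_fin_two]
    simpa using hd
  let x : Matrix.SpecialLinearGroup (Fin (2 * m)) F := ⟨Matrix.reindex e e M, hdet⟩
  refine ⟨x, ?_, fun c hc => ?_⟩
  · rw [pow_two x]
    show x.1 * x.1 = _
    show Matrix.reindexAlgEquiv F F e M * Matrix.reindexAlgEquiv F F e M = _
    rw [← map_mul, ← map_one (Matrix.reindexAlgEquiv F F e), ← map_smul, hM, ← Matrix.blockDiagonal_mul]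
    congr 1
    rw [← Matrix.blockDiagonal_one, ← Matrix.blockDiagonal_smul]
    congr 1
    funext i
    ext a b
    fin_cases a <;> fin_cases b <;> simp
  · have h1 := congrFun (congrFun hc (e (1, ⟨0, hm0⟩))) (e (0, ⟨0, hm0⟩))
    simp [x, hM] at h1

end sl

end Cfsg.Agent.Elusive
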