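import Mathlib
import Cfsg.Agent.Lib.Elusive.Sl
import Cfsg.Agent.Lib.Elusive.Count

/-!
When every element of order `r` of `PSL_n(q)` fixes a subspace, or a flag, of given dimensions.
-/

set_option autoImplicit false
set_option linter.unusedSectionVars false
set_option linter.style.haveILetI false

open scoped MatrixGroups

namespace Cfsg.Agent.Elusive

open Polynomial Module

variable {F : Type*} [Field F] [Fintype F] {r : ℕ} [Fact r.Prime] {n : ℕ}

theorem ne_char_of_order {p : ℕ} [Fact p.Prime] [CharP F p] (h : (Fintype.card F : ZMod r) ≠ 0) :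
    r ≠ p := by
  rintro rfl
  obtain ⟨k, -, hk⟩ := FiniteField.card F r
  rw [hk, Nat.cast_pow, ZMod.natCast_self, zero_pow (by simp)] at h
  exact h rfl

/-- Consequences of `r` dividing the falling product. -/
theorem order_facts {k : ℕ} (hk : k ≤ n) (h : r ∣ fallProd (Fintype.card F) n k) :
    (Fintype.card F : ZMod r) ≠ 0 ∧ 1 ≤ orderOf (Fintype.card F : ZMod r) ∧
      orderOf (Fintype.card F : ZMod r) ≤ n ∧ n % orderOf (Fintype.card F : ZMod r) < k := by
  obtain ⟨h0, j, hj, hd⟩ := exists_order_dvd Fintype.one_lt_card hk h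
  have hpos : 0 < orderOf (Fintype.card F : ZMod r) := orderOf_pos_iff.2 (Ne.isUnit h0).isOfFinOrder
  refine ⟨h0, hpos, (Nat.le_of_dvd (by omega) hd).trans (Nat.sub_le n j), ?_⟩
  obtain ⟨c, hc⟩ := hd
  have hn : n = j + orderOf (Fintype.card F : ZMod r) * c := by omega
  conv_lhs => arg 1; rw [hn]
  rw [Nat.add_mul_mod_self_left]
  exact (Nat.mod_le _ _).trans_lt hj

theorem isSemisimple_of_scalar (hr : (r : F) ≠ 0) (hn : 0 < n) (x : Matrix.SpecialLinearGroup (Fin n) F)
    (hc : ∃ c : F, ((x ^ r : Matrix.SpecialLinearGroup (Fin n) F) : Matrix (Fin n) (Fin n) F) =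
      c • (1 : Matrix (Fin n) (Fin n) F)) : (endOf x).IsSemisimple := by
  obtain ⟨c, hc⟩ := hc
  have hc0 : c ≠ 0 := by
    intro h0
    haveI := Fin.pos_iff_nonempty.1 hn
    have h2 := (x ^ r).2
    rw [hc, h0, zero_smul, Matrix.det_zero] at h2
    exact zero_ne_one h2
  exact Module.End.isSemisimple_of_squarefree_aeval_eq_zero (separable_X_pow_sub_C c hr hc0).squarefree
    (by simp [(endOf_pow_iff x r c).2 hc, Algebra.algebraMap_eq_smul_one])

/-- Invariant subspaces of dimension `m`. -/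
theorem subspace_iff (p : ℕ) [Fact p.Prime] [CharP F p] (hn : 0 < n) {m : ℕ} (hm : 1 ≤ m) (hmn : m < n)
    (h : r ∣ fallProd (Fintype.card F) n m) :
    (∀ x : Matrix.SpecialLinearGroup (Fin n) F,
      (∃ c : F, ((x ^ r : Matrix.SpecialLinearGroup (Fin n) F) : Matrix (Fin n) (Fin n) F) =
        c • (1 : Matrix (Fin n) (Fin n) F)) →
      (∀ c : F, (x : Matrix (Fin n) (Fin n) F) ≠ c • (1 : Matrix (Fin n) (Fin n) F)) →
      ∃ W : Submodule F (Fin n → F), Module.finrank F ↥W = m ∧ W.map (endOf x) ≤ W) ↔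
    ((orderOf (Fintype.card F : ZMod r) = 1 ∧
        (r ∣ m ∨ (padicValNat r n ≤ padicValNat r (Fintype.card F - 1) ∧
          (r = 2 → Even n → Fintype.card F % 4 = 1)))) ∨
     (2 ≤ orderOf (Fintype.card F : ZMod r) ∧ orderOf (Fintype.card F : ZMod r) ≤ m ∧
        m % orderOf (Fintype.card F : ZMod r) ≤ n % orderOf (Fintype.card F : ZMod r))) := by
  obtain ⟨hq0, hi1, hin, hlt⟩ := order_facts hmn.le h
  have hr0 : (r : F) ≠ 0 := ne_zero_of_order hi1
  have hrp : r ≠ p := ne_char_of_order hq0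
  have htop : finrank F (Fin n → F) = n := Module.finrank_fin_fun F
  constructor
  · intro H
    rcases (Nat.eq_or_lt_of_le hi1) with h1 | h2
    · refine Or.inl ⟨h1.symm, ?_⟩
      by_contra hcond
      push Not at hcond
      obtain ⟨x, hx1, hx2, hx3⟩ := exists_witness_one (n := n) (r := r) (F := F) h1.symm hn
        (fun h => (hcond.2 h.1).2.2 (h.2 (hcond.2 h.1).1 (hcond.2 h.1).2.1))
      obtain ⟨W, hW, hWx⟩ := H x hx1 hx2
      exact hcond.1 (hW ▸ hx3 W hWx)
    · obtain ⟨x, hx1, hx2, hxr, hC, -⟩ := exists_witness p hrp h2 hin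
      obtain ⟨W, hW, hWx⟩ := H x hx1 hx2
      obtain ⟨b, hb⟩ := dim_eq hr0 hxr (inv_iff_map.2 hWx)
      have hle : finrank F ↥(LinearMap.ker (endOf x - 1) ⊓ W) ≤ n % orderOf (Fintype.card F : ZMod r) :=
        (Submodule.finrank_mono inf_le_left).trans hC.le
      have ha := Nat.mod_lt n (show orderOf (Fintype.card F : ZMod r) > 0 by omega)
      have hm' : m % orderOf (Fintype.card F : ZMod r) = finrank F ↥(LinearMap.ker (endOf x - 1) ⊓ W) := by
        rw [← hW, hb, Nat.add_mul_mod_self_right, Nat.mod_eq_of_lt (by omega)]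
      refine Or.inr ⟨h2, ?_, by omega⟩
      by_contra hlt'
      rw [Nat.mod_eq_of_lt (by omega)] at hm'
      omega
  · intro hcases x hx1 hx2
    rcases hcases with ⟨h1, hcond⟩ | ⟨h2, him, hmod⟩
    · obtain ⟨g, d, hss, hdeg, hann, ⟨j, rfl⟩, -, -⟩ := exists_structure_one h1 hn hcond x hx1
      obtain ⟨W, -, hW, hWd⟩ := exists_sub hss hdeg (S := ⊤) (fun _ _ => trivial)
        (fun v _ => by rw [hann]; rfl) j (by rw [finrank_top, htop, mul_comm]; omega)
      exact ⟨W, by rw [hWd, mul_comm], inv_iff_map.1 hW⟩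
    · obtain ⟨e, he, hy, -⟩ := exists_normalised (not_dvd_card_sub_one h2) x hx1 hx2 hn
      obtain ⟨k, hk⟩ := dim_eq hr0 hy (W := ⊤) (fun _ _ => trivial)
      rw [finrank_top, htop, inf_top_eq] at hk
      set C := finrank F (LinearMap.ker (e • endOf x - 1))
      set i := orderOf (Fintype.card F : ZMod r) with hi
      have hnC : n % i ≤ C := by
        rw [hk, Nat.add_mul_mod_self_right]; exact Nat.mod_le _ _
      have hmdiv := Nat.div_add_mod' m i
      obtain ⟨b, hbk, hbm, hba⟩ : ∃ b, b ≤ k ∧ b * i ≤ m ∧ m - b * i ≤ C := by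
        rcases le_total (m / i) k with hle | hle
        · exact ⟨m / i, hle, by omega, by omega⟩
        · exact ⟨k, le_rfl, (Nat.mul_le_mul_right i hle).trans (by omega), by omega⟩
      obtain ⟨U, -, hU, -, -, hUd, -⟩ := exists_nested hr0 hy (a := m - b * i) (a' := m - b * i) (b := b)
        (b' := b) le_rfl le_rfl hba (by
          rw [htop, ← hi]
          have := Nat.mul_le_mul_right i hbk
          omega)
      exact ⟨U, by rw [hUd, ← hi]; omega, inv_iff_map.1 ((inv_smul_iff he U).1 hU)⟩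

/-- Invariant flags of dimensions `m`, `n - m`. -/
theorem flag_iff (p : ℕ) [Fact p.Prime] [CharP F p] (hn : 0 < n) {m : ℕ} (hm : 1 ≤ m) (hmn : 2 * m < n)
    (h : r ∣ fallProd (Fintype.card F) n (2 * m)) :
    (∀ x : Matrix.SpecialLinearGroup (Fin n) F,
      (∃ c : F, ((x ^ r : Matrix.SpecialLinearGroup (Fin n) F) : Matrix (Fin n) (Fin n) F) =
        c • (1 : Matrix (Fin n) (Fin n) F)) →
      (∀ c : F, (x : Matrix (Fin n) (Fin n) F) ≠ c • (1 : Matrix (Fin n) (Fin n) F)) →
      ∃ U W : Submodule F (Fin n → F), U ≤ W ∧ Module.finrank F ↥U = m ∧ Module.finrank F ↥W = n - m ∧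
        U.map (endOf x) ≤ U ∧ W.map (endOf x) ≤ W) ↔
    ((orderOf (Fintype.card F : ZMod r) = 1 ∧
        (r ∣ m ∨ (padicValNat r n ≤ padicValNat r (Fintype.card F - 1) ∧
          (r = 2 → Even n → Fintype.card F % 4 = 1)))) ∨
     (2 ≤ orderOf (Fintype.card F : ZMod r) ∧ orderOf (Fintype.card F : ZMod r) ≤ m ∧
        2 * (m % orderOf (Fintype.card F : ZMod r)) ≤ n % orderOf (Fintype.card F : ZMod r))) := by
  obtain ⟨hq0, hi1, hin, hlt⟩ := order_facts hmn.le h
  have hr0 : (r : F) ≠ 0 := ne_zero_of_order hi1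
  have hrp : r ≠ p := ne_char_of_order hq0
  have htop : finrank F (Fin n → F) = n := Module.finrank_fin_fun F
  constructor
  · intro H
    rcases (Nat.eq_or_lt_of_le hi1) with h1 | h2
    · refine Or.inl ⟨h1.symm, ?_⟩
      by_contra hcond
      push Not at hcond
      obtain ⟨x, hx1, hx2, hx3⟩ := exists_witness_one (n := n) (r := r) (F := F) h1.symm hn
        (fun h => (hcond.2 h.1).2.2 (h.2 (hcond.2 h.1).1 (hcond.2 h.1).2.1))
      obtain ⟨U, W, -, hU, -, hUx, -⟩ := H x hx1 hx2
      exact hcond.1 (hU ▸ hx3 U hUx)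
    · obtain ⟨x, hx1, hx2, hxr, hC, -⟩ := exists_witness p hrp h2 hin
      obtain ⟨U, W, hUW, hU, hW, hUx, hWx⟩ := H x hx1 hx2
      obtain ⟨b, hb⟩ := dim_eq hr0 hxr (inv_iff_map.2 hUx)
      obtain ⟨b', hb'⟩ := dim_eq hr0 hxr (inv_iff_map.2 hWx)
      set i := orderOf (Fintype.card F : ZMod r)
      set a := finrank F ↥(LinearMap.ker (endOf x - 1) ⊓ U)
      set a' := finrank F ↥(LinearMap.ker (endOf x - 1) ⊓ W)
      have hle : a' ≤ n % i := (Submodule.finrank_mono inf_le_left).trans hC.le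
      have haa : a ≤ a' := Submodule.finrank_mono (inf_le_inf_left _ hUW)
      have hil := Nat.mod_lt n (show i > 0 by omega)
      have hm' : m % i = a := by
        rw [← hU, hb, Nat.add_mul_mod_self_right, Nat.mod_eq_of_lt (by omega)]
      have hn' : n % i = (a + a') % i := by
        conv_lhs => rw [show n = m + (n - m) by omega, ← hW]; arg 1; arg 1; rw [← hU]
        rw [hb, hb', show a + b * i + (a' + b' * i) = a + a' + (b + b') * i by ring,
          Nat.add_mul_mod_self_right]
      have key : 2 * a ≤ n % i := by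
        by_cases hlt' : a + a' < i
        · rw [Nat.mod_eq_of_lt hlt'] at hn'; omega
        · rw [Nat.mod_eq_sub_mod (a := a + a') (by omega), Nat.mod_eq_of_lt (a := a + a' - i) (by omega)] at hn'; omega
      refine Or.inr ⟨h2, ?_, by omega⟩
      by_contra hlt'
      rw [Nat.mod_eq_of_lt (by omega)] at hm'
      omega
  · intro hcases x hx1 hx2
    rcases hcases with ⟨h1, hcond⟩ | ⟨h2, him, hmod⟩
    · obtain ⟨g, d, hss, hdeg, hann, ⟨j, rfl⟩, ⟨l, rfl⟩, hd⟩ := exists_structure_one h1 hn hcond x hx1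
      obtain ⟨W, -, hW, hWd⟩ := exists_sub hss hdeg (S := ⊤) (fun _ _ => trivial)
        (fun v _ => by rw [hann]; rfl) (l - j) (by
          rw [finrank_top, htop, mul_comm]; exact Nat.mul_le_mul_left d (Nat.sub_le l j))
      have hjl : j ≤ l - j := by
        have h2j : d * (2 * j) < d * l := by rw [mul_left_comm]; exact hmn
        have := Nat.lt_of_mul_lt_mul_left h2j
        omega
      obtain ⟨U, hUW, hU, hUd⟩ := exists_sub hss hdeg hW
        (fun v _ => by rw [hann]; rfl) j (by rw [hWd]; exact Nat.mul_le_mul_right d hjl)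
      exact ⟨U, W, hUW, by rw [hUd, mul_comm], by rw [hWd, mul_comm, Nat.mul_sub], inv_iff_map.1 hU,
        inv_iff_map.1 hW⟩
    · obtain ⟨e, he, hy, -⟩ := exists_normalised (not_dvd_card_sub_one h2) x hx1 hx2 hn
      obtain ⟨k, hk⟩ := dim_eq hr0 hy (W := ⊤) (fun _ _ => trivial)
      rw [finrank_top, htop, inf_top_eq] at hk
      set C := finrank F (LinearMap.ker (e • endOf x - 1))
      set i := orderOf (Fintype.card F : ZMod r) with hi
      have hnC : n % i ≤ C := by
        rw [hk, Nat.add_mul_mod_self_right]; exact Nat.mod_le _ _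
      have hmdiv := Nat.div_add_mod' m i
      obtain ⟨b, b', hbk, hbm, hbm', hba⟩ : ∃ b b', b + b' ≤ k ∧ b * i ≤ m ∧ b' * i ≤ m ∧
          (m - b * i) + (m - b' * i) ≤ C := by
        rcases le_total (m / i + m / i) k with hle | hle
        · exact ⟨m / i, m / i, hle, by omega, by omega, by omega⟩
        · obtain ⟨b, b', rfl, hb1, hb2⟩ : ∃ b b', k = b + b' ∧ b ≤ m / i ∧ b' ≤ m / i :=
            ⟨min k (m / i), k - min k (m / i), by omega, min_le_right _ _, by omega⟩
          have e1 := Nat.mul_le_mul_right i hb1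
          have e2 := Nat.mul_le_mul_right i hb2
          rw [Nat.add_mul] at hk
          exact ⟨b, b', le_rfl, by omega, by omega, by omega⟩
      have hbk' := Nat.mul_le_mul_right i hbk
      rw [Nat.add_mul] at hbk'
      obtain ⟨U, W, hU, hW, hUW, hUd, hWd⟩ := exists_nested hr0 hy (a := m - b * i)
        (a' := C - (m - b' * i)) (b := b) (b' := k - b') (by omega) (by omega) (Nat.sub_le _ _) (by
          rw [htop, ← hi]
          have := Nat.mul_le_mul_right i (Nat.sub_le k b')
          omega)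
      refine ⟨U, W, hUW, by rw [hUd, ← hi]; omega, ?_, inv_iff_map.1 ((inv_smul_iff he U).1 hU),
        inv_iff_map.1 ((inv_smul_iff he W).1 hW)⟩
      rw [hWd, ← hi, Nat.sub_mul]
      omega

end Cfsg.Agent.Elusive
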