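import Cfsg.Prelude.Def_GeometricClasses
import Cfsg.Agent.Lib.Elusive.Subspaces

/-!
Similitudes of non-degenerate forms, semilinear in the second variable, and elements of prime order modulo
scalars of the special linear group whose spectrum forbids such a form.
-/

set_option autoImplicit false
set_option linter.unusedSectionVars false
set_option linter.style.haveILetI false

open scoped MatrixGroups Matrix

namespace Cfsg.Agent.Elusive

open Polynomial

section sim

variable {F : Type*} [Field F] {ι : Type*} [Fintype ι] [DecidableEq ι]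

/-- A matrix scaling some non-degenerate form which is `τ`-semilinear in the second variable. -/
def IsSimMat (τ : F →+* F) (Y : Matrix ι ι F) : Prop :=
  ∃ (G : Matrix ι ι F) (c : F), G.det ≠ 0 ∧ c ≠ 0 ∧ Yᵀ * G * Y.map τ = c • G

theorem isSimMat_of_form (τ : F →+* F) (f : (ι → F) → (ι → F) → F)
    (hal : ∀ x y v, f (x + y) v = f x v + f y v) (hsl : ∀ (c : F) x v, f (c • x) v = c * f x v)
    (har : ∀ v x y, f v (x + y) = f v x + f v y) (hsr : ∀ (c : F) v x, f v (c • x) = τ c * f v x)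
    (hnd : ∀ v, v ≠ 0 → ∃ x, f v x ≠ 0)
    (Y : Matrix ι ι F) {c : F} (hc : c ≠ 0) (h : ∀ u v, f (Y *ᵥ u) (Y *ᵥ v) = c * f u v) :
    IsSimMat τ Y := by
  set G : Matrix ι ι F := Matrix.of fun i j => f (Pi.single i 1) (Pi.single j 1) with hG
  let R : (ι → F) → (ι → F) →+ F := fun u => AddMonoidHom.mk' (f u) (har u)
  let L : (ι → F) → (ι → F) →+ F := fun v => AddMonoidHom.mk' (fun u => f u v) fun x y => hal x y v
  have hsum : ∀ u v, f u v = u ⬝ᵥ (G *ᵥ (τ ∘ v)) := by
    intro u v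
    have h1 : ∀ i, f (Pi.single i 1) v = (G *ᵥ (τ ∘ v)) i := by
      intro i
      show R (Pi.single i 1) v = _
      conv_lhs => rw [pi_eq_sum_univ' v]
      rw [map_sum]
      refine Finset.sum_congr rfl fun j _ => ?_
      show f _ (v j • Pi.single j 1) = _
      rw [hsr]; simp [hG, mul_comm]
    show L v u = _
    conv_lhs => rw [pi_eq_sum_univ' u]
    rw [map_sum]
    refine Finset.sum_congr rfl fun i _ => ?_
    show f (u i • Pi.single i 1) v = _
    rw [hsl, h1]
  refine ⟨G, c, fun h0 => ?_, hc, ?_⟩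
  · obtain ⟨w, hw, hGw⟩ := Matrix.exists_vecMul_eq_zero_iff.2 h0
    obtain ⟨x, hx⟩ := hnd w hw
    exact hx (by rw [hsum, Matrix.dotProduct_mulVec, hGw, zero_dotProduct])
  · ext i j
    have h1 := h (Pi.single i 1) (Pi.single j 1)
    rw [hsum (Y *ᵥ _)] at h1
    simp only [Matrix.smul_apply, smul_eq_mul]
    rw [show G i j = f (Pi.single i 1) (Pi.single j 1) from rfl, ← h1]
    have hcol : τ ∘ (Y *ᵥ Pi.single j 1) = fun k => (Y.map τ) k j := by
      funext k; simp
    rw [hcol, Matrix.mul_assoc, Matrix.mul_apply]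
    refine Finset.sum_congr rfl fun k _ => ?_
    simp [Matrix.mul_apply, Matrix.mulVec, dotProduct, Pi.single_apply]

variable {τ : F →+* F}

theorem IsSimMat.conj {Y P Pi : Matrix ι ι F} (h : IsSimMat τ (Pi * Y * P)) (h1 : P * Pi = 1) :
    IsSimMat τ Y := by
  obtain ⟨G, c, hG, hc, he⟩ := h
  have h2 : Pi * P = 1 := mul_eq_one_comm.1 h1
  have h1' : P.map τ * Pi.map τ = 1 := by rw [← Matrix.map_mul, h1, Matrix.map_one _ (map_zero τ) (map_one τ)]
  refine ⟨Piᵀ * G * Pi.map τ, c, ?_, hc, ?_⟩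
  · rw [Matrix.det_mul, Matrix.det_mul, Matrix.det_transpose]
    exact mul_ne_zero (mul_ne_zero (fun h0 => by simpa [h0] using congrArg Matrix.det h1) hG)
      (fun h0 => by simpa [h0] using congrArg Matrix.det h1')
  · calc Yᵀ * (Piᵀ * G * Pi.map τ) * Y.map τ
        = (P * Pi)ᵀ * (Yᵀ * (Piᵀ * G * Pi.map τ) * Y.map τ) * (P.map τ * Pi.map τ) := by
          rw [h1, h1', Matrix.transpose_one, one_mul, mul_one]
      _ = Piᵀ * ((Pi * Y * P)ᵀ * G * (Pi * Y * P).map τ) * Pi.map τ := by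
          simp only [Matrix.transpose_mul, Matrix.map_mul, Matrix.mul_assoc]
      _ = c • (Piᵀ * G * Pi.map τ) := by
          rw [he, Matrix.mul_smul, Matrix.smul_mul]

theorem IsSimMat.of_smul {Y : Matrix ι ι F} {b : F} (hb : b ≠ 0) (h : IsSimMat τ (b • Y)) : IsSimMat τ Y := by
  obtain ⟨G, c, hG, hc, he⟩ := h
  have hτb : τ b ≠ 0 := (map_ne_zero τ).2 hb
  refine ⟨G, c / (b * τ b), hG, div_ne_zero hc (mul_ne_zero hb hτb), ?_⟩
  rw [Matrix.transpose_smul, Matrix.map_smul' τ b Y (map_mul τ), Matrix.smul_mul, Matrix.mul_smul,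
    Matrix.smul_mul, smul_smul] at he
  rw [← inv_smul_smul₀ (mul_ne_zero hb hτb) (Yᵀ * G * Y.map τ), mul_comm b, he, smul_smul]
  congr 1
  field_simp

theorem aeval_transpose (M : Matrix ι ι F) (P : F[X]) : aeval Mᵀ P = (aeval M P)ᵀ := by
  induction P using Polynomial.induction_on' with
  | add a b ha hb => simp [ha, hb]
  | monomial k a => simp [aeval_monomial, Algebra.algebraMap_eq_smul_one, Matrix.transpose_pow]

theorem aeval_conj (M : Matrix ι ι F) (u : (Matrix ι ι F)ˣ) (P : F[X]) :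
    aeval ((u⁻¹ : (Matrix ι ι F)ˣ).val * M * u.val) P = (u⁻¹ : (Matrix ι ι F)ˣ).val * aeval M P * u.val := by
  induction P using Polynomial.induction_on' with
  | add a b ha hb => rw [map_add, map_add, ha, hb, mul_add, add_mul]
  | monomial k a =>
    rw [aeval_monomial, aeval_monomial, Units.conj_pow' u, ← mul_assoc, ← mul_assoc, Algebra.commutes,
      mul_assoc ((u⁻¹ : (Matrix ι ι F)ˣ) : Matrix ι ι F) (algebraMap F _ a)]

/-- A similitude of order `r`: the multiplier, and the conjugacy of the twisted matrix to the multiplier times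
the transposed inverse. -/
theorem IsSimMat.twist [Nonempty ι] {Y : Matrix ι ι F} {r : ℕ} (hr : 0 < r) (hY : Y ^ r = 1)
    (h : IsSimMat τ Y) : ∃ (u : (Matrix ι ι F)ˣ) (c : F), c ^ r = 1 ∧
      Y.map τ = (u⁻¹ : (Matrix ι ι F)ˣ).val * (c • (Y ^ (r - 1)))ᵀ * u.val := by
  obtain ⟨G, c, hG, hc, he⟩ := h
  let u := Matrix.GeneralLinearGroup.mkOfDetNeZero G hG
  have hpow : ∀ k, (Y ^ k)ᵀ * G * (Y ^ k).map τ = c ^ k • G := by
    intro k
    induction k with
    | zero => simp [Matrix.map_one]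
    | succ k ih =>
      rw [pow_succ, Matrix.transpose_mul, Matrix.map_mul,
        show Yᵀ * (Y ^ k)ᵀ * G * ((Y ^ k).map τ * Y.map τ) = Yᵀ * ((Y ^ k)ᵀ * G * (Y ^ k).map τ) * Y.map τ by
          simp only [Matrix.mul_assoc],
        ih, Matrix.mul_smul, Matrix.smul_mul, he, smul_smul, ← pow_succ]
  refine ⟨u, c, ?_, ?_⟩
  · have h1 := hpow r
    rw [hY, Matrix.transpose_one, Matrix.map_one _ (map_zero τ) (map_one τ), one_mul, mul_one] at h1
    have h2 : c ^ r • G = (1 : F) • G := by rw [one_smul, ← h1]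
    exact smul_left_injective F (fun h0 : G = 0 => hG (by rw [h0, Matrix.det_zero])) h2
  · have h1 : (Y ^ (r - 1))ᵀ * Yᵀ = 1 := by
      rw [← Matrix.transpose_mul, ← pow_succ', Nat.sub_add_cancel hr, hY, Matrix.transpose_one]
    have h2 : u.val * Y.map τ = (c • (Y ^ (r - 1)))ᵀ * u.val := by
      show G * Y.map τ = (c • (Y ^ (r - 1)))ᵀ * G
      rw [Matrix.transpose_smul, Matrix.smul_mul, ← Matrix.mul_smul, ← he, ← Matrix.mul_assoc, ← Matrix.mul_assoc, h1,
        one_mul]
    rw [mul_assoc, ← h2, ← mul_assoc, Units.inv_mul, one_mul]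

theorem IsSimMat.annihilator [Nonempty ι] {Y : Matrix ι ι F} {r : ℕ} (hr : 0 < r) (hY : Y ^ r = 1)
    (h : IsSimMat τ Y) : ∃ c : F, c ^ r = 1 ∧ ∀ P : F[X], aeval Y P = 0 →
      aeval (c • Y ^ (r - 1)) (P.map τ) = 0 := by
  obtain ⟨u, c, hc, he⟩ := h.twist hr hY
  refine ⟨c, hc, fun P hP => ?_⟩
  have h1 : aeval (Y.map τ) (P.map τ) = 0 := by
    have hcomp : (algebraMap F (Matrix ι ι F)).comp τ = τ.mapMatrix.comp (algebraMap F (Matrix ι ι F)) := by
      ext a i j
      by_cases hij : i = j <;> simp [Algebra.algebraMap_eq_smul_one, hij]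
    have h3 := map_aeval_eq_aeval_map hcomp P Y
    rw [hP, map_zero] at h3
    exact h3.symm
  rw [he, aeval_conj, aeval_transpose] at h1
  have h2 := congrArg (fun M => u.val * M * (u⁻¹ : (Matrix ι ι F)ˣ).val) h1
  simp only [mul_zero, zero_mul, ← mul_assoc, Units.mul_inv, one_mul] at h2
  rw [Units.mul_inv_cancel_right] at h2
  simpa using congrArg Matrix.transpose h2

theorem IsSimMat.charpoly_eq [Nonempty ι] {Y : Matrix ι ι F} {r : ℕ} (hr : 0 < r) (hY : Y ^ r = 1)
    (h : IsSimMat τ Y) : ∃ c : F, c ^ r = 1 ∧ (Y.map τ).charpoly = (c • Y ^ (r - 1)).charpoly := by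
  obtain ⟨u, c, hc, he⟩ := h.twist hr hY
  exact ⟨c, hc, by rw [he, Matrix.coe_units_inv, Matrix.charpoly_units_conj', Matrix.charpoly_transpose]⟩

/-- Diagonal matrices with an asymmetric spectrum. -/
theorem not_isSimMat_diag [Nonempty ι] {r : ℕ} [Fact r.Prime] {u : F} (hu : IsPrimitiveRoot u r) (hτ : τ u = u)
    (e : ι → ZMod r)
    (hasym : ∀ m : ZMod r, ∃ a : ZMod r,
      (Finset.univ.filter fun j => e j = a).card ≠ (Finset.univ.filter fun j => e j = m - a).card) :
    ¬ IsSimMat τ (Matrix.diagonal fun j => u ^ (e j).val) := by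
  classical
  intro h
  have hr := (Fact.out : r.Prime)
  haveI : NeZero r := ⟨hr.ne_zero⟩
  obtain ⟨c, hc, hcp⟩ := h.charpoly_eq hr.pos (by
    rw [Matrix.diagonal_pow, ← Matrix.diagonal_one]
    congr 1; funext j
    simp [← pow_mul, mul_comm _ r, pow_mul u r, hu.pow_eq_one])
  obtain ⟨k, hk, rfl⟩ := hu.eq_pow_of_pow_eq_one hc
  obtain ⟨a, ha⟩ := hasym (k : ZMod r)
  apply ha
  have hlift : ∀ a b : ℕ, u ^ a = u ^ b ↔ (a : ZMod r) = b := fun a b => by
    rw [(orderOf_pos_iff.1 (hu.eq_orderOf ▸ hr.pos)).pow_eq_pow_iff_modEq, ← hu.eq_orderOf,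
      ← ZMod.natCast_eq_natCast_iff]
  have e1 : (Matrix.diagonal fun j => u ^ (e j).val).map τ = Matrix.diagonal fun j => u ^ (e j).val := by
    rw [Matrix.diagonal_map (map_zero τ)]
    congr 1; funext j; simp [hτ]
  have e2 : (u ^ k) • (Matrix.diagonal fun j => u ^ (e j).val) ^ (r - 1) =
      Matrix.diagonal fun j => u ^ ((k : ZMod r) - e j).val := by
    rw [Matrix.diagonal_pow, ← Matrix.diagonal_smul]
    congr 1; funext j
    rw [Pi.smul_apply, Pi.pow_apply, smul_eq_mul, ← pow_mul, ← pow_add, hlift]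
    push_cast [Nat.cast_sub hr.pos]
    simp
    ring
  rw [e1, e2, Matrix.charpoly_diagonal, Matrix.charpoly_diagonal] at hcp
  have h2 := congrArg Polynomial.roots hcp
  have hprod : ∀ w : ι → F, (∏ i, (X - C (w i))).roots = Finset.univ.val.map w := fun w => by
    rw [Finset.prod_eq_multiset_prod, show (fun i => X - C (w i)) = (fun x => X - C x) ∘ w from rfl,
      ← Multiset.map_map, roots_multiset_prod_X_sub_C]
  rw [hprod, hprod] at h2
  have hcount := congrArg (Multiset.count (u ^ a.val)) h2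
  rw [Multiset.count_map, Multiset.count_map] at hcount
  have f1 : (Finset.univ.filter fun j => e j = a) = Finset.univ.filter fun j => u ^ a.val = u ^ (e j).val := by
    refine Finset.filter_congr fun j _ => ?_
    rw [hlift, ZMod.natCast_zmod_val, ZMod.natCast_zmod_val, eq_comm]
  have f2 : (Finset.univ.filter fun j => e j = (k : ZMod r) - a) =
      Finset.univ.filter fun j => u ^ a.val = u ^ ((k : ZMod r) - e j).val := by
    refine Finset.filter_congr fun j _ => ?_
    rw [hlift, ZMod.natCast_zmod_val, ZMod.natCast_zmod_val]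
    exact ⟨fun h => by rw [h, sub_sub_cancel], fun h => by rw [h, sub_sub_cancel]⟩
  rw [f1, f2, Finset.card_def, Finset.card_def, Finset.filter_val, Finset.filter_val]
  exact hcount

end sim

section orbit

variable {F : Type*} [Field F] [Fintype F] {r : ℕ} [Fact r.Prime] {n : ℕ} {τ : F →+* F}

/-- One orbit of roots, not mapped to its inverse by the twist. -/
theorem not_isSimMat_orbit (p e : ℕ) [Fact p.Prime] [CharP F p] (hτ : ∀ a, τ a = a ^ p ^ e) (hn : 0 < n)
    (h2 : 2 ≤ orderOf (Fintype.card F : ZMod r))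
    (hcond : ∀ j : ℕ, (Fintype.card F : ZMod r) ^ j * (p : ZMod r) ^ e ≠ -1)
    {Y : Matrix (Fin n) (Fin n) F} (hY : Y ^ r = 1) (hY1 : Y ≠ 1) {g : F[X]} (hg : Irreducible g)
    (hgd : g ∣ ∑ j ∈ Finset.range r, X ^ j) (hann : aeval Y ((X - C 1) * g) = 0) : ¬ IsSimMat τ Y := by
  intro h
  have hr := (Fact.out : r.Prime)
  haveI := Fin.pos_iff_nonempty.1 hn
  have hr0 : (r : F) ≠ 0 := ne_zero_of_order (by omega)
  obtain ⟨c, hc, hQ⟩ := h.annihilator hr.pos hY
  have hc1 : c = 1 := by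
    by_contra hne
    have h0 : c ≠ 0 := fun h0 => by rw [h0, zero_pow hr.ne_zero] at hc; exact zero_ne_one hc
    have h3 := FiniteField.pow_card_sub_one_eq_one c h0
    rw [← orderOf_dvd_iff_pow_eq_one, orderOf_eq_prime hc hne] at h3
    exact not_dvd_card_sub_one h2 h3
  have hQ' := hQ _ hann
  rw [hc1, one_smul, show Y ^ (r - 1) = aeval Y (X ^ (r - 1) : F[X]) by simp, ← aeval_comp] at hQ'
  set Q := (((X - C 1) * g).map τ).comp (X ^ (r - 1) : F[X]) with hQdef
  have hgQ : g ∣ Q := by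
    by_contra hnd
    obtain ⟨s, t, hst⟩ := hg.coprime_iff_not_dvd.2 hnd
    apply hY1
    have h1 : aeval Y (X - C 1 : F[X]) * aeval Y (s * g + t * Q) = 0 := by
      rw [← map_mul, mul_add, map_add, ← mul_assoc, mul_comm (X - C 1) s, mul_assoc, map_mul, hann, mul_zero,
        zero_add, ← mul_assoc, map_mul, hQ', mul_zero]
    simpa [hst, sub_eq_zero] using h1
  haveI : Fact (Irreducible g) := ⟨hg⟩
  haveI : FiniteDimensional F (AdjoinRoot g) := (AdjoinRoot.powerBasis hg.ne_zero).finite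
  haveI : Finite (AdjoinRoot g) := Module.finite_of_finite F
  set α := AdjoinRoot.root g with hα
  have hpow : α ^ r = 1 := by
    have h0 : AdjoinRoot.mk g (X ^ r - 1 : F[X]) = 0 :=
      AdjoinRoot.mk_eq_zero.2 (by rw [← geom_sum_mul]; exact hgd.mul_right _)
    simpa [sub_eq_zero] using h0
  have hne1 : α ≠ 1 := by
    intro h1
    have h0 : AdjoinRoot.mk g (X - 1 : F[X]) = 0 := by simp [← hα, h1]
    exact hg.not_isUnit ((coprime_sub_one hr0).isUnit_of_dvd' (AdjoinRoot.mk_eq_zero.1 h0) hgd)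
  have hord : orderOf α = r := orderOf_eq_prime hpow hne1
  have hrp : (p : ZMod r) ≠ 0 := by
    intro h0
    rw [ZMod.natCast_eq_zero_iff, Nat.prime_dvd_prime_iff_eq hr Fact.out] at h0
    exact hr0 (by rw [h0, CharP.cast_eq_zero])
  have hte : (p : ZMod r) ^ e ≠ 0 := pow_ne_zero _ hrp
  set s := (-((p : ZMod r) ^ e)⁻¹).val with hs
  have hst : α ^ (s * p ^ e) = α ^ (r - 1) := by
    rw [(orderOf_pos_iff.1 (hord.symm ▸ hr.pos)).pow_eq_pow_iff_modEq, hord, ← ZMod.natCast_eq_natCast_iff]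
    rw [Nat.cast_mul, Nat.cast_pow, hs, ZMod.natCast_zmod_val, Nat.cast_sub hr.pos, ZMod.natCast_self,
      Nat.cast_one, zero_sub, neg_mul, inv_mul_cancel₀ hte]
  have h0 : aeval (α ^ (r - 1)) (((X - C 1) * g).map τ) = 0 := by
    have := AdjoinRoot.mk_eq_zero.2 hgQ
    rwa [← AdjoinRoot.aeval_eq, hQdef, aeval_comp, map_pow, aeval_X] at this
  rw [Polynomial.map_mul, map_mul, Polynomial.map_sub, Polynomial.map_X, Polynomial.map_C, map_one τ] at h0
  have h1 : aeval (α ^ (r - 1)) (g.map τ) = 0 := by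
    refine (mul_eq_zero.1 h0).resolve_left fun hx => hne1 ?_
    rw [map_sub, aeval_X, map_one, sub_eq_zero] at hx
    have : α ^ (r - 1) * α = 1 := by rw [← pow_succ, Nat.sub_add_cancel hr.pos, hpow]
    rwa [hx, map_one, one_mul] at this
  haveI : CharP (AdjoinRoot g) p := charP_of_injective_algebraMap' F p
  have h2' : aeval (α ^ s) g = 0 := by
    refine eq_zero_of_pow_eq_zero (n := p ^ e) ?_
    rw [← iterateFrobenius_def, aeval_def, hom_eval₂, ← h1, aeval_def, eval₂_map, ← hst, iterateFrobenius_def,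
      ← pow_mul]
    congr 1
    ext a
    simp [iterateFrobenius_def, hτ]
  obtain ⟨⟨j, hj⟩, hφ⟩ := (FiniteField.bijective_frobeniusAlgHom_pow F (AdjoinRoot g)).2
    (AdjoinRoot.liftAlgHom g (Algebra.ofId F (AdjoinRoot g)) (α ^ s) h2')
  have h3 : α ^ (Fintype.card F ^ j) = α ^ s := by
    have h4 := DFunLike.congr_fun hφ α
    rw [AlgHom.coe_pow, FiniteField.coe_frobeniusAlgHom, pow_iterate] at h4
    exact h4.trans (AdjoinRoot.liftAlgHom_root _ _ _ h2')
  rw [(orderOf_pos_iff.1 (hord.symm ▸ hr.pos)).pow_eq_pow_iff_modEq, hord, ← ZMod.natCast_eq_natCast_iff,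
    Nat.cast_pow, hs, ZMod.natCast_zmod_val] at h3
  refine hcond j ?_
  rw [h3, neg_mul, inv_mul_cancel₀ hte]

end orbit

end Cfsg.Agent.Elusive
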