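import Cfsg.Agent.Lib.Elusive.FormSpectrum
import Cfsg.Agent.Lib.Elusive.Involution

/-!
Witnesses of odd prime order in `SL_n(q)` without an invariant form, eigenbases, and the passage between the
special linear group and its image in the general linear group.
-/

set_option autoImplicit false
set_option linter.unusedSectionVars false
set_option linter.style.haveILetI false

open scoped MatrixGroups Matrix

namespace Cfsg.Agent.Elusive

open Polynomial Module

variable {F : Type*} [Field F] [Fintype F] {r : ℕ} [Fact r.Prime] {n : ℕ}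

theorem toGL_mem_specialLinear (x : Matrix.SpecialLinearGroup (Fin n) F) :
    Matrix.SpecialLinearGroup.toGL x ∈ Geo.specialLinear (Fin n) F :=
  Units.ext x.2

/-- The statement "every element of order `r` modulo scalars is conjugate into `H`", on `SL` and on its image. -/
theorem fixes_iff (H : Subgroup (GL (Fin n) F)) :
    (∀ x ∈ Geo.specialLinear (Fin n) F,
      (∃ z : F, ((x ^ r : GL (Fin n) F) : Matrix (Fin n) (Fin n) F) = z • (1 : Matrix (Fin n) (Fin n) F)) →
      (∀ z : F, (x : Matrix (Fin n) (Fin n) F) ≠ z • (1 : Matrix (Fin n) (Fin n) F)) →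
      ∃ g ∈ Geo.specialLinear (Fin n) F, g⁻¹ * x * g ∈ H) ↔
    ∀ x : Matrix.SpecialLinearGroup (Fin n) F,
      (∃ z : F, ((x ^ r : Matrix.SpecialLinearGroup (Fin n) F) : Matrix (Fin n) (Fin n) F) =
        z • (1 : Matrix (Fin n) (Fin n) F)) →
      (∀ z : F, (x : Matrix (Fin n) (Fin n) F) ≠ z • (1 : Matrix (Fin n) (Fin n) F)) →
      ∃ P : Matrix.SpecialLinearGroup (Fin n) F, P⁻¹ * x * P ∈ H.comap Matrix.SpecialLinearGroup.toGL := by
  have lift : ∀ g ∈ Geo.specialLinear (Fin n) F,
      ∃ P : Matrix.SpecialLinearGroup (Fin n) F, Matrix.SpecialLinearGroup.toGL P = g := fun g hg =>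
    ⟨⟨g.val, congrArg Units.val hg⟩, Units.ext rfl⟩
  constructor
  · intro h x hz hns
    obtain ⟨g, hg, hm⟩ := h _ (toGL_mem_specialLinear x) (by simpa [← map_pow] using hz) hns
    obtain ⟨P, rfl⟩ := lift g hg
    exact ⟨P, by rwa [Subgroup.mem_comap, map_mul, map_mul, map_inv]⟩
  · intro h g hg hz hns
    obtain ⟨x, rfl⟩ := lift g hg
    obtain ⟨P, hP⟩ := h x (by simpa [← map_pow] using hz) hns
    exact ⟨_, toGL_mem_specialLinear P, by rwa [Subgroup.mem_comap, map_mul, map_mul, map_inv] at hP⟩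

/-- An element without a form is not conjugate into a group of similitudes. -/
theorem not_fixed_of_not_isSimMat {τ : F →+* F} {H : Subgroup (GL (Fin n) F)}
    (hH : ∀ y ∈ H, IsSimMat τ (y : Matrix (Fin n) (Fin n) F)) {x : Matrix.SpecialLinearGroup (Fin n) F}
    (hx : ¬ IsSimMat τ x.1) :
    ¬ ∃ P : Matrix.SpecialLinearGroup (Fin n) F, P⁻¹ * x * P ∈ H.comap Matrix.SpecialLinearGroup.toGL := by
  rintro ⟨P, hP⟩
  exact hx ((hH _ hP).conj (P := P.1) (congrArg Subtype.val (mul_inv_cancel P)))

/-- `r` times a divisor of the order of `H` divides the order of `GL_n`. -/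
theorem mul_card_dvd (H : Subgroup (GL (Fin n) F)) {N : ℕ} (hN : N ∣ Nat.card H)
    (h : r ∣ H.relIndex (Geo.specialLinear (Fin n) F)) : r * N ∣ Nat.card (GL (Fin n) F) := by
  set K := Geo.specialLinear (Fin n) F
  haveI : K.Normal := MonoidHom.normal_ker _
  have hH : Nat.card H ∣ Nat.card ↥(H ⊓ K) * K.index := by
    rw [← Subgroup.relIndex_bot_left H, ← Subgroup.relIndex_bot_left (H ⊓ K),
      ← Subgroup.relIndex_mul_relIndex ⊥ (H ⊓ K) H bot_le inf_le_left, Subgroup.inf_relIndex_left]
    exact mul_dvd_mul_left _ (Subgroup.relIndex_dvd_index_of_normal K H)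
  have hK : H.relIndex K * Nat.card ↥(H ⊓ K) = Nat.card K := by
    rw [← Subgroup.relIndex_bot_left K, ← Subgroup.relIndex_bot_left (H ⊓ K),
      ← Subgroup.inf_relIndex_right H K, mul_comm, Subgroup.relIndex_mul_relIndex ⊥ (H ⊓ K) K bot_le inf_le_right]
  rw [← Subgroup.card_mul_index K, ← hK, mul_assoc]
  exact mul_dvd_mul h (hN.trans hH)

/-- A prime divisor of the index other than the characteristic gives the order facts. -/
theorem order_facts_of_dvd_card {p : ℕ} [Fact p.Prime] [CharP F p] (hrp : r ≠ p)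
    (h : r ∣ Nat.card (GL (Fin n) F)) :
    1 ≤ orderOf (Fintype.card F : ZMod r) ∧ orderOf (Fintype.card F : ZMod r) ≤ n := by
  have hr := (Fact.out : r.Prime)
  rw [Matrix.card_GL_field, prod_frames _ le_rfl] at h
  refine (fun hh => ⟨hh.2.1, hh.2.2.1⟩) (order_facts (n := n) le_rfl ((hr.dvd_mul.1 h).resolve_left fun h5 => hrp ?_))
  obtain ⟨k, -, h6⟩ := hr.prime.dvd_finsetProd_iff _ |>.1 h5
  obtain ⟨l, hp', hl⟩ := FiniteField.card F p
  rw [hl, ← pow_mul] at h6
  exact (Nat.prime_dvd_prime_iff_eq hr hp').1 (hr.dvd_of_dvd_pow h6)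

theorem zmod_three_facts : (2 : ZMod 3) ≠ 0 ∧ (0 : ZMod 3) ≠ 2 ∧ (1 : ZMod 3) ≠ 0 ∧ (1 : ZMod 3) ≠ 2 ∧
    (0 : ZMod 3) - 2 = 1 ∧ (1 : ZMod 3) - 2 = 2 ∧ ∀ z : ZMod 3, z = 0 ∨ z = 1 ∨ z = 2 := by decide

/-- Counting values of a function made of constants on three sets. -/
theorem exists_exponents (hr2 : r ≠ 2) (hn : 3 ≤ n) (hgap : ¬ (n = 6 ∧ r = 3))
    (hexc : ¬ (n = r ∧ (r = 3 ∨ r = 5))) :
    ∃ e : Fin n → ZMod r, (∑ j, e j = 0) ∧ (∃ i j, e i ≠ e j) ∧
      ∀ m : ZMod r, ∃ a : ZMod r,
        (Finset.univ.filter fun j => e j = a).card ≠ (Finset.univ.filter fun j => e j = m - a).card := by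
  classical
  have hr := (Fact.out : r.Prime)
  obtain ⟨k, rfl⟩ : ∃ k, n = 3 + k := ⟨n - 3, by omega⟩
  by_cases h3 : r = 3
  · subst h3
    let v : Fin 3 ⊕ Fin k → ZMod 3 := Sum.elim (fun _ => 2) fun _ => 0
    let e : Fin (3 + k) → ZMod 3 := v ∘ finSumFinEquiv.symm
    have hk0 : k ≠ 0 := fun h => hexc ⟨by omega, Or.inl rfl⟩
    have hk3 : k ≠ 3 := fun h => hgap ⟨by omega, rfl⟩
    have hcount : ∀ a, (Finset.univ.filter fun j => e j = a).card =
        (if a = 2 then 3 else 0) + if a = 0 then k else 0 := by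
      intro a
      rw [Finset.card_filter, ← Equiv.sum_comp finSumFinEquiv, Fintype.sum_sum_type]
      simp only [e, v, Function.comp_apply, Equiv.symm_apply_apply, Sum.elim_inl, Sum.elim_inr, Finset.sum_const,
        Finset.card_univ, Fintype.card_fin, smul_eq_mul, eq_comm (a := a)]
      split_ifs <;> simp
    refine ⟨e, ?_, ⟨finSumFinEquiv (.inl 0), finSumFinEquiv (.inr ⟨0, by omega⟩), ?_⟩, fun m => ?_⟩
    · rw [← Equiv.sum_comp finSumFinEquiv, Fintype.sum_sum_type]
      simp [e, v]
      exact Or.inl rfl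
    · simp only [e, v, Function.comp_apply, Equiv.symm_apply_apply, Sum.elim_inl, Sum.elim_inr]
      exact zmod_three_facts.1
    · by_contra hall
      push Not at hall
      have e2 := hall 2
      have e0 := hall 0
      rw [hcount, hcount] at e2 e0
      obtain ⟨z20, z02, z10, z12, s02, s12, hz⟩ := zmod_three_facts
      rcases hz m with rfl | rfl | rfl
      all_goals simp only [sub_zero, sub_self, s02, s12, z20, z02, z10, z12, if_true, if_false] at e0 e2
      all_goals omega
  · have h5 : 5 ≤ r := hr.five_le_of_ne_two_of_ne_three hr2 h3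
    have hcast : ∀ k : ℕ, 0 < k → k < 5 → (k : ZMod r) ≠ 0 := fun k hk hk4 h => by
      rw [ZMod.natCast_eq_zero_iff] at h
      exact absurd (Nat.le_of_dvd hk h) (by omega)
    have h1 : (1 : ZMod r) ≠ 0 := one_ne_zero
    have h2 : (2 : ZMod r) ≠ 0 := by simpa using hcast 2 (by norm_num) (by norm_num)
    have h3' : (3 : ZMod r) ≠ 0 := by simpa using hcast 3 (by norm_num) (by norm_num)
    have h4 : (4 : ZMod r) ≠ 0 := by simpa using hcast 4 (by norm_num) (by norm_num)
    let v : Fin 3 ⊕ Fin k → ZMod r := Sum.elim (fun i => if i = 2 then -2 else 1) fun _ => 0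
    let e : Fin (3 + k) → ZMod r := v ∘ finSumFinEquiv.symm
    have hcount : ∀ a, (Finset.univ.filter fun j => e j = a).card =
        ((if a = 1 then 2 else 0) + if a = -2 then 1 else 0) + if a = 0 then k else 0 := by
      intro a
      rw [Finset.card_filter, ← Equiv.sum_comp finSumFinEquiv, Fintype.sum_sum_type]
      simp only [e, v, Function.comp_apply, Equiv.symm_apply_apply, Sum.elim_inl, Sum.elim_inr, Finset.sum_const,
        Finset.card_univ, Fintype.card_fin, smul_eq_mul, eq_comm (a := a), Fin.sum_univ_three]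
      by_cases ha1 : (1 : ZMod r) = a <;> simp [ha1]
    refine ⟨e, ?_, ⟨finSumFinEquiv (.inl 0), finSumFinEquiv (.inl 2), ?_⟩, fun m => ?_⟩
    · rw [← Equiv.sum_comp finSumFinEquiv, Fintype.sum_sum_type]
      simp [e, v, Fin.sum_univ_three]
      ring
    · simp [e, v]
      intro h
      exact h3' (by linear_combination h)
    · have ne1 : (1 : ZMod r) ≠ -2 := fun h => h3' (by linear_combination h)
      have ne0 : (-2 : ZMod r) ≠ 0 := neg_ne_zero.2 h2
      by_contra hall
      push Not at hall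
      have e1 := hall 1
      rw [hcount, hcount, if_pos rfl, if_neg ne1, if_neg h1] at e1
      by_cases a2 : m - 1 = -2
      · rw [if_neg (fun h => ne1 (h.symm.trans a2)), if_pos a2, if_neg (fun h => ne0 (a2.symm.trans h))] at e1
        omega
      by_cases a1 : m - 1 = 1
      · have e0 := hall 0
        have hm : m = 2 := by linear_combination a1
        rw [hcount, hcount, if_neg h1.symm, if_neg ne0.symm, if_pos rfl, sub_zero, hm,
          if_neg (fun h => h1 (by linear_combination h)), if_neg (fun h => h4 (by linear_combination h)),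
          if_neg h2] at e0
        have e2 := hall (-2)
        rw [hcount, hcount, if_neg ne1.symm, if_pos rfl, if_neg ne0, hm,
          if_neg (fun h => h3' (by linear_combination h)), if_neg (fun h => by
            exact (hcast 2 (by norm_num) (by norm_num)) (by
              have : (6 : ZMod r) = 0 := by linear_combination h
              have h6 : (2 : ZMod r) * 3 = 0 := by linear_combination this
              exact absurd h6 (mul_ne_zero h2 h3'))),
          if_neg (fun h => h4 (by linear_combination h))] at e2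
        omega
      rw [if_neg a2, if_neg a1] at e1
      by_cases a0 : m - 1 = 0
      · rw [if_pos a0] at e1
        have hk : k = 2 := by omega
        have e2 := hall (-2)
        have hm : m = 1 := by linear_combination a0
        rw [hcount, hcount, if_neg ne1.symm, if_pos rfl, if_neg ne0, hm,
          if_neg (fun h => h2 (by linear_combination h))] at e2
        by_cases a5 : (1 : ZMod r) - -2 = -2
        · have h50 : ((5 : ℕ) : ZMod r) = 0 := by push_cast; linear_combination a5
          rw [ZMod.natCast_eq_zero_iff, Nat.prime_dvd_prime_iff_eq hr (by norm_num)] at h50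
          exact hexc ⟨by omega, Or.inr h50⟩
        · rw [if_neg a5, if_neg (show (1 : ZMod r) - -2 ≠ 0 from fun h => h3' (by linear_combination h))] at e2
          omega
      · rw [if_neg a0] at e1
        omega

/-- An element of order `r` modulo scalars with an asymmetric spectrum, for `r ∣ q - 1`. -/
theorem exists_diag_witness (hr2 : r ≠ 2) (hr1 : r ∣ Fintype.card F - 1) (hn : 3 ≤ n)
    (hgap : ¬ (n = 6 ∧ r = 3))
    (hexc : ¬ ((r = 3 ∨ r = 5) ∧ n = r ∧ padicValNat r (Fintype.card F - 1) = 1)) :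
    ∃ x : Matrix.SpecialLinearGroup (Fin n) F,
      (∃ z : F, ((x ^ r : Matrix.SpecialLinearGroup (Fin n) F) : Matrix (Fin n) (Fin n) F) =
        z • (1 : Matrix (Fin n) (Fin n) F)) ∧
      (∀ z : F, (x : Matrix (Fin n) (Fin n) F) ≠ z • (1 : Matrix (Fin n) (Fin n) F)) ∧
      ∀ τ : F →+* F, (∀ u : F, u ^ r = 1 → τ u = u) → ¬ IsSimMat τ x.1 := by
  classical
  have hr := (Fact.out : r.Prime)
  haveI : NeZero r := ⟨hr.ne_zero⟩
  haveI : Nonempty (Fin n) := ⟨⟨0, by omega⟩⟩
  have hQ0 : Fintype.card F - 1 ≠ 0 := by have := Fintype.one_lt_card (α := F); omega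
  obtain ⟨b, u, e, hb, hu, hdet, hne, hasym⟩ : ∃ (b u : F) (e : Fin n → ZMod r), b ≠ 0 ∧ IsPrimitiveRoot u r ∧
      b ^ n * u ^ (∑ j, (e j).val) = 1 ∧ (∃ i j, e i ≠ e j) ∧
      ∀ m : ZMod r, ∃ a : ZMod r,
        (Finset.univ.filter fun j => e j = a).card ≠ (Finset.univ.filter fun j => e j = m - a).card := by
    by_cases hexc' : n = r ∧ (r = 3 ∨ r = 5)
    · obtain ⟨hnr, h35⟩ := hexc'
      subst hnr
      have hv : 2 ≤ padicValNat n (Fintype.card F - 1) := by
        have h1 := one_le_padicValNat_of_dvd hQ0 hr1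
        have h2 : padicValNat n (Fintype.card F - 1) ≠ 1 := fun h => hexc ⟨h35, rfl, h⟩
        omega
      obtain ⟨g, hg⟩ := IsCyclic.exists_ofOrder_eq_natCard (α := Fˣ)
      rw [Nat.card_units, Nat.card_eq_fintype_card] at hg
      obtain ⟨t, ht⟩ := (padicValNat_dvd_iff_le hQ0).2 hv
      have ht0 : t ≠ 0 := by rintro rfl; exact hQ0 (by rw [ht, mul_zero])
      have hb : orderOf (g ^ t) = n ^ 2 := by
        rw [orderOf_pow_of_dvd ht0 (hg ▸ ⟨n ^ 2, by rw [ht, mul_comm]⟩), hg, ht,
          Nat.mul_div_cancel _ (Nat.pos_of_ne_zero ht0)]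
      have hu : orderOf (((g ^ t) ^ n)⁻¹) = n := by
        rw [orderOf_inv, orderOf_pow_of_dvd hr.ne_zero (hb ▸ dvd_pow_self n two_ne_zero), hb, sq,
          Nat.mul_div_cancel _ hr.pos]
      let i0 : Fin n := ⟨0, by omega⟩
      let i1 : Fin n := ⟨1, by omega⟩
      haveI : Fact (1 < n) := ⟨hr.one_lt⟩
      have hu' := IsPrimitiveRoot.orderOf (((g ^ t) ^ n)⁻¹)
      rw [hu] at hu'
      refine ⟨(g ^ t : Fˣ), (((g ^ t) ^ n)⁻¹ : Fˣ), fun j => if j = i0 then 1 else 0, Units.ne_zero _,
        IsPrimitiveRoot.coe_units_iff.2 hu', ?_,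
        ⟨i0, i1, by simp [i0, i1]⟩, fun m => ?_⟩
      · rw [Finset.sum_eq_single i0 (fun j _ hj => by simp [hj]) (fun h => absurd (Finset.mem_univ _) h)]
        simp [ZMod.val_one, ← Units.val_pow_eq_pow_val]
      · have c1 : (Finset.univ.filter fun j => (if j = i0 then (1 : ZMod n) else 0) = 1).card = 1 := by
          rw [show (Finset.univ.filter fun j => (if j = i0 then (1 : ZMod n) else 0) = 1) = {i0} from
            Finset.ext fun j => by by_cases h : j = i0 <;> simp [h], Finset.card_singleton]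
        have c0 : (Finset.univ.filter fun j => (if j = i0 then (1 : ZMod n) else 0) = 0).card = n - 1 := by
          rw [show (Finset.univ.filter fun j => (if j = i0 then (1 : ZMod n) else 0) = 0) = {i0}ᶜ from
            Finset.ext fun j => by by_cases h : j = i0 <;> simp [h], Finset.card_compl, Fintype.card_fin,
            Finset.card_singleton]
        have cz : ∀ a : ZMod n, a ≠ 1 → a ≠ 0 →
            (Finset.univ.filter fun j => (if j = i0 then (1 : ZMod n) else 0) = a).card = 0 := fun a h1 h0 => by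
          rw [Finset.card_eq_zero, Finset.filter_eq_empty_iff]
          intro j _
          split_ifs
          exacts [h1.symm, h0.symm]
        by_cases hm : m = 0
        · refine ⟨1, ?_⟩
          subst hm
          rw [c1, zero_sub, cz (-1) ?_ (neg_ne_zero.2 one_ne_zero)]
          · omega
          · haveI : Fact (2 < n) := ⟨by omega⟩
            exact ZMod.neg_one_ne_one
        · refine ⟨0, ?_⟩
          rw [c0, sub_zero]
          by_cases hm1 : m = 1
          · rw [hm1, c1]; omega
          · rw [cz m hm1 hm]; omega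
    · obtain ⟨e, hsum, hne, hasym⟩ := exists_exponents hr2 hn hgap hexc'
      obtain ⟨u, hu⟩ : ∃ u : Fˣ, orderOf u = r := exists_prime_orderOf_dvd_card' r (by
        rw [Nat.card_units, Nat.card_eq_fintype_card]; exact hr1)
      have hprim : IsPrimitiveRoot (u : F) r := IsPrimitiveRoot.coe_units_iff.2 (hu ▸ IsPrimitiveRoot.orderOf u)
      refine ⟨1, (u : F), e, one_ne_zero, hprim, ?_, hne, hasym⟩
      rw [one_pow, one_mul, hprim.pow_eq_one_iff_dvd, ← ZMod.natCast_eq_zero_iff, Nat.cast_sum]
      simpa using hsum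
  set D := Matrix.diagonal fun j => u ^ (e j).val with hD
  have hdet' : (b • D).det = 1 := by
    rw [Matrix.det_smul, hD, Matrix.det_diagonal, Fintype.card_fin, Finset.prod_pow_eq_pow_sum, hdet]
  refine ⟨⟨b • D, hdet'⟩, ⟨b ^ r, ?_⟩, fun z hz => ?_, fun τ hτ h => ?_⟩
  · show (b • D) ^ r = _
    rw [_root_.smul_pow, hD, Matrix.diagonal_pow, ← Matrix.diagonal_one]
    congr 2; funext j
    simp [← pow_mul, mul_comm _ r, pow_mul u r, hu.pow_eq_one]
  · obtain ⟨i, j, hij⟩ := hne
    apply hij
    have hz' : b • D = z • (1 : Matrix (Fin n) (Fin n) F) := hz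
    have e0 := congrFun (congrFun hz' i) i
    have e1 := congrFun (congrFun hz' j) j
    simp [hD] at e0 e1
    exact ZMod.val_injective r (hu.pow_inj (ZMod.val_lt _) (ZMod.val_lt _)
      (mul_left_cancel₀ hb (e0.trans e1.symm)))
  · exact not_isSimMat_diag hu (hτ u hu.pow_eq_one) e hasym (h.of_smul hb)

/-- An element of order `r` with one orbit of roots, for `r ∤ q - 1`. -/
theorem exists_orbit_witness (p : ℕ) [Fact p.Prime] [CharP F p] (hrp : r ≠ p)
    (h2 : 2 ≤ orderOf (Fintype.card F : ZMod r)) (hin : orderOf (Fintype.card F : ZMod r) ≤ n) (e : ℕ)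
    (hcond : ∀ j : ℕ, (Fintype.card F : ZMod r) ^ j * (p : ZMod r) ^ e ≠ -1) :
    ∃ x : Matrix.SpecialLinearGroup (Fin n) F,
      (∃ z : F, ((x ^ r : Matrix.SpecialLinearGroup (Fin n) F) : Matrix (Fin n) (Fin n) F) =
        z • (1 : Matrix (Fin n) (Fin n) F)) ∧
      (∀ z : F, (x : Matrix (Fin n) (Fin n) F) ≠ z • (1 : Matrix (Fin n) (Fin n) F)) ∧
      ∀ τ : F →+* F, (∀ a, τ a = a ^ p ^ e) → ¬ IsSimMat τ x.1 := by
  obtain ⟨x, hx1, hx2, hxr, -, g, hg, hgd, hann⟩ := exists_witness (F := F) (r := r) (n := n) p hrp h2 hin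
  have hn : 0 < n := by omega
  refine ⟨x, hx1, hx2, fun τ hτ => not_isSimMat_orbit p e hτ hn h2 hcond ?_ ?_ hg hgd ?_⟩
  · have h := (endOf_pow_iff x r 1).1 (by rw [hxr, one_smul])
    rwa [Matrix.SpecialLinearGroup.coe_pow, one_smul] at h
  · exact fun h => hx2 1 (by rw [h, one_smul])
  · rw [endOf_eq, aeval_algEquiv, AlgHom.comp_apply, ← map_zero (Matrix.toLinAlgEquiv' (R := F) (n := Fin n))] at hann
    exact Matrix.toLinAlgEquiv'.injective hann

/-- An eigenbasis of a map of order `r`, for `r ∣ q - 1`. -/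
theorem exists_exponent_basis {u : F} (hu : IsPrimitiveRoot u r) (f : End F (Fin n → F)) (hf : f ^ r = 1) :
    ∃ (b : Basis (Fin n) F (Fin n → F)) (e : Fin n → ZMod r), ∀ i, f (b i) = u ^ (e i).val • b i := by
  classical
  have hr := (Fact.out : r.Prime)
  haveI : NeZero r := ⟨hr.ne_zero⟩
  have hr0 : (r : F) ≠ 0 := by
    exact (hu.neZero'.out)
  set S := {v : Fin n → F | ∃ a : ZMod r, f v = u ^ a.val • v} with hS
  have hspan : ⊤ ≤ Submodule.span F S := by
    intro v _
    let P : ZMod r → (Fin n → F) := fun a => ∑ k ∈ Finset.range r, (u ^ a.val)⁻¹ ^ k • (f ^ k) v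
    have hmem : ∀ a, P a ∈ S := by
      intro a
      refine ⟨a, ?_⟩
      set w := u ^ a.val with hw
      have hw0 : w ≠ 0 := pow_ne_zero _ (hu.ne_zero hr.ne_zero)
      let T : ℕ → (Fin n → F) := fun k => w⁻¹ ^ k • (f ^ k) v
      have hT : T r = T 0 := by
        simp only [T, hf, inv_pow, pow_zero, inv_one]
        rw [hw, ← pow_mul, mul_comm, pow_mul, hu.pow_eq_one, one_pow, inv_one]
      have hstep : ∀ k, f (T k) = w • T (k + 1) := fun k => by
        simp only [T, map_smul]
        rw [← Module.End.mul_apply, ← pow_succ', smul_smul, pow_succ' w⁻¹, mul_inv_cancel_left₀ hw0]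
      show f (∑ k ∈ Finset.range r, T k) = w • ∑ k ∈ Finset.range r, T k
      rw [map_sum, Finset.sum_congr rfl fun k _ => hstep k, ← Finset.smul_sum]
      congr 1
      have h1 := Finset.sum_range_succ' T r
      rw [Finset.sum_range_succ, hT] at h1
      exact (add_right_cancel h1).symm
    have hsum : ∑ a : ZMod r, P a = (r : F) • v := by
      rw [Finset.sum_comm, Finset.sum_eq_single 0]
      · simp [← Nat.cast_smul_eq_nsmul F]
      · intro k hk hk0
        rw [← Finset.sum_smul]
        convert zero_smul F ((f ^ k) v)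
        have hkr := Finset.mem_range.1 hk
        set z := (u⁻¹) ^ k
        have hz : z ≠ 1 := fun h => hk0 (hu.inv.pow_inj hkr hr.pos (by rw [pow_zero]; exact h))
        have hzr : z ^ r = 1 := by rw [← pow_mul, mul_comm, pow_mul, hu.inv.pow_eq_one, one_pow]
        rw [Finset.sum_bij' (t := Finset.range r) (g := fun j => z ^ j) (fun a _ => a.val) (fun j _ => (j : ZMod r))
          (fun a _ => Finset.mem_range.2 a.val_lt) (fun j _ => Finset.mem_univ _)
          (fun a _ => ZMod.natCast_zmod_val a)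
          (fun j hj => ZMod.val_natCast_of_lt (Finset.mem_range.1 hj))
          (fun a _ => by simp only [z]; rw [← inv_pow, ← pow_mul, ← pow_mul, mul_comm])]
        rw [geom_sum_eq hz, hzr, sub_self, zero_div]
      · simp [hr.pos]
    rw [← inv_smul_smul₀ hr0 v, ← hsum]
    exact Submodule.smul_mem _ _ (Submodule.sum_mem _ fun a _ => Submodule.subset_span (hmem a))
  let B := Basis.ofSpan hspan
  haveI : Fintype _ := Fintype.ofFinite ((linearIndepOn_empty F _root_.id).extend (Set.empty_subset S))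
  let b := B.reindex (Fintype.equivFinOfCardEq (by rw [← finrank_eq_card_basis B, Module.finrank_fin_fun]))
  have hb : ∀ i, b i ∈ S := fun i => by
    simp only [b, Basis.reindex_apply]
    exact Basis.ofSpan_subset hspan ⟨_, rfl⟩
  choose e he using hb
  exact ⟨b, e, he⟩

end Cfsg.Agent.Elusive
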