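import Cfsg.Agent.Lib.Elusive.Involution

/-!
Elements squaring to a scalar as sums of planes, and witnesses with an eigenvalue of multiplicity one.
-/

set_option autoImplicit false
set_option linter.unusedSectionVars false
set_option linter.style.haveILetI false

open scoped MatrixGroups Matrix

namespace Cfsg.Agent.Elusive

open Module Matrix

variable {F : Type*} [Field F] [Fintype F] {n : ℕ}

/-- `-1` is an `n`-th power when `n` has small two-part. -/
theorem exists_pow_eq_neg_one (hn : n ≠ 0)
    (h : padicValNat 2 n < padicValNat 2 (Fintype.card F - 1)) : ∃ w : F, w ^ n = -1 := by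
  haveI : Fact (Nat.Prime 2) := ⟨Nat.prime_two⟩
  set Q := Fintype.card F - 1 with hQ
  have hQ0 : Q ≠ 0 := by have := Fintype.one_lt_card (α := F); omega
  obtain ⟨t, ht⟩ := (pow_padicValNat_dvd : 2 ^ padicValNat 2 Q ∣ Q)
  obtain ⟨n', hn'⟩ := (pow_padicValNat_dvd : 2 ^ padicValNat 2 n ∣ n)
  obtain ⟨e, he⟩ : ∃ e, padicValNat 2 Q = padicValNat 2 n + e + 1 :=
    ⟨padicValNat 2 Q - padicValNat 2 n - 1, by omega⟩
  have hodd : Odd n' := by
    rw [← Nat.not_even_iff_odd, even_iff_two_dvd]
    rintro ⟨r, rfl⟩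
    have h2 : 2 ^ (padicValNat 2 n + 1) ∣ n := ⟨r, by rw [pow_succ, mul_assoc]; exact hn'⟩
    have := (padicValNat_dvd_iff_le hn).1 h2
    omega
  obtain ⟨g, hg⟩ := IsCyclic.exists_generator (α := Fˣ)
  have hord : orderOf g = Q := by
    rw [orderOf_eq_card_of_forall_mem_zpowers hg, Nat.card_units, Nat.card_eq_fintype_card]
  set h0 : Fˣ := g ^ (t * 2 ^ (padicValNat 2 n + e)) with hh
  have ht0 : t ≠ 0 := by rintro rfl; exact hQ0 (by rw [ht, mul_zero])
  have hne : h0 ≠ 1 := fun h1 => by
    have h2 := orderOf_dvd_iff_pow_eq_one.2 h1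
    rw [hord, ht, he] at h2
    have h3 := Nat.le_of_dvd (Nat.pos_of_ne_zero (mul_ne_zero ht0 (by simp))) h2
    rw [pow_succ] at h3
    have := Nat.mul_pos (Nat.two_pow_pos (padicValNat 2 n + e)) (Nat.pos_of_ne_zero ht0)
    nlinarith
  have hsq : (h0 : F) * h0 = 1 := by
    rw [← Units.val_mul, hh, ← pow_add]
    have : g ^ (t * 2 ^ (padicValNat 2 n + e) + t * 2 ^ (padicValNat 2 n + e)) = 1 := by
      rw [← two_mul, mul_left_comm, ← pow_succ', mul_comm, ← he, ← ht, ← hord]
      exact pow_orderOf_eq_one g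
    rw [this, Units.val_one]
  have hm1 : (h0 : F) = -1 :=
    (mul_self_eq_one_iff.1 hsq).resolve_left fun h1 => hne (Units.ext h1)
  refine ⟨((g ^ (t * 2 ^ e) : Fˣ) : F), ?_⟩
  rw [← Units.val_pow_eq_pow_val, ← pow_mul]
  conv_lhs => arg 1; arg 2; rw [hn']
  rw [show t * 2 ^ e * (2 ^ padicValNat 2 n * n') = t * 2 ^ (padicValNat 2 n + e) * n' by ring, pow_mul,
    ← hh, Units.val_pow_eq_pow_val, hm1, hodd.neg_one_pow]

/-- Conversely. -/
theorem lt_of_pow_eq_neg_one (hn : n ≠ 0) (h2 : (2 : F) ≠ 0) {w : F} (hw : w ^ n = -1) :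
    padicValNat 2 n < padicValNat 2 (Fintype.card F - 1) := by
  haveI : Fact (Nat.Prime 2) := ⟨Nat.prime_two⟩
  have hw0 : w ≠ 0 := fun h0 => by rw [h0, zero_pow hn] at hw; simp at hw
  have hQ0 : Fintype.card F - 1 ≠ 0 := by have := Fintype.one_lt_card (α := F); omega
  by_contra hle
  push Not at hle
  obtain ⟨t, ht⟩ := (pow_padicValNat_dvd : 2 ^ padicValNat 2 (Fintype.card F - 1) ∣ Fintype.card F - 1)
  obtain ⟨r, hr⟩ := ((pow_dvd_pow 2 hle).trans pow_padicValNat_dvd : 2 ^ padicValNat 2 (Fintype.card F - 1) ∣ n)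
  have hodd : Odd t := by
    rw [← Nat.not_even_iff_odd, even_iff_two_dvd]
    rintro ⟨r', rfl⟩
    have h1 : 2 ^ (padicValNat 2 (Fintype.card F - 1) + 1) ∣ Fintype.card F - 1 :=
      ⟨r', by rw [pow_succ, mul_assoc]; exact ht⟩
    have := (padicValNat_dvd_iff_le hQ0).1 h1
    omega
  have h3 : (w ^ n) ^ t = 1 := by
    rw [← pow_mul, show n * t = (Fintype.card F - 1) * r by rw [ht]; conv_lhs => rw [hr]
                                                            ring, pow_mul,
      FiniteField.pow_card_sub_one_eq_one w hw0, one_pow]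
  rw [hw, hodd.neg_one_pow] at h3
  exact h2 (by linear_combination -h3)

/-- An element `w (1 + a E_{ij})` of determinant one squaring to a scalar. -/
theorem exists_rank_one_witness (hn : 2 < n)
    (h : Fintype.card F % 2 = 0 ∨ padicValNat 2 n < padicValNat 2 (Fintype.card F - 1)) :
    ∃ (x : Matrix.SpecialLinearGroup (Fin n) F) (w a : F) (i j : Fin n), w ≠ 0 ∧ a ≠ 0 ∧
      (∃ z : F, ((x ^ 2 : Matrix.SpecialLinearGroup (Fin n) F) : Matrix (Fin n) (Fin n) F) =
        z • (1 : Matrix (Fin n) (Fin n) F)) ∧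
      (∀ c : F, (x : Matrix (Fin n) (Fin n) F) ≠ c • (1 : Matrix (Fin n) (Fin n) F)) ∧
      x.1 = w • (1 + Matrix.single i j a) := by
  let i₀ : Fin n := ⟨0, by omega⟩
  let i₁ : Fin n := ⟨1, by omega⟩
  have hne : i₀ ≠ i₁ := by simp [i₀, i₁]
  rcases Nat.mod_two_eq_zero_or_one (Fintype.card F) with he | ho
  · -- a transvection
    have h2 : (2 : F) = 0 := by
      by_contra h2
      have := FiniteField.odd_card_of_char_ne_two (F := F) (fun hc => h2 (by
        have := ringChar.Nat.cast_ringChar (R := F); rw [hc] at this; exact_mod_cast this))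
      omega
    let x : Matrix.SpecialLinearGroup (Fin n) F :=
      ⟨Matrix.transvection i₀ i₁ 1, Matrix.det_transvection_of_ne _ _ hne 1⟩
    refine ⟨x, 1, 1, i₀, i₁, one_ne_zero, one_ne_zero, ⟨1, ?_⟩, fun c hc => ?_, ?_⟩
    · rw [pow_two x]
      show Matrix.transvection i₀ i₁ (1 : F) * Matrix.transvection i₀ i₁ 1 = _
      rw [Matrix.transvection_mul_transvection_same i₀ i₁ hne, show (1 : F) + 1 = 2 by norm_num, h2,
        Matrix.transvection_zero, one_smul]
    · have h1 := congrFun (congrFun hc i₀) i₁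
      simp [x, Matrix.transvection, hne] at h1
    · simp [x, Matrix.transvection]
  · have hlt := h.resolve_left (by omega)
    obtain ⟨w, hw⟩ := exists_pow_eq_neg_one (F := F) (n := n) (by omega) hlt
    have hw0 : w ≠ 0 := fun h0 => by rw [h0, zero_pow (by omega)] at hw; simp at hw
    have h2 : (2 : F) ≠ 0 := fun h2 => by
      have hc : ringChar F = 2 := by
        have := (CharP.cast_eq_zero_iff F (ringChar F) 2).1 (by exact_mod_cast h2)
        have hp : (ringChar F).Prime := CharP.char_is_prime F _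
        exact (Nat.prime_dvd_prime_iff_eq hp Nat.prime_two).1 this
      have := FiniteField.even_card_of_char_two hc
      omega
    let d : Fin n → F := fun l => if l = i₀ then -1 else 1
    have hdet : (w • Matrix.diagonal d).det = 1 := by
      rw [Matrix.det_smul, Matrix.det_diagonal, Fintype.card_fin, hw]
      simp [d]
    let x : Matrix.SpecialLinearGroup (Fin n) F := ⟨w • Matrix.diagonal d, hdet⟩
    refine ⟨x, w, -2, i₀, i₀, hw0, neg_ne_zero.2 h2, ⟨w * w, ?_⟩, fun c hc => ?_, ?_⟩
    · rw [pow_two x]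
      show (w • Matrix.diagonal d) * (w • Matrix.diagonal d) = _
      rw [Matrix.smul_mul, Matrix.mul_smul, smul_smul, Matrix.diagonal_mul_diagonal]
      congr 1
      rw [← Matrix.diagonal_one]
      congr 1
      funext l
      simp only [d]; split <;> simp
    · have h1 := congrFun (congrFun hc i₀) i₀
      have h3 := congrFun (congrFun hc i₁) i₁
      simp [x, d, hne.symm] at h1 h3
      rw [← h3] at h1
      exact h2 (mul_right_cancel₀ hw0 (by linear_combination -h1))
    · show w • Matrix.diagonal d = _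
      congr 1
      ext a b
      by_cases hab : a = b
      · subst hab
        by_cases ha : a = i₀
        · subst ha; simp [d]; norm_num
        · simp [d, ha, Matrix.single, Ne.symm ha]
      · rw [Matrix.diagonal_apply_ne _ hab, Matrix.add_apply, Matrix.one_apply_ne hab,
          Matrix.single_apply_of_ne _ _ _ _ _ (fun hc => hab (hc.1.symm.trans hc.2)), add_zero]

/-- Equal matrices in two bases give conjugate matrices. -/
theorem exists_gl_conj_of_bases {ι : Type*} [Fintype ι] [DecidableEq ι] (X M : Matrix (Fin n) (Fin n) F)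
    (b b' : Basis ι F (Fin n → F))
    (h : LinearMap.toMatrix b b (Matrix.toLin' X) = LinearMap.toMatrix b' b' (Matrix.toLin' M)) :
    ∃ P : GL (Fin n) F, X * P.val = P.val * M := by
  let E := b'.equiv b (Equiv.refl ι)
  let P : GL (Fin n) F := ⟨LinearMap.toMatrix' E.toLinearMap, LinearMap.toMatrix' E.symm.toLinearMap,
    by rw [← LinearMap.toMatrix'_comp, LinearEquiv.comp_symm, LinearMap.toMatrix'_id],
    by rw [← LinearMap.toMatrix'_comp, LinearEquiv.symm_comp, LinearMap.toMatrix'_id]⟩
  have hval : P.val = LinearMap.toMatrix' E.toLinearMap := rfl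
  have hcomp : (Matrix.toLin' X).comp E.toLinearMap = E.toLinearMap.comp (Matrix.toLin' M) := by
    refine b'.ext fun i => ?_
    rw [LinearMap.comp_apply, LinearMap.comp_apply, LinearEquiv.coe_coe, Basis.equiv_apply, Equiv.refl_apply,
      ← b.sum_repr (Matrix.toLin' X (b i)), ← b'.sum_repr (Matrix.toLin' M (b' i)), map_sum]
    refine Finset.sum_congr rfl fun j _ => ?_
    have h1 : b.repr (Matrix.toLin' X (b i)) j = b'.repr (Matrix.toLin' M (b' i)) j := by
      simpa [LinearMap.toMatrix_apply] using congrFun (congrFun h j) i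
    rw [map_smul, Basis.equiv_apply, Equiv.refl_apply, h1]
  refine ⟨P, ?_⟩
  have h1 := congrArg LinearMap.toMatrix' hcomp
  rwa [LinearMap.toMatrix'_comp, LinearMap.toMatrix'_comp, LinearMap.toMatrix'_toLin',
    LinearMap.toMatrix'_toLin', ← hval] at h1

/-- Splitting an even index set into pairs next to given pairs. -/
def pairSum (k l : ℕ) : (Fin 2 × Fin k) ⊕ Fin (2 * l) ≃ Fin 2 × (Fin k ⊕ Fin l) :=
  (Equiv.sumCongr (Equiv.refl _) finProdFinEquiv.symm).trans (Equiv.prodSumDistrib _ _ _).symm

/-- Two even index sets as pairs. -/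
def pairPair (m l : ℕ) : Fin (2 * m) ⊕ Fin (2 * l) ≃ Fin 2 × (Fin m ⊕ Fin l) :=
  (Equiv.sumCongr finProdFinEquiv.symm finProdFinEquiv.symm).trans (Equiv.prodSumDistrib _ _ _).symm

/-- The plane decomposition: in odd characteristic under the two-part condition, or in
characteristic two for an even number of fixed vectors. -/
theorem exists_planes (he : Even n) (hn : 0 < n) (x : Matrix.SpecialLinearGroup (Fin n) F) {z : F}
    (hz : ((x ^ 2 : Matrix.SpecialLinearGroup (Fin n) F) : Matrix (Fin n) (Fin n) F) =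
      z • (1 : Matrix (Fin n) (Fin n) F))
    (hv : padicValNat 2 (Fintype.card F - 1) ≤ padicValNat 2 n) :
    ∃ (κ : Type) (_ : Fintype κ) (_ : DecidableEq κ) (b : Basis (Fin 2 × κ) F (Fin n → F))
      (M : κ → Matrix (Fin 2) (Fin 2) F) (c : F),
      (∀ a i, endOf x (b (a, i)) = M i 0 a • b (0, i) + M i 1 a • b (1, i)) ∧
      (∀ i, (M i).det = c) ∧
      ((2 : F) ≠ 0 → (∃ w, w * w = z) → ∀ i, ∃ a, M i = !![a, 0; 0, a]) := by
  have hf := endOf_mul_self x hz
  have hfin : finrank F (Fin n → F) = n := Module.finrank_fin_fun F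
  by_cases hsq : ∃ w : F, w * w = z
  · obtain ⟨w, rfl⟩ := hsq
    have hw : w ≠ 0 := left_ne_zero_of_mul (ne_zero_of_sq hn x hz)
    by_cases h2 : (2 : F) = 0
    · obtain ⟨k, l, b, e0, e1, e2⟩ := exists_unipotent_basis h2 hf
      obtain ⟨l, rfl⟩ : 2 ∣ l := by
        have := finrank_eq_card_basis b
        simp [hfin] at this
        obtain ⟨r, hr⟩ := he
        exact ⟨r - k, by omega⟩
      refine ⟨Fin k ⊕ Fin l, inferInstance, inferInstance, b.reindex (pairSum k l),
        Sum.elim (fun _ => !![0, w * w; 1, 0]) (fun _ => !![w, 0; 0, w]), w * w, fun a i => ?_,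
        fun i => ?_, fun h => absurd h2 h⟩
      · rcases i with i | i <;> fin_cases a <;>
          simp [-Matrix.toLin'_apply, pairSum, Equiv.prodSumDistrib, e0, e1, e2]
      · rcases i with i | i <;> simp [Matrix.det_fin_two]
        exact (neg_eq_iff_add_eq_zero.2 (by linear_combination (w * w) * h2))
    · obtain ⟨m, l, b, e0, e1⟩ := exists_eigen_basis h2 hw hf
      have hml : m + l = n := by
        have := finrank_eq_card_basis b
        simpa [hfin] using this.symm
      have hm : Even m := by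
        by_contra hm
        rw [Nat.not_even_iff_odd] at hm
        have hd := det_endOf x
        rw [det_eigen b e0 e1, hm.neg_pow, neg_mul, ← pow_add, hml] at hd
        have := lt_of_pow_eq_neg_one (F := F) hn.ne' h2 (w := w) (by rw [← hd, neg_neg])
        omega
      obtain ⟨m, rfl⟩ := even_iff_two_dvd.1 hm
      obtain ⟨l, rfl⟩ : 2 ∣ l := by
        obtain ⟨r, hr⟩ := he
        exact ⟨r - m, by omega⟩
      refine ⟨Fin m ⊕ Fin l, inferInstance, inferInstance, b.reindex (pairPair m l),
        Sum.elim (fun _ => !![-w, 0; 0, -w]) (fun _ => !![w, 0; 0, w]), w * w, fun a i => ?_,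
        fun i => ?_, fun _ _ i => ?_⟩
      · rcases i with i | i <;> fin_cases a <;>
          simp [-Matrix.toLin'_apply, pairPair, Equiv.prodSumDistrib, e0, e1]
      · rcases i with i | i <;> simp [Matrix.det_fin_two]
      · rcases i with i | i
        · exact ⟨-w, rfl⟩
        · exact ⟨w, rfl⟩
  · push Not at hsq
    obtain ⟨k, b, e0, e1⟩ := exists_swap_basis hsq hf
    refine ⟨Fin k, inferInstance, inferInstance, b, fun _ => !![0, z; 1, 0], -z, fun a i => ?_,
      fun i => by simp [Matrix.det_fin_two], fun _ h => ?_⟩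
    · fin_cases a <;> simp [-Matrix.toLin'_apply, e0, e1]
    · exact absurd h (by push Not; exact hsq)

end Cfsg.Agent.Elusive
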