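import Cfsg.Agent.Lib.Elusive.OrthSub

/-!
Arithmetic of the elusiveness criteria for orthogonal groups, with all dimensions halved: `n = 2 (h N + e₀) (+1)`,
`m = 2 (h M + l) (+1)`, blocks of dimension `2 h`.
-/

set_option autoImplicit false

namespace Cfsg.Agent.Elusive.OrthArith

/-! ### Totally singular subspaces -/

/-- Odd order of `q`: blocks are hyperbolic, `δ = 1` exactly for minus type. -/
theorem sing_odd_iff {i d m δ : ℕ} (hi : 0 < i) (him : i ≤ m) (hmd : m + δ ≤ d) (hδ : δ ≤ 1) :
    (∀ E, 1 ≤ E → i * E ≤ d → (i * E = d → δ = 0) → ∃ l ≤ E, i * l ≤ m ∧ m - i * l ≤ d - i * E - δ) ↔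
      ((δ = 1 ∧ d % i = 0) ∨ m % i + δ ≤ d % i) := by
  have hd := Nat.div_add_mod d i
  have hm := Nat.div_add_mod m i
  have hdi := Nat.mod_lt d hi
  have hmi := Nat.mod_lt m hi
  generalize d / i = N at *
  generalize d % i = e at *
  generalize m / i = M at *
  generalize m % i = l₀ at *
  constructor
  · intro h
    rcases Nat.lt_or_ge e (l₀ + δ) with hlt | hge
    · by_cases h0 : δ = 1 ∧ e = 0
      · exact Or.inl h0
      · exfalso
        have hN : 1 ≤ N := by
          by_contra hN
          rw [show N = 0 by omega, mul_zero] at hd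
          omega
        obtain ⟨l, hl, hlm, hle⟩ := h N hN (by omega) (fun he => by omega)
        rcases Nat.lt_or_ge l M with hlM | hlM
        · have := Nat.mul_le_mul_left i (show l + 1 ≤ M by omega)
          rw [Nat.mul_add, mul_one] at this
          omega
        · have : l = M := by
            by_contra hne
            have := Nat.mul_le_mul_left i (show M + 1 ≤ l by omega)
            rw [Nat.mul_add, mul_one] at this
            omega
          subst this
          omega
    · exact Or.inr hge
  · intro h E hE1 hEd hadm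
    rcases Nat.lt_or_ge E (M + 1) with hlt | hge
    · exact ⟨E, le_rfl, (Nat.mul_le_mul_left i (Nat.le_of_lt_succ hlt)).trans (by omega), by omega⟩
    · refine ⟨M, by omega, by omega, ?_⟩
      rcases h with ⟨h1, h2⟩ | h
      · have hEN : E < N := by
          by_contra hEN
          have := Nat.mul_le_mul_left i (Nat.le_of_not_lt hEN)
          omega
        have := Nat.mul_le_mul_left i (show E + 1 ≤ N by omega)
        rw [Nat.mul_add, mul_one] at this
        omega
      · have hEN : E ≤ N := by
          by_contra hEN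
          have := Nat.mul_le_mul_left i (show N + 1 ≤ E by omega)
          rw [Nat.mul_add, mul_one] at this
          omega
        have := Nat.mul_le_mul_left i hEN
        omega

/-- Even order `2 h` of `q`: `δ E = 1` exactly when the fixed space of `E` blocks has minus type. -/
theorem sing_even_iff {h d m t : ℕ} {δ : ℕ → ℕ} (hh : 0 < h) (hiM : 2 * h ≤ m) (hmd : m ≤ d) (ht : 1 ≤ t)
    (hδ : ∀ E, δ E ≤ 1) (hper : ∀ E, δ (E + 2) = δ E) (hone : ∀ E, δ (E + 1) = 1 → δ E = 0) :
    (∀ E, 1 ≤ E → h * E ≤ d → (h * E = d → δ E = 0) →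
      ∃ l ≤ (E - t + 1) / 2, 2 * h * l ≤ m ∧ m - 2 * h * l ≤ d - h * E - δ E) ↔
      (t + 2 * (m / (2 * h)) ≤ d / h ∧
        ((δ (d / h) = 0 ∧ m % (2 * h) ≤ d % h) ∨ (δ (d / h) = 1 ∧ m % (2 * h) < d % h) ∨
          (δ (d / h) = 1 ∧ d % h = 0 ∧ m % (2 * h) ≤ h ∧ t + 2 * (m / (2 * h)) < d / h))) := by
  have hd := Nat.div_add_mod d h
  have hm := Nat.div_add_mod m (2 * h)
  have hdh := Nat.mod_lt d hh
  have hmh := Nat.mod_lt m (show 0 < 2 * h by omega)
  have hM1 : 1 ≤ m / (2 * h) := Nat.div_pos hiM (by omega)
  generalize d / h = N at *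
  generalize d % h = e at *
  generalize m / (2 * h) = M at *
  generalize m % (2 * h) = l₀ at *
  have hN2 : 2 * M ≤ N := by
    by_contra hc
    have := Nat.mul_le_mul_left h (show N + 1 ≤ 2 * M by omega)
    rw [Nat.mul_add, mul_one] at this
    have : h * (2 * M) = 2 * h * M := by ring
    omega
  have hper2 : ∀ E j, δ (E + 2 * j) = δ E := fun E j => by
    induction j with
    | zero => rfl
    | succ j ih => rw [show E + 2 * (j + 1) = E + 2 * j + 2 by ring, hper, ih]
  have hup : ∀ l, 2 * h * l ≤ m → l ≤ M := fun l hl => by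
    by_contra hc
    have := Nat.mul_le_mul_left (2 * h) (show M + 1 ≤ l by omega)
    rw [Nat.mul_add, mul_one] at this
    omega
  have hlow : ∀ l, l < M → 2 * h * l + 2 * h ≤ 2 * h * M := fun l hl => by
    have := Nat.mul_le_mul_left (2 * h) (show l + 1 ≤ M by omega)
    rwa [Nat.mul_add, mul_one] at this
  constructor
  · intro hall
    have hslack : t + 2 * M ≤ N := by
      by_contra hc
      obtain ⟨N', hN'⟩ : ∃ N', N = N' + 1 := ⟨N - 1, by omega⟩
      have hmul : h * N = h * N' + h := by rw [hN']; ring
      obtain ⟨l, hl, hlm, hle⟩ := hall N' (by omega) (by omega) (fun he => by omega)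
      have := hlow l (by omega)
      omega
    refine ⟨hslack, ?_⟩
    by_cases hNadm : δ N = 0 ∨ 0 < e
    · obtain ⟨l, hl, hlm, hle⟩ := hall N (by omega) (by omega) (fun he => by omega)
      have hlM : M ≤ l := by
        by_contra hc
        have := hlow l (by omega)
        omega
      obtain rfl : l = M := le_antisymm (hup l hlm) hlM
      have := hδ N
      rcases Nat.eq_zero_or_pos (δ N) with h0 | h0
      · exact Or.inl ⟨h0, by omega⟩
      · exact Or.inr (Or.inl ⟨by omega, by omega⟩)
    · have h0 : δ N = 1 ∧ e = 0 := by have := hδ N; omega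
      refine Or.inr (Or.inr ⟨h0.1, h0.2, ?_, ?_⟩)
      · obtain ⟨N', hN'⟩ : ∃ N', N = N' + 1 := ⟨N - 1, by omega⟩
        have hmul : h * N = h * N' + h := by rw [hN']; ring
        obtain ⟨l, hl, hlm, hle⟩ := hall N' (by omega) (by omega) (fun he => by omega)
        have hlM : M ≤ l := by
          by_contra hc
          have := hlow l (by omega)
          omega
        obtain rfl : l = M := le_antisymm (hup l hlm) hlM
        omega
      · by_contra hc
        obtain ⟨N', hN'⟩ : ∃ N', N = N' + 2 := ⟨N - 2, by omega⟩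
        have hmul : h * N = h * N' + 2 * h := by rw [hN']; ring
        have hδ' : δ N' = 1 := by rw [← hper, ← hN', h0.1]
        obtain ⟨l, hl, hlm, hle⟩ := hall N' (by omega) (by omega) (fun he => by omega)
        have := hlow l (by omega)
        omega
  · rintro ⟨hslack, hcases⟩ E hE1 hEd hadm
    have hEN : E ≤ N := by
      by_contra hEN
      have := Nat.mul_le_mul_left h (show N + 1 ≤ E by omega)
      rw [Nat.mul_add, mul_one] at this
      omega
    have hδE := hδ E
    have hδN := hδ N
    have hneighbour : E + 1 = N → δ N = 1 → δ E = 0 := fun he h1 => hone E (by rw [he]; exact h1)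
    rcases Nat.lt_or_ge ((E - t + 1) / 2) M with hlt | hge
    · obtain ⟨l, hl⟩ : ∃ l, (E - t + 1) / 2 = l := ⟨_, rfl⟩
      rw [hl] at hlt ⊢
      have hparity : E + 2 * M = N + 2 * l → δ E = δ N := by
        intro he
        rw [show N = E + 2 * (M - l) by omega, hper2]
      refine ⟨l, le_rfl, ?_, ?_⟩
      · have := hlow l hlt
        omega
      · obtain ⟨D, hD⟩ : ∃ D, M = l + D := ⟨M - l, by omega⟩
        obtain ⟨s, hs⟩ : ∃ s, N = E + 2 * D + s := ⟨N - E - 2 * D, by omega⟩
        have hmul : h * N = h * E + 2 * h * D + h * s := by rw [hs]; ring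
        have hmulM : 2 * h * M = 2 * h * l + 2 * h * D := by rw [hD]; ring
        rcases s with _ | _ | s
        · have := hparity (by omega)
          rcases hcases with ⟨h1, h2⟩ | ⟨h1, h2⟩ | ⟨h1, h2, h3, h4⟩ <;> omega
        · have hodd : δ N = 1 → δ E = 0 := fun h1 => by
            refine hone E ?_
            rwa [← hper2 (E + 1) D, show E + 1 + 2 * D = N by omega]
          rcases hcases with ⟨h1, h2⟩ | ⟨h1, h2⟩ | ⟨h1, h2, h3, h4⟩
          · omega
          · have := hodd h1; omega
          · have := hodd h1; omega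
        · have : h * (s + 1 + 1) = h * s + 2 * h := by ring
          rcases hcases with ⟨h1, h2⟩ | ⟨h1, h2⟩ | ⟨h1, h2, h3, h4⟩ <;> omega
    · refine ⟨M, hge, by omega, ?_⟩
      rcases lt_or_eq_of_le hEN with hlt | rfl
      · rcases Nat.lt_or_ge (E + 1) N with h2 | h2
        · have := Nat.mul_le_mul_left h (show E + 2 ≤ N by omega)
          rw [Nat.mul_add] at this
          omega
        · have hE : E + 1 = N := by omega
          have hmul : h * N = h * E + h := by rw [← hE]; ring
          rcases hcases with ⟨h1, h2⟩ | ⟨h1, h2⟩ | ⟨h1, h2, h3, h4⟩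
          · omega
          · have := hneighbour hE h1; omega
          · have := hneighbour hE h1; omega
      · rcases hcases with ⟨h1, h2⟩ | ⟨h1, h2⟩ | ⟨h1, h2, h3, h4⟩ <;> omega

/-! ### Non-degenerate subspaces -/

section Nd

variable {h N e₀ M l : ℕ}

theorem le_N (he₀ : e₀ < h) {E : ℕ} (hE : h * E ≤ h * N + e₀) : E ≤ N := by
  by_contra hc
  have := Nat.mul_le_mul_left h (show N + 1 ≤ E by omega)
  rw [Nat.mul_add, mul_one] at this
  omega

theorem half_eq {e : ℕ} (he : e ≤ M) : h * (M - e) + l = h * M + l - h * e := by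
  obtain ⟨D, rfl⟩ : ∃ D, M = e + D := ⟨M - e, by omega⟩
  rw [Nat.add_sub_cancel_left, Nat.mul_add]
  omega

theorem fix_eq {E : ℕ} (hE : E ≤ N) : h * (N - E) + e₀ = h * N + e₀ - h * E := by
  obtain ⟨D, rfl⟩ : ∃ D, N = E + D := ⟨N - E, by omega⟩
  rw [Nat.add_sub_cancel_left, Nat.mul_add]
  omega

/-- Odd `m`, even `n`. -/
theorem odd_iff (hl : l < h) (he₀ : e₀ < h) (hmn : h * M + l < h * N + e₀) {good : ℕ → Prop} :
    (∀ E, 1 ≤ E → h * E ≤ h * N + e₀ → (h * E = h * N + e₀ → good E) →
      ∃ e ≤ E, h * e ≤ h * M + l ∧ h * M + l - h * e < h * N + e₀ - h * E) ↔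
      ((e₀ = 0 ∧ ¬ good N) ∨ l < e₀) := by
  have hMN : M ≤ N := by
    by_contra hc
    have := Nat.mul_le_mul_left h (show N + 1 ≤ M by omega)
    rw [Nat.mul_add, mul_one] at this
    omega
  constructor
  · intro hall
    by_contra hc
    push Not at hc
    obtain ⟨hc1, hc2⟩ := hc
    have hN1 : 1 ≤ N := by
      by_contra hN
      have hM : M = 0 := by omega
      rw [hM, show N = 0 by omega, mul_zero] at hmn
      omega
    obtain ⟨e, -, he, hlt⟩ := hall N hN1 (by omega) (fun he => hc1 (by omega))
    have : e ≤ M := le_N (h := h) hl he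
    have := Nat.mul_le_mul_left h this
    omega
  · intro hcases E hE1 hE hgood
    have hEN := le_N he₀ hE
    rcases Nat.lt_or_ge E M with hlt | hge
    · have h1 := Nat.mul_le_mul_left h (show E + 1 ≤ M by omega)
      rw [Nat.mul_add, mul_one] at h1
      refine ⟨E, le_rfl, by omega, ?_⟩
      have := Nat.mul_le_mul_left h hEN
      omega
    · refine ⟨M, hge, by omega, ?_⟩
      rcases lt_or_eq_of_le hEN with hlt | rfl
      · have := Nat.mul_le_mul_left h (show E + 1 ≤ N by omega)
        rw [Nat.mul_add, mul_one] at this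
        omega
      · rcases hcases with ⟨h1, h2⟩ | h1
        · exact absurd (hgood (by omega)) h2
        · omega

/-- Even `m`, odd `n`. -/
theorem even_odd_iff (hl : l < h) (he₀ : e₀ < h) (hmn : h * M + l ≤ h * N + e₀) (hm : 0 < h * M + l)
    (hM : 1 ≤ M) (zero : ℕ → Prop) :
    (∀ E, 1 ≤ E → h * E ≤ h * N + e₀ →
      ∃ e ≤ E, h * e ≤ h * M + l ∧ h * M + l - h * e ≤ h * N + e₀ - h * E ∧ (h * M + l = h * e → zero e)) ↔
      (l ≤ e₀ ∧ (0 < l ∨ zero M)) := by
  have hMN : M ≤ N := by
    by_contra hc
    have := Nat.mul_le_mul_left h (show N + 1 ≤ M by omega)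
    rw [Nat.mul_add, mul_one] at this
    omega
  constructor
  · intro hall
    obtain ⟨e, -, he, hle, hz⟩ := hall N (by omega) (by omega)
    have heM : e ≤ M := le_N hl he
    have : e = M := by
      by_contra hne
      have := Nat.mul_le_mul_left h (show e + 1 ≤ M by omega)
      rw [Nat.mul_add, mul_one] at this
      omega
    subst this
    exact ⟨by omega, by
      rcases Nat.eq_zero_or_pos l with h0 | h0
      · exact Or.inr (hz (by omega))
      · exact Or.inl h0⟩
  · rintro ⟨hle, hz⟩ E hE1 hE
    have hEN := le_N he₀ hE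
    rcases Nat.lt_or_ge E M with hlt | hge
    · refine ⟨E, le_rfl, ?_, ?_, fun heq => ?_⟩
      · have := Nat.mul_le_mul_left h hlt.le
        omega
      · have := Nat.mul_le_mul_left h hEN
        omega
      · exfalso
        have := Nat.mul_le_mul_left h (show E + 1 ≤ M by omega)
        rw [Nat.mul_add, mul_one] at this
        omega
    · refine ⟨M, hge, by omega, ?_, fun heq => hz.resolve_left (by omega)⟩
      have := Nat.mul_le_mul_left h hEN
      omega

/-- Even `m`, even `n`; `zero e` and `full E e` are the type conditions at the two ends. -/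
theorem even_even_iff (hl : l < h) (he₀ : e₀ < h) (hmn : h * M + l < h * N + e₀) (hm : 0 < h * M + l)
    {good zero : ℕ → Prop} {full : ℕ → ℕ → Prop}
    (hswap : ∀ E e, 1 ≤ e → E + 1 = N → ¬ good N → ¬ zero e → full E (e - 1)) :
    (∀ E, 1 ≤ E → h * E ≤ h * N + e₀ → (h * E = h * N + e₀ → good E) →
      ∃ e ≤ E, h * e ≤ h * M + l ∧ h * M + l - h * e ≤ h * N + e₀ - h * E ∧ (h * M + l = h * e → zero e) ∧
        (h * M + l - h * e = h * N + e₀ - h * E → full E e)) ↔
      ((e₀ = 0 ∧ ¬ good N) ∨
        ((0 < l ∨ zero M) ∧ ((l < e₀) ∨ (l = e₀ ∧ full N M)))) := by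
  have hMN : M ≤ N := by
    by_contra hc
    have := Nat.mul_le_mul_left h (show N + 1 ≤ M by omega)
    rw [Nat.mul_add, mul_one] at this
    omega
  constructor
  · intro hall
    by_cases hadm : e₀ = 0 ∧ ¬ good N
    · exact Or.inl hadm
    rcases Nat.eq_zero_or_pos N with hN0 | hN1
    · have hM : M = 0 := by omega
      rw [hM, hN0, mul_zero] at hmn
      rw [hM, mul_zero] at hm
      exact Or.inr ⟨Or.inl (by omega), Or.inl (by omega)⟩
    obtain ⟨e, -, he, hle, hz, hf⟩ := hall N hN1 (by omega) (fun h' => by
      by_contra hg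
      exact hadm ⟨by omega, hg⟩)
    have heM : e ≤ M := le_N hl he
    have : e = M := by
      by_contra hne
      have := Nat.mul_le_mul_left h (show e + 1 ≤ M by omega)
      rw [Nat.mul_add, mul_one] at this
      omega
    subst this
    refine Or.inr ⟨?_, ?_⟩
    · rcases Nat.eq_zero_or_pos l with h0 | h0
      · exact Or.inr (hz (by omega))
      · exact Or.inl h0
    · rcases Nat.lt_or_ge l e₀ with h0 | h0
      · exact Or.inl h0
      · exact Or.inr ⟨by omega, hf (by omega)⟩
  · intro hcases E hE1 hE hgood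
    have hEN := le_N he₀ hE
    have hlt' : e₀ = 0 → ¬ good N → E < N := fun h0 hg => lt_of_le_of_ne hEN fun heq => by
      subst heq; exact hg (hgood (by omega))
    -- the endpoint repair: one block fewer
    have hrepair : ∀ e, 1 ≤ e → e ≤ E → h * M + l = h * e → ¬ zero e → e₀ = 0 → ¬ good N →
        ∃ e ≤ E, h * e ≤ h * M + l ∧ h * M + l - h * e ≤ h * N + e₀ - h * E ∧ (h * M + l = h * e → zero e) ∧
          (h * M + l - h * e = h * N + e₀ - h * E → full E e) := by
      intro e he1 heE heq hz h0 hg
      have hEN' := hlt' h0 hg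
      obtain ⟨e', rfl⟩ : ∃ e', e = e' + 1 := ⟨e - 1, by omega⟩
      have hmul : h * (e' + 1) = h * e' + h := by ring
      have := Nat.mul_le_mul_left h (show E + 1 ≤ N by omega)
      rw [Nat.mul_add, mul_one] at this
      refine ⟨e', by omega, by omega, by omega, fun h' => by omega, fun h' => ?_⟩
      have hE1' : E + 1 = N := by
        by_contra hne
        have := Nat.mul_le_mul_left h (show E + 2 ≤ N by omega)
        rw [Nat.mul_add] at this
        omega
      exact hswap E (e' + 1) (by omega) hE1' hg hz
    rcases Nat.lt_or_ge E M with hlt | hge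
    · have h1 := Nat.mul_le_mul_left h (show E + 1 ≤ M by omega)
      rw [Nat.mul_add, mul_one] at h1
      refine ⟨E, le_rfl, by omega, ?_, fun heq => by omega, fun heq => ?_⟩
      · have := Nat.mul_le_mul_left h hEN
        omega
      · exfalso
        have := Nat.mul_le_mul_left h hEN
        omega
    · rcases hcases with ⟨h0, hg⟩ | ⟨hz, hf⟩
      · have := hlt' h0 hg
        have h1 := Nat.mul_le_mul_left h (show E + 1 ≤ N by omega)
        rw [Nat.mul_add, mul_one] at h1
        by_cases hbad : l = 0 ∧ ¬ zero M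
        · refine hrepair M ?_ hge (by omega) hbad.2 h0 hg
          by_contra hM
          rw [show M = 0 by omega, mul_zero] at hm
          omega
        · refine ⟨M, hge, by omega, by omega, fun heq => ?_, fun heq => by omega⟩
          by_contra hne
          exact hbad ⟨by omega, hne⟩
      · refine ⟨M, hge, by omega, ?_, fun heq => hz.resolve_left (by omega), fun heq => ?_⟩
        · have := Nat.mul_le_mul_left h hEN
          omega
        · have := Nat.mul_le_mul_left h hEN
          have hEq : E = N := by
            by_contra hne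
            have := Nat.mul_le_mul_left h (show E + 1 ≤ N by omega)
            rw [Nat.mul_add, mul_one] at this
            omega
          rcases hf with hf | ⟨-, hf⟩
          · omega
          · rw [hEq]; exact hf

end Nd

end Cfsg.Agent.Elusive.OrthArith
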