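import Cfsg.Agent.Lib.Elusive.OrthCriteria
import Cfsg.Agent.Lib.Elusive.OrthArith

/-!
The numerical conditions `SingOk`, `EvenOk`, `OddOk` in closed form. Here `c` is the block dimension and `η` the sign
of a block, both read off from the parity of `i`; `OrthArith` works with halved dimensions.
-/

set_option autoImplicit false

namespace Cfsg.Agent.Elusive.OrthBridge

open OrthCriteria
open OrthType (widx)

/-- The block dimension. -/
def bdim (i : ℕ) : ℕ := if Even i then i else 2 * i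

/-- The sign of a block. -/
def bsgn (i : ℕ) : ℤ := if Even i then -1 else 1

theorem two_mod (a h : ℕ) : (2 * a) % (2 * h) = 2 * (a % h) := Nat.mul_mod_mul_left 2 a h

theorem two_div (a h : ℕ) : (2 * a) / (2 * h) = a / h := Nat.mul_div_mul_left a h (by norm_num)

theorem two_succ_mod (a h : ℕ) (hh : 0 < h) : (2 * a + 1) % (2 * h) = 2 * (a % h) + 1 := by
  have h1 := Nat.div_add_mod a h
  have h2 := Nat.mod_lt a hh
  rw [show 2 * a + 1 = 2 * (a % h) + 1 + 2 * h * (a / h) by rw [mul_assoc]; omega, Nat.add_mul_mod_self_left,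
    Nat.mod_eq_of_lt (by omega)]

theorem two_succ_div (a h : ℕ) (hh : 0 < h) : (2 * a + 1) / (2 * h) = a / h := by
  have h1 := Nat.div_add_mod a h
  have h2 := Nat.mod_lt a hh
  rw [show 2 * a + 1 = 2 * (a % h) + 1 + 2 * h * (a / h) by rw [mul_assoc]; omega,
    Nat.add_mul_div_left _ _ (by omega), Nat.div_eq_of_lt (by omega), zero_add]

theorem neg_pow (E : ℕ) : (-1 : ℤ) ^ E = if E % 2 = 0 then 1 else -1 := by
  rcases Nat.even_or_odd E with h | h
  · rw [h.neg_one_pow, if_pos (Nat.even_iff.1 h)]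
  · rw [h.neg_one_pow, if_neg (by rw [Nat.odd_iff.1 h]; omega)]

theorem half_dim {i : ℕ} (hi : 0 < i) :
    ∃ h, 0 < h ∧ bdim i = 2 * h ∧ ((Even i ∧ i = 2 * h ∧ bsgn i = -1) ∨ (¬ Even i ∧ i = h ∧ bsgn i = 1)) := by
  by_cases he : Even i
  · obtain ⟨h, hh⟩ := he
    refine ⟨h, by omega, by rw [bdim, if_pos ⟨h, hh⟩]; omega, Or.inl ⟨⟨h, hh⟩, by omega, ?_⟩⟩
    rw [bsgn, if_pos ⟨h, hh⟩]
  · exact ⟨i, hi, by rw [bdim, if_neg he], Or.inr ⟨he, rfl, by rw [bsgn, if_neg he]⟩⟩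

/-! ### Totally singular subspaces -/

/-- Odd dimension. -/
theorem sing_odd_dim {i t d m : ℕ} (hi : 0 < i) (ht : 1 ≤ t) (him : i ≤ m) (hmd : m ≤ d) (ε : ℤ) :
    (∀ E, Adm (bdim i) (bsgn i) (2 * d + 1) ε E → SingOk i (bdim i) t (bsgn i) (2 * d + 1) ε m E) ↔
      (2 * (m % i) < (2 * d + 1) % bdim i ∧ (Odd i ∨ t + 2 * (m / i) ≤ (2 * d + 1) / i)) := by
  obtain ⟨h, hh, hc, hcase⟩ := half_dim hi
  rw [hc]
  have hw : ∀ E, h * E ≤ d → ∀ e : ℤ, widx (2 * d + 1 - 2 * h * E) e = d - h * E := fun E hE e => by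
    rw [mul_assoc, widx, if_pos (by omega)]
    omega
  have hwiden : ∀ E, 2 * h * E ≤ 2 * d + 1 ↔ h * E ≤ d := fun E => by rw [mul_assoc]; omega
  have hne : ∀ E, 2 * h * E ≠ 2 * d + 1 := fun E => by rw [mul_assoc]; omega
  rcases hcase with ⟨he, hi2, hη⟩ | ⟨he, hi2, hη⟩
  · subst hi2
    have key := OrthArith.sing_even_iff (h := h) (d := d) (m := m) (t := t) (δ := fun _ => 0) hh him hmd ht
      (fun _ => by omega) (fun _ => rfl) (fun E hE => rfl)
    rw [two_succ_mod d h hh, two_succ_div d h hh]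
    simp only [if_pos, lmin, if_pos he, SingOk, hη] at key ⊢
    constructor
    · intro hall
      have hk := key.1 fun E hE1 hE _ => by
        obtain ⟨l, hl, hlm, hle⟩ := hall E ⟨hE1, (hwiden E).2 hE, fun h => absurd h (hne E)⟩
        rw [hw E hE] at hle
        exact ⟨l, hl, hlm, by omega⟩
      exact ⟨by omega, Or.inr hk.1⟩
    · rintro ⟨h1, h2⟩ E ⟨hE1, hE, -⟩
      have h2 := h2.resolve_left (Nat.not_odd_iff_even.2 he)
      obtain ⟨l, hl, hlm, hle⟩ := key.2 ⟨h2, Or.inl ⟨trivial, by omega⟩⟩ E hE1 ((hwiden E).1 hE) (fun _ => trivial)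
      refine ⟨l, hl, hlm, ?_⟩
      rw [hw E ((hwiden E).1 hE)]
      omega
  · subst hi2
    have key := OrthArith.sing_odd_iff (i := i) (d := d) (m := m) (δ := 0) hi him (by omega) (by omega)
    rw [two_succ_mod d i hh]
    simp only [lmin, if_neg he, SingOk, hη] at key ⊢
    constructor
    · intro hall
      have hk := key.1 fun E hE1 hE _ => by
        obtain ⟨l, hl, hlm, hle⟩ := hall E ⟨hE1, (hwiden E).2 hE, fun h => absurd h (hne E)⟩
        rw [hw E hE] at hle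
        exact ⟨l, hl, hlm, by omega⟩
      exact ⟨by omega, Or.inl (Nat.not_even_iff_odd.1 he)⟩
    · rintro ⟨h1, -⟩ E ⟨hE1, hE, -⟩
      obtain ⟨l, hl, hlm, hle⟩ := key.2 (Or.inr (by omega)) E hE1 ((hwiden E).1 hE) (fun _ => trivial)
      refine ⟨l, hl, hlm, ?_⟩
      rw [hw E ((hwiden E).1 hE)]
      omega

/-- Even dimension; `σ = 0` for plus type and `σ = 1` for minus type. -/
theorem sing_even_dim {i t d m σ : ℕ} (hi : 0 < i) (ht : 1 ≤ t) (him : i ≤ m) (hmd : m + 1 ≤ d) (hσ : σ ≤ 1)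
    (ε : ℤ) (hε : ε = (-1) ^ σ) :
    (∀ E, Adm (bdim i) (bsgn i) (2 * d) ε E → SingOk i (bdim i) t (bsgn i) (2 * d) ε m E) ↔
      ((Odd i ∧ ((σ = 1 ∧ (2 * d) % bdim i = 0) ∨ 2 * (m % i) + σ ≤ (2 * d) % bdim i)) ∨
        (Even i ∧ t + 2 * (m / i) ≤ (2 * d) / i ∧
          ((2 * (m % i) ≤ i ∧ (2 * d) % bdim i = 0 ∧ ((2 * d) / i + σ) % 2 = 1 ∧ t + 2 * (m / i) < (2 * d) / i) ∨
            (2 * (m % i) ≤ (2 * d) % bdim i ∧ ((2 * d) / i + σ) % 2 = 0) ∨
            (2 * (m % i) < (2 * d) % bdim i ∧ ((2 * d) / i + σ) % 2 = 1)))) := by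
  obtain ⟨h, hh, hc, hcase⟩ := half_dim hi
  rw [hc, two_mod]
  have hwiden : ∀ E, 2 * h * E ≤ 2 * d ↔ h * E ≤ d := fun E => by rw [mul_assoc]; omega
  have heq : ∀ E, 2 * h * E = 2 * d ↔ h * E = d := fun E => by rw [mul_assoc]; omega
  rcases hcase with ⟨he, hi2, hη⟩ | ⟨he, hi2, hη⟩
  · subst hi2
    rw [two_div]
    let δ : ℕ → ℕ := fun E => (E + σ) % 2
    have key := OrthArith.sing_even_iff (h := h) (d := d) (m := m) (t := t) (δ := δ) hh him (by omega) ht
      (fun E => by simp only [δ]; omega) (fun E => by simp only [δ]; omega) (fun E hE => by simp only [δ] at *; omega)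
    have hsg : ∀ E, ε * (-1 : ℤ) ^ E = if (E + σ) % 2 = 0 then 1 else -1 := fun E => by
      rw [hε, ← pow_add, neg_pow, add_comm]
    have hw : ∀ E, h * E ≤ d → widx (2 * d - 2 * h * E) (ε * (-1 : ℤ) ^ E) = d - h * E - δ E := fun E hE => by
      rw [mul_assoc, widx, if_neg (by omega), hsg]
      simp only [δ]
      rcases Nat.mod_two_eq_zero_or_one (E + σ) with h0 | h0 <;> simp [h0] <;> omega
    have hadm : ∀ E, (ε = (-1 : ℤ) ^ E) ↔ δ E = 0 := fun E => by
      rw [hε, neg_pow, neg_pow]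
      simp only [δ]
      rcases Nat.mod_two_eq_zero_or_one E with h0 | h0 <;> rcases Nat.mod_two_eq_zero_or_one σ with h1 | h1 <;>
        simp [h0, h1] <;> omega
    simp only [lmin, if_pos he, SingOk, hη]
    have hno : ¬ Odd (2 * h) := Nat.not_odd_iff_even.2 he
    constructor
    · intro hall
      have hk := key.1 fun E hE1 hE had => by
        obtain ⟨l, hl, hlm, hle⟩ := hall E ⟨hE1, (hwiden E).2 hE, fun h => (hadm E).2 (had ((heq E).1 h))⟩
        rw [hw E hE] at hle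
        exact ⟨l, hl, hlm, hle⟩
      simp only [δ] at hk
      refine Or.inr ⟨he, hk.1, ?_⟩
      omega
    · rintro (⟨h1, -⟩ | ⟨-, h1, h2⟩) E ⟨hE1, hE, hadE⟩
      · exact absurd h1 hno
      have hk : δ (d / h) = 0 ∧ m % (2 * h) ≤ d % h ∨ δ (d / h) = 1 ∧ m % (2 * h) < d % h ∨
          δ (d / h) = 1 ∧ d % h = 0 ∧ m % (2 * h) ≤ h ∧ t + 2 * (m / (2 * h)) < d / h := by
        simp only [δ]
        omega
      obtain ⟨l, hl, hlm, hle⟩ := key.2 ⟨h1, hk⟩ E hE1 ((hwiden E).1 hE)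
        (fun h => (hadm E).1 (hadE ((heq E).2 h)))
      refine ⟨l, hl, hlm, ?_⟩
      rwa [hw E ((hwiden E).1 hE)]
  · subst hi2
    have key := OrthArith.sing_odd_iff (i := i) (d := d) (m := m) (δ := σ) hi him (by omega) hσ
    simp only [lmin, if_neg he, SingOk, hη, one_pow, mul_one]
    have hw : ∀ E, i * E ≤ d → widx (2 * d - 2 * i * E) ε = d - i * E - σ := fun E hE => by
      rw [mul_assoc, widx, if_neg (by omega), hε, neg_pow]
      rcases (show σ = 0 ∨ σ = 1 by omega) with h0 | h0 <;> simp [h0] <;> omega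
    have hadm : ε = 1 ↔ σ = 0 := by
      rw [hε, neg_pow]
      rcases (show σ = 0 ∨ σ = 1 by omega) with h0 | h0 <;> simp [h0]
    constructor
    · intro hall
      have hk := key.1 fun E hE1 hE had => by
        obtain ⟨l, hl, hlm, hle⟩ := hall E ⟨hE1, (hwiden E).2 hE,
          fun h => by rw [one_pow]; exact hadm.2 (had ((heq E).1 h))⟩
        rw [hw E hE] at hle
        exact ⟨l, hl, hlm, hle⟩
      refine Or.inl ⟨Nat.not_even_iff_odd.1 he, ?_⟩
      omega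
    · rintro (⟨-, h2⟩ | ⟨h1, -⟩) E ⟨hE1, hE, hadE⟩
      · obtain ⟨l, hl, hlm, hle⟩ := key.2 (by omega) E hE1 ((hwiden E).1 hE)
          (fun h => hadm.1 (by simpa [hη] using hadE ((heq E).2 h)))
        refine ⟨l, hl, hlm, ?_⟩
        rwa [hw E ((hwiden E).1 hE)]
      · exact absurd h1 he

/-! ### Non-degenerate subspaces -/

/-- Even `m`, odd dimension. -/
theorem even_odd_dim {i d μ : ℕ} (hi : 0 < i) (hμ : 0 < μ) (hμd : μ ≤ d) (hcm : bdim i ≤ 2 * μ) (ε τ : ℤ) :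
    (∀ E, Adm (bdim i) (bsgn i) (2 * d + 1) ε E →
        EvenOk (bdim i) (bsgn i) (2 * d + 1) ε (2 * μ) τ E) ↔
      ((2 * μ) % bdim i < (2 * d + 1) % bdim i ∧
        (0 < (2 * μ) % bdim i ∨ τ = bsgn i ^ ((2 * μ) / bdim i))) := by
  obtain ⟨h, hh, hc, -⟩ := half_dim hi
  rw [hc, two_mod, two_succ_mod d h hh, two_div]
  have hM : 1 ≤ μ / h := Nat.div_pos (by omega) hh
  have hμe := Nat.div_add_mod μ h
  have hde := Nat.div_add_mod d h
  have key := OrthArith.even_odd_iff (h := h) (N := d / h) (e₀ := d % h) (M := μ / h) (l := μ % h)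
    (Nat.mod_lt _ hh) (Nat.mod_lt _ hh) (by omega) (by omega) hM (fun e => τ = bsgn i ^ e)
  rw [hμe, hde] at key
  constructor
  · intro hall
    have hk := key.1 fun E hE1 hE => by
      obtain ⟨e, he, h1, h2, h3, -⟩ := hall E ⟨hE1, by rw [mul_assoc]; omega,
        fun h' => absurd h' (by rw [mul_assoc]; omega)⟩
      rw [mul_assoc] at h1 h2 h3
      rw [mul_assoc] at h2
      exact ⟨e, he, by omega, by omega, fun h' => h3 (by omega)⟩
    exact ⟨by omega, hk.2.imp (fun h => by omega) id⟩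
  · rintro ⟨h1, h2⟩ E ⟨hE1, hE, -⟩
    rw [mul_assoc] at hE
    obtain ⟨e, he, he1, he2, he3⟩ := key.2 ⟨by omega, h2.imp (fun h => by omega) id⟩ E hE1 (by omega)
    refine ⟨e, he, ?_, ?_, fun h' => he3 ?_, fun h' => ?_⟩
    all_goals (simp only [mul_assoc] at *; omega)

/-- Even `m`, even dimension. -/
theorem even_even_dim {i d μ : ℕ} (hi : 0 < i) (hμ : 0 < μ) (hμd : μ < d) (ε τ : ℤ) (hε : ε = 1 ∨ ε = -1)
    (hτ : τ = 1 ∨ τ = -1) :
    (∀ E, Adm (bdim i) (bsgn i) (2 * d) ε E → EvenOk (bdim i) (bsgn i) (2 * d) ε (2 * μ) τ E) ↔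
      (((2 * d) % bdim i = 0 ∧ ε ≠ bsgn i ^ ((2 * d) / bdim i)) ∨
        ((0 < (2 * μ) % bdim i ∨ τ = bsgn i ^ ((2 * μ) / bdim i)) ∧
          ((2 * μ) % bdim i < (2 * d) % bdim i ∨ ((2 * μ) % bdim i = (2 * d) % bdim i ∧
            τ = ε * bsgn i ^ ((2 * d) / bdim i) * bsgn i ^ ((2 * μ) / bdim i))))) := by
  obtain ⟨h, hh, hc, hcase⟩ := half_dim hi
  rw [hc, two_mod, two_mod, two_div, two_div]
  have hμe := Nat.div_add_mod μ h
  have hde := Nat.div_add_mod d h
  have hswap : ∀ E e, 1 ≤ e → E + 1 = d / h → ¬ ε = bsgn i ^ (d / h) → ¬ τ = bsgn i ^ e →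
      τ = ε * bsgn i ^ E * bsgn i ^ (e - 1) := by
    intro E e he hE hg hz
    obtain ⟨e', rfl⟩ : ∃ e', e = e' + 1 := ⟨e - 1, by omega⟩
    rw [← hE] at hg
    simp only [pow_succ, Nat.add_sub_cancel] at hg hz ⊢
    have hb : bsgn i = 1 ∨ bsgn i = -1 := by unfold bsgn; split_ifs <;> simp
    rcases hb with hb | hb <;> rw [hb] at hg hz ⊢ <;> rcases hε with rfl | rfl <;> rcases hτ with rfl | rfl <;>
      rcases Nat.even_or_odd E with h1 | h1 <;> rcases Nat.even_or_odd e' with h2 | h2 <;>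
      simp_all [h1.neg_one_pow, h2.neg_one_pow]
  have key := OrthArith.even_even_iff (h := h) (N := d / h) (e₀ := d % h) (M := μ / h) (l := μ % h)
    (Nat.mod_lt _ hh) (Nat.mod_lt _ hh) (by omega) (by omega) (good := fun E => ε = bsgn i ^ E)
    (zero := fun e => τ = bsgn i ^ e) (full := fun E e => τ = ε * bsgn i ^ E * bsgn i ^ e) hswap
  rw [hμe, hde] at key
  constructor
  · intro hall
    rcases key.1 (fun E hE1 hE hg => by
      obtain ⟨e, he, h1, h2, h3, h4⟩ := hall E ⟨hE1, by rw [mul_assoc]; omega,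
        fun h' => hg (by rw [mul_assoc] at h'; omega)⟩
      simp only [mul_assoc] at h1 h2 h3 h4
      exact ⟨e, he, by omega, by omega, fun h' => h3 (by omega), fun h' => by
        simpa [mul_assoc] using h4 (by omega)⟩) with ⟨h1, h2⟩ | ⟨h1, h2⟩
    · exact Or.inl ⟨by omega, h2⟩
    · exact Or.inr ⟨h1.imp (fun h => by omega) id, h2.imp (fun h => by omega) fun h => ⟨by omega, h.2⟩⟩
  · intro hyp E hA
    obtain ⟨hE1, hE, hgood⟩ := hA
    obtain ⟨e, he, he1, he2, he3, he4⟩ := key.2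
      (hyp.imp (fun h => ⟨by omega, h.2⟩) fun h =>
        ⟨h.1.imp (fun h => by omega) id, h.2.imp (fun h => by omega) fun h => ⟨by omega, h.2⟩⟩)
      E hE1 (by rw [mul_assoc] at hE; omega) (fun h' => hgood (by rw [mul_assoc]; omega))
    refine ⟨e, he, ?_, ?_, fun h' => he3 ?_, fun h' => he4 ?_⟩
    all_goals (simp only [mul_assoc] at *; omega)

/-- Odd `m`, even dimension. -/
theorem odd_dim {i d μ : ℕ} (hi : 0 < i) (hμd : μ < d) (ε : ℤ) :
    (∀ E, Adm (bdim i) (bsgn i) (2 * d) ε E → OddOk (bdim i) (2 * d) (2 * μ + 1) E) ↔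
      (((2 * d) % bdim i = 0 ∧ ε ≠ bsgn i ^ ((2 * d) / bdim i)) ∨
        (2 * μ + 1) % bdim i < (2 * d) % bdim i) := by
  obtain ⟨h, hh, hc, -⟩ := half_dim hi
  rw [hc, two_mod, two_succ_mod μ h hh, two_div]
  have hμe := Nat.div_add_mod μ h
  have hde := Nat.div_add_mod d h
  have key := OrthArith.odd_iff (h := h) (N := d / h) (e₀ := d % h) (M := μ / h) (l := μ % h)
    (Nat.mod_lt _ hh) (Nat.mod_lt _ hh) (by omega) (good := fun E => ε = bsgn i ^ E)
  rw [hμe, hde] at key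
  constructor
  · intro hall
    rcases key.1 (fun E hE1 hE hg => by
      obtain ⟨e, he, h1, h2⟩ := hall E ⟨hE1, by rw [mul_assoc]; omega,
        fun h' => hg (by rw [mul_assoc] at h'; omega)⟩
      simp only [mul_assoc] at h1 h2
      exact ⟨e, he, by omega, by omega⟩) with ⟨h1, h2⟩ | h1
    · exact Or.inl ⟨by omega, h2⟩
    · exact Or.inr (by omega)
  · intro hyp E hA
    obtain ⟨hE1, hE, hgood⟩ := hA
    obtain ⟨e, he, he1, he2⟩ := key.2
      (hyp.imp (fun h => ⟨by omega, h.2⟩) fun h => by omega)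
      E hE1 (by rw [mul_assoc] at hE; omega) (fun h' => hgood (by rw [mul_assoc]; omega))
    refine ⟨e, he, ?_, ?_⟩
    all_goals (simp only [mul_assoc] at *; omega)

end Cfsg.Agent.Elusive.OrthBridge
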