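import Cfsg.Agent.Lib.Elusive.OrthSub

/-!
The number of totally singular subspaces of a given dimension, below the maximal hyperbolic one, is `1` modulo the
characteristic.
-/

set_option autoImplicit false
set_option linter.unusedSectionVars false

namespace Cfsg.Agent.Elusive.OrthCount

open Module
open OrthType

universe u

variable {F : Type u} [Field F] [Fintype F] {V : Type u} [AddCommGroup V] [Module F V] [FiniteDimensional F V]
  {Q : QuadraticForm F V}

/-- A hyperbolic partner. -/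
theorem exists_pair (hQ : Sep Q) {z : V} (hz : z ≠ 0) (hz0 : Q z = 0) :
    ∃ y : V, Q y = 0 ∧ QuadraticMap.polar ⇑Q z y = 1 := by
  obtain ⟨y, hy⟩ : ∃ y, QuadraticMap.polar ⇑Q z y ≠ 0 := by
    by_contra! h
    exact hz (hQ z h)
  obtain ⟨y₁, h1⟩ : ∃ y₁, QuadraticMap.polar ⇑Q z y₁ = 1 := ⟨(QuadraticMap.polar ⇑Q z y)⁻¹ • y, by
    rw [QuadraticMap.polar_smul_right, smul_eq_mul, inv_mul_cancel₀ hy]⟩
  have hzz : QuadraticMap.polar ⇑Q z z = 0 := by rw [QuadraticMap.polar_self, hz0, smul_zero]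
  refine ⟨y₁ + (-Q y₁) • z, ?_, ?_⟩
  · rw [Forms.quadratic_map_add, QuadraticMap.polarBilin_apply_apply, QuadraticMap.polar_smul_right,
      QuadraticMap.polar_comm ⇑Q y₁ z, h1, QuadraticMap.map_smul, hz0]
    simp
  · rw [QuadraticMap.polar_add_right, QuadraticMap.polar_smul_right, hzz, h1, smul_zero, add_zero]

/-- Coordinates with respect to a hyperbolic pair. -/
theorem pair_coords (hQ : Sep Q) {z y : V} (hz0 : Q z = 0) (hy0 : Q y = 0)
    (hzy : QuadraticMap.polar ⇑Q z y = 1) :
    ∃ O : Submodule F V, Nd Q O ∧ finrank F V = finrank F O + 2 ∧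
      (∀ o ∈ O, QuadraticMap.polar ⇑Q z o = 0 ∧ QuadraticMap.polar ⇑Q y o = 0) ∧
      ∃ e : (F × F × O) ≃ₗ[F] V, (∀ p, e p = p.1 • z + p.2.1 • y + p.2.2) ∧
        ∀ p, Q (e p) = p.1 * p.2.1 + Q p.2.2 := by
  have hzz : QuadraticMap.polar ⇑Q z z = 0 := by rw [QuadraticMap.polar_self, hz0, smul_zero]
  have hyy : QuadraticMap.polar ⇑Q y y = 0 := by rw [QuadraticMap.polar_self, hy0, smul_zero]
  have hyz : QuadraticMap.polar ⇑Q y z = 1 := by rw [QuadraticMap.polar_comm]; exact hzy
  let O : Submodule F V :=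
    LinearMap.ker (QuadraticMap.polarBilin Q z) ⊓ LinearMap.ker (QuadraticMap.polarBilin Q y)
  have hO : ∀ o ∈ O, QuadraticMap.polar ⇑Q z o = 0 ∧ QuadraticMap.polar ⇑Q y o = 0 := fun o ho => ⟨ho.1, ho.2⟩
  let L : (F × F × O) →ₗ[F] V :=
    (LinearMap.toSpanSingleton F V z).comp (LinearMap.fst F F (F × O)) +
      ((LinearMap.toSpanSingleton F V y).comp ((LinearMap.fst F F O).comp (LinearMap.snd F F (F × O))) +
        O.subtype.comp ((LinearMap.snd F F O).comp (LinearMap.snd F F (F × O))))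
  have hL : ∀ p, L p = p.1 • z + p.2.1 • y + p.2.2 := fun p => by simp [L, add_assoc]
  have hpz : ∀ p, QuadraticMap.polar ⇑Q z (L p) = p.2.1 := fun p => by
    rw [hL, QuadraticMap.polar_add_right, QuadraticMap.polar_add_right, QuadraticMap.polar_smul_right,
      QuadraticMap.polar_smul_right, hzz, hzy, (hO _ p.2.2.2).1]
    simp
  have hpy : ∀ p, QuadraticMap.polar ⇑Q y (L p) = p.1 := fun p => by
    rw [hL, QuadraticMap.polar_add_right, QuadraticMap.polar_add_right, QuadraticMap.polar_smul_right,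
      QuadraticMap.polar_smul_right, hyy, hyz, (hO _ p.2.2.2).2]
    simp
  have hbij : Function.Bijective L := by
    refine ⟨fun p p' h => ?_, fun v => ?_⟩
    · have h1 : p.1 = p'.1 := by rw [← hpy, h, hpy]
      have h2 : p.2.1 = p'.2.1 := by rw [← hpz, h, hpz]
      rw [hL, hL, h1, h2, add_right_inj] at h
      exact Prod.ext h1 (Prod.ext h2 (Subtype.ext h))
    · refine ⟨(QuadraticMap.polar ⇑Q y v, QuadraticMap.polar ⇑Q z v,
        ⟨v - (QuadraticMap.polar ⇑Q y v • z + QuadraticMap.polar ⇑Q z v • y), ?_, ?_⟩), ?_⟩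
      · show QuadraticMap.polar ⇑Q z _ = 0
        rw [QuadraticMap.polar_sub_right, QuadraticMap.polar_add_right, QuadraticMap.polar_smul_right,
          QuadraticMap.polar_smul_right, hzz, hzy]
        simp
      · show QuadraticMap.polar ⇑Q y _ = 0
        rw [QuadraticMap.polar_sub_right, QuadraticMap.polar_add_right, QuadraticMap.polar_smul_right,
          QuadraticMap.polar_smul_right, hyy, hyz]
        simp
      · rw [hL]
        exact add_sub_cancel _ _
  let e := LinearEquiv.ofBijective L hbij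
  refine ⟨O, ?_, ?_, hO, e, hL, fun p => ?_⟩
  · intro x hx hall
    refine hQ x fun v => ?_
    obtain ⟨p, rfl⟩ := hbij.2 v
    rw [hL, QuadraticMap.polar_add_right, QuadraticMap.polar_add_right, QuadraticMap.polar_smul_right,
      QuadraticMap.polar_smul_right, QuadraticMap.polar_comm ⇑Q x z, QuadraticMap.polar_comm ⇑Q x y,
      (hO x hx).1, (hO x hx).2, hall _ p.2.2.2]
    simp
  · rw [← e.finrank_eq, Module.finrank_prod, Module.finrank_prod, Module.finrank_self]
    omega
  · show Q (L p) = _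
    rw [hL, Q_add_orth (by
      rw [QuadraticMap.polar_add_left, QuadraticMap.polar_smul_left, QuadraticMap.polar_smul_left,
        (hO _ p.2.2.2).1, (hO _ p.2.2.2).2]
      simp), Forms.quadratic_map_add, QuadraticMap.polarBilin_apply_apply, QuadraticMap.polar_smul_left,
      QuadraticMap.polar_smul_right, hzy, QuadraticMap.map_smul, QuadraticMap.map_smul, hz0, hy0]
    simp

variable {p : ℕ} [Fact p.Prime] [CharP F p]

include p in
theorem dvd_card_field : p ∣ Fintype.card F :=
  (CharP.cast_eq_zero_iff F p _).1 (FiniteField.cast_card_eq_zero F)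

include p in
/-- In dimension at least three, `p` divides the number of singular vectors. -/
theorem dvd_zeros (hQ : Sep Q) (hodd : Odd (finrank F V) → (2 : F) ≠ 0) (h3 : 3 ≤ finrank F V) :
    p ∣ Nat.card {v : V // Q v = 0} := by
  classical
  obtain ⟨U, hU, hUd⟩ := exists_ts hQ hodd (j := 1) (by unfold widx; split_ifs <;> omega)
  obtain ⟨z, hzU, hz⟩ := Submodule.exists_mem_ne_zero_of_ne_bot (p := U) fun e => by
    rw [e, finrank_bot] at hUd; omega
  obtain ⟨y, hy0, hzy⟩ := exists_pair hQ hz (hU z hzU)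
  obtain ⟨O, -, hd, -, e, -, hQe⟩ := pair_coords hQ (hU z hzU) hy0 hzy
  have : Finite V := Module.finite_of_finite F
  have h1 : Nat.card {v : V // Q v = 0} = Nat.card {t : F × F × O // t.1 * t.2.1 + Q t.2.2 = 0} :=
    (Nat.card_congr (e.toEquiv.subtypeEquiv fun t => by simp [hQe])).symm
  rw [h1, ← Nat.card_congr (Equiv.sumCompl fun t : {t : F × F × O // t.1 * t.2.1 + Q t.2.2 = 0} => t.1.1 = 0),
    Nat.card_sum]
  refine dvd_add ?_ ?_
  · have e1 : {t : {t : F × F × O // t.1 * t.2.1 + Q t.2.2 = 0} // t.1.1 = 0} ≃ F × {o : O // Q o = 0} :=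
      { toFun := fun t => (t.1.1.2.1, ⟨t.1.1.2.2, by simpa [t.2] using t.1.2⟩)
        invFun := fun t => ⟨⟨(0, t.1, t.2.1), by simp [t.2.2]⟩, rfl⟩
        left_inv := fun t => Subtype.ext (Subtype.ext (Prod.ext t.2.symm rfl))
        right_inv := fun t => rfl }
    rw [Nat.card_congr e1, Nat.card_prod, Nat.card_eq_fintype_card]
    exact dvd_mul_of_dvd_left (dvd_card_field (p := p)) _
  · have e2 : {t : {t : F × F × O // t.1 * t.2.1 + Q t.2.2 = 0} // ¬ t.1.1 = 0} ≃ {a : F // a ≠ 0} × O :=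
      { toFun := fun t => (⟨t.1.1.1, t.2⟩, t.1.1.2.2)
        invFun := fun t => ⟨⟨(t.1.1, -Q t.2 / t.1.1, t.2), by field_simp [t.1.2]; ring⟩, t.1.2⟩
        left_inv := fun t => by
          refine Subtype.ext (Subtype.ext (Prod.ext rfl (Prod.ext ?_ rfl)))
          have h := t.1.2
          show -Q t.1.1.2.2 / t.1.1.1 = t.1.1.2.1
          rw [div_eq_iff t.2]
          linear_combination -h
        right_inv := fun t => rfl }
    rw [Nat.card_congr e2, Nat.card_prod, Module.natCard_eq_pow_finrank (K := F) (V := O), Nat.card_eq_fintype_card]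
    have hO0 : finrank F O ≠ 0 := by omega
    rw [Nat.card_eq_fintype_card (α := F)]
    exact dvd_mul_of_dvd_right (dvd_pow (dvd_card_field (F := F) (p := p)) hO0) _

/-- Totally singular subspaces of dimension `m`. -/
abbrev TS (Q : QuadraticForm F V) (m : ℕ) : Type u :=
  {W : Submodule F V // finrank F W = m ∧ ∀ w ∈ W, Q w = 0}

theorem card_containing {z : V} (hz : z ≠ 0) (hz0 : Q z = 0) (hQ : Sep Q) (m : ℕ) :
    ∃ O : Submodule F V, Nd Q O ∧ finrank F V = finrank F O + 2 ∧
      Nat.card {W : TS Q (m + 1) // z ∈ W.1} = Nat.card (TS (res Q O) m) := by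
  obtain ⟨y, hy0, hzy⟩ := exists_pair hQ hz hz0
  obtain ⟨O, hO, hd, hor, e, he, -⟩ := pair_coords hQ hz0 hy0 hzy
  have hzO : ∀ s : F, s • z ∈ O → s = 0 := fun s hs => by
    have h := (hor _ hs).2
    rw [QuadraticMap.polar_smul_right, QuadraticMap.polar_comm, hzy] at h
    simpa using h
  have hdecomp : ∀ W : Submodule F V, (∀ w ∈ W, Q w = 0) → z ∈ W → ∀ w ∈ W,
      ∃ s : F, ∃ o ∈ O, o ∈ W ∧ w = s • z + o := by
    intro W hW hzW w hw
    obtain ⟨⟨a, b, o⟩, rfl⟩ := e.surjective w
    have hb : b = 0 := by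
      have h : QuadraticMap.polar ⇑Q z (e (a, b, o)) = 0 := by
        simp [QuadraticMap.polar, hW _ (W.add_mem hzW hw), hW _ hw, hz0]
      rw [he, QuadraticMap.polar_add_right, QuadraticMap.polar_add_right, QuadraticMap.polar_smul_right,
        QuadraticMap.polar_smul_right, QuadraticMap.polar_self, hz0, hzy, (hor _ o.2).1] at h
      simpa using h
    have hwo : e (a, b, o) = a • z + (o : V) := by rw [he, hb]; simp
    refine ⟨a, o, o.2, ?_, hwo⟩
    have := W.sub_mem hw (W.smul_mem a hzW)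
    rwa [hwo, add_sub_cancel_left] at this
  have hmk : ∀ U : TS (res Q O) m,
      finrank F ↥(F ∙ z ⊔ U.1.map O.subtype) = m + 1 ∧ ∀ w ∈ F ∙ z ⊔ U.1.map O.subtype, Q w = 0 := by
    intro U
    constructor
    · have hdis : Disjoint (F ∙ z) (U.1.map O.subtype) := by
        rw [Submodule.disjoint_def]
        intro x hx hx'
        obtain ⟨s, rfl⟩ := Submodule.mem_span_singleton.1 hx
        rw [hzO s (Submodule.map_subtype_le _ _ hx'), zero_smul]
      rw [finrank_sup_of_disjoint hdis, finrank_span_singleton hz, Submodule.finrank_map_subtype_eq, U.2.1,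
        add_comm]
    · intro w hw
      obtain ⟨a, ha, b, hb, rfl⟩ := Submodule.mem_sup.1 hw
      obtain ⟨s, rfl⟩ := Submodule.mem_span_singleton.1 ha
      obtain ⟨o, ho, rfl⟩ := hb
      rw [Q_add_orth (by rw [QuadraticMap.polar_smul_left]; simp [(hor _ o.2).1]), QuadraticMap.map_smul, hz0,
        smul_zero, zero_add]
      exact U.2.2 o ho
  have hsupeq : ∀ W : Submodule F V, (∀ w ∈ W, Q w = 0) → z ∈ W →
      F ∙ z ⊔ (W.comap O.subtype).map O.subtype = W := by
    intro W hW hzW
    refine le_antisymm (sup_le ((Submodule.span_singleton_le_iff_mem _ _).2 hzW) (Submodule.map_comap_le _ _)) ?_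
    intro w hw
    obtain ⟨s, o, hoO, hoW, rfl⟩ := hdecomp W hW hzW w hw
    exact Submodule.add_mem_sup (Submodule.smul_mem _ _ (Submodule.mem_span_singleton_self z))
      ⟨⟨o, hoO⟩, hoW, rfl⟩
  refine ⟨O, hO, hd, Nat.card_congr
    { toFun := fun W => ⟨W.1.1.comap O.subtype, ?_, fun o ho => W.1.2.2 _ ho⟩
      invFun := fun U => ⟨⟨_, hmk U⟩, Submodule.mem_sup_left (Submodule.mem_span_singleton_self z)⟩
      left_inv := fun W => Subtype.ext (Subtype.ext (hsupeq W.1.1 W.1.2.2 W.2))
      right_inv := fun U => ?_ }⟩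
  · have hdis : Disjoint (F ∙ z) ((W.1.1.comap O.subtype).map O.subtype) := by
      rw [Submodule.disjoint_def]
      intro x hx hx'
      obtain ⟨s, rfl⟩ := Submodule.mem_span_singleton.1 hx
      rw [hzO s (Submodule.map_subtype_le _ _ hx'), zero_smul]
    have h := finrank_sup_of_disjoint hdis
    rw [hsupeq W.1.1 W.1.2.2 W.2, finrank_span_singleton hz, Submodule.finrank_map_subtype_eq, W.1.2.1] at h
    omega
  · refine Subtype.ext (Submodule.ext fun o => ⟨fun ho => ?_, fun ho => ?_⟩)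
    · obtain ⟨a, ha, b, hb, hab⟩ := Submodule.mem_sup.1 (Submodule.mem_comap.1 ho)
      obtain ⟨s, rfl⟩ := Submodule.mem_span_singleton.1 ha
      obtain ⟨u, hu, rfl⟩ := hb
      have hs : s • z ∈ O := by
        have : s • z = (o : V) - u := eq_sub_of_add_eq hab
        rw [this]
        exact O.sub_mem o.2 u.2
      rw [hzO s hs, zero_smul, zero_add] at hab
      rwa [← Subtype.ext hab]
    · exact Submodule.mem_comap.2 (Submodule.mem_sup_right ⟨o, ho, rfl⟩)

include p in
theorem card_ts_modEq : ∀ (m : ℕ) (V : Type u) [AddCommGroup V] [Module F V] [FiniteDimensional F V]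
    (Q : QuadraticForm F V), Sep Q → (Odd (finrank F V) → (2 : F) ≠ 0) → 2 * m < finrank F V →
    ((Nat.card (TS Q m) : ℕ) : ZMod p) = 1 := by
  classical
  intro m
  induction m with
  | zero =>
    intro V _ _ _ Q _ _ _
    have : Unique (TS Q 0) :=
      { default := ⟨⊥, by simp, fun w hw => by rw [(Submodule.mem_bot F).1 hw, QuadraticMap.map_zero]⟩
        uniq := fun W => Subtype.ext (Submodule.finrank_eq_zero.1 W.2.1) }
    rw [Nat.card_unique, Nat.cast_one]
  | succ m ih =>
    intro V _ _ _ Q hQ hodd hlt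
    have : Finite V := Module.finite_of_finite F
    let Z := {z : V // Q z = 0 ∧ z ≠ 0}
    letI : Fintype Z := Fintype.ofFinite Z
    letI : Fintype (TS Q (m + 1)) := Fintype.ofFinite _
    have hcols : ∀ z : Z, ((Nat.card {W : TS Q (m + 1) // z.1 ∈ W.1} : ℕ) : ZMod p) = 1 := fun z => by
      obtain ⟨O, hO, hd, hc⟩ := card_containing z.2.2 z.2.1 hQ m
      rw [hc]
      refine ih O (res Q O) (nd_iff.1 hO) (fun ho => hodd ?_) (by omega)
      rw [hd]
      exact ho.add_even even_two
    have hrows : ∀ W : TS Q (m + 1), ((Nat.card {z : Z // z.1 ∈ W.1} : ℕ) : ZMod p) = -1 := fun W => by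
      have e : {z : Z // z.1 ∈ W.1} ≃ {w : W.1 // w ≠ 0} :=
        { toFun := fun z => ⟨⟨z.1.1, z.2⟩, fun h => z.1.2.2 (congrArg Subtype.val h)⟩
          invFun := fun w => ⟨⟨w.1.1, W.2.2 _ w.1.2, fun h => w.2 (Subtype.ext h)⟩, w.1.2⟩
          left_inv := fun z => rfl
          right_inv := fun w => rfl }
      have hW : Nat.card {w : W.1 // w ≠ 0} + 1 = Fintype.card F ^ (m + 1) := by
        rw [← Nat.card_congr (Equiv.sumCompl fun w : W.1 => w ≠ 0) |>.trans
          (by rw [Module.natCard_eq_pow_finrank (K := F) (V := W.1), W.2.1, Nat.card_eq_fintype_card] :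
            Nat.card W.1 = Fintype.card F ^ (m + 1)), Nat.card_sum]
        have : Unique {w : W.1 // ¬ w ≠ 0} :=
          { default := ⟨0, fun h => h rfl⟩, uniq := fun w => Subtype.ext (not_not.1 w.2) }
        rw [Nat.card_unique (α := {w : W.1 // ¬ w ≠ 0})]
      rw [Nat.card_congr e, eq_neg_iff_add_eq_zero, ← Nat.cast_add_one, hW]
      exact (ZMod.natCast_eq_zero_iff _ _).2 (dvd_pow (dvd_card_field (p := p)) (by omega))
    have hdouble : Nat.card (Σ z : Z, {W : TS Q (m + 1) // z.1 ∈ W.1}) =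
        Nat.card (Σ W : TS Q (m + 1), {z : Z // z.1 ∈ W.1}) :=
      Nat.card_congr
        { toFun := fun s => ⟨s.2.1, s.1, s.2.2⟩
          invFun := fun s => ⟨s.2.1, s.1, s.2.2⟩
          left_inv := fun s => rfl
          right_inv := fun s => rfl }
    have hZ : ((Nat.card Z : ℕ) : ZMod p) = -1 := by
      have hz : Nat.card Z + 1 = Nat.card {v : V // Q v = 0} := by
        rw [← Nat.card_congr (Equiv.sumCompl fun v : {v : V // Q v = 0} => v.1 ≠ 0), Nat.card_sum]
        have : Unique {v : {v : V // Q v = 0} // ¬ v.1 ≠ 0} :=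
          { default := ⟨⟨0, QuadraticMap.map_zero _⟩, fun h => h rfl⟩
            uniq := fun v => Subtype.ext (Subtype.ext (not_not.1 v.2)) }
        rw [Nat.card_unique (α := {v : {v : V // Q v = 0} // ¬ v.1 ≠ 0}),
          Nat.card_congr (Equiv.subtypeSubtypeEquivSubtypeInter (fun v => Q v = 0) fun v => v ≠ 0)]
      rw [eq_neg_iff_add_eq_zero, ← Nat.cast_add_one, hz]
      exact (ZMod.natCast_eq_zero_iff _ _).2 (dvd_zeros hQ hodd (by omega))
    rw [Nat.card_sigma, Nat.card_sigma] at hdouble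
    have h := congrArg (fun k : ℕ => (k : ZMod p)) hdouble
    simp only [Nat.cast_sum, hcols, hrows, Finset.sum_const, nsmul_eq_mul, mul_one, mul_neg] at h
    rw [Finset.card_univ, Finset.card_univ, ← Nat.card_eq_fintype_card, ← Nat.card_eq_fintype_card, hZ] at h
    exact (neg_injective h).symm

include p in
theorem not_dvd_card_ts (hQ : Sep Q) (hodd : Odd (finrank F V) → (2 : F) ≠ 0) {m : ℕ}
    (hm : 2 * m < finrank F V) : ¬ p ∣ Nat.card (TS Q m) := fun h => by
  have h1 := card_ts_modEq (p := p) m V Q hQ hodd hm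
  rw [(ZMod.natCast_eq_zero_iff _ _).2 h] at h1
  exact zero_ne_one h1

end Cfsg.Agent.Elusive.OrthCount
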