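import Cfsg.Agent.Lib.Elusive.OrthGroup

/-!
Numerical criteria: every element of odd prime order fixes a totally singular or non-degenerate subspace of given
dimension and type.
-/

set_option autoImplicit false
set_option linter.unusedSectionVars false

namespace Cfsg.Agent.Elusive.OrthCriteria

open Module
open Semisimple (RootField Orb orbMult negOrb)
open OrthType OrthModel OrthPrime OrthGroup

universe u

variable {F : Type u} [Field F] [Fintype F] {r : ℕ} [Fact r.Prime]

local notation "i₀" => orderOf (Fintype.card F : ZMod r)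

/-- The number of blocks `E` an element of order `r` may move in a space of dimension `n` and sign `ε`. -/
def Adm (c : ℕ) (η : ℤ) (n : ℕ) (ε : ℤ) (E : ℕ) : Prop := 1 ≤ E ∧ c * E ≤ n ∧ (c * E = n → ε = η ^ E)

/-- The least possible `lmax` for `E` blocks, `t` orbits. -/
def lmin (i t E : ℕ) : ℕ := if Even i then (E - t + 1) / 2 else E

/-- A totally singular invariant `m`-space exists. -/
def SingOk (i c t : ℕ) (η : ℤ) (n : ℕ) (ε : ℤ) (m E : ℕ) : Prop :=
  ∃ l ≤ lmin i t E, i * l ≤ m ∧ m - i * l ≤ widx (n - c * E) (ε * η ^ E)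

/-- An invariant non-degenerate `m`-space of sign `τ` exists, `m` even. -/
def EvenOk (c : ℕ) (η : ℤ) (n : ℕ) (ε : ℤ) (m : ℕ) (τ : ℤ) (E : ℕ) : Prop :=
  ∃ e ≤ E, c * e ≤ m ∧ m - c * e ≤ n - c * E ∧ (m = c * e → τ = η ^ e) ∧
    (m - c * e = n - c * E → τ = ε * η ^ E * η ^ e)

/-- An invariant non-degenerate `m`-space of a given class exists, `m` odd, `n` even. -/
def OddOk (c n m E : ℕ) : Prop := ∃ e ≤ E, c * e ≤ m ∧ m - c * e < n - c * E

variable {K : Type} [Field K] [Algebra F K] [Finite K] {ζ : K}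
  {ι : Type} [Fintype ι] [DecidableEq ι] {Q : QuadraticForm F (ι → F)}

variable (hK : RootField F r K ζ) (hQ : Sep Q) (hr2 : r ≠ 2)
include hK

/-- Elements with prescribed multiplicities. -/
theorem exists_isometry (hr2 : r ≠ 2) (hQ : Sep Q) (hodd : Odd (Fintype.card ι) → (2 : F) ≠ 0)
    {a : Orb F r → ℕ} (ha : Symm a) (hA : Adm (blk F r) (eta F r) (Fintype.card ι) (sgn Q) (tot a)) :
    ∃ f : End F (ι → F), (∀ v, Q (f v) = Q v) ∧ f ^ r = 1 ∧ f ≠ 1 ∧ (orbMult ζ f : Orb F r → ℕ) = a := by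
  classical
  obtain ⟨h1, hle, heq⟩ := hA
  obtain ⟨R, g, hR, hg, hgr, -, hga, hs, -⟩ := OrthModel.exists_model hK hr2 ha
  have hbt := blk_tot hK hr2 ha
  have hNe : Even (i₀ * ∑ c, a c) := by rw [← hbt]; exact (SympDecomp.even_blockDim _ _).mul_right _
  obtain ⟨k, R', c, hc, e, he⟩ : ∃ (k : ℕ) (R' : QuadraticForm F (Fin k → F)) (c : F), c ≠ 0 ∧
      Iso (c • R.prod R') Q := by
    rcases Nat.even_or_odd (Fintype.card ι) with ⟨M, hM⟩ | ⟨M, hM⟩
    · obtain ⟨A, hA'⟩ := hNe
      obtain ⟨R', hR', hR's⟩ := OrthType.exists_model (F := F) (M - A) (τ := sgn Q * eta F r ^ tot a)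
        (by
          rcases sgn_eq_or Q with h | h <;> rcases eta_eq_or (F := F) (r := r) with h' | h' <;>
            rcases Nat.even_or_odd (tot a) with h'' | h'' <;> simp [h, h', h''.neg_one_pow])
        (fun h => by
          rw [heq (by omega), ← mul_pow]
          rcases eta_eq_or (F := F) (r := r) with h' | h' <;> simp [h'])
      refine ⟨_, R', 1, one_ne_zero, ?_⟩
      rw [one_smul]
      refine iso_of_sgn (sep_prod hR hR') hQ (M := M) (by simp; omega)
        (by rw [Module.finrank_fintype_fun_eq_card]; omega) ?_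
      rw [sgn_prod hR hR' (A := A) (B := M - A) (by rw [Module.finrank_fin_fun]; omega) (by simp), hs, hR's,
        mul_left_comm, ← mul_pow]
      rcases eta_eq_or (F := F) (r := r) with h' | h' <;> simp [h']
    · have h2 := hodd ⟨M, hM⟩
      obtain ⟨A, hA'⟩ := hNe
      let e : (Fin (2 * (M - A) + 1) → F) ≃ₗ[F] (Unit ⊕ (Fin (M - A) ⊕ Fin (M - A)) → F) :=
        LinearEquiv.ofFinrankEq _ _ (by simp; omega)
      let R' := (Forms.quadOdd (M - A) F).comp e.toLinearMap
      have hR' : Sep R' := (show Iso (Forms.quadOdd (M - A) F) R' from ⟨e.symm, fun x => by simp [R']⟩).sep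
        (sep_iff.2 (Forms.quadOdd_nondegenerate h2 _))
      obtain ⟨c, hc, h⟩ := exists_iso_smul h2 hQ (sep_prod hR hR') (M := M)
        (by rw [Module.finrank_fintype_fun_eq_card]; omega) (by simp; omega)
      exact ⟨_, R', c, hc, h⟩
  refine ⟨e.conj (g.prodMap 1), fun x => ?_, ?_, fun hf1 => ?_, ?_⟩
  · obtain ⟨y, rfl⟩ := e.surjective x
    rw [LinearEquiv.conj_apply_apply, LinearEquiv.symm_apply_apply, he, he]
    simp [hg]
  · show (e.conjRingEquiv (g.prodMap 1)) ^ r = 1
    rw [← map_pow, Semisimple.prodMap_pow, hgr, one_pow, Semisimple.prodMap_one_one, map_one]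
  · have hm : (orbMult ζ (e.conj (g.prodMap (1 : End F (Fin k → F)))) : Orb F r → ℕ) = 0 := by
      rw [hf1, hK.orbMult_one]
    rw [RootField.orbMult_conj, hK.orbMult_prodMap, hK.orbMult_one, add_zero, hga] at hm
    rw [hm] at h1
    unfold tot at h1
    split_ifs at h1 <;> simp at h1
  · rw [RootField.orbMult_conj, hK.orbMult_prodMap, hK.orbMult_one, add_zero, hga]

include hQ hr2

theorem adm_of_isometry {f : End F (ι → F)} (hf : ∀ v, Q (f v) = Q v) (hpow : f ^ r = 1) (hf1 : f ≠ 1) :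
    Adm (blk F r) (eta F r) (Fintype.card ι) (sgn Q) (tot (orbMult ζ f : Orb F r → ℕ)) := by
  have hs := symm_orbMult hQ hf hK hpow
  have hsplit := finrank_split hQ hf hK hpow hr2
  rw [Module.finrank_fintype_fun_eq_card] at hsplit
  refine ⟨Nat.pos_of_ne_zero fun h => hf1 (hK.eq_one_of_orbMult f hpow ?_), by omega, fun he => ?_⟩
  · have h' := blk_tot hK hr2 hs
    rw [h, mul_zero] at h'
    have := i_pos hK
    funext c
    exact Finset.sum_eq_zero_iff.1 ((Nat.mul_eq_zero.1 h'.symm).resolve_left (by omega)) c (Finset.mem_univ c)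
  · have h0 : fixS f = ⊥ := Submodule.finrank_eq_zero.1 (by omega)
    have hev : Even (finrank F (ι → F)) := by
      rw [Module.finrank_fintype_fun_eq_card, ← he]
      exact (SympDecomp.even_blockDim _ _).mul_right _
    rw [sgn_split hQ hf hK hpow hr2 hev, h0, sgn_bot, one_mul]

omit hQ hr2 in
theorem card_orb_eq : Fintype.card (Orb F r) = (r - 1) / i₀ := by
  exact hK.card_orb (Nat.div_mul_cancel (ZMod.orderOf_dvd_card_sub_one hK.card_ne_zero))

omit hQ hr2 in
theorem sgn_fix_eq {f : End F (ι → F)} (hQ : Sep Q) (hr2 : r ≠ 2) (hf : ∀ v, Q (f v) = Q v) (hpow : f ^ r = 1)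
    (hev : Even (Fintype.card ι)) :
    sgn (res Q (fixS f)) = sgn Q * eta F r ^ tot (orbMult ζ f : Orb F r → ℕ) := by
  rw [sgn_split hQ hf hK hpow hr2 (by rw [Module.finrank_fintype_fun_eq_card]; exact hev), mul_assoc, ← mul_pow]
  rcases eta_eq_or (F := F) (r := r) with h | h <;> simp [h]

omit hQ hr2 in
theorem widx_fix {f : End F (ι → F)} (hQ : Sep Q) (hr2 : r ≠ 2) (hf : ∀ v, Q (f v) = Q v) (hpow : f ^ r = 1) :
    widx (finrank F (fixS f)) (sgn (res Q (fixS f))) =
      widx (Fintype.card ι - blk F r * tot (orbMult ζ f : Orb F r → ℕ))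
        (sgn Q * eta F r ^ tot (orbMult ζ f : Orb F r → ℕ)) := by
  have hsplit := finrank_split hQ hf hK hpow hr2
  rw [Module.finrank_fintype_fun_eq_card] at hsplit
  rw [show finrank F (fixS f) = Fintype.card ι - blk F r * tot (orbMult ζ f : Orb F r → ℕ) by omega]
  rcases Nat.even_or_odd (Fintype.card ι) with he | ho
  · rw [sgn_fix_eq hK hQ hr2 hf hpow he]
  · have hc : Even (blk F r * tot (orbMult ζ f : Orb F r → ℕ)) := (SympDecomp.even_blockDim _ _).mul_right _
    obtain ⟨a, ha⟩ := hc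
    obtain ⟨b, hb⟩ := ho
    have hodd : (Fintype.card ι - blk F r * tot (orbMult ζ f : Orb F r → ℕ)) % 2 = 1 := by omega
    simp [widx, hodd]

/-! ### Totally singular subspaces -/

/-- The family of totally singular `m`-spaces. -/
def SingP (Q : QuadraticForm F (ι → F)) (m : ℕ) (W : Submodule F (ι → F)) : Prop :=
  finrank F W = m ∧ ∀ w ∈ W, Q w = 0

omit hK hQ hr2 in
theorem singP_iff {m : ℕ} {W : Submodule F (ι → F)} :
    SingP Q m W ↔ Iso (0 : QuadraticForm F (Fin m → F)) (res Q W) := by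
  constructor
  · rintro ⟨hd, h0⟩
    exact ⟨LinearEquiv.ofFinrankEq _ _ (by rw [Module.finrank_fin_fun, hd]), fun x => h0 _ (Subtype.coe_prop _)⟩
  · rintro ⟨e, he⟩
    refine ⟨by rw [← e.finrank_eq, Module.finrank_fin_fun], fun w hw => ?_⟩
    have := he (e.symm ⟨w, hw⟩)
    rwa [e.apply_symm_apply] at this

theorem sing_fix_iff (hodd : Odd (Fintype.card ι) → (2 : F) ≠ 0) {f : End F (ι → F)} (hf : ∀ v, Q (f v) = Q v)
    (hpow : f ^ r = 1) (m : ℕ) :
    (∃ W, SingP Q m W ∧ Inv f W) ↔ ∃ l ≤ lmax (orbMult ζ f : Orb F r → ℕ), i₀ * l ≤ m ∧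
      m - i₀ * l ≤ widx (Fintype.card ι - blk F r * tot (orbMult ζ f : Orb F r → ℕ))
        (sgn Q * eta F r ^ tot (orbMult ζ f : Orb F r → ℕ)) := by
  rw [← widx_fix hK hQ hr2 hf hpow]
  have hC := nd_iff.1 (nd_fix hQ hf hK hpow)
  constructor
  · rintro ⟨W, ⟨hWd, hW0⟩, hW⟩
    obtain ⟨w, hw, hd⟩ := inv_ts hQ hf hK hpow hr2 hW hW0
    refine ⟨w, hw, by omega, ?_⟩
    have h := ts_bound hC (U := (fixS f ⊓ W).comap (fixS f).subtype) fun u hu => hW0 _ hu.2
    rw [(Submodule.comapSubtypeEquivOfLe (inf_le_left : fixS f ⊓ W ≤ fixS f)).finrank_eq] at h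
    omega
  · rintro ⟨l, hl, hlm, hle⟩
    have hodd' : Odd (finrank F (fixS f)) → (2 : F) ≠ 0 := fun ho => hodd (by
      have hsplit := finrank_split hQ hf hK hpow hr2
      rw [Module.finrank_fintype_fun_eq_card] at hsplit
      rw [← hsplit]
      exact ho.add_even ((SympDecomp.even_blockDim _ _).mul_right _))
    obtain ⟨U, hU, hUd⟩ := exists_ts hC hodd' hle
    · obtain ⟨W₁, hW₁M, hW₁, hW₁0, hW₁d⟩ := sub_ts hQ hf hK hpow hr2 hl
      set U' := U.map (fixS f).subtype
      have hU'C : U' ≤ fixS f := Submodule.map_subtype_le _ _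
      refine ⟨U' ⊔ W₁, ⟨?_, fun w hw => ?_⟩, fun w hw => ?_⟩
      · rw [finrank_sup_of_disjoint ((isCompl_fix_mov hK hpow).disjoint.mono hU'C hW₁M), hW₁d,
          Submodule.finrank_map_subtype_eq, hUd]
        omega
      · obtain ⟨a, ha, b, hb, rfl⟩ := Submodule.mem_sup.1 hw
        rw [Q_add_orth (fix_mov_orth hf (hU'C ha) (hW₁M hb)), hW₁0 b hb, add_zero]
        obtain ⟨a, ha', rfl⟩ := ha
        exact hU a ha'
      · obtain ⟨a, ha, b, hb, rfl⟩ := Submodule.mem_sup.1 hw
        rw [map_add, mem_fixS.1 (hU'C ha)]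
        exact Submodule.add_mem_sup ha (hW₁ b hb)

omit hQ in
theorem lmin_le (a : Orb F r → ℕ) : lmin i₀ ((r - 1) / i₀) (tot a) ≤ lmax a := by
  by_cases hi : Even i₀
  · simp only [lmin, lmax, tot, if_pos hi]
    have h : ∑ c, a c ≤ 2 * (∑ c, a c / 2) + Fintype.card (Orb F r) := by
      rw [Finset.mul_sum, Fintype.card_eq_sum_ones, ← Finset.sum_add_distrib]
      exact Finset.sum_le_sum fun c _ => by omega
    rw [card_orb_eq hK] at h
    omega
  · simp only [lmin, lmax, tot, if_neg hi, le_refl]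

omit hQ in
/-- Multiplicities attaining the least `lmax`. -/
theorem exists_worst (E : ℕ) :
    ∃ a : Orb F r → ℕ, Symm a ∧ tot a = E ∧ lmax a = lmin i₀ ((r - 1) / i₀) E := by
  classical
  by_cases hi : Even i₀
  · have hsym : ∀ a : Orb F r → ℕ, Symm a := fun a c => by rw [neg_eq_one hK hr2 hi, mul_one]
    simp only [lmin, lmax, tot, if_pos hi, ← card_orb_eq hK]
    rcases le_or_gt E (Fintype.card (Orb F r)) with h | h
    · obtain ⟨b, hb, hbs⟩ := OrthPrime.exists_le_sum hK (fun _ : Orb F r => 1) E (by simpa using h)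
      refine ⟨b, hsym _, hbs, ?_⟩
      rw [show E - Fintype.card (Orb F r) = 0 by omega, Finset.sum_eq_zero fun c _ => by
        have := hb c; omega]
      rfl
    · refine ⟨fun c => if c = 1 then 1 + (E - Fintype.card (Orb F r)) else 1, hsym _, ?_, ?_⟩
      · rw [Finset.sum_congr rfl (g := fun c => 1 + if c = (1 : Orb F r) then E - Fintype.card (Orb F r) else 0)
          fun c _ => by show (if c = 1 then _ else _) = _; split_ifs <;> rfl, Finset.sum_add_distrib, Finset.sum_ite_eq']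
        simp
        omega
      · rw [Finset.sum_eq_single (1 : Orb F r) (fun c _ hc => by simp [hc]) (fun hh => absurd (Finset.mem_univ _) hh)]
        simp
        omega
  · let b : Orb F r → ℕ := Pi.single 1 E
    have hs : ∑ c, (b c + b (c * negOrb F r)) = 2 * E := by
      rw [Finset.sum_add_distrib, show (∑ c, b (c * negOrb F r)) = ∑ c, b c from
        Equiv.sum_comp (Equiv.mulRight (negOrb F r)) b]
      simp [b]
      ring
    refine ⟨fun c => b c + b (c * negOrb F r), fun c => ?_, ?_, ?_⟩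
    · show b (c * negOrb F r) + b (c * negOrb F r * negOrb F r) = _
      rw [mul_assoc, Semisimple.negOrb_mul_self, mul_one, add_comm]
    · simp only [tot, if_neg hi, hs]
      omega
    · simp only [lmin, lmax, if_neg hi, hs]
      omega

/-- The criterion for totally singular subspaces. -/
theorem sing_allFix_iff (hodd : Odd (Fintype.card ι) → (2 : F) ≠ 0) (m : ℕ) :
    AllFix Q r (SingP Q m) ↔ ∀ E, Adm (blk F r) (eta F r) (Fintype.card ι) (sgn Q) E →
      SingOk i₀ (blk F r) ((r - 1) / i₀) (eta F r) (Fintype.card ι) (sgn Q) m E := by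
  constructor
  · intro h E hE
    obtain ⟨a, ha, htot, hl⟩ := exists_worst (F := F) hK hr2 E
    subst htot
    obtain ⟨f, hf, hpow, hf1, hfa⟩ := exists_isometry hK hr2 hQ hodd ha hE
    obtain ⟨l, hl', h1, h2⟩ := (sing_fix_iff hK hQ hr2 hodd hf hpow m).1 (h f hf hpow hf1)
    rw [hfa] at hl' h2
    exact ⟨l, hl'.trans hl.le, h1, h2⟩
  · intro h f hf hpow hf1
    obtain ⟨l, hl, h1, h2⟩ := h _ (adm_of_isometry hK hQ hr2 hf hpow hf1)
    exact (sing_fix_iff hK hQ hr2 hodd hf hpow m).2 ⟨l, hl.trans (lmin_le hK hr2 _), h1, h2⟩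

/-- When the number of totally singular `m`-spaces is divisible by `r`, only `i ≤ m` is possible. -/
theorem sing_order_le {m : ℕ} (hdvd : r ∣ Nat.card {W : Submodule F (ι → F) // SingP Q m W})
    (hne : ∃ W, SingP Q m W) (hall : AllFix Q r (SingP Q m)) : i₀ ≤ m := by
  by_contra hm
  obtain ⟨f, hf, hpow, hf1, hno⟩ := exists_free (R := (0 : QuadraticForm F (Fin m → F))) hK.unit hQ
    (by rwa [Nat.card_congr (Equiv.subtypeEquivRight fun W => singP_iff.symm)])
    (by obtain ⟨W, hW⟩ := hne; exact ⟨W, singP_iff.1 hW⟩) fun f hf hpow _ A hA hinv => by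
      obtain ⟨hd, h0⟩ := singP_iff.2 hA
      obtain ⟨w, -, hw⟩ := inv_ts hQ hf hK hpow hr2 hinv h0
      have hw0 : w = 0 := by
        by_contra hw0
        have := Nat.le_mul_of_pos_right i₀ (Nat.pos_of_ne_zero hw0)
        omega
      rw [hw0, mul_zero, add_zero] at hw
      have h := Submodule.eq_of_le_of_finrank_eq (inf_le_right : fixS f ⊓ A ≤ A) hw.symm
      rw [← h]
      exact inf_le_left
  obtain ⟨W, hW, hinv⟩ := hall f hf hpow hf1
  exact hno W (singP_iff.1 hW) hinv

/-! ### Non-degenerate subspaces -/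

/-- The family of non-degenerate `m`-spaces of sign `τ`. -/
def EvenP (Q : QuadraticForm F (ι → F)) (m : ℕ) (τ : ℤ) (W : Submodule F (ι → F)) : Prop :=
  finrank F W = m ∧ Nd Q W ∧ sgn (res Q W) = τ

/-- Fixed part and moved part of an invariant non-degenerate space. -/
theorem nd_fix_parts {f : End F (ι → F)} (hf : ∀ v, Q (f v) = Q v) (hpow : f ^ r = 1) {W : Submodule F (ι → F)}
    (hW : Inv f W) (hWn : Nd Q W) :
    ∃ A ≤ fixS f, ∃ B ≤ movS f, Nd Q A ∧ Nd Q B ∧ A ⊔ B = W ∧ finrank F W = finrank F A + finrank F B ∧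
      ∃ e ≤ tot (orbMult ζ f : Orb F r → ℕ),
      finrank F B = blk F r * e ∧ sgn (res Q B) = eta F r ^ e ∧
      (Even (finrank F W) → sgn (res Q W) = sgn (res Q A) * eta F r ^ e) := by
  obtain ⟨A, hA, B, hB, hAn, hBn, hAB, e, he, hBd, hBs⟩ := inv_nd hQ hf hK hpow hr2 hW hWn
  have hd := (isCompl_fix_mov hK hpow).disjoint.mono hA hB
  have hdim : finrank F W = finrank F A + finrank F B := by rw [← hAB, finrank_sup_of_disjoint hd]
  refine ⟨A, hA, B, hB, hAn, hBn, hAB, hdim, e, he, hBd, hBs, fun hev => ?_⟩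
  have hBe : Even (finrank F B) := by rw [hBd]; exact (SympDecomp.even_blockDim _ _).mul_right _
  have hAe : Even (finrank F A) := by rw [hdim, Nat.even_add] at hev; exact hev.2 hBe
  rw [← hAB, sgn_sup hAn hBn hd (fun a ha b hb => fix_mov_orth hf (hA ha) (hB hb)) hAe hBe, hBs]

omit hQ hr2 in
/-- A member built from a fixed and a moved part is invariant. -/
theorem inv_sup {f : End F (ι → F)} {A B : Submodule F (ι → F)} (hA : A ≤ fixS f) (hB : Inv f B) :
    Inv f (A ⊔ B) := fun w hw => by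
  obtain ⟨a, ha, b, hb, rfl⟩ := Submodule.mem_sup.1 hw
  rw [map_add, mem_fixS.1 (hA ha)]
  exact Submodule.add_mem_sup ha (hB b hb)

theorem even_fix_iff (hodd : Odd (Fintype.card ι) → (2 : F) ≠ 0) {f : End F (ι → F)} (hf : ∀ v, Q (f v) = Q v)
    (hpow : f ^ r = 1) {m : ℕ} (hm : Even m) {τ : ℤ} (hτ : τ = 1 ∨ τ = -1) :
    (∃ W, EvenP Q m τ W ∧ Inv f W) ↔
      EvenOk (blk F r) (eta F r) (Fintype.card ι) (sgn Q) m τ (tot (orbMult ζ f : Orb F r → ℕ)) := by
  set E := tot (orbMult ζ f : Orb F r → ℕ) with hE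
  have hsplit := finrank_split hQ hf hK hpow hr2
  rw [Module.finrank_fintype_fun_eq_card, ← hE] at hsplit
  have hCn := nd_fix hQ hf hK hpow
  have hpe : ∀ x : ℕ, Even (blk F r * x) := fun x => (SympDecomp.even_blockDim _ _).mul_right _
  have hee : ∀ x : ℕ, eta F r ^ x * eta F r ^ x = 1 := fun x => by
    rw [← mul_pow]; rcases eta_eq_or (F := F) (r := r) with h | h <;> simp [h]
  constructor
  · rintro ⟨W, ⟨hWd, hWn, hWs⟩, hW⟩
    obtain ⟨A, hA, B, hB, hAn, -, -, hdim, e, he, hBd, -, hs⟩ := nd_fix_parts hK hQ hr2 hf hpow hW hWn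
    have hs := hs (hWd ▸ hm)
    refine ⟨e, he, by omega, ?_, fun heq => ?_, fun heq => ?_⟩
    · have := Submodule.finrank_mono hA
      omega
    · have h0 : A = ⊥ := Submodule.finrank_eq_zero.1 (by omega)
      rw [← hWs, hs, h0, sgn_bot, one_mul]
    · have hAC : A = fixS f := Submodule.eq_of_le_of_finrank_eq hA (by omega)
      have hev : Even (Fintype.card ι) := by
        rw [← hsplit, Nat.even_add]
        refine iff_of_true ?_ (hpe _)
        rw [← hAC, show finrank F A = m - blk F r * e by omega, Nat.even_sub (by omega)]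
        exact iff_of_true hm (hpe _)
      rw [← hWs, hs, hAC, sgn_fix_eq hK hQ hr2 hf hpow hev]
  · rintro ⟨e, he, hem, hle, h0, hn⟩
    obtain ⟨B, hBM, hB, hBn, hBd, hBs⟩ := sub_nd hQ hf hK hpow hr2 (e := e) (hE ▸ he)
    obtain ⟨j, hj⟩ : Even (m - blk F r * e) := by
      rw [Nat.even_sub hem]; exact iff_of_true hm (hpe _)
    obtain ⟨A, hA, hAn, hAd, hAs⟩ : ∃ A ≤ fixS f, Nd Q A ∧ finrank F A = 2 * j ∧
        sgn (res Q A) = τ * eta F r ^ e := by
      rcases Nat.eq_zero_or_pos j with rfl | hj0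
      · exact ⟨⊥, bot_le, nd_bot, by simp, by rw [sgn_bot, h0 (by omega), hee]⟩
      rcases (show 2 * j ≤ finrank F (fixS f) by omega).lt_or_eq with hlt | heq
      · have hodd' : Odd (finrank F (fixS f)) → (2 : F) ≠ 0 := fun ho => hodd (by
          rw [← hsplit, Nat.odd_add]
          exact iff_of_true ho (hpe _))
        obtain ⟨A, hAn, hAd, hAs⟩ := exists_sub_even (nd_iff.1 hCn) hodd' hlt (τ := τ * eta F r ^ e)
          (by
            rcases hτ with h | h <;> rcases eta_eq_or (F := F) (r := r) with h' | h' <;>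
              rcases Nat.even_or_odd e with h'' | h'' <;> simp [h, h', h''.neg_one_pow])
          (fun h => absurd h (by omega))
        have hiso := iso_map (Q := Q) (Q' := res Q (fixS f)) (fixS f).subtype (fixS f).injective_subtype
          (fun _ => rfl) A
        exact ⟨A.map (fixS f).subtype, Submodule.map_subtype_le _ _, nd_iff.2 (hiso.sep (nd_iff.1 hAn)),
          by rw [Submodule.finrank_map_subtype_eq, hAd], by rw [← hiso.sgn_eq, hAs]⟩
      · refine ⟨fixS f, le_rfl, hCn, heq.symm, ?_⟩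
        have hev : Even (Fintype.card ι) := by
          rw [← hsplit, Nat.even_add]
          exact iff_of_true ⟨j, by omega⟩ (hpe _)
        rw [sgn_fix_eq hK hQ hr2 hf hpow hev, hn (by omega), ← hE, mul_assoc, hee, mul_one]
    have hd := (isCompl_fix_mov hK hpow).disjoint.mono hA hBM
    have horth : ∀ a ∈ A, ∀ b ∈ B, QuadraticMap.polar ⇑Q a b = 0 := fun a ha b hb =>
      fix_mov_orth hf (hA ha) (hBM hb)
    refine ⟨A ⊔ B, ⟨?_, nd_of_iso (sep_prod (nd_iff.1 hAn) (nd_iff.1 hBn)) (iso_sup hd horth), ?_⟩,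
      inv_sup hK hA hB⟩
    · rw [finrank_sup_of_disjoint hd, hAd, hBd]
      omega
    · rw [sgn_sup hAn hBn hd horth ⟨j, by omega⟩ (hBd ▸ hpe e), hAs, hBs, mul_assoc, hee, mul_one]

omit hQ in
theorem exists_tuple (E : ℕ) : ∃ a : Orb F r → ℕ, Symm a ∧ tot a = E := by
  obtain ⟨a, ha, h, -⟩ := exists_worst (F := F) hK hr2 E
  exact ⟨a, ha, h⟩

/-- The criterion for non-degenerate subspaces of even dimension. -/
theorem even_allFix_iff (hodd : Odd (Fintype.card ι) → (2 : F) ≠ 0) {m : ℕ} (hm : Even m) {τ : ℤ}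
    (hτ : τ = 1 ∨ τ = -1) :
    AllFix Q r (EvenP Q m τ) ↔ ∀ E, Adm (blk F r) (eta F r) (Fintype.card ι) (sgn Q) E →
      EvenOk (blk F r) (eta F r) (Fintype.card ι) (sgn Q) m τ E := by
  constructor
  · intro h E hE
    obtain ⟨a, ha, rfl⟩ := exists_tuple (F := F) hK hr2 E
    obtain ⟨f, hf, hpow, hf1, hfa⟩ := exists_isometry hK hr2 hQ hodd ha hE
    have := (even_fix_iff hK hQ hr2 hodd hf hpow hm hτ).1 (h f hf hpow hf1)
    rwa [hfa] at this
  · intro h f hf hpow hf1
    exact (even_fix_iff hK hQ hr2 hodd hf hpow hm hτ).2 (h _ (adm_of_isometry hK hQ hr2 hf hpow hf1))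

variable {W' : Type u} [AddCommGroup W'] [Module F W'] [FiniteDimensional F W'] {R : QuadraticForm F W'}

theorem odd_fix_iff (h2 : (2 : F) ≠ 0) (hn : Even (Fintype.card ι)) {f : End F (ι → F)}
    (hf : ∀ v, Q (f v) = Q v) (hpow : f ^ r = 1) (hR : Sep R) {m : ℕ} (hm : Odd m) (hd : finrank F W' = m) :
    (∃ W, Iso R (res Q W) ∧ Inv f W) ↔
      OddOk (blk F r) (Fintype.card ι) m (tot (orbMult ζ f : Orb F r → ℕ)) := by
  set E := tot (orbMult ζ f : Orb F r → ℕ) with hE
  have hsplit := finrank_split hQ hf hK hpow hr2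
  rw [Module.finrank_fintype_fun_eq_card, ← hE] at hsplit
  have hCn := nd_fix hQ hf hK hpow
  have hpe : ∀ x : ℕ, Even (blk F r * x) := fun x => (SympDecomp.even_blockDim _ _).mul_right _
  have hCe : Even (finrank F (fixS f)) := by
    rw [← hsplit, Nat.even_add] at hn
    exact hn.2 (hpe _)
  constructor
  · rintro ⟨W, hRW, hW⟩
    have hWd : finrank F W = m := hRW.finrank_eq.symm.trans hd
    obtain ⟨A, hA, B, -, -, -, -, hdim, e, he, hBd, -, -⟩ :=
      nd_fix_parts hK hQ hr2 hf hpow hW (nd_iff.2 (hRW.sep hR))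
    refine ⟨e, he, by omega, ?_⟩
    have := Submodule.finrank_mono hA
    obtain ⟨a, ha⟩ := hm
    obtain ⟨b, hb⟩ := hpe e
    obtain ⟨c, hc⟩ := hCe
    omega
  · rintro ⟨e, he, hem, hlt⟩
    obtain ⟨B, hBM, hB, hBn, hBd, hBs⟩ := sub_nd hQ hf hK hpow hr2 (e := e) (hE ▸ he)
    obtain ⟨j, hj⟩ : Odd (m - blk F r * e) := by
      rw [Nat.odd_sub hem]
      exact iff_of_true hm (hpe _)
    obtain ⟨b, hb⟩ := hpe e
    -- a copy of the moved part inside the model
    obtain ⟨P, hPn, hPd, hPs⟩ := exists_sub_even hR (fun _ => h2) (j := b) (by omega) (τ := eta F r ^ e)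
      (by
        rcases eta_eq_or (F := F) (r := r) with h' | h' <;> rcases Nat.even_or_odd e with h'' | h'' <;>
          simp [h', h''.neg_one_pow])
      fun h => by
        have := blk_pos hK
        have : e = 0 := by
          by_contra he0
          have := Nat.le_mul_of_pos_right (blk F r) (Nat.pos_of_ne_zero he0)
          omega
        rw [this, pow_zero]
    have hOd : finrank F (orth R P) = 2 * j + 1 := by
      have := Submodule.finrank_add_eq_of_isCompl (isCompl_orth hPn)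
      omega
    obtain ⟨A₀, hA₀, hA₀iso⟩ := exists_sub_odd h2 (nd_iff.1 hCn) hCe (R := res R (orth R P))
      (nd_iff.1 (nd_orth hR hPn)) (j := j) hOd (by omega)
    have hiso := iso_map (Q := Q) (Q' := res Q (fixS f)) (fixS f).subtype (fixS f).injective_subtype
      (fun _ => rfl) A₀
    have hPB : Iso (res R P) (res Q B) :=
      iso_of_sgn (nd_iff.1 hPn) (nd_iff.1 hBn) (M := b) (by omega) (by omega) (hPs.trans hBs.symm)
    have hA : A₀.map (fixS f).subtype ≤ fixS f := Submodule.map_subtype_le _ _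
    refine ⟨_, ?_, inv_sup hK hA hB⟩
    have h1 : Iso R ((res R (orth R P)).prod (res R P)) :=
      (iso_split hPn).trans ⟨LinearEquiv.prodComm F _ _, fun x => by simp [add_comm]⟩
    exact h1.trans (((hA₀iso.trans hiso).prod hPB).trans
      (iso_sup ((isCompl_fix_mov hK hpow).disjoint.mono hA hBM) fun a ha b hb => fix_mov_orth hf (hA ha) (hBM hb)))

/-- The criterion for non-degenerate subspaces of odd dimension. -/
theorem odd_allFix_iff (h2 : (2 : F) ≠ 0) (hn : Even (Fintype.card ι)) (hR : Sep R) {m : ℕ} (hm : Odd m)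
    (hd : finrank F W' = m) :
    AllFix Q r (fun W => Iso R (res Q W)) ↔ ∀ E, Adm (blk F r) (eta F r) (Fintype.card ι) (sgn Q) E →
      OddOk (blk F r) (Fintype.card ι) m E := by
  constructor
  · intro h E hE
    obtain ⟨a, ha, rfl⟩ := exists_tuple (F := F) hK hr2 E
    obtain ⟨f, hf, hpow, hf1, hfa⟩ := exists_isometry hK hr2 hQ (fun _ => h2) ha hE
    have := (odd_fix_iff hK hQ hr2 h2 hn hf hpow hR hm hd).1 (h f hf hpow hf1)
    rwa [hfa] at this
  · intro h f hf hpow hf1
    exact (odd_fix_iff hK hQ hr2 h2 hn hf hpow hR hm hd).2 (h _ (adm_of_isometry hK hQ hr2 hf hpow hf1))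

/-- When the size of an orbit of non-degenerate `m`-spaces is divisible by `r`, only `c ≤ m` is possible. -/
theorem nd_blk_le (hR : Sep R) {m : ℕ} (hd : finrank F W' = m)
    (hdvd : r ∣ Nat.card {W : Submodule F (ι → F) // Iso R (res Q W)})
    (hne : ∃ W, Iso R (res Q W)) (hall : AllFix Q r (fun W => Iso R (res Q W))) : blk F r ≤ m := by
  by_contra hm
  obtain ⟨f, hf, hpow, hf1, hno⟩ := exists_free (R := R) hK.unit hQ hdvd hne fun f hf hpow _ A hA hinv => by
    obtain ⟨A', hA', B, -, -, -, hAB, hdim, e, -, hBd, -, -⟩ :=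
      nd_fix_parts hK hQ hr2 hf hpow hinv (nd_iff.2 (hA.sep hR))
    have hd' : finrank F A = m := hA.finrank_eq.symm.trans hd
    have he0 : e = 0 := by
      by_contra he0
      have := Nat.le_mul_of_pos_right (blk F r) (Nat.pos_of_ne_zero he0)
      omega
    rw [he0, mul_zero] at hBd
    rw [Submodule.finrank_eq_zero.1 hBd, sup_bot_eq] at hAB
    rw [← hAB]
    exact hA'
  obtain ⟨W, hW, hinv⟩ := hall f hf hpow hf1
  exact hno W hW hinv

omit hK hQ hr2 in
/-- `EvenP` as an isometry class. -/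
theorem evenP_iff {W' : Type u} [AddCommGroup W'] [Module F W'] [FiniteDimensional F W'] {R : QuadraticForm F W'}
    (hR : Sep R) {μ : ℕ} (hd : finrank F W' = 2 * μ) {τ : ℤ} (hs : sgn R = τ) {W : Submodule F (ι → F)} :
    EvenP Q (2 * μ) τ W ↔ Iso R (res Q W) := by
  constructor
  · rintro ⟨hWd, hWn, hWs⟩
    exact iso_of_sgn hR (nd_iff.1 hWn) hd hWd (hs.trans hWs.symm)
  · intro h
    exact ⟨h.finrank_eq.symm.trans hd, nd_iff.2 (h.sep hR), h.sgn_eq.symm.trans hs⟩

/-- The same for `EvenP`. -/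
theorem even_blk_le {μ : ℕ} {τ : ℤ} (hτ : τ = 1 ∨ τ = -1) (hμ : 0 < μ)
    (hdvd : r ∣ Nat.card {W : Submodule F (ι → F) // EvenP Q (2 * μ) τ W}) (hne : ∃ W, EvenP Q (2 * μ) τ W)
    (hall : AllFix Q r (EvenP Q (2 * μ) τ)) : blk F r ≤ 2 * μ := by
  obtain ⟨R, hR, hRs⟩ := OrthType.exists_model (F := F) μ hτ fun h => absurd h (by omega)
  have he : ∀ W : Submodule F (ι → F), EvenP Q (2 * μ) τ W ↔ Iso R (res Q W) := fun W =>
    evenP_iff hR (Module.finrank_fin_fun F) hRs
  refine nd_blk_le hK hQ hr2 hR (Module.finrank_fin_fun F) ?_ (hne.imp fun W hW => (he W).1 hW) ?_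
  · rwa [Nat.card_congr (Equiv.subtypeEquivRight fun W => (he W).symm)]
  · intro f hf hp h1
    obtain ⟨W, hW, hinv⟩ := hall f hf hp h1
    exact ⟨W, (he W).1 hW, hinv⟩

end Cfsg.Agent.Elusive.OrthCriteria
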