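import Cfsg.Agent.Lib.Elusive.OrthUnip
import Cfsg.Agent.Lib.Elusive.OrthCriteria
import Cfsg.Agent.Lib.ClassicalSimple.DicksonRank

/-!
Involutions of orthogonal spaces in characteristic two: invariant non-degenerate subspaces.

An involution is `1 + N` with `N ∘ N = 0`; a vector `v` with `Q (N v) ≠ 0` spans an invariant plane with its image,
and otherwise the space splits into invariant hyperbolic four-spaces and a fixed part.
-/

set_option autoImplicit false
set_option linter.unusedSectionVars false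

namespace Cfsg.Agent.Elusive.OrthEven

open Module
open OrthType
open OrthPlanes (split_in)
open OrthCriteria (EvenP)

universe u

variable {F : Type u} [Field F] [Fintype F] [CharP F 2] {ι : Type} [Fintype ι] [DecidableEq ι]
  {Q : QuadraticForm F (ι → F)} {N : Module.End F (ι → F)}

/-- An invariant non-degenerate subspace of dimension `2 j`. -/
def Blk (Q : QuadraticForm F (ι → F)) (N : Module.End F (ι → F)) (j : ℕ) (A : Submodule F (ι → F)) : Prop :=
  Nd Q A ∧ (∀ x ∈ A, N x ∈ A) ∧ finrank F A = 2 * j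

theorem polar_self_eq_zero (x : ι → F) : QuadraticMap.polar ⇑Q x x = 0 := by
  rw [QuadraticMap.polar_self, two_nsmul, CharTwo.add_self_eq_zero]

section Basic

variable (hf : ∀ x, Q (x + N x) = Q x) (hN : ∀ x, N (N x) = 0)
include hf hN

theorem adj (x y : ι → F) : QuadraticMap.polar ⇑Q (N x) y = QuadraticMap.polar ⇑Q x (N y) := by
  have h := OrthUnip.polar_iso hf x (y + N y)
  have hy : y + N y + N (y + N y) = y := by
    rw [map_add, hN, add_zero, add_assoc]
    conv_lhs => arg 2; rw [← two_smul F (N y), CharTwo.two_eq_zero, zero_smul]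
    rw [add_zero]
  rw [hy, QuadraticMap.polar_add_left, QuadraticMap.polar_add_right] at h
  exact add_left_cancel h

theorem Q_image (x : ι → F) : Q (N x) = QuadraticMap.polar ⇑Q x (N x) := by
  have h := hf x
  rw [Forms.quadratic_map_add, QuadraticMap.polarBilin_apply_apply, add_assoc, add_eq_left] at h
  exact CharTwo.add_eq_zero.1 h

theorem polar_image (x y : ι → F) : QuadraticMap.polar ⇑Q (N x) (N y) = 0 := by
  rw [adj hf hN, hN, QuadraticMap.polar_zero_right]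

theorem inv_orth {X : Submodule F (ι → F)} (hX : ∀ x ∈ X, N x ∈ X) : ∀ y ∈ orth Q X, N y ∈ orth Q X := by
  intro y hy
  rw [mem_orth] at hy ⊢
  intro x hx
  rw [← adj hf hN]
  exact hy _ (hX x hx)

theorem compl_inv {S P : Submodule F (ι → F)} (hS : ∀ x ∈ S, N x ∈ S) (hP : ∀ x ∈ P, N x ∈ P) :
    ∀ x ∈ S ⊓ orth Q P, N x ∈ S ⊓ orth Q P := fun x hx => ⟨hS x hx.1, inv_orth hf hN hP x hx.2⟩

theorem plane {v : ι → F} {c : F} (hc : Q (N v) = c) (hc0 : c ≠ 0) :
    Blk Q N 1 (F ∙ v ⊔ F ∙ N v) ∧ (Q v = 0 → sgn (res Q (F ∙ v ⊔ F ∙ N v)) = 1) ∧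
      (∀ e : F, (∀ s : F, s * s + s + e ≠ 0) → Q v = c * e → sgn (res Q (F ∙ v ⊔ F ∙ N v)) = -1) := by
  have hb : QuadraticMap.polar ⇑Q v (N v) = c := by rw [← Q_image hf hN, hc]
  have hb' : QuadraticMap.polar ⇑Q (N v) v = c := by rw [QuadraticMap.polar_comm]; exact hb
  have hv0 : v ≠ 0 := fun e => hc0 (by rw [← hc, e, map_zero, QuadraticMap.map_zero])
  have hNv0 : N v ≠ 0 := fun e => hc0 (by rw [← hc, e, QuadraticMap.map_zero])
  have hmem : ∀ x ∈ F ∙ v ⊔ F ∙ N v, ∃ s t : F, x = s • v + t • N v := by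
    intro x hx
    obtain ⟨a, ha, b, hb, rfl⟩ := Submodule.mem_sup.1 hx
    obtain ⟨s, rfl⟩ := Submodule.mem_span_singleton.1 ha
    obtain ⟨t, rfl⟩ := Submodule.mem_span_singleton.1 hb
    exact ⟨s, t, rfl⟩
  have hnd : Nd Q (F ∙ v ⊔ F ∙ N v) := by
    intro x hx hall
    obtain ⟨s, t, rfl⟩ := hmem x hx
    have h1 := hall v (Submodule.mem_sup_left (Submodule.mem_span_singleton_self v))
    have h3 := hall (N v) (Submodule.mem_sup_right (Submodule.mem_span_singleton_self _))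
    rw [QuadraticMap.polar_add_left, QuadraticMap.polar_smul_left, QuadraticMap.polar_smul_left,
      polar_self_eq_zero, hb', smul_zero, zero_add, smul_eq_mul, mul_eq_zero] at h1
    rw [QuadraticMap.polar_add_left, QuadraticMap.polar_smul_left, QuadraticMap.polar_smul_left,
      polar_self_eq_zero, hb, smul_zero, add_zero, smul_eq_mul, mul_eq_zero] at h3
    rw [h1.resolve_right hc0, h3.resolve_right hc0, zero_smul, zero_smul, add_zero]
  have hd : finrank F ↥(F ∙ v ⊔ F ∙ N v) = 2 := by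
    rw [finrank_sup_of_disjoint ?_, finrank_span_singleton hv0, finrank_span_singleton hNv0]
    rw [Submodule.disjoint_def]
    intro x hx hx'
    obtain ⟨s, rfl⟩ := Submodule.mem_span_singleton.1 hx
    obtain ⟨t, ht⟩ := Submodule.mem_span_singleton.1 hx'
    have := congrArg (fun z => QuadraticMap.polar ⇑Q z (N v)) ht
    simp only [QuadraticMap.polar_smul_left, polar_self_eq_zero, hb, smul_zero, smul_eq_mul, mul_zero] at this
    rw [(mul_eq_zero.1 this.symm).resolve_right hc0, zero_smul]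
  have hinv : ∀ x ∈ F ∙ v ⊔ F ∙ N v, N x ∈ F ∙ v ⊔ F ∙ N v := fun x hx => by
    obtain ⟨s, t, rfl⟩ := hmem x hx
    rw [map_add, map_smul, map_smul, hN, smul_zero, add_zero]
    exact Submodule.mem_sup_right (Submodule.smul_mem _ _ (Submodule.mem_span_singleton_self _))
  have hval : ∀ s t : F, Q (s • v + t • N v) = s * s * Q v + t * t * c + s * t * c := fun s t => by
    rw [Forms.quadratic_map_add, QuadraticMap.polarBilin_apply_apply, QuadraticMap.polar_smul_left,
      QuadraticMap.polar_smul_right, hb, QuadraticMap.map_smul, QuadraticMap.map_smul, hc]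
    simp only [smul_eq_mul]
    ring
  refine ⟨⟨hnd, hinv, by rw [hd]⟩, fun h0 => ?_, fun e he hQv => ?_⟩
  · rw [sgn_eq_one_iff, plusQ_res_iff]
    refine ⟨F ∙ v, le_sup_left, fun x hx => ?_, by rw [finrank_span_singleton hv0, hd]⟩
    obtain ⟨s, rfl⟩ := Submodule.mem_span_singleton.1 hx
    rw [QuadraticMap.map_smul, h0, smul_zero]
  · refine sgn_of_not fun hp => ?_
    obtain ⟨U, hU, hU0, hUd⟩ := plusQ_res_iff.1 hp
    rw [hd] at hUd
    obtain ⟨u, hu, hune⟩ := Submodule.exists_mem_ne_zero_of_ne_bot (p := U) fun e => by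
      rw [e, finrank_bot] at hUd
      omega
    obtain ⟨s, t, rfl⟩ := hmem u (hU hu)
    have h0 := hU0 _ hu
    rw [hval, hQv] at h0
    rcases eq_or_ne s 0 with rfl | hs
    · have ht : t = 0 := by simpa [hc0] using h0
      exact hune (by rw [ht, zero_smul, zero_smul, add_zero])
    · refine he (t / s) ?_
      have h1 : s * s * e + t * t + s * t = 0 :=
        (mul_eq_zero.1 (show (s * s * e + t * t + s * t) * c = 0 by linear_combination h0)).resolve_right hc0
      field_simp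
      linear_combination h1

theorem four {v w : ι → F} (hvv : Q (N v) = 0) (hww : Q (N w) = 0) (hvw : QuadraticMap.polar ⇑Q v (N w) = 1)
    {S : Submodule F (ι → F)} (hv : v ∈ S) (hw : w ∈ S) (hS : ∀ x ∈ S, N x ∈ S) :
    ∃ T ≤ S, Blk Q N 2 T ∧ sgn (res Q T) = 1 ∧ finrank F ↥(T.map N) = 2 := by
  have b1 : QuadraticMap.polar ⇑Q v (N v) = 0 := by rw [← Q_image hf hN, hvv]
  have b2 : QuadraticMap.polar ⇑Q w (N w) = 0 := by rw [← Q_image hf hN, hww]
  have b3 : QuadraticMap.polar ⇑Q w (N v) = 1 := by rw [QuadraticMap.polar_comm, adj hf hN, hvw]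
  have b4 : QuadraticMap.polar ⇑Q (N v) w = 1 := by rw [QuadraticMap.polar_comm]; exact b3
  have b5 : QuadraticMap.polar ⇑Q (N w) v = 1 := by rw [QuadraticMap.polar_comm]; exact hvw
  have b6 : QuadraticMap.polar ⇑Q (N v) v = 0 := by rw [QuadraticMap.polar_comm]; exact b1
  have b7 : QuadraticMap.polar ⇑Q (N w) w = 0 := by rw [QuadraticMap.polar_comm]; exact b2
  let L : (Fin 4 → F) →ₗ[F] (ι → F) :=
    (LinearMap.toSpanSingleton F _ v).comp (LinearMap.proj 0) + (LinearMap.toSpanSingleton F _ w).comp (LinearMap.proj 1)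
      + (LinearMap.toSpanSingleton F _ (N v)).comp (LinearMap.proj 2)
      + (LinearMap.toSpanSingleton F _ (N w)).comp (LinearMap.proj 3)
  have hL : ∀ g, L g = g 0 • v + g 1 • w + g 2 • N v + g 3 • N w := fun g => by simp [L]
  have p3 : ∀ g, QuadraticMap.polar ⇑Q (L g) (N w) = g 0 := fun g => by
    simp [hL, QuadraticMap.polar_add_left, QuadraticMap.polar_smul_left, hvw, b2, polar_image hf hN]
  have p2 : ∀ g, QuadraticMap.polar ⇑Q (L g) (N v) = g 1 := fun g => by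
    simp [hL, QuadraticMap.polar_add_left, QuadraticMap.polar_smul_left, b1, b3, polar_image hf hN]
  have p1 : ∀ g, g 0 = 0 → g 1 = 0 → QuadraticMap.polar ⇑Q (L g) w = g 2 ∧ QuadraticMap.polar ⇑Q (L g) v = g 3 :=
    fun g h0 h1 => by
      simp [hL, h0, h1, QuadraticMap.polar_add_left, QuadraticMap.polar_smul_left, b4, b5, b6, b7]
  have hzero : ∀ g, (∀ y, QuadraticMap.polar ⇑Q (L g) (L y) = 0) → g = 0 := by
    intro g hall
    have hv' : ∀ i, L (Pi.single i 1) = ![v, w, N v, N w] i := fun i => by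
      fin_cases i <;> simp [hL, Pi.single_apply]
    have h0 : g 0 = 0 := by have := hall (Pi.single 3 1); rw [hv'] at this; exact (p3 g).symm.trans this
    have h1 : g 1 = 0 := by have := hall (Pi.single 2 1); rw [hv'] at this; exact (p2 g).symm.trans this
    have h2 : g 2 = 0 := by have := hall (Pi.single 1 1); rw [hv'] at this; exact (p1 g h0 h1).1.symm.trans this
    have h3 : g 3 = 0 := by have := hall (Pi.single 0 1); rw [hv'] at this; exact (p1 g h0 h1).2.symm.trans this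
    funext i
    fin_cases i <;> assumption
  have hinj : Function.Injective L := (injective_iff_map_eq_zero L).2 fun g hg => hzero g fun y => by
    rw [hg, QuadraticMap.polar_zero_left]
  have hLN : ∀ g, N (L g) = g 0 • N v + g 1 • N w := fun g => by simp [hL, hN]
  have hd : finrank F (LinearMap.range L) = 4 := by
    rw [LinearMap.finrank_range_of_inj hinj, Module.finrank_fin_fun]
  let L' : (Fin 2 → F) →ₗ[F] (ι → F) :=
    (LinearMap.toSpanSingleton F _ (N v)).comp (LinearMap.proj 0) + (LinearMap.toSpanSingleton F _ (N w)).comp (LinearMap.proj 1)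
  have hL' : ∀ g, L' g = g 0 • N v + g 1 • N w := fun g => by simp [L']
  have hLL : ∀ g, L' g = L ![0, 0, g 0, g 1] := fun g => by simp [hL, hL']
  have hinj' : Function.Injective L' := fun g g' h => by
    rw [hLL, hLL] at h
    have := hinj h
    funext i
    fin_cases i
    · simpa using congrFun this 2
    · simpa using congrFun this 3
  have hd' : finrank F (LinearMap.range L') = 2 := by
    rw [LinearMap.finrank_range_of_inj hinj', Module.finrank_fin_fun]
  have hmap : (LinearMap.range L).map N = LinearMap.range L' := by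
    ext x
    constructor
    · rintro ⟨_, ⟨g, rfl⟩, rfl⟩
      exact ⟨![g 0, g 1], by simp [hL', hLN]⟩
    · rintro ⟨g, rfl⟩
      exact ⟨L ![g 0, g 1, 0, 0], ⟨_, rfl⟩, by simp [hL', hLN]⟩
  refine ⟨LinearMap.range L, ?_, ⟨?_, ?_, by rw [hd]⟩, ?_, by rw [hmap, hd']⟩
  · rintro _ ⟨g, rfl⟩
    rw [hL]
    exact S.add_mem (S.add_mem (S.add_mem (S.smul_mem _ hv) (S.smul_mem _ hw)) (S.smul_mem _ (hS v hv)))
      (S.smul_mem _ (hS w hw))
  · rintro _ ⟨g, rfl⟩ hall
    rw [hzero g fun y => hall _ ⟨y, rfl⟩, map_zero]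
  · rintro _ ⟨g, rfl⟩
    exact ⟨![0, 0, g 0, g 1], by simp [hL, hLN, hN]⟩
  · rw [sgn_eq_one_iff, plusQ_res_iff]
    refine ⟨LinearMap.range L', ?_, ?_, by rw [hd, hd']⟩
    · rintro _ ⟨g, rfl⟩
      exact ⟨_, (hLL g).symm⟩
    · rintro _ ⟨g, rfl⟩
      rw [hL', Q_add_orth (by simp [QuadraticMap.polar_smul_left, QuadraticMap.polar_smul_right, polar_image hf hN]),
        QuadraticMap.map_smul, QuadraticMap.map_smul, hvv, hww, smul_zero, smul_zero, add_zero]

omit hf hN in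
/-- Orthogonal sums of blocks. -/
theorem blk_sup {i j k : ℕ} (hij : i + j = k) {A B : Submodule F (ι → F)} (hA : Blk Q N i A) (hB : Blk Q N j B)
    (hd : Disjoint A B) (hor : ∀ a ∈ A, ∀ b ∈ B, QuadraticMap.polar ⇑Q a b = 0) :
    Blk Q N k (A ⊔ B) ∧ sgn (res Q (A ⊔ B)) = sgn (res Q A) * sgn (res Q B) := by
  refine ⟨⟨nd_of_iso (sep_prod (nd_iff.1 hA.1) (nd_iff.1 hB.1)) (iso_sup hd hor), fun x hx => ?_, ?_⟩,
    sgn_sup hA.1 hB.1 hd hor ⟨i, by rw [hA.2.2]; ring⟩ ⟨j, by rw [hB.2.2]; ring⟩⟩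
  · obtain ⟨a, ha, b, hb, rfl⟩ := Submodule.mem_sup.1 hx
    rw [map_add]
    exact Submodule.add_mem_sup (hA.2.1 a ha) (hB.2.1 b hb)
  · rw [finrank_sup_of_disjoint hd, hA.2.2, hB.2.2]
    omega

omit hf hN in
theorem blk_bot : Blk Q N 0 (⊥ : Submodule F (ι → F)) :=
  ⟨nd_bot, fun x hx => by rw [(Submodule.mem_bot F).1 hx, map_zero]; exact Submodule.zero_mem _, by simp⟩

omit hf hN in
theorem sep_pair {S P : Submodule F (ι → F)} {A B : Submodule F (ι → F)} (hS : Nd Q S) (hP : Nd Q P) (hle : P ≤ S)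
    (hA : A ≤ P) (hB : B ≤ S ⊓ orth Q P) :
    Disjoint A B ∧ ∀ a ∈ A, ∀ b ∈ B, QuadraticMap.polar ⇑Q a b = 0 :=
  ⟨(split_in hS hP hle).2.2.1.mono hA hB, fun a ha b hb => mem_orth.1 (hB hb).2 a (hA ha)⟩

/-- Without vectors `v` with `Q (N v) ≠ 0`: four-spaces and a fixed part. -/
theorem alt_split : ∀ (n : ℕ) (S : Submodule F (ι → F)), (∀ x ∈ S, N x ∈ S) → Nd Q S → finrank F S = n →
    (∀ x ∈ S, Q (N x) = 0) → ∀ δ, n = 2 * δ →
      ∃ (b γ : ℕ) (C : Submodule F (ι → F)), δ = 2 * b + γ ∧ C ≤ S ∧ Nd Q C ∧ finrank F C = 2 * γ ∧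
        (∀ x ∈ C, N x = 0) ∧ sgn (res Q S) = sgn (res Q C) ∧ finrank F ↥(S.map N) = 2 * b ∧
        ∀ j ≤ b, ∃ A ≤ S, Blk Q N (2 * j) A ∧ sgn (res Q A) = 1 ∧ Disjoint A C ∧
          ∀ a ∈ A, ∀ c ∈ C, QuadraticMap.polar ⇑Q a c = 0 := by
  intro n
  induction n using Nat.strong_induction_on with
  | _ n ih =>
  intro S hS hSn hd halt δ hδ
  by_cases hfix : ∀ x ∈ S, N x = 0
  · have hmap : S.map N = ⊥ := (Submodule.eq_bot_iff _).2 (by rintro _ ⟨x, hx, rfl⟩; exact hfix x hx)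
    refine ⟨0, δ, S, by omega, le_rfl, hSn, hd.trans hδ, hfix, rfl, by rw [hmap, finrank_bot], fun j hj => ?_⟩
    obtain rfl : j = 0 := by omega
    exact ⟨⊥, bot_le, blk_bot, sgn_bot, disjoint_bot_left, fun a ha c _ => by
      rw [(Submodule.mem_bot F).1 ha, QuadraticMap.polar_zero_left]⟩
  push Not at hfix
  obtain ⟨v, hvS, hv⟩ := hfix
  obtain ⟨w', hw'S, hw'⟩ : ∃ w ∈ S, QuadraticMap.polar ⇑Q (N v) w ≠ 0 := by
    by_contra! hall
    exact hv (hSn _ (hS v hvS) hall)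
  rw [adj hf hN] at hw'
  set w := (QuadraticMap.polar ⇑Q v (N w'))⁻¹ • w' with hwdef
  have hwS : w ∈ S := S.smul_mem _ hw'S
  obtain ⟨T, hTS, hT, hTs, hTr⟩ := four hf hN (halt v hvS) (halt w hwS) (v := v) (w := w)
    (by rw [hwdef, map_smul, QuadraticMap.polar_smul_right, smul_eq_mul, inv_mul_cancel₀ hw']) hvS hwS hS
  obtain ⟨hS', hsup, hdis, hdim⟩ := split_in hSn hT.1 hTS
  set S' := S ⊓ orth Q T with hS'def
  have hS'i := compl_inv hf hN hS hT.2.1
  have hTd := hT.2.2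
  obtain ⟨b, γ, C, hb, hC, hCn, hCd, hC0, hCs, hCr, hA⟩ :=
    ih (finrank F S') (by omega) S' hS'i hS' rfl (fun x hx => halt x hx.1) (δ - 2) (by omega)
  have hor : ∀ a ∈ T, ∀ c ∈ S', QuadraticMap.polar ⇑Q a c = 0 := fun a ha c hc => mem_orth.1 hc.2 a ha
  refine ⟨b + 1, γ, C, by omega, hC.trans inf_le_left, hCn, hCd, hC0, ?_, ?_, fun j hj => ?_⟩
  · have hs := sgn_sup hT.1 hS' hdis hor ⟨2, by omega⟩ ⟨δ - 2, by omega⟩
    rw [hsup, hTs, one_mul] at hs
    rw [hs, hCs]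
  · have hle1 : T.map N ≤ T := Submodule.map_le_iff_le_comap.2 hT.2.1
    have hle2 : S'.map N ≤ S' := Submodule.map_le_iff_le_comap.2 hS'i
    rw [← hsup, Submodule.map_sup, finrank_sup_of_disjoint (hdis.mono hle1 hle2), hTr, hCr]
    ring
  · rcases Nat.eq_zero_or_pos j with rfl | hj0
    · exact ⟨⊥, bot_le, blk_bot, sgn_bot, disjoint_bot_left, fun a ha c _ => by
        rw [(Submodule.mem_bot F).1 ha, QuadraticMap.polar_zero_left]⟩
    obtain ⟨A, hAS, hAb, hAs, hAC, hAo⟩ := hA (j - 1) (by omega)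
    obtain ⟨hd1, ho1⟩ := sep_pair (Q := Q) hSn hT.1 hTS le_rfl hAS
    obtain ⟨hbs, hbsg⟩ := blk_sup (k := 2 * j) (by omega) hT hAb hd1 ho1
    refine ⟨T ⊔ A, sup_le hTS (hAS.trans inf_le_left), hbs, by rw [hbsg, hTs, hAs, one_mul], ?_, ?_⟩
    · rw [Submodule.disjoint_def]
      intro x hx hxC
      obtain ⟨a, ha, a', ha', rfl⟩ := Submodule.mem_sup.1 hx
      have haS' : a ∈ S' := (Submodule.add_mem_iff_left S' (hAS ha')).1 (hC hxC)
      have ha0 : a = 0 := Submodule.disjoint_def.1 hdis a ha haS'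
      rw [ha0, zero_add] at hxC ⊢
      exact Submodule.disjoint_def.1 hAC a' ha' hxC
    · intro x hx c hc
      obtain ⟨a, ha, a', ha', rfl⟩ := Submodule.mem_sup.1 hx
      rw [QuadraticMap.polar_add_left, hor a ha c (hC hc), hAo a' ha' c hc, add_zero]

/-- Either blocks of every dimension, or only hyperbolic ones of dimensions divisible by four. -/
theorem full_or : ∀ (n : ℕ) (S : Submodule F (ι → F)), (∀ x ∈ S, N x ∈ S) → Nd Q S → finrank F S = n →
    ∀ δ, n = 2 * δ → (∀ j ≤ δ, ∃ A ≤ S, Blk Q N j A) ∨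
      (Even δ ∧ sgn (res Q S) = 1 ∧ ∀ j ≤ δ, Even j → ∃ A ≤ S, Blk Q N j A ∧ sgn (res Q A) = 1) := by
  intro n
  induction n using Nat.strong_induction_on with
  | _ n ih =>
  intro S hS hSn hd δ hδ
  by_cases hc : ∃ v ∈ S, Q (N v) ≠ 0
  · obtain ⟨v, hvS, hv⟩ := hc
    obtain ⟨hP, -, -⟩ := plane hf hN (v := v) rfl hv
    have hPS : F ∙ v ⊔ F ∙ N v ≤ S := sup_le ((Submodule.span_singleton_le_iff_mem _ _).2 hvS)
      ((Submodule.span_singleton_le_iff_mem _ _).2 (hS v hvS))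
    obtain ⟨hS', hsup, hdis, hdim⟩ := split_in hSn hP.1 hPS
    have hS'i := compl_inv hf hN hS hP.2.1
    have hPd := hP.2.2
    refine Or.inl fun j hj => ?_
    rcases Nat.eq_zero_or_pos j with rfl | hj0
    · exact ⟨⊥, bot_le, blk_bot⟩
    rcases ih (finrank F ↥(S ⊓ orth Q (F ∙ v ⊔ F ∙ N v))) (by omega) _ hS'i hS' rfl (δ - 1) (by omega) with
      hfull | ⟨hev, -, heven⟩
    · obtain ⟨A, hA, hAb⟩ := hfull (j - 1) (by omega)
      obtain ⟨hd1, ho1⟩ := sep_pair (Q := Q) hSn hP.1 hPS le_rfl hA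
      exact ⟨_, sup_le hPS (hA.trans inf_le_left), (blk_sup (by omega) hP hAb hd1 ho1).1⟩
    · rcases Nat.even_or_odd j with hje | hjo
      · obtain ⟨A, hA, hAb, -⟩ := heven j (by rw [Nat.even_iff] at hev hje; omega) hje
        exact ⟨A, hA.trans inf_le_left, hAb⟩
      · obtain ⟨A, hA, hAb, -⟩ := heven (j - 1) (by omega) (by rw [Nat.even_iff]; rw [Nat.odd_iff] at hjo; omega)
        obtain ⟨hd1, ho1⟩ := sep_pair (Q := Q) hSn hP.1 hPS le_rfl hA
        exact ⟨_, sup_le hPS (hA.trans inf_le_left), (blk_sup (by omega) hP hAb hd1 ho1).1⟩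
  push Not at hc
  obtain ⟨b, γ, C, hb, hC, hCn, hCd, hC0, hCs, -, hA⟩ := alt_split hf hN n S hS hSn hd hc δ hδ
  rcases Nat.eq_zero_or_pos γ with rfl | hγ
  · refine Or.inr ⟨⟨b, by omega⟩, ?_, fun j hj hje => ?_⟩
    · have : C = ⊥ := Submodule.finrank_eq_zero.1 hCd
      rw [hCs, this, sgn_bot]
    · obtain ⟨t, rfl⟩ := hje
      obtain ⟨A, hAS, hAb, hAs, -⟩ := hA t (by omega)
      exact ⟨A, hAS, ⟨hAb.1, hAb.2.1, by rw [hAb.2.2]; omega⟩, hAs⟩
  · refine Or.inl fun j hj => ?_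
    obtain ⟨i, t, hi, ht, hit⟩ : ∃ i t, i ≤ γ ∧ t ≤ b ∧ 2 * t + i = j := by
      by_cases hlt : j ≤ γ
      · exact ⟨j, 0, hlt, Nat.zero_le _, by omega⟩
      · exact ⟨γ - (j - γ) % 2, (j - γ + 1) / 2, by omega, by omega, by omega⟩
    obtain ⟨A, hAS, hAb, -, hAC, hAo⟩ := hA t ht
    obtain ⟨B, hBC, hBb⟩ : ∃ B ≤ C, Blk Q N i B := by
      rcases lt_or_eq_of_le hi with hlt | rfl
      · obtain ⟨B, hB, hBd, -⟩ := exists_sub_even (nd_iff.1 hCn)
          (fun ho => absurd (hCd ▸ ho) (Nat.not_odd_iff_even.2 (even_two_mul γ))) (j := i) (τ := 1)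
          (by omega) (Or.inl rfl) (fun _ => rfl)
        have hiso := iso_map (Q := Q) (Q' := res Q C) C.subtype C.injective_subtype (fun _ => rfl) B
        refine ⟨B.map C.subtype, Submodule.map_subtype_le _ _, nd_iff.2 (hiso.sep (nd_iff.1 hB)), fun x hx => ?_,
          by rw [Submodule.finrank_map_subtype_eq, hBd]⟩
        rw [hC0 x (Submodule.map_subtype_le _ _ hx)]
        exact Submodule.zero_mem _
      · exact ⟨C, le_rfl, hCn, fun x hx => by rw [hC0 x hx]; exact Submodule.zero_mem _, hCd⟩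
    exact ⟨A ⊔ B, sup_le hAS (hBC.trans hC), (blk_sup hit hAb hBb (hAC.mono_right hBC)
      fun a ha b hb => hAo a ha b (hBC hb)).1⟩

omit hf hN in
theorem exists_irred : ∃ e : F, ∀ s : F, s * s + s + e ≠ 0 := by
  by_contra! h
  have hs : Function.Surjective fun x : F => x * x + x := fun e => by
    obtain ⟨s, hs⟩ := h e
    exact ⟨s, CharTwo.add_eq_zero.1 hs⟩
  have := (Finite.injective_iff_surjective.2 hs) (a₁ := 0) (a₂ := -1) (by ring)
  simp at this

/-- Two planes inside a space: the first may be given either sign. -/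
theorem adjust {v₁ v₂ : ι → F} (h1 : Q (N v₁) ≠ 0) (h2 : Q (N v₂) ≠ 0)
    (h12 : QuadraticMap.polar ⇑Q v₁ (N v₂) = 0) {S : Submodule F (ι → F)} (hS : ∀ x ∈ S, N x ∈ S)
    (hv₁ : v₁ ∈ S) (hv₂ : v₂ ∈ S) {σ : ℤ} (hσ : σ = 1 ∨ σ = -1) :
    ∃ P ≤ S, Blk Q N 1 P ∧ sgn (res Q P) = σ := by
  obtain ⟨e, he⟩ := exists_irred (F := F)
  obtain ⟨A, hA⟩ : ∃ A : F, (σ = 1 → A = 0) ∧ (σ = -1 → A = Q (N v₁) * e) := by
    rcases hσ with rfl | rfl
    · exact ⟨0, fun _ => rfl, fun h => absurd h (by norm_num)⟩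
    · exact ⟨Q (N v₁) * e, fun h => absurd h (by norm_num), fun _ => rfl⟩
  obtain ⟨l, hl⟩ := FiniteField.isSquare_of_char_two (CharP.eq F (ringChar.charP F) inferInstance)
    ((A + Q v₁) / Q (N v₂))
  set v := v₁ + l • N v₂ with hv
  have hNv : N v = N v₁ := by rw [hv, map_add, map_smul, hN, smul_zero, add_zero]
  have hQv : Q v = A := by
    rw [hv, Q_add_orth (by rw [QuadraticMap.polar_smul_right, h12, smul_zero]), QuadraticMap.map_smul, ← hl,
      smul_eq_mul, div_mul_cancel₀ _ h2, add_comm A, ← add_assoc, CharTwo.add_self_eq_zero, zero_add]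
  have hvS : v ∈ S := S.add_mem hv₁ (S.smul_mem _ (hS _ hv₂))
  obtain ⟨hP, hplus, hminus⟩ := plane hf hN (v := v) (c := Q (N v₁)) (by rw [hNv]) h1
  refine ⟨_, sup_le ((Submodule.span_singleton_le_iff_mem _ _).2 hvS)
    ((Submodule.span_singleton_le_iff_mem _ _).2 (hS v hvS)), hP, ?_⟩
  rcases hσ with rfl | rfl
  · exact hplus (hQv.trans (hA.1 rfl))
  · exact hminus e he (hQv.trans (hA.2 rfl))

/-- Every involution of even rank fixes a non-degenerate `2 μ`-space of the sign of the whole space. -/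
theorem exists_inv (hQ : Sep Q) {d : ℕ} (hn : Fintype.card ι = 2 * d) (hrk : Even (finrank F (LinearMap.range N)))
    {μ : ℕ} (hμ : 0 < μ) (hμd : μ < d) {τ : ℤ} (hτ : sgn Q = τ) (hplus : τ = 1 → Odd μ → Odd d)
    (hminus : τ = -1 → Even μ → Even d) :
    ∃ W, EvenP Q (2 * μ) τ W ∧ ∀ x ∈ W, N x ∈ W := by
  have hnd : Nd Q (⊤ : Submodule F (ι → F)) := fun x _ hall => hQ x fun y => hall y trivial
  have htd : finrank F (⊤ : Submodule F (ι → F)) = 2 * d := by
    rw [finrank_top, Module.finrank_fintype_fun_eq_card, hn]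
  have hts : sgn (res Q (⊤ : Submodule F (ι → F))) = τ := by rw [← (iso_top Q).sgn_eq, hτ]
  have hτ' : τ = 1 ∨ τ = -1 := hτ ▸ sgn_eq_or Q
  suffices h : ∃ W, Blk Q N μ W ∧ sgn (res Q W) = τ by
    obtain ⟨W, ⟨hW, hWi, hWd⟩, hWs⟩ := h
    exact ⟨W, ⟨hWd, hW, hWs⟩, hWi⟩
  by_cases hc : ∃ v, Q (N v) ≠ 0
  · obtain ⟨v, hv⟩ := hc
    obtain ⟨hP, -, -⟩ := plane hf hN (v := v) rfl hv
    set P := F ∙ v ⊔ F ∙ N v with hPdef
    have hPd := hP.2.2
    obtain ⟨hV₁, hsup₁, hdis₁, hdim₁⟩ := split_in hnd hP.1 le_top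
    have hV₁i := compl_inv hf hN (S := ⊤) (fun _ _ => trivial) hP.2.1
    set V₁ := (⊤ : Submodule F (ι → F)) ⊓ orth Q P with hV₁def
    obtain ⟨v₂, hv₂, hv₂0⟩ : ∃ v₂ ∈ V₁, Q (N v₂) ≠ 0 := by
      by_contra! halt
      obtain ⟨b, -, -, -, -, -, -, -, -, hr, -⟩ :=
        alt_split hf hN _ V₁ hV₁i hV₁ rfl halt (d - 1) (by omega)
      have hle1 : P.map N ≤ P := Submodule.map_le_iff_le_comap.2 hP.2.1
      have hle2 : V₁.map N ≤ V₁ := Submodule.map_le_iff_le_comap.2 hV₁i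
      have hrange : LinearMap.range N = P.map N ⊔ V₁.map N := by
        rw [← Submodule.map_sup, hsup₁, Submodule.map_top]
      have hPN : P.map N = F ∙ N v := by
        rw [hPdef, Submodule.map_sup, Submodule.map_span, Submodule.map_span, Set.image_singleton,
          Set.image_singleton, hN, Submodule.span_zero_singleton, sup_bot_eq]
      rw [hrange, finrank_sup_of_disjoint (hdis₁.mono hle1 hle2), hPN,
        finrank_span_singleton (fun e => hv (by rw [e, QuadraticMap.map_zero])), hr, Nat.even_iff] at hrk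
      omega
    obtain ⟨hP₂, -, -⟩ := plane hf hN (v := v₂) rfl hv₂0
    set P₂ := F ∙ v₂ ⊔ F ∙ N v₂
    have hP₂d := hP₂.2.2
    have hP₂V : P₂ ≤ V₁ := sup_le ((Submodule.span_singleton_le_iff_mem _ _).2 hv₂)
      ((Submodule.span_singleton_le_iff_mem _ _).2 (hV₁i v₂ hv₂))
    obtain ⟨hV₂, -, -, hdim₂⟩ := split_in hV₁ hP₂.1 hP₂V
    have hV₂i := compl_inv hf hN hV₁i hP₂.2.1
    set V₂ := V₁ ⊓ orth Q P₂ with hV₂def
    obtain ⟨hd12, ho12⟩ := sep_pair (Q := Q) hnd hP.1 le_top le_rfl hP₂V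
    obtain ⟨hPP, -⟩ := blk_sup (k := 2) rfl hP hP₂ hd12 ho12
    set PP := P ⊔ P₂ with hPPdef
    have hoPV : ∀ x ∈ PP, ∀ y ∈ V₂, QuadraticMap.polar ⇑Q x y = 0 := by
      intro x hx y hy
      obtain ⟨a, ha, b, hb, rfl⟩ := Submodule.mem_sup.1 hx
      rw [QuadraticMap.polar_add_left, mem_orth.1 hy.1.2 a ha, mem_orth.1 hy.2 b hb, add_zero]
    have hdPV : Disjoint PP V₂ := by
      rw [Submodule.disjoint_def]
      exact fun x hx hx' => hPP.1 x hx fun y hy => by rw [QuadraticMap.polar_comm]; exact hoPV y hy x hx'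
    have hv₁v₂ : QuadraticMap.polar ⇑Q v (N v₂) = 0 :=
      mem_orth.1 (hV₁i v₂ hv₂).2 v (Submodule.mem_sup_left (Submodule.mem_span_singleton_self v))
    have hadj : ∀ σ : ℤ, σ = 1 ∨ σ = -1 → ∃ P' ≤ PP, Blk Q N 1 P' ∧ sgn (res Q P') = σ := fun σ hσ =>
      adjust hf hN hv hv₂0 hv₁v₂ hPP.2.1
        (Submodule.mem_sup_left (Submodule.mem_sup_left (Submodule.mem_span_singleton_self v)))
        (Submodule.mem_sup_right (Submodule.mem_sup_left (Submodule.mem_span_singleton_self v₂))) hσ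
    rcases full_or hf hN _ V₂ hV₂i hV₂ rfl (d - 2) (by omega) with hfull | ⟨hev, hV₂s, heven⟩
    · obtain ⟨A, hA, hAb⟩ := hfull (μ - 1) (by omega)
      obtain ⟨P', hP', hP'b, hP's⟩ := hadj (τ * sgn (res Q A))
        (by rcases hτ' with h | h <;> rcases sgn_eq_or (res Q A) with h' | h' <;> simp [h, h'])
      obtain ⟨hb, hs⟩ := blk_sup (k := μ) (by omega) hP'b hAb (hdPV.mono hP' hA) fun a ha b hb =>
        hoPV a (hP' ha) b (hA hb)
      exact ⟨P' ⊔ A, hb, by rw [hs, hP's, mul_assoc, sgn_mul_self, mul_one]⟩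
    · rcases Nat.even_or_odd μ with hμe | hμo
      · obtain ⟨A, hA, hAb, hAs⟩ := heven (μ - 2) (by omega) (by rw [Nat.even_iff] at hμe ⊢; omega)
        have hVsup : PP ⊔ V₂ = ⊤ := Submodule.eq_top_of_finrank_eq (by
          rw [finrank_sup_of_disjoint hdPV, hPP.2.2, Module.finrank_fintype_fun_eq_card]
          omega)
        have hs2 := sgn_sup hPP.1 hV₂ hdPV hoPV ⟨2, by rw [hPP.2.2]⟩ ⟨d - 2, by omega⟩
        rw [hVsup, hts, hV₂s, mul_one] at hs2
        obtain ⟨hb, hs⟩ := blk_sup (k := μ) (by rw [Nat.even_iff] at hμe; omega) hPP hAb (hdPV.mono_right hA)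
          fun a ha b hb => hoPV a ha b (hA hb)
        exact ⟨PP ⊔ A, hb, by rw [hs, hAs, mul_one, ← hs2]⟩
      · obtain ⟨A, hA, hAb, hAs⟩ := heven (μ - 1) (by rw [Nat.odd_iff] at hμo; rw [Nat.even_iff] at hev; omega)
          (by rw [Nat.even_iff]; rw [Nat.odd_iff] at hμo; omega)
        obtain ⟨P', hP', hP'b, hP's⟩ := hadj τ hτ'
        obtain ⟨hb, hs⟩ := blk_sup (k := μ) (by omega) hP'b hAb (hdPV.mono hP' hA) fun a ha b hb =>
          hoPV a (hP' ha) b (hA hb)
        exact ⟨P' ⊔ A, hb, by rw [hs, hAs, mul_one, hP's]⟩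
  push Not at hc
  obtain ⟨b, γ, C, hb, -, hCn, hCd, hC0, hCs, -, hA⟩ :=
    alt_split hf hN _ ⊤ (fun _ _ => trivial) hnd htd (fun x _ => hc x) d rfl
  rw [hts] at hCs
  obtain ⟨i, t, ht, hit, hi⟩ : ∃ i t, t ≤ b ∧ 2 * t + i = μ ∧
      ((i = 0 ∧ τ = 1) ∨ (i = γ) ∨ (0 < i ∧ i < γ)) := by
    by_cases hlt : μ < γ
    · exact ⟨μ, 0, Nat.zero_le _, by omega, Or.inr (Or.inr ⟨hμ, hlt⟩)⟩
    by_cases hpar : (μ - γ) % 2 = 0
    · exact ⟨γ, (μ - γ) / 2, by omega, by omega, Or.inr (Or.inl rfl)⟩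
    rcases (show γ = 0 ∨ γ = 1 ∨ 2 ≤ γ by omega) with rfl | rfl | hγ2
    · exfalso
      have hC : C = ⊥ := Submodule.finrank_eq_zero.1 hCd
      have hτ1 : τ = 1 := by rw [hCs, hC, sgn_bot]
      have := hplus hτ1 (by rw [Nat.odd_iff]; omega)
      rw [Nat.odd_iff] at this
      omega
    · refine ⟨0, μ / 2, by omega, by omega, Or.inl ⟨rfl, ?_⟩⟩
      by_contra hne
      have := hminus (hτ'.resolve_left hne) (by rw [Nat.even_iff]; omega)
      rw [Nat.even_iff] at this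
      omega
    · exact ⟨γ - 1, (μ - γ + 1) / 2, by omega, by omega, Or.inr (Or.inr ⟨by omega, by omega⟩)⟩
  obtain ⟨A, -, hAb, hAs, hAC, hAo⟩ := hA t ht
  obtain ⟨B, hBC, hBb, hBs⟩ : ∃ B ≤ C, Blk Q N i B ∧ sgn (res Q B) = τ := by
    rcases hi with ⟨rfl, hτ1⟩ | rfl | ⟨h0, hlt⟩
    · exact ⟨⊥, bot_le, blk_bot, by rw [sgn_bot, hτ1]⟩
    · exact ⟨C, le_rfl, ⟨hCn, fun x hx => by rw [hC0 x hx]; exact Submodule.zero_mem _, hCd⟩, hCs.symm⟩
    · obtain ⟨B, hB, hBd, hBs⟩ := exists_sub_even (nd_iff.1 hCn)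
        (fun ho => absurd (hCd ▸ ho) (Nat.not_odd_iff_even.2 (even_two_mul γ))) (j := i)
        (by omega) hτ' (fun h => absurd h (by omega))
      have hiso := iso_map (Q := Q) (Q' := res Q C) C.subtype C.injective_subtype (fun _ => rfl) B
      refine ⟨B.map C.subtype, Submodule.map_subtype_le _ _, ⟨nd_iff.2 (hiso.sep (nd_iff.1 hB)), fun x hx => ?_,
        by rw [Submodule.finrank_map_subtype_eq, hBd]⟩, by rw [← hiso.sgn_eq, hBs]⟩
      rw [hC0 x (Submodule.map_subtype_le _ _ hx)]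
      exact Submodule.zero_mem _
  obtain ⟨hbb, hs⟩ := blk_sup hit hAb hBb (hAC.mono_right hBC) fun a ha b hb => hAo a ha b (hBC hb)
  exact ⟨A ⊔ B, hbb, by rw [hs, hAs, one_mul, hBs]⟩

/-- For a large image without values, an invariant subspace is hyperbolic of dimension divisible by four, or its
orthogonal is. -/
theorem large_alt (hQ : Sep Q) {d : ℕ} (hn : Fintype.card ι = 2 * d) (halt : ∀ x, Q (N x) = 0)
    (hbig : d ≤ finrank F (LinearMap.range N) + 1) {μ : ℕ} {W : Submodule F (ι → F)} (hW : Blk Q N μ W) :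
    (Even μ ∧ sgn (res Q W) = 1) ∨ (Even (d - μ) ∧ sgn (res Q W) = sgn Q) := by
  obtain ⟨hWn, hWi, hWd⟩ := hW
  have hY := nd_orth hQ hWn
  have hYi := inv_orth hf hN hWi
  have hdim := Submodule.finrank_add_eq_of_isCompl (isCompl_orth hWn)
  rw [Module.finrank_fintype_fun_eq_card, hn, hWd] at hdim
  obtain ⟨b, γ, C, hb, -, -, hCd, -, hCs, hr, -⟩ :=
    alt_split hf hN _ W hWi hWn hWd (fun x _ => halt x) μ rfl
  obtain ⟨b', γ', C', hb', -, -, hCd', -, hCs', hr', -⟩ :=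
    alt_split hf hN _ (orth Q W) hYi hY rfl (fun x _ => halt x) (d - μ) (by omega)
  have hc := isCompl_orth hWn
  have hle1 : W.map N ≤ W := Submodule.map_le_iff_le_comap.2 hWi
  have hle2 : (orth Q W).map N ≤ orth Q W := Submodule.map_le_iff_le_comap.2 hYi
  have hrange : LinearMap.range N = W.map N ⊔ (orth Q W).map N := by
    rw [← Submodule.map_sup, hc.sup_eq_top, Submodule.map_top]
  rw [hrange, finrank_sup_of_disjoint (hc.disjoint.mono hle1 hle2), hr, hr'] at hbig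
  rcases (show γ = 0 ∨ γ' = 0 by omega) with rfl | rfl
  · refine Or.inl ⟨⟨b, by omega⟩, ?_⟩
    have : C = ⊥ := Submodule.finrank_eq_zero.1 hCd
    rw [hCs, this, sgn_bot]
  · refine Or.inr ⟨⟨b', by omega⟩, ?_⟩
    have : C' = ⊥ := Submodule.finrank_eq_zero.1 hCd'
    rw [this, sgn_bot] at hCs'
    have hs := sgn_sup hWn hY hc.disjoint (fun a ha b hb => mem_orth.1 hb a ha) ⟨μ, by omega⟩ ⟨d - μ, by omega⟩
    rw [hc.sup_eq_top, ← (iso_top Q).sgn_eq, hCs', mul_one] at hs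
    exact hs.symm

end Basic

/-! ### Elements -/

theorem model (b : ℕ) :
    ∃ T : Module.End F (Fin (b + b) ⊕ Fin (b + b) → F),
      (∀ p, Forms.quadPlus (b + b) F (p + T p) = Forms.quadPlus (b + b) F p) ∧ (∀ p, T (T p) = 0) ∧
      (∀ p, Forms.quadPlus (b + b) F (T p) = 0) ∧ finrank F (LinearMap.range T) = b + b := by
  let σ : Fin (b + b) ≃ Fin (b + b) := finSumFinEquiv.symm.trans ((Equiv.sumComm _ _).trans finSumFinEquiv)
  let T : Module.End F (Fin (b + b) ⊕ Fin (b + b) → F) :=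
    { toFun := fun p => Sum.elim (fun i => p (Sum.inr (σ i))) 0
      map_add' := fun p p' => by funext i; rcases i with i | i <;> simp
      map_smul' := fun s p => by funext i; rcases i with i | i <;> simp }
  refine ⟨T, fun p => ?_, fun p => ?_, fun p => ?_, ?_⟩
  · rw [Forms.quadPlus_apply, Forms.quadPlus_apply]
    have h0 : ∑ i, p (Sum.inr (σ i)) * p (Sum.inr i) = (0 : F) := by
      rw [← Equiv.sum_comp finSumFinEquiv, Fintype.sum_sum_type]
      have e1 : ∀ i : Fin b, σ (finSumFinEquiv (Sum.inl i)) = finSumFinEquiv (Sum.inr i) := fun i => by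
        simp only [σ, Equiv.trans_apply, Equiv.symm_apply_apply]; rfl
      have e2 : ∀ i : Fin b, σ (finSumFinEquiv (Sum.inr i)) = finSumFinEquiv (Sum.inl i) := fun i => by
        simp only [σ, Equiv.trans_apply, Equiv.symm_apply_apply]; rfl
      simp only [e1, e2]
      rw [← Finset.sum_add_distrib]
      exact Finset.sum_eq_zero fun i _ => by rw [mul_comm, CharTwo.add_self_eq_zero]
    simp only [Cfsg.quadFormPlus, T, Pi.add_apply, LinearMap.coe_mk, AddHom.coe_mk, Sum.elim_inl, Sum.elim_inr,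
      Pi.zero_apply, add_zero, add_mul, Finset.sum_add_distrib, h0]
  · funext i
    rcases i with i | i <;> simp [T]
  · rw [Forms.quadPlus_apply]
    simp [Cfsg.quadFormPlus, T]
  · let L : (Fin (b + b) → F) →ₗ[F] (Fin (b + b) ⊕ Fin (b + b) → F) :=
      { toFun := fun y => Sum.elim y 0
        map_add' := fun p p' => by funext i; rcases i with i | i <;> simp
        map_smul' := fun s p => by funext i; rcases i with i | i <;> simp }
    have hr : LinearMap.range T = LinearMap.range L := by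
      ext z
      constructor
      · rintro ⟨p, rfl⟩
        exact ⟨fun i => p (Sum.inr (σ i)), rfl⟩
      · rintro ⟨y, rfl⟩
        refine ⟨Sum.elim 0 fun i => y (σ.symm i), ?_⟩
        funext i
        rcases i with i | i <;> simp [T, L]
    rw [hr, LinearMap.finrank_range_of_inj fun y y' h => funext fun i => congrFun h (Sum.inl i),
      Module.finrank_fin_fun]

/-- An involution with image of dimension at least `d - 1` on which `Q` vanishes. -/
theorem exists_alt (hQ : Sep Q) {d : ℕ} (hn : Fintype.card ι = 2 * d) (hε : sgn Q = 1 ∨ Odd d) :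
    ∃ N : Module.End F (ι → F), (∀ x, Q (x + N x) = Q x) ∧ (∀ x, N (N x) = 0) ∧ (∀ x, Q (N x) = 0) ∧
      Even (finrank F (LinearMap.range N)) ∧ d ≤ finrank F (LinearMap.range N) + 1 := by
  obtain ⟨b, hb⟩ : ∃ b, d = 2 * b ∨ d = 2 * b + 1 := ⟨d / 2, by omega⟩
  obtain ⟨R, hR, hRs⟩ := OrthType.exists_model (F := F) (d - 2 * b) (τ := sgn Q) (sgn_eq_or Q) fun h =>
    hε.resolve_right fun ho => by rw [Nat.odd_iff] at ho; omega
  obtain ⟨T, hT, hTT, hT0, hTr⟩ := model (F := F) b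
  obtain ⟨e, he⟩ := iso_of_sgn (sep_prod (sep_iff.2 (Forms.quadPlus_nondegenerate (b + b))) hR) hQ (M := d)
    (by simp; omega) (by rw [Module.finrank_fintype_fun_eq_card]; omega)
    (by rw [sgn_prod (sep_iff.2 (Forms.quadPlus_nondegenerate (b + b))) hR (A := b + b) (B := d - 2 * b)
      (by simp; omega) (by simp), sgn_of_plus (plusQ_quadPlus _), hRs, one_mul])
  set T' := T.prodMap (0 : Module.End F (Fin (2 * (d - 2 * b)) → F)) with hT'
  have hT'' : ∀ q, T' q = (T q.1, 0) := fun q => rfl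
  refine ⟨e.toLinearMap ∘ₗ T' ∘ₗ e.symm.toLinearMap, fun x => ?_, fun x => ?_, fun x => ?_, ?_⟩
  · obtain ⟨q, rfl⟩ := e.surjective x
    simp only [LinearMap.comp_apply, LinearEquiv.coe_coe, LinearEquiv.symm_apply_apply]
    rw [← map_add, he, he, hT'']
    simp [hT]
  · obtain ⟨q, rfl⟩ := e.surjective x
    simp only [LinearMap.comp_apply, LinearEquiv.coe_coe, LinearEquiv.symm_apply_apply, hT'', hTT]
    exact map_zero e
  · obtain ⟨q, rfl⟩ := e.surjective x
    simp only [LinearMap.comp_apply, LinearEquiv.coe_coe, LinearEquiv.symm_apply_apply]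
    rw [he, hT'']
    simp [hT0]
  · have hr : finrank F (LinearMap.range (e.toLinearMap ∘ₗ T' ∘ₗ e.symm.toLinearMap)) = b + b := by
      have h1 : LinearMap.range T' = (LinearMap.range T).map (LinearMap.inl F _ _) := by
        ext q
        constructor
        · rintro ⟨q, rfl⟩
          exact ⟨T q.1, ⟨q.1, rfl⟩, (hT'' q).symm⟩
        · rintro ⟨_, ⟨p, rfl⟩, rfl⟩
          exact ⟨(p, 0), hT'' _⟩
      rw [LinearMap.range_comp, LinearEquiv.finrank_map_eq, LinearMap.range_comp_of_range_eq_top _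
        (LinearMap.range_eq_top.2 e.symm.surjective), h1,
        ← (Submodule.equivMapOfInjective _ LinearMap.inl_injective (LinearMap.range T)).finrank_eq, hTr]
    rw [hr]
    exact ⟨⟨b, rfl⟩, by omega⟩

/-- `Omega` consists of the isometries `1 + N` with image of even dimension. -/
theorem omega_iff (hQ : Sep Q) (h5 : 5 ≤ Fintype.card ι) {x : GL ι F} (hx : ∀ v, Q (Matrix.toLin' (x : Matrix ι ι F) v) = Q v) :
    x ∈ Cfsg.Geo.omegaGL ⇑Q ↔ Even (finrank F (LinearMap.range (Matrix.toLin' (x : Matrix ι ι F) - 1))) := by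
  have hmem : x ∈ Cfsg.isometryGroup F ⇑Q := fun v w => hx v
  have key := ClassicalSimple.mem_omega_iff_even_rank Q (sep_iff.1 hQ) (Or.inr (by omega)) ⟨x, hmem⟩
  have hrank : ((x : Matrix ι ι F) - 1).rank = finrank F (LinearMap.range (Matrix.toLin' (x : Matrix ι ι F) - 1)) := by
    rw [Matrix.rank, ← Matrix.toLin'_apply', map_sub, Matrix.toLin'_one]
    rfl
  rw [← hrank, ← key]
  constructor
  · rintro ⟨g, hg, rfl⟩
    exact hg
  · exact fun h => ⟨_, h, rfl⟩

theorem exists_gl {N : Module.End F (ι → F)} (hN : ∀ x, N (N x) = 0) :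
    ∃ x : GL ι F, ∀ v, Matrix.toLin' (x : Matrix ι ι F) v = v + N v := by
  have hu : IsUnit (1 + N) := IsNilpotent.isUnit_one_add ⟨2, LinearMap.ext fun v => by
    rw [pow_two, Module.End.mul_apply, hN, LinearMap.zero_apply]⟩
  refine ⟨(hu.map Matrix.toLinAlgEquiv'.symm).unit, fun v => ?_⟩
  show Matrix.toLinAlgEquiv' (_ : Matrix ι ι F) v = _
  rw [IsUnit.unit_spec, AlgEquiv.apply_symm_apply]
  rfl

/-- The elements of order two of the projective group. -/
theorem elem (hQ : Sep Q) (h5 : 5 ≤ Fintype.card ι) {x : GL ι F} (hx : x ∈ Cfsg.Geo.omegaGL ⇑Q)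
    (hz : ∃ z : F, ((x ^ 2 : GL ι F) : Matrix ι ι F) = z • (1 : Matrix ι ι F)) :
    ∃ N : Module.End F (ι → F), (∀ v, Q (v + N v) = Q v) ∧ (∀ v, N (N v) = 0) ∧
      Even (finrank F (LinearMap.range N)) ∧ ∀ v, Matrix.toLin' (x : Matrix ι ι F) v = v + N v := by
  obtain ⟨z, hz⟩ := hz
  set f : Module.End F (ι → F) := Matrix.toLin' (x : Matrix ι ι F) with hfdef
  have hf := OrthGroup.isometry_of_omega hx
  rw [← hfdef] at hf
  have hsq : ∀ v, f (f v) = z • v := fun v => by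
    rw [Units.val_pow_eq_pow_val, pow_two] at hz
    rw [hfdef, Matrix.toLin'_apply, Matrix.toLin'_apply, Matrix.mulVec_mulVec, hz, Matrix.smul_mulVec,
      Matrix.one_mulVec]
  have hz2 := OrthGroup.sq_eq_one_of_scalar hQ (by omega) (z := z) fun v => by rw [← hsq, hf, hf]
  have hz1 : z = 1 := by
    rcases mul_self_eq_one_iff.1 hz2 with h | h
    · exact h
    · rw [h, CharTwo.neg_eq]
  refine ⟨f - 1, fun v => ?_, fun v => ?_, (omega_iff hQ h5 hf).1 hx, fun v => ?_⟩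
  · rw [LinearMap.sub_apply, Module.End.one_apply, add_sub_cancel, hf]
  · simp only [LinearMap.sub_apply, Module.End.one_apply, map_sub, hsq, hz1, one_smul]
    have h2 : (2 : F) • (v - f v) = 0 := by rw [CharTwo.two_eq_zero, zero_smul]
    rw [two_smul] at h2
    rw [show v - f v - (f v - v) = v - f v + (v - f v) by abel, h2]
  · rw [LinearMap.sub_apply, Module.End.one_apply, add_sub_cancel]

/-- A prescribed `N` gives an element. -/
theorem exists_elem (hQ : Sep Q) (h5 : 5 ≤ Fintype.card ι) {N : Module.End F (ι → F)}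
    (hf : ∀ v, Q (v + N v) = Q v) (hN : ∀ v, N (N v) = 0) (hev : Even (finrank F (LinearMap.range N)))
    (hne : N ≠ 0) :
    ∃ x : GL ι F, x ∈ Cfsg.Geo.omegaGL ⇑Q ∧
      (∃ z : F, ((x ^ 2 : GL ι F) : Matrix ι ι F) = z • (1 : Matrix ι ι F)) ∧
      (∀ z : F, (x : Matrix ι ι F) ≠ z • (1 : Matrix ι ι F)) ∧
      ∀ v, Matrix.toLin' (x : Matrix ι ι F) v = v + N v := by
  obtain ⟨x, hx⟩ := exists_gl hN
  refine ⟨x, (omega_iff hQ h5 fun v => by rw [hx, hf]).2 ?_, ⟨1, ?_⟩, fun z hz => hne ?_, hx⟩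
  · rwa [show Matrix.toLin' (x : Matrix ι ι F) - 1 = N from LinearMap.ext fun v => by
      rw [LinearMap.sub_apply, Module.End.one_apply, hx, add_sub_cancel_left]]
  · refine Matrix.ext_iff_mulVec.2 fun v => ?_
    rw [Units.val_pow_eq_pow_val, pow_two, ← Matrix.mulVec_mulVec, ← Matrix.toLin'_apply, ← Matrix.toLin'_apply,
      hx, hx, map_add, hN, add_zero, add_assoc, one_smul, Matrix.one_mulVec]
    conv_lhs => arg 2; rw [← two_smul F (N v), CharTwo.two_eq_zero, zero_smul]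
    rw [add_zero]
  · have hN' : ∀ v, N v = (z - 1) • v := fun v => by
      have := hx v
      rw [hz, Matrix.toLin'_apply, Matrix.smul_mulVec, Matrix.one_mulVec] at this
      rw [sub_smul, one_smul, this]; abel
    refine LinearMap.ext fun v => ?_
    have h := hN v
    rw [hN', hN', smul_smul, smul_eq_zero, mul_self_eq_zero] at h
    rcases h with h | h
    · rw [hN', h, zero_smul, LinearMap.zero_apply]
    · rw [h, map_zero, map_zero]

end Cfsg.Agent.Elusive.OrthEven
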