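import Cfsg.Agent.Lib.Elusive.OrthPrime
import Cfsg.Agent.Lib.QForm.OmegaQuot

/-!
Elements of odd prime order of `Omega(Q)` as linear isometries, and the fixed point congruence showing that some
element of order `r` fixes no member of an orbit of subspaces of size divisible by `r`.
-/

set_option autoImplicit false
set_option linter.unusedSectionVars false

namespace Cfsg.Agent.Elusive.OrthGroup

open Module
open OrthType
open OrthPrime (fixS movS)

universe u

/-! ### Isometry groups of modules -/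

section Abstract

variable {F : Type u} [Field F] [Fintype F] {V : Type u} [AddCommGroup V] [Module F V] [FiniteDimensional F V]
  {W : Type u} [AddCommGroup W] [Module F W] {Q : QuadraticForm F V} {R : QuadraticForm F W}
  {r : ℕ} [Fact r.Prime]

theorem finite_subspaces (P : Submodule F V → Prop) : Finite {A : Submodule F V // P A} := by
  have := Module.finite_of_finite F (M := V)
  infer_instance

theorem pow_toLinearMap (g : V ≃ₗ[F] V) (n : ℕ) :
    (g.toLinearMap : End F V) ^ n = (g ^ n).toLinearMap := by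
  induction n with
  | zero => rfl
  | succ n ih => rw [pow_succ, ih, pow_succ]; rfl

/-- An orbit of subspaces of size divisible by `r` gives an isometry of order `r`. -/
theorem exists_isom_of_dvd (hQ : Sep Q) (hdvd : r ∣ Nat.card {A : Submodule F V // Iso R (res Q A)})
    (hne : ∃ A : Submodule F V, Iso R (res Q A)) :
    ∃ f : End F V, (∀ x, Q (f x) = Q x) ∧ f ^ r = 1 ∧ f ≠ 1 := by
  classical
  obtain ⟨A₀, hA₀⟩ := hne
  have := Module.finite_of_finite F (M := V)
  have : Finite (V ≃ₗ[F] V) := Finite.of_injective _ DFunLike.coe_injective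
  let G := Forms.isomQ Q
  let X := {A : Submodule F V // Iso R (res Q A)}
  have hmem : ∀ (g : G) (A : X), Iso R (res Q (A.1.map (g : V ≃ₗ[F] V).toLinearMap)) := fun g A =>
    A.2.trans (iso_map (g : V ≃ₗ[F] V).toLinearMap (g : V ≃ₗ[F] V).injective (fun x => g.2 x x) A.1)
  letI : MulAction G X :=
    { smul := fun g A => ⟨A.1.map (g : V ≃ₗ[F] V).toLinearMap, hmem g A⟩
      one_smul := fun A => Subtype.ext (Submodule.map_id A.1)
      mul_smul := fun g h A => Subtype.ext
        (Submodule.map_comp (h : V ≃ₗ[F] V).toLinearMap (g : V ≃ₗ[F] V).toLinearMap A.1) }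
  have : MulAction.IsPretransitive G X := ⟨fun A B => by
    obtain ⟨g, hg, hgm⟩ := exists_isom_map hQ (A.2.symm.trans B.2)
    exact ⟨⟨g, hg⟩, Subtype.ext hgm⟩⟩
  have hX : r ∣ Nat.card G := by
    rw [← MulAction.index_stabilizer_of_transitive G (⟨A₀, hA₀⟩ : X)] at hdvd
    exact hdvd.trans (Subgroup.index_dvd_card _)
  obtain ⟨g, hg⟩ := exists_prime_orderOf_dvd_card' (G := G) r hX
  refine ⟨(g : V ≃ₗ[F] V).toLinearMap, fun x => g.2 x x, ?_, fun h => ?_⟩
  · rw [pow_toLinearMap, ← SubmonoidClass.coe_pow, ← hg, pow_orderOf_eq_one]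
    rfl
  · have : g = 1 := Subtype.ext (LinearEquiv.toLinearMap_injective h)
    rw [this, orderOf_one] at hg
    exact (Fact.out : r.Prime).one_lt.ne hg

/-- If fixed members of the orbit lie in the fixed space, some element of order `r` fixes none of them. -/
theorem exists_free (hr : (r : F) ≠ 0) (hQ : Sep Q)
    (hdvd : r ∣ Nat.card {A : Submodule F V // Iso R (res Q A)})
    (hne : ∃ A : Submodule F V, Iso R (res Q A))
    (hsmall : ∀ f : End F V, (∀ x, Q (f x) = Q x) → f ^ r = 1 → f ≠ 1 → ∀ A : Submodule F V,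
      Iso R (res Q A) → Inv f A → A ≤ fixS f) :
    ∃ f : End F V, (∀ x, Q (f x) = Q x) ∧ f ^ r = 1 ∧ f ≠ 1 ∧
      ∀ A : Submodule F V, Iso R (res Q A) → ¬ Inv f A := by
  classical
  have := Module.finite_of_finite F (M := V)
  let S : Set (End F V) := {f | (∀ x, Q (f x) = Q x) ∧ f ^ r = 1 ∧ f ≠ 1}
  have hS : S.Nonempty := exists_isom_of_dvd hQ hdvd hne
  have : Finite (End F V) := Finite.of_injective _ DFunLike.coe_injective
  obtain ⟨f, ⟨hf, hpow, hf1⟩, hmin⟩ :=
    Set.exists_min_image S (fun f => finrank F (fixS f)) (Set.toFinite S) hS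
  refine ⟨f, hf, hpow, hf1, fun A hA hAf => ?_⟩
  set C := fixS f with hC
  have hc : IsCompl C (movS f) := (Semisimple.isCompl_moved hpow hr).symm
  have hCn : Nd Q C := fun x hx hall => hQ x fun y => by
    obtain ⟨a, ha, b, hb, rfl⟩ := Submodule.mem_sup.1
      (show y ∈ C ⊔ movS f by rw [hc.sup_eq_top]; trivial)
    rw [QuadraticMap.polar_add_right, hall a ha, OrthPrime.fix_mov_orth hf hx hb, add_zero]
  -- the fixed members are those inside the fixed space
  let X := {A : Submodule F V // Iso R (res Q A)}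
  have := finite_subspaces fun A : Submodule F V => Iso R (res Q A)
  let φ : V ≃ₗ[F] V := LinearEquiv.ofLinear f (f ^ (r - 1))
    (by
      show f * f ^ (r - 1) = 1
      rw [← pow_succ', Nat.sub_add_cancel (Fact.out : r.Prime).pos, hpow])
    (by
      show f ^ (r - 1) * f = 1
      rw [← pow_succ, Nat.sub_add_cancel (Fact.out : r.Prime).pos, hpow])
  let g : Function.End X := fun B =>
    ⟨B.1.map φ.toLinearMap, B.2.trans (iso_map φ.toLinearMap φ.injective (fun x => hf x) B.1)⟩
  have hgn : ∀ (n : ℕ) (B : X), ((g ^ n) B).1 = B.1.map (f ^ n) := by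
    intro n
    induction n with
    | zero => intro B; exact (Submodule.map_id B.1).symm
    | succ n ih =>
      intro B
      have h1 : ((g ^ (n + 1)) B).1 = ((g ^ n) B).1.map f := by rw [pow_succ']; rfl
      rw [h1, ih, ← Submodule.map_comp, pow_succ', Module.End.mul_eq_comp]
  have hg : g ^ r ^ 1 = 1 := funext fun B => Subtype.ext (by
    rw [pow_one, hgn, hpow, Module.End.one_eq_id, Submodule.map_id]
    rfl)
  letI := Fintype.ofFinite X
  have hmod := Equiv.Perm.card_fixedPoints_modEq hg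
  have hfix : Fintype.card g.fixedPoints = Nat.card {B : Submodule F C // Iso R (res (res Q C) B)} := by
    rw [← Nat.card_eq_fintype_card]
    refine Nat.card_congr
      { toFun := fun B => ⟨B.1.1.comap C.subtype, ?_⟩
        invFun := fun B => ⟨⟨B.1.map C.subtype, B.2.trans (iso_map _ C.injective_subtype (fun _ => rfl) B.1)⟩, ?_⟩
        left_inv := fun B => ?_
        right_inv := fun B => ?_ }
    · have hle : B.1.1 ≤ C := hsmall f hf hpow hf1 _ B.1.2 fun x hx => by
        have h := congrArg Subtype.val B.2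
        change B.1.1.map φ.toLinearMap = B.1.1 at h
        rw [← h]
        exact ⟨x, hx, rfl⟩
      exact B.1.2.trans ⟨(Submodule.comapSubtypeEquivOfLe hle).symm, fun _ => rfl⟩
    · refine Subtype.ext ?_
      show (B.1.map C.subtype).map φ.toLinearMap = B.1.map C.subtype
      rw [← Submodule.map_comp]
      exact congrArg (B.1.map ·) (LinearMap.ext fun x => OrthPrime.mem_fixS.1 x.2)
    · refine Subtype.ext (Subtype.ext ?_)
      show (B.1.1.comap C.subtype).map C.subtype = B.1.1
      have hle : B.1.1 ≤ C := hsmall f hf hpow hf1 _ B.1.2 fun x hx => by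
        have h := congrArg Subtype.val B.2
        change B.1.1.map φ.toLinearMap = B.1.1 at h
        rw [← h]
        exact ⟨x, hx, rfl⟩
      rw [Submodule.map_comap_eq, Submodule.range_subtype, inf_eq_right.2 hle]
    · exact Subtype.ext (Submodule.comap_map_eq_of_injective C.injective_subtype B.1)
  rw [hfix, ← Nat.card_eq_fintype_card] at hmod
  have hdvd' : r ∣ Nat.card {B : Submodule F C // Iso R (res (res Q C) B)} :=
    (Nat.modEq_zero_iff_dvd).1 (hmod.symm.trans ((Nat.modEq_zero_iff_dvd).2 hdvd))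
  have hAC : A ≤ C := hsmall f hf hpow hf1 A hA hAf
  obtain ⟨h, hh, hhr, hh1⟩ := exists_isom_of_dvd (nd_iff.1 hCn) hdvd'
    ⟨A.comap C.subtype, hA.trans ⟨(Submodule.comapSubtypeEquivOfLe hAC).symm, fun _ => rfl⟩⟩
  let E := Submodule.prodEquivOfIsCompl _ _ hc
  let f' : End F V := E.conj (h.prodMap (f.restrict (Semisimple.moved_stable f)))
  have hE : ∀ p, E p = (p.1 : V) + p.2 := fun p => Submodule.coe_prodEquivOfIsCompl' _ _ hc p
  have hf'E : ∀ p : C × movS f, f' (E p) = (h p.1 : V) + f p.2 := fun p => by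
    rw [LinearEquiv.conj_apply_apply, LinearEquiv.symm_apply_apply, hE]
    rfl
  have hf'Q : ∀ x, Q (f' x) = Q x := fun x => by
    obtain ⟨p, rfl⟩ := E.surjective x
    rw [hf'E, hE, Q_add_orth (OrthPrime.fix_mov_orth hf p.1.2 p.2.2),
      Q_add_orth (OrthPrime.fix_mov_orth hf (h p.1).2 (Semisimple.moved_stable f _ p.2.2)), hf]
    exact congrArg (· + _) (hh p.1)
  have hf'r : f' ^ r = 1 := by
    show (E.conjRingEquiv (h.prodMap (f.restrict (Semisimple.moved_stable f)))) ^ r = 1
    rw [← map_pow, Semisimple.prodMap_pow, hhr, Semisimple.restrict_pow_eq_one _ hpow, Semisimple.prodMap_one_one,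
      map_one]
  obtain ⟨v, hv⟩ : ∃ v, h v ≠ v := by
    by_contra! hall
    exact hh1 (LinearMap.ext hall)
  have hlt : fixS f' < C := by
    refine lt_of_le_of_ne (fun x hx => ?_) fun he => hv ?_
    · obtain ⟨p, rfl⟩ := E.surjective x
      have hx' := OrthPrime.mem_fixS.1 hx
      rw [hf'E, hE] at hx'
      have hq : E (h p.1, (f.restrict (Semisimple.moved_stable f)) p.2) = E p := by rw [hE, hE]; exact hx'
      have hp2 := congrArg Prod.snd (E.injective hq)
      have h0 : (p.2 : V) = 0 := Semisimple.moved_fixed hpow hr p.2.2 (congrArg Subtype.val hp2)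
      rw [hE, h0, add_zero]
      exact p.1.2
    · have hm : (v : V) ∈ fixS f' := by rw [he]; exact v.2
      have hvE : (v : V) = E (v, 0) := by rw [hE]; simp
      have h' := OrthPrime.mem_fixS.1 hm
      rw [hvE, hf'E, hE] at h'
      exact Subtype.ext (by simpa using h')
  have hne1 : f' ≠ 1 := fun he => hv (by
    have h' := LinearMap.congr_fun he (E (v, 0))
    rw [hf'E, Module.End.one_apply, hE] at h'
    exact Subtype.ext (by simpa using h'))
  exact absurd (hmin f' ⟨hf'Q, hf'r, hne1⟩) (not_le.2 (Submodule.finrank_lt_finrank_of_lt hlt))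

end Abstract

/-! ### Matrices -/

section Matrices

variable {F : Type u} [Field F] [Fintype F] {ι : Type} [Fintype ι] [DecidableEq ι] {Q : QuadraticForm F (ι → F)}
  {r : ℕ} [Fact r.Prime]

/-- All elements of order `r` leave a member invariant. -/
def AllFix (Q : QuadraticForm F (ι → F)) (r : ℕ) (P : Submodule F (ι → F) → Prop) : Prop :=
  ∀ f : End F (ι → F), (∀ v, Q (f v) = Q v) → f ^ r = 1 → f ≠ 1 → ∃ W, P W ∧ Inv f W

theorem toLin_pow (M : Matrix ι ι F) (n : ℕ) : (Matrix.toLin' M : End F (ι → F)) ^ n = Matrix.toLin' (M ^ n) :=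
  (map_pow (Matrix.toLinAlgEquiv' : Matrix ι ι F ≃ₐ[F] _) M n).symm

theorem isometry_of_omega {x : GL ι F} (hx : x ∈ Cfsg.Geo.omegaGL ⇑Q) (v : ι → F) :
    Q (Matrix.toLin' (x : Matrix ι ι F) v) = Q v := by
  obtain ⟨g, -, rfl⟩ := hx
  exact g.2 v v

theorem exists_element (hQ : Sep Q) (hn : 5 ≤ Fintype.card ι) (hr2 : r ≠ 2) {f : End F (ι → F)}
    (hf : ∀ v, Q (f v) = Q v) (hpow : f ^ r = 1) :
    ∃ x : GL ι F, x ∈ Cfsg.Geo.omegaGL ⇑Q ∧ Matrix.toLin' (x : Matrix ι ι F) = f ∧ x ^ r = 1 := by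
  set M : Matrix ι ι F := LinearMap.toMatrix' f with hM
  have hMr : M ^ r = 1 := by
    rw [hM]
    refine Matrix.toLin'.injective ?_
    rw [← toLin_pow, Matrix.toLin'_toMatrix', hpow, Matrix.toLin'_one]
    rfl
  have hr0 : 1 ≤ r := (Fact.out : r.Prime).pos
  let x : GL ι F := ⟨M, M ^ (r - 1), by rw [← pow_succ', Nat.sub_add_cancel hr0, hMr],
    by rw [← pow_succ, Nat.sub_add_cancel hr0, hMr]⟩
  have hxf : Matrix.toLin' (x : Matrix ι ι F) = f := Matrix.toLin'_toMatrix' f
  have hxr : x ^ r = 1 := Units.ext (by rw [Units.val_pow_eq_pow_val]; exact hMr)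
  have hxI : x ∈ Cfsg.isometryGroup F ⇑Q := fun v w => by
    show Q (Matrix.toLin' (x : Matrix ι ι F) v) = Q v
    rw [hxf, hf]
  refine ⟨x, ⟨⟨x, hxI⟩, ?_, rfl⟩, hxf, hxr⟩
  have h0 : (⟨x, hxI⟩ : Cfsg.isometryGroup F ⇑Q) ^ r = 1 := Subtype.ext hxr
  have h1 := QForm.of_mul_self (sep_iff.1 hQ) (Or.inr (by omega)) ⟨x, hxI⟩
  obtain ⟨k, hk⟩ := (Fact.out : r.Prime).odd_of_ne_two hr2
  have h3 : Abelianization.of (⟨x, hxI⟩ : Cfsg.isometryGroup F ⇑Q) ^ r = 1 := by rw [← map_pow, h0, map_one]
  rw [hk, pow_succ, pow_mul, pow_two, h1, one_pow, one_mul] at h3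
  exact (Abelianization.ker_of (Cfsg.isometryGroup F ⇑Q)).le (MonoidHom.mem_ker.2 h3)

theorem exists_nonsingular (hQ : Sep Q) (hn : 1 ≤ Fintype.card ι) : ∃ v, Q v ≠ 0 :=
  QForm.exists_ne_zero (sep_iff.1 hQ) hn

theorem sq_eq_one_of_scalar (hQ : Sep Q) (hn : 1 ≤ Fintype.card ι) {z : F}
    (h : ∀ v, Q (z • v) = Q v) : z * z = 1 := by
  obtain ⟨v, hv⟩ := exists_nonsingular hQ hn
  have := h v
  rw [QuadraticMap.map_smul, smul_eq_mul] at this
  exact mul_right_cancel₀ hv (this.trans (one_mul _).symm)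

/-- The criterion for the projective group. -/
theorem allFix_iff (hQ : Sep Q) (hn : 5 ≤ Fintype.card ι) (hr2 : r ≠ 2) (P : Submodule F (ι → F) → Prop) :
    (∀ x : GL ι F, x ∈ Cfsg.Geo.omegaGL ⇑Q →
      (∃ z : F, ((x ^ r : GL ι F) : Matrix ι ι F) = z • (1 : Matrix ι ι F)) →
      (∀ z : F, (x : Matrix ι ι F) ≠ z • (1 : Matrix ι ι F)) →
      ∃ W, P W ∧ W.map (Matrix.toLin' (x : Matrix ι ι F)) ≤ W) ↔ AllFix Q r P := by
  constructor
  · intro h f hf hpow hf1
    obtain ⟨x, hx, hxf, hxr⟩ := exists_element hQ hn hr2 hf hpow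
    have hns : ∀ z : F, (x : Matrix ι ι F) ≠ z • (1 : Matrix ι ι F) := fun z hz => hf1 (by
      have hfz : f = z • (1 : End F (ι → F)) := by
        rw [← hxf, hz, map_smul, Matrix.toLin'_one]
        rfl
      have hz2 := sq_eq_one_of_scalar hQ (by omega) (z := z) fun v => by
        have := hf v
        rwa [hfz] at this
      have hzr : z ^ r = 1 := by
        obtain ⟨v, hv⟩ := exists_nonsingular hQ (by omega)
        have hv0 : v ≠ 0 := fun e => hv (by rw [e, QuadraticMap.map_zero])
        have h1 := LinearMap.congr_fun hpow v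
        rw [hfz, smul_pow, one_pow, LinearMap.smul_apply, Module.End.one_apply] at h1
        exact smul_left_injective F hv0 (h1.trans (one_smul F v).symm)
      obtain ⟨k, hk⟩ := (Fact.out : r.Prime).odd_of_ne_two hr2
      rw [hk, pow_succ, pow_mul, pow_two, hz2, one_pow, one_mul] at hzr
      rw [hfz, hzr, one_smul])
    obtain ⟨W, hW, hinv⟩ := h x hx ⟨1, by rw [hxr, one_smul]; rfl⟩ hns
    exact ⟨W, hW, inv_iff_map.2 (by rw [← hxf]; exact hinv)⟩
  · rintro h x hx ⟨z, hz⟩ hns
    have hxQ := isometry_of_omega hx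
    set g : End F (ι → F) := Matrix.toLin' (x : Matrix ι ι F) with hg
    have hgr : g ^ r = z • 1 := by
      rw [hg, toLin_pow, ← Units.val_pow_eq_pow_val, hz, map_smul, Matrix.toLin'_one]
      rfl
    have hgn : ∀ (n : ℕ) v, Q ((g ^ n) v) = Q v := fun n => by
      induction n with
      | zero => intro v; rfl
      | succ n ih => intro v; rw [pow_succ', Module.End.mul_apply, hxQ, ih]
    have hz2 := sq_eq_one_of_scalar hQ (by omega) (z := z) fun v => by
      have := hgn r v
      rwa [hgr] at this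
    have hz0 : z ≠ 0 := fun e => by simp [e] at hz2
    obtain ⟨k, hk⟩ := (Fact.out : r.Prime).odd_of_ne_two hr2
    have hzr : z ^ r = z := by rw [hk, pow_succ, pow_mul, pow_two, hz2, one_pow, one_mul]
    obtain ⟨W, hW, hinv⟩ := h (z • g) (fun v => by
        rw [LinearMap.smul_apply, QuadraticMap.map_smul, smul_eq_mul, hz2, one_mul, hxQ])
      (by rw [smul_pow, hzr, hgr, smul_smul, hz2, one_smul]) fun he => hns z (by
        refine Matrix.toLin'.injective ?_
        rw [map_smul, Matrix.toLin'_one, ← hg]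
        calc g = (z * z) • g := by rw [hz2, one_smul]
          _ = z • LinearMap.id := by rw [← smul_smul, he]; rfl)
    refine ⟨W, hW, inv_iff_map.1 fun v hv => ?_⟩
    have := W.smul_mem z (hinv v hv)
    rwa [LinearMap.smul_apply, smul_smul, hz2, one_smul] at this

/-- The criterion for elements of order `r`. -/
theorem allFix_iff' (hQ : Sep Q) (hn : 5 ≤ Fintype.card ι) (hr2 : r ≠ 2) (P : Submodule F (ι → F) → Prop) :
    (∀ x : GL ι F, x ∈ Cfsg.Geo.omegaGL ⇑Q → orderOf x = r →
      ∃ W, P W ∧ W.map (Matrix.toLin' (x : Matrix ι ι F)) ≤ W) ↔ AllFix Q r P := by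
  constructor
  · intro h f hf hpow hf1
    obtain ⟨x, hx, hxf, hxr⟩ := exists_element hQ hn hr2 hf hpow
    have hx1 : x ≠ 1 := fun e => hf1 (by rw [← hxf, e, Units.val_one, Matrix.toLin'_one]; rfl)
    obtain ⟨W, hW, hinv⟩ := h x hx (orderOf_eq_prime hxr hx1)
    exact ⟨W, hW, inv_iff_map.2 (by rw [← hxf]; exact hinv)⟩
  · intro h x hx hxo
    obtain ⟨W, hW, hinv⟩ := h (Matrix.toLin' (x : Matrix ι ι F)) (isometry_of_omega hx)
      (by rw [toLin_pow, ← Units.val_pow_eq_pow_val, ← hxo, pow_orderOf_eq_one, Units.val_one, Matrix.toLin'_one]; rfl)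
      fun he => by
        have hx1 : x = 1 := Units.ext (Matrix.toLin'.injective (by rw [he, Units.val_one, Matrix.toLin'_one]; rfl))
        rw [hx1, orderOf_one] at hxo
        exact (Fact.out : r.Prime).one_lt.ne hxo
    exact ⟨W, hW, inv_iff_map.1 hinv⟩

end Matrices

end Cfsg.Agent.Elusive.OrthGroup
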