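import Cfsg.Agent.Lib.Elusive.OrthBridge
import Cfsg.Agent.Lib.Semisimple.PrimeOrder

/-!
Elements of odd prime order `r ≠ p` in orthogonal groups: the criteria in closed form.
-/

set_option autoImplicit false
set_option linter.unusedSectionVars false

namespace Cfsg.Agent.Elusive.OrthMain

open Module
open Semisimple (RootField)
open OrthType OrthGroup OrthCriteria OrthBridge

universe u

variable {F : Type u} [Field F] [Fintype F] {r p : ℕ} [Fact r.Prime] [Fact p.Prime] [CharP F p]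
  {ι : Type} [Fintype ι] [DecidableEq ι] {Q : QuadraticForm F (ι → F)}

local notation "i₀" => orderOf (Fintype.card F : ZMod r)

theorem blk_eq : OrthModel.blk F r = bdim i₀ := rfl

theorem eta_eq : OrthModel.eta F r = bsgn i₀ := rfl

include p

theorem order_pos (hrp : r ≠ p) : 0 < i₀ := by
  obtain ⟨K, _, _, _, ζ, hK⟩ := Semisimple.exists_rootField (F := F) (r := r) p hrp
  exact Nat.pos_of_ne_zero fun h => by
    have := ZMod.orderOf_dvd_card_sub_one (p := r) hK.card_ne_zero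
    rw [h, zero_dvd_iff] at this
    have := (Fact.out : r.Prime).two_le
    omega

theorem orbit_pos (hrp : r ≠ p) : 1 ≤ (r - 1) / i₀ := by
  obtain ⟨K, _, _, _, ζ, hK⟩ := Semisimple.exists_rootField (F := F) (r := r) p hrp
  have hd := ZMod.orderOf_dvd_card_sub_one (p := r) hK.card_ne_zero
  have := (Fact.out : r.Prime).two_le
  exact Nat.div_pos (Nat.le_of_dvd (by omega) hd) (order_pos (p := p) hrp)

/-- Totally singular subspaces. -/
theorem sing_main (hrp : r ≠ p) (hr2 : r ≠ 2) (hQ : Sep Q) (hodd : Odd (Fintype.card ι) → (2 : F) ≠ 0) {m : ℕ}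
    (hm : m ≤ widx (Fintype.card ι) (sgn Q))
    (hdvd : r ∣ Nat.card {W : Submodule F (ι → F) // SingP Q m W}) :
    AllFix Q r (SingP Q m) ↔ i₀ ≤ m ∧ ∀ E, Adm (bdim i₀) (bsgn i₀) (Fintype.card ι) (sgn Q) E →
      SingOk i₀ (bdim i₀) ((r - 1) / i₀) (bsgn i₀) (Fintype.card ι) (sgn Q) m E := by
  obtain ⟨K, _, _, _, ζ, hK⟩ := Semisimple.exists_rootField (F := F) (r := r) p hrp
  have key := sing_allFix_iff hK hQ hr2 hodd m
  rw [blk_eq, eta_eq] at key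
  refine ⟨fun h => ⟨sing_order_le hK hQ hr2 hdvd ?_ h, key.1 h⟩, fun h => key.2 h.2⟩
  obtain ⟨U, hU, hUd⟩ := exists_ts hQ (fun h => hodd (by rwa [Module.finrank_fintype_fun_eq_card] at h)) (j := m)
    (by rwa [Module.finrank_fintype_fun_eq_card])
  exact ⟨U, hUd, hU⟩

/-- Non-degenerate subspaces of even dimension. -/
theorem even_main (hrp : r ≠ p) (hr2 : r ≠ 2) (hQ : Sep Q) (hodd : Odd (Fintype.card ι) → (2 : F) ≠ 0) {μ : ℕ}
    (hμ : 0 < μ) (hμn : 2 * μ < Fintype.card ι) {τ : ℤ} (hτ : τ = 1 ∨ τ = -1)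
    (hdvd : r ∣ Nat.card {W : Submodule F (ι → F) // EvenP Q (2 * μ) τ W}) :
    AllFix Q r (EvenP Q (2 * μ) τ) ↔ bdim i₀ ≤ 2 * μ ∧
      ∀ E, Adm (bdim i₀) (bsgn i₀) (Fintype.card ι) (sgn Q) E →
        EvenOk (bdim i₀) (bsgn i₀) (Fintype.card ι) (sgn Q) (2 * μ) τ E := by
  obtain ⟨K, _, _, _, ζ, hK⟩ := Semisimple.exists_rootField (F := F) (r := r) p hrp
  have key := even_allFix_iff hK hQ hr2 hodd (even_two_mul μ) hτ
  rw [blk_eq, eta_eq] at key
  refine ⟨fun h => ⟨blk_eq (F := F) (r := r) ▸ even_blk_le hK hQ hr2 hτ hμ hdvd ?_ h, key.1 h⟩, fun h => key.2 h.2⟩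
  obtain ⟨A, hA, hAd, hAs⟩ := exists_sub_even hQ (fun h => hodd (by rwa [Module.finrank_fintype_fun_eq_card] at h))
    (j := μ) (by rwa [Module.finrank_fintype_fun_eq_card]) hτ (fun h => absurd h (by omega))
  exact ⟨A, hAd, hA, hAs⟩

/-- Non-degenerate subspaces of odd dimension. -/
theorem odd_main (hrp : r ≠ p) (hr2 : r ≠ 2) (hQ : Sep Q) (h2 : (2 : F) ≠ 0) (hn : Even (Fintype.card ι)) {m : ℕ}
    (hm : Odd m) {W₀ : Submodule F (ι → F)} (hW : Nd Q W₀) (hWd : finrank F W₀ = m)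
    (hdvd : r ∣ Nat.card {W : Submodule F (ι → F) // Iso (res Q W₀) (res Q W)}) :
    AllFix Q r (fun W => Iso (res Q W₀) (res Q W)) ↔ bdim i₀ ≤ m ∧
      ∀ E, Adm (bdim i₀) (bsgn i₀) (Fintype.card ι) (sgn Q) E → OddOk (bdim i₀) (Fintype.card ι) m E := by
  obtain ⟨K, _, _, _, ζ, hK⟩ := Semisimple.exists_rootField (F := F) (r := r) p hrp
  have key := odd_allFix_iff hK hQ hr2 h2 hn (nd_iff.1 hW) hm hWd
  rw [blk_eq, eta_eq] at key
  exact ⟨fun h => ⟨blk_eq (F := F) (r := r) ▸ nd_blk_le hK hQ hr2 (nd_iff.1 hW) hWd hdvd ⟨W₀, Iso.refl _⟩ h, key.1 h⟩,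
    fun h => key.2 h.2⟩

/-- Even dimension: the numerical condition alone, which forces the blocks to be small. -/
theorem even_main_all (hrp : r ≠ p) (hr2 : r ≠ 2) (hQ : Sep Q) (hodd : Odd (Fintype.card ι) → (2 : F) ≠ 0) {μ : ℕ}
    (hμ : 0 < μ) (hμn : 2 * μ < Fintype.card ι) {τ : ℤ} (hτ : τ = 1 ∨ τ = -1)
    (hdvd : r ∣ Nat.card {W : Submodule F (ι → F) // EvenP Q (2 * μ) τ W}) :
    (AllFix Q r (EvenP Q (2 * μ) τ) ↔ ∀ E, Adm (bdim i₀) (bsgn i₀) (Fintype.card ι) (sgn Q) E →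
        EvenOk (bdim i₀) (bsgn i₀) (Fintype.card ι) (sgn Q) (2 * μ) τ E) ∧
      ((∀ E, Adm (bdim i₀) (bsgn i₀) (Fintype.card ι) (sgn Q) E →
        EvenOk (bdim i₀) (bsgn i₀) (Fintype.card ι) (sgn Q) (2 * μ) τ E) → bdim i₀ ≤ 2 * μ) := by
  obtain ⟨K, _, _, _, ζ, hK⟩ := Semisimple.exists_rootField (F := F) (r := r) p hrp
  have key := even_allFix_iff hK hQ hr2 hodd (even_two_mul μ) hτ
  rw [blk_eq, eta_eq] at key
  exact ⟨key, fun h => ((even_main (p := p) hrp hr2 hQ hodd hμ hμn hτ hdvd).1 (key.2 h)).1⟩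

/-- Odd dimension: the numerical condition alone, which forces the blocks to be small. -/
theorem odd_main_all (hrp : r ≠ p) (hr2 : r ≠ 2) (hQ : Sep Q) (h2 : (2 : F) ≠ 0) (hn : Even (Fintype.card ι))
    {m : ℕ} (hm : Odd m) {W₀ : Submodule F (ι → F)} (hW : Nd Q W₀) (hWd : finrank F W₀ = m)
    (hdvd : r ∣ Nat.card {W : Submodule F (ι → F) // Iso (res Q W₀) (res Q W)}) :
    (AllFix Q r (fun W => Iso (res Q W₀) (res Q W)) ↔
        ∀ E, Adm (bdim i₀) (bsgn i₀) (Fintype.card ι) (sgn Q) E → OddOk (bdim i₀) (Fintype.card ι) m E) ∧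
      ((∀ E, Adm (bdim i₀) (bsgn i₀) (Fintype.card ι) (sgn Q) E → OddOk (bdim i₀) (Fintype.card ι) m E) →
        bdim i₀ ≤ m) := by
  obtain ⟨K, _, _, _, ζ, hK⟩ := Semisimple.exists_rootField (F := F) (r := r) p hrp
  have key := odd_allFix_iff hK hQ hr2 h2 hn (nd_iff.1 hW) hm hWd
  rw [blk_eq, eta_eq] at key
  exact ⟨key, fun h => ((odd_main (p := p) hrp hr2 hQ h2 hn hm hW hWd hdvd).1 (key.2 h)).1⟩

end Cfsg.Agent.Elusive.OrthMain
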