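import Cfsg.Agent.Lib.Elusive.SympDecompositionOrbit
import Cfsg.Agent.Lib.Semisimple.SympBlocks
import Cfsg.Agent.Lib.Semisimple.Isometry

/-!
Totally isotropic invariant subspaces of symplectic isometries of odd prime order, in terms of the
multiplicities of the Frobenius orbits of eigenvalues.
-/

set_option autoImplicit false
set_option linter.unusedSectionVars false
set_option linter.style.haveILetI false

namespace Cfsg.Agent.Elusive.SympIsotropic

open Polynomial Module
open Semisimple (RootField Orb orbMult negOrb)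
open SympDecomp (Nd nd_split)

universe u

variable {F : Type u} [Field F] [Fintype F] {r : ℕ} [Fact r.Prime] {K : Type} [Field K] [Algebra F K] [Finite K]
  {ζ : K} (hK : RootField F r K ζ)

local notation "i₀" => orderOf (Fintype.card F : ZMod r)

include hK

theorem order_pos : 0 < i₀ := by rw [← hK.deg]; exact Module.finrank_pos

/-- Restriction of a map of order dividing `r`. -/
theorem restrict_pow {V : Type*} [AddCommGroup V] [Module F V] {f : End F V} (hpow : f ^ r = 1)
    {W : Submodule F V} (hW : Inv f W) : (f.restrict hW) ^ r = 1 := by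
  refine LinearMap.ext fun x => Subtype.ext ?_
  rw [Module.End.pow_restrict, LinearMap.coe_restrict_apply, hpow]
  rfl

/-- The multiplicities of a map split by an equivariant bijection. -/
theorem orbMult_of_equiv {U U' V : Type*} [AddCommGroup U] [Module F U] [FiniteDimensional F U] [AddCommGroup U']
    [Module F U'] [FiniteDimensional F U'] [AddCommGroup V] [Module F V] [FiniteDimensional F V]
    (Ψ : (U × U') ≃ₗ[F] V) (g : End F U) (g' : End F U') (f : End F V)
    (h : ∀ a b, f (Ψ (a, b)) = Ψ (g a, g' b)) :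
    (orbMult ζ f : Orb F r → ℕ) = orbMult ζ g + orbMult ζ g' := by
  rw [← hK.orbMult_prodMap g g', ← RootField.orbMult_conj (g.prodMap g') Ψ]
  congr 1
  refine LinearMap.ext fun v => ?_
  obtain ⟨⟨a, b⟩, rfl⟩ := Ψ.surjective v
  rw [LinearEquiv.conj_apply_apply, LinearEquiv.symm_apply_apply, h]
  rfl

section Single

variable {V : Type*} [AddCommGroup V] [Module F V] [FiniteDimensional F V] {f : End F V} (hpow : f ^ r = 1)
include hpow

/-- The moved dimension is the total multiplicity times the degree. -/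
theorem finrank_fix :
    finrank F (LinearMap.ker (f - 1)) + i₀ * ∑ c, (orbMult ζ f : Orb F r → ℕ) c = finrank F V := by
  classical
  have hcompl := isCompl_parts hK.unit hpow
  set C := LinearMap.ker (f - 1) with hC
  set M := LinearMap.ker (aeval f (∑ j ∈ Finset.range r, X ^ j : F[X])) with hM
  have hCi : Inv f C := fun v hv => by
    rw [sub_eq_zero.1 (show (f - 1) v = 0 from hv)]; exact hv
  have hMi : Inv f M := fun v hv => by
    have hc : aeval f (∑ j ∈ Finset.range r, X ^ j : F[X]) * f =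
        f * aeval f (∑ j ∈ Finset.range r, X ^ j : F[X]) := by
      conv_lhs => arg 2; rw [← aeval_X (R := F) f]
      conv_rhs => arg 1; rw [← aeval_X (R := F) f]
      rw [← map_mul, ← map_mul, mul_comm]
    rw [hM, LinearMap.mem_ker] at hv ⊢
    rw [← Module.End.mul_apply, hc, Module.End.mul_apply, hv, map_zero]
  have hCM := Submodule.finrank_add_eq_of_isCompl hcompl
  have h1 : (orbMult ζ f : Orb F r → ℕ) = orbMult ζ (f.restrict hCi) + orbMult ζ (f.restrict hMi) :=
    orbMult_of_equiv hK (Submodule.prodEquivOfIsCompl C M hcompl) _ _ f fun a b => by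
      rw [Submodule.coe_prodEquivOfIsCompl', Submodule.coe_prodEquivOfIsCompl', map_add]
      rfl
  have hone : f.restrict hCi = 1 := LinearMap.ext fun v => Subtype.ext (sub_eq_zero.1 v.2)
  rw [hone, hK.orbMult_one, zero_add] at h1
  have hle : i₀ * ∑ c, (orbMult ζ f : Orb F r → ℕ) c ≤ finrank F M := by
    rw [h1]; exact hK.orbMult_le _ (restrict_pow hK hpow hMi)
  -- the opposite inequality from a model
  obtain ⟨f₀, hf₀, hf₀a, -⟩ := hK.exists_realisation (orbMult ζ f)
  set d := finrank F V - i₀ * ∑ c, (orbMult ζ f : Orb F r → ℕ) c with hd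
  have htot := hK.orbMult_le f hpow
  let e : ((Fin (i₀ * ∑ c, (orbMult ζ f : Orb F r → ℕ) c) → F) × (Fin d → F)) ≃ₗ[F] V :=
    LinearEquiv.ofFinrankEq _ _ (by rw [Module.finrank_prod, Module.finrank_fin_fun, Module.finrank_fin_fun]; omega)
  have hg : (e.conj (f₀.prodMap 1)) ^ r = 1 := by
    show (e.conjRingEquiv (f₀.prodMap 1)) ^ r = 1
    rw [← map_pow, show (f₀.prodMap (1 : End F (Fin d → F))) ^ r = 1 from ?_, map_one]
    have : ∀ k, (f₀.prodMap (1 : End F (Fin d → F))) ^ k = (f₀ ^ k).prodMap 1 := fun k => by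
      induction k with
      | zero => exact LinearMap.ext fun x => rfl
      | succ k ih => rw [pow_succ, ih, pow_succ f₀]; exact LinearMap.ext fun x => rfl
    rw [this, hf₀]
    exact LinearMap.ext fun x => rfl
  obtain ⟨T, hT⟩ := Semisimple.exists_intertwine (finrank F V) V V (e.conj (f₀.prodMap 1)) f rfl
    (hK.ss_of_pow _ hg) (hK.ss_of_pow f hpow) (hK.charpoly_eq_of_orbMult _ f hg hpow rfl (by
      rw [RootField.orbMult_conj, hK.orbMult_prodMap, hK.orbMult_one, add_zero, hf₀a]))
  have hge : d ≤ finrank F C := by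
    let L : (Fin d → F) →ₗ[F] C :=
      LinearMap.codRestrict C (T.toLinearMap.comp (e.toLinearMap.comp (LinearMap.inr F _ _))) fun v => by
        show (f - 1) (T (e (0, v))) = 0
        rw [LinearMap.sub_apply, Module.End.one_apply, ← hT, LinearEquiv.conj_apply_apply,
          LinearEquiv.symm_apply_apply, sub_eq_zero]
        simp
    have hL : Function.Injective L := fun a b h => by
      have h' := e.injective (T.injective (congrArg Subtype.val h))
      exact (Prod.ext_iff.1 h').2
    have := LinearMap.finrank_le_finrank_of_injective hL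
    rwa [Module.finrank_fin_fun] at this
  omega

end Single

section Bound

variable {V : Type*} [AddCommGroup V] [Module F V] [FiniteDimensional F V] {B : LinearMap.BilinForm F V}
  (hA : B.IsAlt) (hN : ∀ x, (∀ y, B x y = 0) → x = 0) {f : End F V} (hf : ∀ u v, B (f u) (f v) = B u v)
  (hpow : f ^ r = 1)
include hA hN hf hpow

/-- A totally isotropic invariant subspace takes at most half of the fixed and of every moved part. -/
theorem iso_bound {W : Submodule F V} (hW : Inv f W) (hiso : ∀ u ∈ W, ∀ v ∈ W, B u v = 0) :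
    ∃ (o : Orb F r → ℕ) (j : ℕ), (∀ c, o c + o (c * negOrb F r) ≤ (orbMult ζ f : Orb F r → ℕ) c) ∧
      finrank F W = j + i₀ * ∑ c, o c ∧ 2 * j ≤ finrank F (LinearMap.ker (f - 1)) := by
  classical
  have hr' := (Fact.out : r.Prime)
  have hr := hK.unit
  have hss := isSemisimple_of_pow hr hpow
  have hWle : W ≤ B.orthogonal W := fun v hv n hn => hiso n hn v hv
  obtain ⟨W', hW', hcompl⟩ := exists_compl hss (SympDecomp.inv_orth hf hr'.pos hpow hW)
  have hd : finrank F W' = finrank F W := by
    have h1 := LinearMap.BilinForm.finrank_orthogonal (B := B) ⟨hN, fun y hy => hN y fun x => by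
      rw [SympDecomp.swap hA x y, hy x, neg_zero]⟩ W
    have h2 := Submodule.finrank_add_eq_of_isCompl hcompl
    have h3 := Submodule.finrank_le W
    omega
  set g := f.restrict hW
  set g' := f.restrict hW'
  have hg := restrict_pow hK hpow hW
  -- `W'` is dual to `W`
  let φ : W' →ₗ[F] Module.Dual F W := LinearMap.flip (B.compl₁₂ W.subtype W'.subtype)
  have hφ : Function.Injective φ := (injective_iff_map_eq_zero φ).2 fun y hy => by
    have hy' : (y : V) ∈ B.orthogonal W := fun n hn => LinearMap.congr_fun hy ⟨n, hn⟩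
    exact Subtype.ext ((Submodule.mem_bot F).1 (hcompl.inf_eq_bot ▸ ⟨hy', y.2⟩))
  let E := LinearMap.linearEquivOfInjective φ hφ (by rw [hd, Subspace.dual_finrank_eq])
  have hconj : E.conj g' = (g ^ (r - 1)).dualMap := by
    refine LinearMap.ext fun ψ => ?_
    obtain ⟨y, rfl⟩ := E.surjective ψ
    rw [LinearEquiv.conj_apply_apply, LinearEquiv.symm_apply_apply]
    refine LinearMap.ext fun w => ?_
    rw [LinearMap.dualMap_apply]
    show B (w : V) (f y) = B ((g ^ (r - 1)) w : V) y
    have e : f ((g ^ (r - 1)) w : V) = w := by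
      show ((g * g ^ (r - 1)) w : V) = w
      rw [← pow_succ', Nat.sub_add_cancel hr'.pos, hg]
      rfl
    conv_lhs => rw [← e, hf]
  have hg'a : ∀ c, (orbMult ζ g' : Orb F r → ℕ) c = orbMult ζ g (c * negOrb F r) := fun c => by
    rw [← RootField.orbMult_conj g' E, hconj, orbMult, Semisimple.charpoly_dualMap, ← orbMult]
    have h := hK.orbMult_inv g hg (c * negOrb F r)
    rwa [mul_assoc, Semisimple.negOrb_mul_self, mul_one] at h
  -- the rest
  obtain ⟨Q, hQ, hYQ⟩ := exists_compl hss (hW.sup hW')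
  let Ψ₀ : ((W × W') × Q) →ₗ[F] V := (W.subtype.coprod W'.subtype).coprod Q.subtype
  have hΨ : Function.Bijective Ψ₀ := by
    constructor
    · rw [injective_iff_map_eq_zero]
      rintro ⟨⟨w, w'⟩, q⟩ h
      have h' : (w : V) + w' + q = 0 := h
      have hq : q = 0 := Subtype.ext ((Submodule.mem_bot F).1 (hYQ.inf_eq_bot ▸ ⟨by
        rw [eq_neg_of_add_eq_zero_right h']
        exact Submodule.neg_mem _ (Submodule.add_mem_sup w.2 w'.2), q.2⟩))
      subst hq
      rw [Submodule.coe_zero, add_zero] at h'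
      have hw' : w' = 0 := Subtype.ext ((Submodule.mem_bot F).1 (hcompl.inf_eq_bot ▸ ⟨by
        rw [eq_neg_of_add_eq_zero_right h']
        exact Submodule.neg_mem _ (hWle w.2), w'.2⟩))
      subst hw'
      rw [Submodule.coe_zero, add_zero] at h'
      obtain rfl : w = 0 := Subtype.ext h'
      rfl
    · rw [← LinearMap.range_eq_top]
      show LinearMap.range ((W.subtype.coprod W'.subtype).coprod Q.subtype) = ⊤
      rw [LinearMap.range_coprod, LinearMap.range_coprod, Submodule.range_subtype, Submodule.range_subtype,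
        Submodule.range_subtype, hYQ.sup_eq_top]
  have hsum : (orbMult ζ f : Orb F r → ℕ) = orbMult ζ g + orbMult ζ g' + orbMult ζ (f.restrict hQ) := by
    rw [← hK.orbMult_prodMap g g']
    exact orbMult_of_equiv hK (LinearEquiv.ofBijective Ψ₀ hΨ) _ _ f fun a b => by
      show f ((a.1 : V) + a.2 + b) = f a.1 + f a.2 + f b
      rw [map_add, map_add]
  -- fixed vectors of `W`
  have hn : finrank F W = finrank F ↥(LinearMap.ker (f - 1) ⊓ W) + i₀ * ∑ c, (orbMult ζ g : Orb F r → ℕ) c := by
    rw [← finrank_fix hK hg]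
    congr 1
    let e : LinearMap.ker (g - 1) ≃ₗ[F] ↥(LinearMap.ker (f - 1) ⊓ W) :=
      { toFun := fun v => ⟨v.1.1, congrArg Subtype.val v.2, v.1.2⟩
        map_add' := fun _ _ => rfl
        map_smul' := fun _ _ => rfl
        invFun := fun v => ⟨⟨v.1, v.2.2⟩, Subtype.ext v.2.1⟩
        left_inv := fun _ => rfl
        right_inv := fun _ => rfl }
    exact e.finrank_eq
  refine ⟨orbMult ζ g, _, fun c => ?_, hn, ?_⟩
  · have h := congrFun hsum c
    rw [Pi.add_apply, Pi.add_apply, hg'a] at h
    omega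
  · set C := LinearMap.ker (f - 1) with hC
    have hCn := (SympDecomp.split_fixed hA hf hr hpow (S := ⊤) (fun _ _ => trivial) fun u _ hu => by
      by_contra! hall
      exact hu (hN u fun y => hall y trivial)).1
    rw [← hC, inf_top_eq] at hCn
    -- a totally isotropic subspace of the fixed space
    let T : (C ⊓ W : Submodule F V) →ₗ[F] Module.Dual F C := B.compl₁₂ (C ⊓ W).subtype C.subtype
    have hker : LinearMap.ker T = ⊥ := LinearMap.ker_eq_bot'.2 fun w hw => by
      by_contra hne
      obtain ⟨v, hv, h⟩ := hCn w w.2.1 (fun h => hne (Subtype.ext h))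
      exact h (LinearMap.congr_fun hw ⟨v, hv⟩)
    have hle : LinearMap.range T ≤
        ((C ⊓ W).comap C.subtype).dualAnnihilator := by
      rintro _ ⟨w, rfl⟩
      exact (Submodule.mem_dualAnnihilator _).2 fun v hv => hiso w w.2.2 v hv.2
    have h1 := Submodule.finrank_mono hle
    rw [LinearMap.finrank_range_of_inj (LinearMap.ker_eq_bot.1 hker)] at h1
    have h2 := Subspace.finrank_add_finrank_dualAnnihilator_eq ((C ⊓ W).comap C.subtype)
    rw [(Submodule.comapSubtypeEquivOfLe (inf_le_left : C ⊓ W ≤ C)).finrank_eq] at h2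
    omega

end Bound

/-- An isometry with multiplicities `b + b^* + e` and its totally isotropic invariant subspaces. -/
theorem exists_model (hr2 : r ≠ 2) {d h : ℕ} (b e : Orb F r → ℕ) (he : e = 0 ∨ Even i₀)
    (hdim : 2 * (h + i₀ * ∑ c, b c) + i₀ * ∑ c, e c = 2 * d) :
    ∃ f : End F (Fin d ⊕ Fin d → F), (∀ u v, Forms.sympB d F (f u) (f v) = Forms.sympB d F u v) ∧ f ^ r = 1 ∧
      (∀ c, (orbMult ζ f : Orb F r → ℕ) c = b c + b (c * negOrb F r) + e c) ∧
      ∀ w j : ℕ, w ≤ ∑ c, b c → j ≤ h → ∃ W : Submodule F (Fin d ⊕ Fin d → F),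
        Inv f W ∧ (∀ u ∈ W, ∀ v ∈ W, Forms.sympB d F u v = 0) ∧ finrank F W = j + w * i₀ := by
  classical
  obtain ⟨f₀, hf₀, hf₀a, -⟩ := hK.exists_realisation b
  let U := (Fin (i₀ * ∑ c, b c) → F) × (Fin h → F)
  let f₁ : End F U := f₀.prodMap 1
  have hf₁ : f₁ ^ r = 1 := by
    have : ∀ k, f₁ ^ k = (f₀ ^ k).prodMap 1 := fun k => by
      induction k with
      | zero => exact LinearMap.ext fun x => rfl
      | succ k ih => rw [pow_succ, ih, pow_succ f₀]; exact LinearMap.ext fun x => rfl
    rw [this, hf₀]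
    exact LinearMap.ext fun x => rfl
  have hf₁a : (orbMult ζ f₁ : Orb F r → ℕ) = b := by
    rw [hK.orbMult_prodMap, hK.orbMult_one, add_zero, hf₀a]
  obtain ⟨n₂, B₂, f₂, hA₂, hN₂, hf₂, hp₂, ha₂, hn₂⟩ : ∃ (n₂ : ℕ) (B₂ : LinearMap.BilinForm F (Fin n₂ → F))
      (f₂ : End F (Fin n₂ → F)), B₂.IsAlt ∧ (∀ x, (∀ y, B₂ x y = 0) → x = 0) ∧
      (∀ x y, B₂ (f₂ x) (f₂ y) = B₂ x y) ∧ f₂ ^ r = 1 ∧ (orbMult ζ f₂ : Orb F r → ℕ) = e ∧
      n₂ = i₀ * ∑ c, e c := by
    by_cases hev : Even i₀
    · obtain ⟨B₂, f₂, h1, h2, h3, h4, h5⟩ := hK.exists_symp_realisation hr2 hev e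
      exact ⟨_, B₂, f₂, h1, h2, h3, h4, h5, rfl⟩
    · refine ⟨0, 0, 1, fun x => rfl, fun x _ => funext fun l => l.elim0, fun x y => rfl, one_pow r, ?_, ?_⟩
      · rw [hK.orbMult_one, he.resolve_right hev]
      · rw [he.resolve_right hev]; simp
  let g₁ : End F (Module.Dual F U) := (f₁ ^ (r - 1)).dualMap
  let f' : End F ((U × Module.Dual F U) × (Fin n₂ → F)) := (f₁.prodMap g₁).prodMap f₂
  let P : LinearMap.BilinForm F ((U × Module.Dual F U) × (Fin n₂ → F)) :=
    LinearMap.mk₂ F (fun x y => (y.1.2 x.1.1 - x.1.2 y.1.1) + B₂ x.2 y.2)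
      (fun a a' c => by simp; ring) (fun s a c => by simp; ring) (fun a c c' => by simp; ring)
      (fun s a c => by simp; ring)
  have hP : ∀ x y, P x y = (y.1.2 x.1.1 - x.1.2 y.1.1) + B₂ x.2 y.2 := fun x y => rfl
  have hPA : P.IsAlt := fun x => by rw [hP, sub_self, zero_add, hA₂]
  have hPN : ∀ x, (∀ y, P x y = 0) → x = 0 := fun x hx => by
    have h1 : x.1.1 = 0 := (Module.forall_dual_apply_eq_zero_iff F x.1.1).1 fun ψ => by
      have h := hx ((0, ψ), 0)
      simpa [hP] using h
    have h2 : x.1.2 = 0 := LinearMap.ext fun v => by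
      have h := hx ((v, 0), 0)
      simpa [hP] using h
    have h3 : x.2 = 0 := hN₂ _ fun y => by
      have h := hx ((0, 0), y)
      simpa [hP] using h
    exact Prod.ext (Prod.ext h1 h2) h3
  have hinv₁ : ∀ v, (f₁ ^ (r - 1)) (f₁ v) = v := fun v => by
    rw [← Module.End.mul_apply, ← pow_succ, Nat.sub_add_cancel (Fact.out : r.Prime).pos, hf₁]
    rfl
  have hPf : ∀ x y, P (f' x) (f' y) = P x y := fun x y => by
    rw [hP, hP]
    show (y.1.2 ((f₁ ^ (r - 1)) (f₁ x.1.1)) - x.1.2 ((f₁ ^ (r - 1)) (f₁ y.1.1))) + B₂ (f₂ x.2) (f₂ y.2) = _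
    rw [hinv₁, hinv₁, hf₂]
  have hdual : ∀ k, g₁ ^ k = ((f₁ ^ (r - 1)) ^ k).dualMap := fun k => by
    induction k with
    | zero => exact LinearMap.ext fun x => LinearMap.ext fun v => rfl
    | succ k ih =>
      rw [pow_succ, ih, pow_succ' (f₁ ^ (r - 1))]
      exact LinearMap.ext fun x => LinearMap.ext fun v => rfl
  have hf'k : ∀ k, f' ^ k = ((f₁ ^ k).prodMap (g₁ ^ k)).prodMap (f₂ ^ k) := fun k => by
    induction k with
    | zero => exact LinearMap.ext fun x => rfl
    | succ k ih =>
      rw [pow_succ, ih, pow_succ f₁, pow_succ g₁, pow_succ f₂]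
      exact LinearMap.ext fun x => rfl
  have hf'r : f' ^ r = 1 := by
    rw [hf'k, hf₁, hdual, ← pow_mul, Nat.mul_comm (r - 1) r, pow_mul, hf₁, one_pow, hp₂]
    exact LinearMap.ext fun x => rfl
  obtain ⟨m, E, hm, hE⟩ := Forms.SympTwo.exists_alt_equiv (β := P) hPA hPN
  obtain rfl : m = d := by
    have hU : finrank F U = i₀ * ∑ c, b c + h := by
      rw [Module.finrank_prod, Module.finrank_fin_fun, Module.finrank_fin_fun]
    rw [Module.finrank_prod, Module.finrank_prod, Subspace.dual_finrank_eq, hU, Module.finrank_fin_fun, hn₂] at hm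
    omega
  refine ⟨E.conj f', fun u v => ?_, ?_, fun c => ?_, fun w j hw hj => ?_⟩
  · obtain ⟨x, rfl⟩ := E.surjective u
    obtain ⟨y, rfl⟩ := E.surjective v
    rw [LinearEquiv.conj_apply_apply, LinearEquiv.conj_apply_apply, LinearEquiv.symm_apply_apply,
      LinearEquiv.symm_apply_apply, Forms.sympB_apply, Forms.sympB_apply, ← hE, ← hE, hPf]
  · show (E.conjRingEquiv f') ^ r = 1
    rw [← map_pow, hf'r, map_one]
  · rw [RootField.orbMult_conj, hK.orbMult_prodMap, hK.orbMult_prodMap, Pi.add_apply, Pi.add_apply, ha₂, hf₁a]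
    have h1 := hK.orbMult_inv f₁ hf₁ (c * negOrb F r)
    rw [mul_assoc, Semisimple.negOrb_mul_self, mul_one, hf₁a] at h1
    show b c + (orbMult ζ g₁ : Orb F r → ℕ) c + e c = _
    rw [orbMult, Semisimple.charpoly_dualMap, ← orbMult, h1]
  · have hfix := finrank_fix hK hf₁
    rw [hf₁a, Module.finrank_prod, Module.finrank_fin_fun, Module.finrank_fin_fun] at hfix
    obtain ⟨-, S, -, hS, -, -, hSd⟩ := exists_nested hK.unit hf₁ (a := j) (b := w) (le_refl j) (le_refl w)
      (by omega) (by
        rw [Module.finrank_prod, Module.finrank_fin_fun, Module.finrank_fin_fun]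
        have := Nat.mul_le_mul_right i₀ hw
        rw [mul_comm (∑ c, b c)] at this
        omega)
    let L : U →ₗ[F] (Fin m ⊕ Fin m → F) :=
      E.toLinearMap.comp ((LinearMap.inl F _ _).comp (LinearMap.inl F U (Module.Dual F U)))
    refine ⟨S.map L, ?_, ?_, ?_⟩
    · rintro _ ⟨s, hs, rfl⟩
      refine ⟨f₁ s, hS s hs, ?_⟩
      show E ((f₁ s, 0), 0) = E.conj f' (E ((s, 0), 0))
      rw [LinearEquiv.conj_apply_apply, LinearEquiv.symm_apply_apply]
      congr 1
      simp [f']
    · rintro _ ⟨s, -, rfl⟩ _ ⟨s', -, rfl⟩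
      show Forms.sympB m F (E ((s, 0), 0)) (E ((s', 0), 0)) = 0
      rw [Forms.sympB_apply, ← hE, hP]
      simp
    · rw [← (Submodule.equivMapOfInjective L (fun a c hac => congrArg (fun x => x.1.1) (E.injective hac)) S).finrank_eq,
        hSd]

end Cfsg.Agent.Elusive.SympIsotropic
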