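import Cfsg.Agent.Lib.Elusive.OrthSub
import Cfsg.Agent.Lib.Elusive.SympIsotropic
import Cfsg.Agent.Lib.Semisimple.OrthBlocks
import Cfsg.Agent.Lib.Semisimple.OrthClasses

/-!
Fixed-point-free orthogonal models of odd prime order with prescribed orbit multiplicities: their sign and their
totally singular invariant subspaces.
-/

set_option autoImplicit false
set_option linter.unusedSectionVars false

namespace Cfsg.Agent.Elusive.OrthModel

open Module
open Semisimple (RootField Orb orbMult negOrb prodMap_pow prodMap_one_one)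
open OrthType

universe u

variable {F : Type u} [Field F] [Fintype F] {r : ℕ} [Fact r.Prime]

local notation "i₀" => orderOf (Fintype.card F : ZMod r)

/-- The dimension of an orthogonal block. -/
noncomputable def blk (F : Type u) [Fintype F] (r : ℕ) : ℕ := SympDecomp.blockDim (Fintype.card F) r

/-- The sign of an orthogonal block. -/
noncomputable def eta (F : Type u) [Fintype F] (r : ℕ) : ℤ :=
  if Even (orderOf (Fintype.card F : ZMod r)) then -1 else 1

theorem eta_eq_or : eta F r = 1 ∨ eta F r = -1 := by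
  unfold eta; split_ifs <;> simp

/-- The multiplicities of an orthogonal map. -/
def Symm (a : Orb F r → ℕ) : Prop := ∀ c, a (c * negOrb F r) = a c

/-- The number of orthogonal blocks. -/
noncomputable def tot (a : Orb F r → ℕ) : ℕ := if Even i₀ then ∑ c, a c else (∑ c, a c) / 2

/-- The number of blocks in a maximal totally singular invariant subspace. -/
noncomputable def lmax (a : Orb F r → ℕ) : ℕ := if Even i₀ then ∑ c, a c / 2 else (∑ c, a c) / 2

variable {K : Type} [Field K] [Algebra F K] [Finite K] {ζ : K} (hK : RootField F r K ζ) (hr2 : r ≠ 2)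

include hK

theorem i_pos : 0 < i₀ := by rw [← hK.deg]; exact Module.finrank_pos

theorem blk_pos : 0 < blk F r := by
  have := i_pos hK
  unfold blk SympDecomp.blockDim
  split <;> omega

include hr2

theorem neg_eq_one (hi : Even i₀) : negOrb F r = 1 := (hK.negOrb_eq_one_iff hr2).2 hi

theorem neg_ne_one (hi : ¬ Even i₀) : negOrb F r ≠ 1 := fun h => hi ((hK.negOrb_eq_one_iff hr2).1 h)

/-- A decomposition `b + b* + e` of symmetric multiplicities. -/
theorem exists_decomp {a : Orb F r → ℕ} (ha : Symm a) :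
    ∃ b e : Orb F r → ℕ, (∀ c, b c + b (c * negOrb F r) + e c = a c) ∧ (e = 0 ∨ Even i₀) ∧
      ∑ c, b c = lmax a ∧ (Even (tot a) ↔ (¬ Even i₀ ∧ Even (∑ c, b c)) ∨ (Even i₀ ∧ Even (∑ c, e c))) ∧
      blk F r * tot a = i₀ * ∑ c, a c := by
  classical
  by_cases hi : Even i₀
  · refine ⟨fun c => a c / 2, fun c => a c % 2, fun c => ?_, Or.inr hi, ?_, ?_, ?_⟩
    · show a c / 2 + a (c * negOrb F r) / 2 + a c % 2 = a c
      rw [neg_eq_one hK hr2 hi, mul_one]
      omega
    · rw [lmax, if_pos hi]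
    · rw [tot, if_pos hi]
      have hs : ∑ c, a c = 2 * ∑ c, a c / 2 + ∑ c, a c % 2 := by
        rw [Finset.mul_sum, ← Finset.sum_add_distrib]
        exact Finset.sum_congr rfl fun c _ => by omega
      rw [hs, Nat.even_add]
      simp [hi]
    · simp only [blk, SympDecomp.blockDim, tot, if_pos hi]
  · obtain ⟨b, hb, hbs⟩ := Semisimple.exists_half _ (Semisimple.negOrb_mul_self F r) (neg_ne_one hK hr2 hi) a ha
    have h2 : (∑ c, a c) / 2 = ∑ c, b c := by rw [← hbs]; omega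
    refine ⟨b, 0, fun c => by rw [Pi.zero_apply, add_zero]; exact hb c, Or.inl rfl, ?_, ?_, ?_⟩
    · rw [lmax, if_neg hi, h2]
    · rw [tot, if_neg hi, h2]
      simp [hi]
    · simp only [blk, SympDecomp.blockDim, tot, if_neg hi, h2]
      rw [← hbs]
      ring

theorem blk_tot {a : Orb F r → ℕ} (ha : Symm a) : blk F r * tot a = i₀ * ∑ c, a c := by
  obtain ⟨-, -, -, -, -, -, h⟩ := exists_decomp hK hr2 ha
  exact h

/-- The sign of a space filled by an element of even order `i`. -/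
theorem sgn_fpf (hi : Even i₀) {V : Type*} [AddCommGroup V] [Module F V] [FiniteDimensional F V]
    {Q : QuadraticForm F V} (hQ : Sep Q) {f : End F V} (hf : f ^ r = 1) (hQf : ∀ x, Q (f x) = Q x)
    (hfix : ∀ x, f x = x → x = 0) {S : ℕ} (hd : finrank F V = i₀ * S) : sgn Q = (-1) ^ S := by
  obtain ⟨k, hk⟩ := hi
  have hz := RootField.card_zeros_modEq Q f hf hQf fun x hx _ => hfix x hx
  have hd' : finrank F V = 2 * (k * S) := by rw [hd, hk]; ring
  have h := congrArg (Int.cast (R := ZMod r)) (q_num_zero hQ hd')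
  push_cast at h
  rw [show (num Q 0 : ZMod r) = 1 from hz, two_mul, pow_add, pow_succ, hK.pow_half_mul hr2 hk S] at h
  have hq1 : (Fintype.card F : ZMod r) - 1 ≠ 0 := sub_ne_zero.2 (hK.card_ne_one_of_even ⟨k, hk⟩)
  have hn1 : (-1 : ZMod r) ≠ 1 := hK.neg_one_ne_one hr2
  have hs : ((-1 : ZMod r)) ^ S * (-1) ^ S = 1 := by rw [← mul_pow]; simp
  rw [hs, mul_one] at h
  have h' : ((sgn Q : ℤ) : ZMod r) * (-1) ^ S = 1 :=
    mul_right_cancel₀ hq1 (by linear_combination (-h))
  rcases sgn_eq_or Q with e | e <;> rcases Nat.even_or_odd S with hS | hS <;>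
    rw [e, hS.neg_one_pow] at h' ⊢ <;> first | rfl | (exfalso; apply hn1; simpa using h')

/-- The split model. -/
theorem exists_split_model (b : Orb F r → ℕ) :
    ∃ (R : QuadraticForm F (Module.Dual F (Fin (i₀ * ∑ c, b c) → F) × (Fin (i₀ * ∑ c, b c) → F)))
      (g : End F (Module.Dual F (Fin (i₀ * ∑ c, b c) → F) × (Fin (i₀ * ∑ c, b c) → F))),
      Sep R ∧ PlusQ R ∧ (∀ x, R (g x) = R x) ∧ g ^ r = 1 ∧
      (∀ c, (orbMult ζ g : Orb F r → ℕ) c = b c + b (c * negOrb F r)) ∧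
      ∀ w ≤ ∑ c, b c, ∃ U, Inv g U ∧ (∀ x ∈ U, R x = 0) ∧ finrank F U = i₀ * w := by
  set n := i₀ * ∑ c, b c
  obtain ⟨f₀, hf₀, hf₀a, -⟩ : ∃ f₀ : End F (Fin n → F), f₀ ^ r = 1 ∧ (orbMult ζ f₀ : Orb F r → ℕ) = b ∧ True := by
    obtain ⟨f₀, h1, h2, -⟩ := hK.exists_realisation b
    exact ⟨f₀, h1, h2, trivial⟩
  have hr0 : 1 ≤ r := (Fact.out : r.Prime).pos
  have hcancel : ∀ v, (f₀ ^ (r - 1)) (f₀ v) = v := fun v => by
    rw [← Module.End.mul_apply, ← pow_succ, Nat.sub_add_cancel hr0, hf₀]; rfl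
  let g₁ : End F (Module.Dual F (Fin n → F)) := (f₀ ^ (r - 1)).dualMap
  have hg₁ : g₁ ^ r = 1 := by
    have hk : ∀ k, g₁ ^ k = ((f₀ ^ (r - 1)) ^ k).dualMap := fun k => by
      induction k with
      | zero => exact LinearMap.ext fun x => rfl
      | succ k ih =>
        rw [pow_succ, ih, pow_succ' (f₀ ^ (r - 1))]
        exact LinearMap.ext fun x => rfl
    rw [hk, ← pow_mul, mul_comm, pow_mul, hf₀, one_pow]
    exact LinearMap.ext fun x => rfl
  refine ⟨QuadraticForm.dualProd F (Fin n → F), g₁.prodMap f₀, fun p hp => ?_, ?_, fun p => ?_, ?_, fun c => ?_,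
    fun w hw => ?_⟩
  · refine Prod.ext (LinearMap.ext fun v => ?_) ((Module.forall_dual_apply_eq_zero_iff F p.2).1 fun ψ => ?_)
    · have h := hp (0, v)
      simpa [QuadraticMap.polar, QuadraticForm.dualProd_apply] using h
    · have h := hp (ψ, 0)
      simpa [QuadraticMap.polar, QuadraticForm.dualProd_apply] using h
  · refine ⟨LinearMap.range (LinearMap.inr F (Module.Dual F (Fin n → F)) (Fin n → F)), ?_, ?_⟩
    · rintro _ ⟨v, rfl⟩
      simp [QuadraticForm.dualProd_apply]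
    · rw [LinearMap.finrank_range_of_inj LinearMap.inr_injective, Module.finrank_prod, Subspace.dual_finrank_eq]
      omega
  · simp only [QuadraticForm.dualProd_apply, LinearMap.prodMap_apply]
    show p.1 ((f₀ ^ (r - 1)) (f₀ p.2)) = p.1 p.2
    rw [hcancel]
  · rw [prodMap_pow, hg₁, hf₀, prodMap_one_one]
  · have h1 := hK.orbMult_inv f₀ hf₀ (c * negOrb F r)
    rw [mul_assoc, Semisimple.negOrb_mul_self, mul_one, hf₀a] at h1
    rw [hK.orbMult_prodMap, Pi.add_apply, hf₀a, orbMult, Semisimple.charpoly_dualMap, ← orbMult, h1, add_comm]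
  · have hfix := SympIsotropic.finrank_fix hK hf₀
    rw [hf₀a, Module.finrank_fin_fun] at hfix
    obtain ⟨-, S, -, hS, -, -, hSd⟩ := exists_nested hK.unit hf₀ (a := 0) (b := w) (le_refl 0) (le_refl w)
      (Nat.zero_le _) (by
        rw [Module.finrank_fin_fun]
        have := Nat.mul_le_mul_left i₀ hw
        rw [mul_comm w]
        omega)
    refine ⟨S.map (LinearMap.inr F (Module.Dual F (Fin n → F)) (Fin n → F)), ?_, ?_, ?_⟩
    · rintro _ ⟨s, hs, rfl⟩
      exact ⟨f₀ s, hS s hs, by simp⟩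
    · rintro _ ⟨s, -, rfl⟩
      simp [QuadraticForm.dualProd_apply]
    · rw [← (Submodule.equivMapOfInjective _ LinearMap.inr_injective S).finrank_eq, hSd, zero_add, mul_comm]

/-- A fixed-point-free model for every symmetric tuple. -/
theorem exists_model {a : Orb F r → ℕ} (ha : Symm a) :
    ∃ (R : QuadraticForm F (Fin (i₀ * ∑ c, a c) → F)) (g : End F (Fin (i₀ * ∑ c, a c) → F)),
      Sep R ∧ (∀ x, R (g x) = R x) ∧ g ^ r = 1 ∧ (∀ x, g x = x → x = 0) ∧ (orbMult ζ g : Orb F r → ℕ) = a ∧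
      sgn R = eta F r ^ tot a ∧
      ∀ w ≤ lmax a, ∃ U, Inv g U ∧ (∀ x ∈ U, R x = 0) ∧ finrank F U = i₀ * w := by
  classical
  obtain ⟨b, e, hab, he, hb, hpar, -⟩ := exists_decomp hK hr2 ha
  obtain ⟨R₁, g₁, hR₁, hp₁, hg₁, hr₁, ha₁, hts⟩ := exists_split_model hK hr2 b
  obtain ⟨n₂, R₂, g₂, hR₂, hg₂, hp₂, ha₂, hn₂, hs₂⟩ : ∃ (n₂ : ℕ) (R₂ : QuadraticForm F (Fin n₂ → F))
      (g₂ : End F (Fin n₂ → F)), Sep R₂ ∧ (∀ x, R₂ (g₂ x) = R₂ x) ∧ g₂ ^ r = 1 ∧
      (orbMult ζ g₂ : Orb F r → ℕ) = e ∧ n₂ = i₀ * ∑ c, e c ∧ sgn R₂ = eta F r ^ ∑ c, e c := by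
    by_cases hev : Even i₀
    · obtain ⟨R₂, g₂, h1, h2, h3, h4, h5⟩ := hK.exists_orth_realisation hr2 hev e
      refine ⟨_, R₂, g₂, sep_iff.2 h1, h2, h3, h5, rfl, ?_⟩
      rw [sgn_fpf hK hr2 hev (sep_iff.2 h1) h3 h2 h4 (S := ∑ c, e c) (Module.finrank_fin_fun F), eta, if_pos hev]
    · have he0 := he.resolve_right hev
      refine ⟨0, 0, 1, fun x _ => funext fun l => l.elim0, fun x => rfl, one_pow r, ?_, ?_, ?_⟩
      · rw [hK.orbMult_one, he0]
      · rw [he0]; simp
      · rw [he0, sgn_of_plus ⟨⊥, fun u hu => rfl, by simp⟩]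
        simp
  set n := i₀ * ∑ c, a c
  have hsum : ∑ c, a c = 2 * ∑ c, b c + ∑ c, e c := by
    rw [← Finset.sum_congr rfl fun c _ => hab c, Finset.sum_add_distrib, Finset.sum_add_distrib,
      show (∑ c, b (c * negOrb F r)) = ∑ c, b c from Equiv.sum_comp (Equiv.mulRight (negOrb F r)) b, ← two_mul]
  let G : End F _ := g₁.prodMap g₂
  let E := LinearEquiv.ofFinrankEq (R := F)
    ((Module.Dual F (Fin (i₀ * ∑ c, b c) → F) × (Fin (i₀ * ∑ c, b c) → F)) × (Fin n₂ → F)) (Fin n → F) (by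
      rw [Module.finrank_prod, Module.finrank_prod, Subspace.dual_finrank_eq, Module.finrank_fin_fun,
        Module.finrank_fin_fun, Module.finrank_fin_fun, hn₂]
      simp only [n, hsum]
      ring)
  let R := (R₁.prod R₂).comp E.symm.toLinearMap
  have hER : ∀ x, R (E x) = R₁.prod R₂ x := fun x => by simp [R]
  have hiso : Iso (R₁.prod R₂) R := ⟨E, hER⟩
  have hgr : (E.conj G) ^ r = 1 := by
    show (E.conjRingEquiv G) ^ r = 1
    rw [← map_pow, prodMap_pow, hr₁, hp₂, prodMap_one_one, map_one]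
  have hga : (orbMult ζ (E.conj G) : Orb F r → ℕ) = a := by
    rw [RootField.orbMult_conj, hK.orbMult_prodMap]
    funext c
    rw [Pi.add_apply, ha₁, ha₂]
    exact hab c
  refine ⟨R, E.conj G, hiso.sep (sep_prod hR₁ hR₂), fun x => ?_, hgr, ?_, hga, ?_, fun w hw => ?_⟩
  · obtain ⟨y, rfl⟩ := E.surjective x
    rw [LinearEquiv.conj_apply_apply, LinearEquiv.symm_apply_apply, hER, hER]
    simp [G, hg₁, hg₂]
  · refine ((hK.zeros_of_full R (E.conj G) hgr (fun x => ?_)) (by rw [hga, Module.finrank_fin_fun])).1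
    obtain ⟨y, rfl⟩ := E.surjective x
    rw [LinearEquiv.conj_apply_apply, LinearEquiv.symm_apply_apply, hER, hER]
    simp [G, hg₁, hg₂]
  · rw [← hiso.sgn_eq, sgn_prod hR₁ hR₂ (A := i₀ * ∑ c, b c) (B := (i₀ * ∑ c, e c) / 2)
      (by rw [Module.finrank_prod, Subspace.dual_finrank_eq, Module.finrank_fin_fun]; ring)
      (by
        rw [Module.finrank_fin_fun, hn₂]
        rcases he with h | ⟨k, hk⟩
        · simp [h]
        · rw [hk, add_mul]; omega),
      sgn_of_plus hp₁, hs₂, one_mul]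
    unfold eta
    split_ifs with hi
    · have : Even (tot a) ↔ Even (∑ c, e c) := by rw [hpar]; simp [hi]
      rcases Nat.even_or_odd (∑ c, e c) with h | h
      · rw [h.neg_one_pow, (this.2 h).neg_one_pow]
      · rw [h.neg_one_pow, Odd.neg_one_pow (Nat.not_even_iff_odd.1 fun h' => Nat.not_even_iff_odd.2 h (this.1 h'))]
    · simp
  · obtain ⟨U, hU, hU0, hUd⟩ := hts w (by rw [hb]; exact hw)
    let L := E.toLinearMap.comp (LinearMap.inl F _ (Fin n₂ → F))
    refine ⟨U.map L, ?_, ?_, ?_⟩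
    · rintro _ ⟨s, hs, rfl⟩
      refine ⟨g₁ s, hU s hs, ?_⟩
      show E (g₁ s, 0) = E.conj G (E (s, 0))
      rw [LinearEquiv.conj_apply_apply, LinearEquiv.symm_apply_apply]
      simp [G]
    · rintro _ ⟨s, hs, rfl⟩
      show R (E (s, 0)) = 0
      rw [hER]
      simp [hU0 s hs]
    · rw [← (Submodule.equivMapOfInjective L (E.injective.comp LinearMap.inl_injective) U).finrank_eq, hUd]

end Cfsg.Agent.Elusive.OrthModel
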