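import Cfsg.Agent.Lib.Elusive.OrthBridge

/-!
The numerical criteria for non-degenerate subspaces of even dimension in an even-dimensional space, in the form of
the statements.
-/

set_option autoImplicit false

namespace Cfsg.Agent.Elusive.OrthNum

open OrthCriteria OrthBridge

theorem one_eq (E : ℕ) : (1 : ℤ) = (-1) ^ E ↔ E % 2 = 0 := by
  rw [OrthBridge.neg_pow]; split <;> omega

theorem neg_eq (E : ℕ) : (-1 : ℤ) = (-1) ^ E ↔ E % 2 = 1 := by
  rw [OrthBridge.neg_pow]; split <;> omega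

theorem sum_div {i a b : ℕ} (hi : 0 < i) (h : b % i = a % i) : (a + b - 2 * (a % i)) / i = a / i + b / i := by
  have ha := Nat.div_add_mod a i
  have hb := Nat.div_add_mod b i
  rw [show a + b - 2 * (a % i) = i * (a / i + b / i) by rw [Nat.mul_add]; omega, Nat.mul_div_cancel_left _ hi]

variable {i d μ : ℕ}

theorem plus_plus (hi : 0 < i) (hμ : 0 < μ) (hμd : μ < d)
    (hsmall : (∀ E, Adm (bdim i) (bsgn i) (2 * d) 1 E → EvenOk (bdim i) (bsgn i) (2 * d) 1 (2 * μ) 1 E) →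
      bdim i ≤ 2 * μ) :
    (∀ E, Adm (bdim i) (bsgn i) (2 * d) 1 E → EvenOk (bdim i) (bsgn i) (2 * d) 1 (2 * μ) 1 E) ↔
      ((Odd i ∧ bdim i ≤ 2 * μ ∧ (2 * μ) % bdim i ≤ (2 * d) % bdim i) ∨
       (Even i ∧
         (((2 * d) % bdim i = 0 ∧ (Odd ((2 * d) / i) ∨ ((2 * μ) % bdim i = 0 ∧ Even ((2 * μ) / i)))) ∨
          (i ≤ 2 * μ ∧ (((2 * μ) % bdim i < (2 * d) % bdim i ∧ 0 < (2 * μ) % bdim i) ∨
            ((2 * d) % bdim i = (2 * μ) % bdim i ∧ 0 < (2 * μ) % bdim i ∧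
              Even ((2 * d + 2 * μ - 2 * ((2 * d) % bdim i)) / i)) ∨
            (0 < (2 * d) % bdim i ∧ (2 * μ) % bdim i = 0 ∧ Even ((2 * μ) / i))))))) := by
  have key := even_even_dim hi hμ hμd 1 1 (Or.inl rfl) (Or.inl rfl)
  rcases Nat.even_or_odd i with he | ho
  · have hb : bdim i = i := if_pos he
    have hs : bsgn i = -1 := if_pos he
    rw [hb, hs] at key hsmall ⊢
    rw [key] at hsmall ⊢
    simp only [one_mul, ← pow_add, ne_eq, one_eq] at hsmall ⊢
    simp only [he, Nat.not_odd_iff_even.2 he, true_and, false_and, false_or, Nat.even_iff, Nat.odd_iff]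
    by_cases hlk : (2 * μ) % i = (2 * d) % i
    · rw [sum_div hi hlk]; omega
    · omega
  · have hb : bdim i = 2 * i := if_neg (Nat.not_even_iff_odd.2 ho)
    have hs : bsgn i = 1 := if_neg (Nat.not_even_iff_odd.2 ho)
    rw [hb, hs] at key hsmall ⊢
    rw [key] at hsmall ⊢
    simp only [one_pow, mul_one, ne_eq, not_true_eq_false, and_false, false_or, or_true, true_and, and_true,
      eq_self_iff_true] at hsmall ⊢
    simp only [ho, Nat.not_even_iff_odd.2 ho, true_and, false_and, or_false]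
    omega

theorem plus_minus (hi : 0 < i) (hμ : 0 < μ) (hμd : μ < d)
    (hsmall : (∀ E, Adm (bdim i) (bsgn i) (2 * d) 1 E → EvenOk (bdim i) (bsgn i) (2 * d) 1 (2 * μ) (-1) E) →
      bdim i ≤ 2 * μ) :
    (∀ E, Adm (bdim i) (bsgn i) (2 * d) 1 E → EvenOk (bdim i) (bsgn i) (2 * d) 1 (2 * μ) (-1) E) ↔
      ((Odd i ∧ bdim i ≤ 2 * μ ∧ 0 < (2 * μ) % bdim i ∧ (2 * μ) % bdim i < (2 * d) % bdim i) ∨
       (Even i ∧
         (((2 * d) % bdim i = 0 ∧ (Odd ((2 * d) / i) ∨ ((2 * μ) % bdim i = 0 ∧ Odd ((2 * μ) / i)))) ∨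
          (i ≤ 2 * μ ∧ ((0 < (2 * μ) % bdim i ∧ (2 * μ) % bdim i < (2 * d) % bdim i) ∨
            (0 < (2 * μ) % bdim i ∧ (2 * μ) % bdim i = (2 * d) % bdim i ∧
              Odd ((2 * d + 2 * μ - 2 * ((2 * d) % bdim i)) / i)) ∨
            ((2 * μ) % bdim i = 0 ∧ 0 < (2 * d) % bdim i ∧ Odd ((2 * μ) / i))))))) := by
  have key := even_even_dim hi hμ hμd 1 (-1) (Or.inl rfl) (Or.inr rfl)
  rcases Nat.even_or_odd i with he | ho
  · have hb : bdim i = i := if_pos he
    have hs : bsgn i = -1 := if_pos he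
    rw [hb, hs] at key hsmall ⊢
    rw [key] at hsmall ⊢
    simp only [one_mul, ← pow_add, ne_eq, one_eq, neg_eq] at hsmall ⊢
    simp only [he, Nat.not_odd_iff_even.2 he, true_and, false_and, false_or, Nat.odd_iff]
    by_cases hlk : (2 * μ) % i = (2 * d) % i
    · rw [sum_div hi hlk]; omega
    · omega
  · have hb : bdim i = 2 * i := if_neg (Nat.not_even_iff_odd.2 ho)
    have hs : bsgn i = 1 := if_neg (Nat.not_even_iff_odd.2 ho)
    rw [hb, hs] at key hsmall ⊢
    rw [key] at hsmall ⊢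
    simp only [one_pow, mul_one, ne_eq, not_true_eq_false, and_false, false_or, or_false,
      show ((-1 : ℤ) = 1) ↔ False from iff_false_intro (by norm_num)] at hsmall ⊢
    simp only [ho, Nat.not_even_iff_odd.2 ho, true_and, false_and, or_false]
    omega

theorem minus_minus (hi : 0 < i) (hμ : 0 < μ) (hμd : μ < d)
    (hsmall : (∀ E, Adm (bdim i) (bsgn i) (2 * d) (-1) E → EvenOk (bdim i) (bsgn i) (2 * d) (-1) (2 * μ) (-1) E) →
      bdim i ≤ 2 * μ) :
    (∀ E, Adm (bdim i) (bsgn i) (2 * d) (-1) E → EvenOk (bdim i) (bsgn i) (2 * d) (-1) (2 * μ) (-1) E) ↔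
      ((Odd i ∧ ((2 * d) % bdim i = 0 ∨
          (bdim i ≤ 2 * μ ∧ 0 < (2 * μ) % bdim i ∧ (2 * μ) % bdim i ≤ (2 * d) % bdim i))) ∨
       (Even i ∧
         (((2 * d) % bdim i = 0 ∧ (Even ((2 * d) / i) ∨ ((2 * μ) % bdim i = 0 ∧ Odd ((2 * μ) / i)))) ∨
          (0 < (2 * d) % bdim i ∧ i ≤ 2 * μ ∧ ((0 < (2 * μ) % bdim i ∧ (2 * μ) % bdim i < (2 * d) % bdim i) ∨
            ((2 * μ) % bdim i = 0 ∧ Odd ((2 * μ) / i)) ∨
            ((2 * μ) % bdim i = (2 * d) % bdim i ∧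
              Even ((2 * d + 2 * μ - 2 * ((2 * d) % bdim i)) / i))))))) := by
  have key := even_even_dim hi hμ hμd (-1) (-1) (Or.inr rfl) (Or.inr rfl)
  rcases Nat.even_or_odd i with he | ho
  · have hb : bdim i = i := if_pos he
    have hs : bsgn i = -1 := if_pos he
    rw [hb, hs] at key hsmall ⊢
    rw [key] at hsmall ⊢
    simp only [← pow_succ', ← pow_add, ne_eq, neg_eq] at hsmall ⊢
    simp only [he, Nat.not_odd_iff_even.2 he, true_and, false_and, false_or, Nat.even_iff, Nat.odd_iff]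
    by_cases hlk : (2 * μ) % i = (2 * d) % i
    · rw [sum_div hi hlk]; omega
    · omega
  · have hb : bdim i = 2 * i := if_neg (Nat.not_even_iff_odd.2 ho)
    have hs : bsgn i = 1 := if_neg (Nat.not_even_iff_odd.2 ho)
    rw [hb, hs] at key hsmall ⊢
    rw [key] at hsmall ⊢
    simp only [one_pow, mul_one, or_false, and_true, not_false_eq_true, ne_eq,
      show ((-1 : ℤ) = 1) ↔ False from iff_false_intro (by norm_num), eq_self_iff_true] at hsmall ⊢
    simp only [ho, Nat.not_even_iff_odd.2 ho, true_and, false_and, or_false]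
    omega

end Cfsg.Agent.Elusive.OrthNum
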