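import Cfsg.Agent.Lib.Elusive.OrthSub
import Cfsg.Agent.Lib.Elusive.Dims
import Cfsg.Agent.Lib.QForm.OmegaQuot
import Cfsg.Agent.Lib.QForm.Diag

/-!
Odd `q`: orthogonal bases in pairs and isometries `J` with `J² = -1`, as products of reflections.
-/

set_option autoImplicit false
set_option linter.unusedSectionVars false

namespace Cfsg.Agent.Elusive.OrthPlanes

open Module
open OrthType
open scoped Matrix

variable {F : Type*} [Field F] [Fintype F] {ι : Type} [Fintype ι] [DecidableEq ι] {Q : QuadraticForm F (ι → F)}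

/-- The quadratic character. -/
noncomputable def chi (a : F) : ℤ := by classical exact quadraticChar F a

/-- The sign of a plane with form `s² + t²`. -/
noncomputable def e1 (F : Type*) [Field F] [Fintype F] : ℤ := chi (-1 : F)

theorem chi_mul (a b : F) : chi (a * b) = chi a * chi b := by
  classical
  exact map_mul (quadraticChar F) a b

theorem chi_one : chi (1 : F) = 1 := by
  classical
  exact map_one (quadraticChar F)

theorem chi_eq_one_iff {a : F} (ha : a ≠ 0) : chi a = 1 ↔ IsSquare a := by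
  classical
  exact quadraticChar_one_iff_isSquare ha

theorem chi_of_not {a : F} (h : ¬ IsSquare a) : chi a = -1 := by
  classical
  exact quadraticChar_neg_one_iff_not_isSquare.2 h

theorem chi_eq_or {a : F} (ha : a ≠ 0) : chi a = 1 ∨ chi a = -1 := by
  classical
  exact quadraticChar_dichotomy ha

theorem chi_sq {a : F} (ha : a ≠ 0) : chi (a * a) = 1 :=
  (chi_eq_one_iff (mul_ne_zero ha ha)).2 ⟨a, rfl⟩

theorem chi_neg (a : F) : chi (-a) = e1 F * chi a := by
  rw [e1, ← chi_mul, neg_one_mul]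

/-- A product of reflections, applied. -/
noncomputable def rv (Q : QuadraticForm F (ι → F)) (vs : List (ι → F)) (x : ι → F) : ι → F :=
  (vs.map fun u => reflectionMatrix ⇑Q u).prod *ᵥ x

theorem rv_nil (x : ι → F) : rv Q [] x = x := by simp [rv]

theorem rv_cons (u : ι → F) (vs : List (ι → F)) (x : ι → F) :
    rv Q (u :: vs) x = rv Q vs x - ((Q u)⁻¹ * QuadraticMap.polar ⇑Q u (rv Q vs x)) • u := by
  rw [rv, List.map_cons, List.prod_cons, ← Matrix.mulVec_mulVec, QForm.reflectionMatrix_mulVec]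
  rfl

theorem rv_add (vs : List (ι → F)) (x y : ι → F) : rv Q vs (x + y) = rv Q vs x + rv Q vs y :=
  Matrix.mulVec_add _ _ _

theorem rv_smul (vs : List (ι → F)) (s : F) (x : ι → F) : rv Q vs (s • x) = s • rv Q vs x :=
  Matrix.mulVec_smul _ _ _

theorem rv_fix (vs : List (ι → F)) {x : ι → F} (h : ∀ u ∈ vs, QuadraticMap.polar ⇑Q u x = 0) :
    rv Q vs x = x := by
  induction vs with
  | nil => exact rv_nil x
  | cons u vs ih =>
    rw [rv_cons, ih fun w hw => h w (List.mem_cons_of_mem _ hw), h u List.mem_cons_self, mul_zero, zero_smul, sub_zero]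

theorem polar_self' (v : ι → F) : QuadraticMap.polar ⇑Q v v = 2 * Q v := by
  rw [QuadraticMap.polar_self, two_nsmul, two_mul]

theorem Q_smul (s : F) (v : ι → F) : Q (s • v) = s * s * Q v := by
  rw [QuadraticMap.map_smul, smul_eq_mul]

/-- A plane with an orthogonal basis. -/
theorem plane (h2 : (2 : F) ≠ 0) {v w : ι → F} (hvw : QuadraticMap.polar ⇑Q v w = 0) (hv : Q v ≠ 0)
    (hw : Q w ≠ 0) :
    Nd Q (F ∙ v ⊔ F ∙ w) ∧ finrank F ↥(F ∙ v ⊔ F ∙ w) = 2 ∧ sgn (res Q (F ∙ v ⊔ F ∙ w)) = chi (-(Q v * Q w)) := by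
  have hv0 : v ≠ 0 := fun e => hv (by rw [e, QuadraticMap.map_zero])
  have hw0 : w ≠ 0 := fun e => hw (by rw [e, QuadraticMap.map_zero])
  have hmem : ∀ x ∈ F ∙ v ⊔ F ∙ w, ∃ s t : F, x = s • v + t • w := by
    intro x hx
    obtain ⟨a, ha, b, hb, rfl⟩ := Submodule.mem_sup.1 hx
    obtain ⟨s, rfl⟩ := Submodule.mem_span_singleton.1 ha
    obtain ⟨t, rfl⟩ := Submodule.mem_span_singleton.1 hb
    exact ⟨s, t, rfl⟩
  have hpv : ∀ s t : F, QuadraticMap.polar ⇑Q (s • v + t • w) v = s * (2 * Q v) := fun s t => by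
    rw [QuadraticMap.polar_add_left, QuadraticMap.polar_smul_left, QuadraticMap.polar_smul_left, polar_self',
      QuadraticMap.polar_comm ⇑Q w v, hvw, smul_eq_mul, smul_eq_mul, mul_zero, add_zero]
  have hpw : ∀ s t : F, QuadraticMap.polar ⇑Q (s • v + t • w) w = t * (2 * Q w) := fun s t => by
    rw [QuadraticMap.polar_add_left, QuadraticMap.polar_smul_left, QuadraticMap.polar_smul_left, polar_self',
      hvw, smul_eq_mul, smul_eq_mul, mul_zero, zero_add]
  have hnd : Nd Q (F ∙ v ⊔ F ∙ w) := by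
    intro x hx hall
    obtain ⟨s, t, rfl⟩ := hmem x hx
    have h1 := hall v (Submodule.mem_sup_left (Submodule.mem_span_singleton_self v))
    have h3 := hall w (Submodule.mem_sup_right (Submodule.mem_span_singleton_self w))
    rw [hpv, mul_eq_zero] at h1
    rw [hpw, mul_eq_zero] at h3
    rw [h1.resolve_right (mul_ne_zero h2 hv), h3.resolve_right (mul_ne_zero h2 hw), zero_smul, zero_smul, add_zero]
  have hd : finrank F ↥(F ∙ v ⊔ F ∙ w) = 2 := by
    rw [finrank_sup_of_disjoint ?_, finrank_span_singleton hv0, finrank_span_singleton hw0]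
    rw [Submodule.disjoint_def]
    intro x hx hx'
    obtain ⟨s, rfl⟩ := Submodule.mem_span_singleton.1 hx
    obtain ⟨t, ht⟩ := Submodule.mem_span_singleton.1 hx'
    have := congrArg (QuadraticMap.polar ⇑Q v) ht
    rw [QuadraticMap.polar_smul_right, QuadraticMap.polar_smul_right, hvw, smul_zero, smul_eq_mul, polar_self'] at this
    rw [(mul_eq_zero.1 this.symm).resolve_right (mul_ne_zero h2 hv), zero_smul]
  refine ⟨hnd, hd, ?_⟩
  have hne : -(Q v * Q w) ≠ 0 := neg_ne_zero.2 (mul_ne_zero hv hw)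
  have hval : ∀ s t : F, Q (s • v + t • w) = s * s * Q v + t * t * Q w := fun s t => by
    rw [Q_add_orth (by rw [QuadraticMap.polar_smul_left, QuadraticMap.polar_smul_right, hvw, smul_zero, smul_zero]),
      Q_smul, Q_smul]
  by_cases hsq : IsSquare (-(Q v * Q w))
  · obtain ⟨r, hr⟩ := id hsq
    rw [(chi_eq_one_iff hne).2 hsq, sgn_eq_one_iff, plusQ_res_iff]
    set u := r • v + Q v • w with hu
    have hu0 : u ≠ 0 := fun e => by
      have := congrArg (fun z => QuadraticMap.polar ⇑Q z w) e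
      simp only [hu, hpw, QuadraticMap.polar_zero_left] at this
      exact mul_ne_zero hv (mul_ne_zero h2 hw) this
    refine ⟨F ∙ u, ?_, fun x hx => ?_, ?_⟩
    · rw [Submodule.span_singleton_le_iff_mem]
      exact Submodule.add_mem_sup (Submodule.smul_mem _ _ (Submodule.mem_span_singleton_self v))
        (Submodule.smul_mem _ _ (Submodule.mem_span_singleton_self w))
    · obtain ⟨s, rfl⟩ := Submodule.mem_span_singleton.1 hx
      rw [Q_smul, hval]
      linear_combination (-(s * s * Q v)) * hr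
    · rw [finrank_span_singleton hu0, hd]
  · rw [chi_of_not hsq]
    refine sgn_of_not fun hp => hsq ?_
    obtain ⟨U, hU, hU0, hUd⟩ := plusQ_res_iff.1 hp
    rw [hd] at hUd
    obtain ⟨u, hu, hune⟩ := Submodule.exists_mem_ne_zero_of_ne_bot (p := U) fun e => by
      rw [e, finrank_bot] at hUd
      omega
    obtain ⟨s, t, rfl⟩ := hmem u (hU hu)
    have h0 := hU0 _ hu
    rw [hval] at h0
    have ht : t ≠ 0 := fun e => by
      rw [e] at h0
      have hs : s = 0 := by simpa [hv] using h0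
      exact hune (by rw [hs, e, zero_smul, zero_smul, add_zero])
    exact ⟨s * Q v / t, by field_simp; linear_combination -h0⟩

/-- The complement of a non-degenerate subspace inside another. -/
theorem split_in {S P : Submodule F (ι → F)} (hS : Nd Q S) (hP : Nd Q P) (hle : P ≤ S) :
    Nd Q (S ⊓ orth Q P) ∧ P ⊔ S ⊓ orth Q P = S ∧ Disjoint P (S ⊓ orth Q P) ∧
      finrank F S = finrank F P + finrank F ↥(S ⊓ orth Q P) := by
  have hsup : P ⊔ S ⊓ orth Q P = S := by
    refine le_antisymm (sup_le hle inf_le_left) fun y hy => ?_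
    obtain ⟨a, ha, b, hb, rfl⟩ := Submodule.mem_sup.1
      (show y ∈ P ⊔ orth Q P by rw [(isCompl_orth hP).sup_eq_top]; trivial)
    exact Submodule.add_mem_sup ha ⟨(Submodule.add_mem_iff_right S (hle ha)).1 hy, hb⟩
  have hd : Disjoint P (S ⊓ orth Q P) := (isCompl_orth hP).disjoint.mono_right inf_le_right
  refine ⟨fun x hx hall => hS x hx.1 fun y hy => ?_, hsup, hd, ?_⟩
  · rw [← hsup] at hy
    obtain ⟨a, ha, b, hb, rfl⟩ := Submodule.mem_sup.1 hy
    rw [QuadraticMap.polar_add_right, hall b hb, add_zero, QuadraticMap.polar_comm]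
    exact mem_orth.1 hx.2 a ha
  · rw [← finrank_sup_of_disjoint hd, hsup]

theorem exists_aniso (h2 : (2 : F) ≠ 0) {S : Submodule F (ι → F)} (hS : Nd Q S) (h : 0 < finrank F S) :
    ∃ v ∈ S, Q v ≠ 0 := by
  by_contra! hall
  have : S = ⊥ := (Submodule.eq_bot_iff S).2 fun x hx => hS x hx fun y hy => by
    simp [QuadraticMap.polar, hall _ hx, hall _ hy, hall _ (S.add_mem hx hy)]
  rw [this, finrank_bot] at h
  omega

theorem line_nd (h2 : (2 : F) ≠ 0) {v : ι → F} (hv : Q v ≠ 0) : Nd Q (F ∙ v) := by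
  intro x hx hall
  obtain ⟨s, rfl⟩ := Submodule.mem_span_singleton.1 hx
  have h := hall v (Submodule.mem_span_singleton_self v)
  rw [QuadraticMap.polar_smul_left, polar_self', smul_eq_mul, mul_eq_zero] at h
  rw [h.resolve_right (mul_ne_zero h2 hv), zero_smul]

/-- An orthogonal basis in pairs: the spinor norm of `-1` on a subspace and its sign. -/
theorem diag_even (h2 : (2 : F) ≠ 0) : ∀ (β : ℕ) (S : Submodule F (ι → F)), Nd Q S → finrank F S = 2 * β →
    ∃ vs : List (ι → F), vs.length = 2 * β ∧ (∀ v ∈ vs, v ∈ S ∧ Q v ≠ 0) ∧ (∀ x ∈ S, rv Q vs x = -x) ∧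
      sgn (res Q S) = e1 F ^ β * chi (vs.map fun v => Q v).prod := by
  intro β
  induction β with
  | zero =>
    intro S hS hd
    have hS0 : S = ⊥ := Submodule.finrank_eq_zero.1 hd
    subst hS0
    exact ⟨[], rfl, by simp, fun x hx => by rw [(Submodule.mem_bot F).1 hx, rv_nil, neg_zero],
      by rw [sgn_bot, List.map_nil, List.prod_nil, chi_one, pow_zero, one_mul]⟩
  | succ β ih =>
    intro S hS hd
    obtain ⟨v, hvS, hv⟩ := exists_aniso h2 hS (by omega)
    obtain ⟨hS₁, -, -, hd₁⟩ := split_in hS (line_nd h2 hv) ((Submodule.span_singleton_le_iff_mem _ _).2 hvS)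
    rw [finrank_span_singleton (fun e => hv (by rw [e, QuadraticMap.map_zero]))] at hd₁
    obtain ⟨w, hwS, hw⟩ := exists_aniso h2 hS₁ (by omega)
    have hvw : QuadraticMap.polar ⇑Q v w = 0 := mem_orth.1 hwS.2 v (Submodule.mem_span_singleton_self v)
    obtain ⟨hP, hPd, hPs⟩ := plane h2 hvw hv hw
    set P := F ∙ v ⊔ F ∙ w with hPdef
    have hPS : P ≤ S := sup_le ((Submodule.span_singleton_le_iff_mem _ _).2 hvS)
      ((Submodule.span_singleton_le_iff_mem _ _).2 hwS.1)
    obtain ⟨hS', hsup, hdis, hd'⟩ := split_in hS hP hPS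
    obtain ⟨vs, hlen, hmem, hact, hsgn⟩ := ih _ hS' (by omega)
    have hvP : v ∈ P := Submodule.mem_sup_left (Submodule.mem_span_singleton_self v)
    have hwP : w ∈ P := Submodule.mem_sup_right (Submodule.mem_span_singleton_self w)
    refine ⟨v :: w :: vs, by simp [hlen]; omega, ?_, ?_, ?_⟩
    · intro u hu
      simp only [List.mem_cons] at hu
      rcases hu with rfl | rfl | hu
      · exact ⟨hvS, hv⟩
      · exact ⟨hwS.1, hw⟩
      · exact ⟨(hmem u hu).1.1, (hmem u hu).2⟩
    · intro x hx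
      rw [← hsup] at hx
      obtain ⟨a, ha, z, hz, rfl⟩ := Submodule.mem_sup.1 hx
      obtain ⟨a', ha', b', hb', rfl⟩ := Submodule.mem_sup.1 ha
      obtain ⟨s, rfl⟩ := Submodule.mem_span_singleton.1 ha'
      obtain ⟨t, rfl⟩ := Submodule.mem_span_singleton.1 hb'
      have hfix : ∀ y ∈ P, rv Q vs y = y := fun y hy => rv_fix vs fun u hu => by
        rw [QuadraticMap.polar_comm]
        exact mem_orth.1 (hmem u hu).1.2 y hy
      have hzv : QuadraticMap.polar ⇑Q v z = 0 := mem_orth.1 hz.2 v hvP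
      have hzw : QuadraticMap.polar ⇑Q w z = 0 := mem_orth.1 hz.2 w hwP
      have hwv : QuadraticMap.polar ⇑Q w v = 0 := by rw [QuadraticMap.polar_comm]; exact hvw
      have e1' : rv Q (v :: w :: vs) z = -z := by
        rw [rv_cons, rv_cons, hact z hz]
        simp [hzv, hzw]
      have e2 : rv Q (v :: w :: vs) v = -v := by
        rw [rv_cons, rv_cons, hfix v hvP, hwv, mul_zero, zero_smul, sub_zero, polar_self',
          show (Q v)⁻¹ * (2 * Q v) = 2 by field_simp]
        module
      have e3 : rv Q (v :: w :: vs) w = -w := by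
        rw [rv_cons, rv_cons, hfix w hwP, polar_self', show (Q w)⁻¹ * (2 * Q w) = 2 by field_simp,
          show w - (2 : F) • w = -w by module, QuadraticMap.polar_neg_right, hvw]
        simp
      rw [rv_add, rv_add, rv_smul, rv_smul, e1', e2, e3]
      module
    · have hsg := sgn_sup hP hS' hdis (fun a ha b hb => mem_orth.1 hb.2 a ha) ⟨1, by omega⟩ ⟨β, by omega⟩
      rw [hsup] at hsg
      rw [hsg, hPs, hsgn, List.map_cons, List.map_cons, List.prod_cons, List.prod_cons, chi_neg, chi_mul, chi_mul,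
        chi_mul, pow_succ]
      ring

/-- The negation of a subspace of odd dimension as a product of reflections. -/
theorem diag_odd (h2 : (2 : F) ≠ 0) {β : ℕ} {S : Submodule F (ι → F)} (hS : Nd Q S)
    (hd : finrank F S = 2 * β + 1) :
    ∃ vs : List (ι → F), vs.length = 2 * β + 1 ∧ (∀ v ∈ vs, v ∈ S ∧ Q v ≠ 0) ∧ (∀ x ∈ S, rv Q vs x = -x) := by
  obtain ⟨v, hvS, hv⟩ := exists_aniso h2 hS (by omega)
  obtain ⟨hS', hsup, -, hd'⟩ := split_in hS (line_nd h2 hv) ((Submodule.span_singleton_le_iff_mem _ _).2 hvS)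
  rw [finrank_span_singleton (fun e => hv (by rw [e, QuadraticMap.map_zero]))] at hd'
  obtain ⟨vs, hlen, hmem, hact, -⟩ := diag_even h2 β _ hS' (by omega)
  refine ⟨v :: vs, by simp [hlen], ?_, fun x hx => ?_⟩
  · intro u hu
    rcases List.mem_cons.1 hu with rfl | hu
    · exact ⟨hvS, hv⟩
    · exact ⟨(hmem u hu).1.1, (hmem u hu).2⟩
  · rw [← hsup] at hx
    obtain ⟨a, ha, z, hz, rfl⟩ := Submodule.mem_sup.1 hx
    obtain ⟨s, rfl⟩ := Submodule.mem_span_singleton.1 ha
    have hvz : QuadraticMap.polar ⇑Q v z = 0 := mem_orth.1 hz.2 v (Submodule.mem_span_singleton_self v)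
    have hfixv : rv Q vs v = v := rv_fix vs fun u hu => by
      rw [QuadraticMap.polar_comm]
      exact mem_orth.1 (hmem u hu).1.2 v (Submodule.mem_span_singleton_self v)
    have e1' : rv Q (v :: vs) z = -z := by
      rw [rv_cons, hact z hz, QuadraticMap.polar_neg_right, hvz]
      simp
    have e2 : rv Q (v :: vs) v = -v := by
      rw [rv_cons, hfixv, polar_self', show (Q v)⁻¹ * (2 * Q v) = 2 by field_simp]
      module
    rw [rv_add, rv_smul, e1', e2]
    module

/-! ### Isometries with square `-1` -/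

section J

variable {f : End F (ι → F)} (hf : ∀ x, Q (f x) = Q x) (hJ : ∀ x, f (f x) = -x)
include hf hJ

theorem polar_J (h2 : (2 : F) ≠ 0) (x : ι → F) : QuadraticMap.polar ⇑Q x (f x) = 0 := by
  have h : QuadraticMap.polar ⇑Q (f x) (f (f x)) = QuadraticMap.polar ⇑Q x (f x) := by
    simp only [QuadraticMap.polar, ← map_add, hf]
  rw [hJ, QuadraticMap.polar_neg_right, QuadraticMap.polar_comm ⇑Q (f x) x] at h
  have : (2 : F) * QuadraticMap.polar ⇑Q x (f x) = 0 := by linear_combination -h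
  exact (mul_eq_zero.1 this).resolve_left h2

theorem plane_inv {v : ι → F} : Inv f (F ∙ v ⊔ F ∙ f v) := by
  intro x hx
  obtain ⟨a, ha, b, hb, rfl⟩ := Submodule.mem_sup.1 hx
  obtain ⟨s, rfl⟩ := Submodule.mem_span_singleton.1 ha
  obtain ⟨t, rfl⟩ := Submodule.mem_span_singleton.1 hb
  rw [map_add, map_smul, map_smul, hJ, smul_neg, ← neg_smul, add_comm]
  exact Submodule.add_mem_sup (Submodule.smul_mem _ _ (Submodule.mem_span_singleton_self v))
    (Submodule.smul_mem _ _ (Submodule.mem_span_singleton_self (f v)))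

theorem orth_inv {P : Submodule F (ι → F)} (hP : Inv f P) : Inv f (orth Q P) := by
  intro x hx
  rw [mem_orth] at hx ⊢
  intro a ha
  have h : QuadraticMap.polar ⇑Q (f (-f a)) (f x) = QuadraticMap.polar ⇑Q (-f a) x := by
    simp only [QuadraticMap.polar, ← map_add, hf]
  rw [map_neg, hJ, neg_neg] at h
  rw [h]
  exact hx _ (P.neg_mem (hP a ha))

/-- The structure of an invariant non-degenerate subspace. -/
theorem jsub (h2 : (2 : F) ≠ 0) : ∀ (n : ℕ) (S : Submodule F (ι → F)), Inv f S → Nd Q S → finrank F S = n →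
    ∃ k, n = 2 * k ∧ sgn (res Q S) = e1 F ^ k ∧
      (∀ j ≤ k, ∃ A ≤ S, Inv f A ∧ Nd Q A ∧ finrank F A = 2 * j) ∧
      (∀ i : F, i * i = -1 → ∀ j ≤ k, ∃ U ≤ S, Inv f U ∧ (∀ u ∈ U, Q u = 0) ∧ finrank F U = j) ∧
      ∃ vs : List (ι → F), vs.length = 2 * k ∧ (∀ v ∈ vs, v ∈ S ∧ Q v ≠ 0) ∧ (∀ x ∈ S, rv Q vs x = f x) ∧
        chi (vs.map fun v => Q v).prod = chi (2 : F) ^ k := by
  intro n
  induction n using Nat.strong_induction_on with
  | _ n ih =>
  intro S hS hSn hd
  have hbot : ∃ A ≤ S, Inv f A ∧ Nd Q A ∧ finrank F A = 2 * 0 :=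
    ⟨⊥, bot_le, fun x hx => by rw [(Submodule.mem_bot F).1 hx, map_zero]; exact Submodule.zero_mem _, nd_bot,
      by simp⟩
  have hbot' : ∃ U ≤ S, Inv f U ∧ (∀ u ∈ U, Q u = 0) ∧ finrank F U = 0 :=
    ⟨⊥, bot_le, fun x hx => by rw [(Submodule.mem_bot F).1 hx, map_zero]; exact Submodule.zero_mem _,
      fun u hu => by rw [(Submodule.mem_bot F).1 hu, QuadraticMap.map_zero], by simp⟩
  rcases Nat.eq_zero_or_pos n with rfl | hn
  · have hS0 : S = ⊥ := Submodule.finrank_eq_zero.1 hd
    refine ⟨0, rfl, by rw [hS0, sgn_bot, pow_zero], fun j hj => ?_, fun i _ j hj => ?_,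
      [], rfl, by simp, fun x hx => ?_, by simp [chi_one]⟩
    · rw [Nat.le_zero.1 hj]; exact hbot
    · rw [Nat.le_zero.1 hj]; exact hbot'
    · rw [hS0, Submodule.mem_bot] at hx
      rw [hx, rv_nil, map_zero]
  obtain ⟨v, hvS, hv⟩ := exists_aniso h2 hSn (by omega)
  have hwQ : Q (f v) = Q v := hf v
  have hvw := polar_J hf hJ h2 v
  obtain ⟨hP, hPd, hPs⟩ := plane h2 hvw hv (hwQ.symm ▸ hv)
  rw [hwQ] at hPs
  have hPi := plane_inv hf hJ (v := v)
  set P := F ∙ v ⊔ F ∙ f v with hPdef
  have hPS : P ≤ S := sup_le ((Submodule.span_singleton_le_iff_mem _ _).2 hvS)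
    ((Submodule.span_singleton_le_iff_mem _ _).2 (hS v hvS))
  obtain ⟨hS', hsup, hdis, hd'⟩ := split_in hSn hP hPS
  set S' := S ⊓ orth Q P with hS'def
  have hS'i : Inv f S' := fun x hx => ⟨hS x hx.1, orth_inv hf hJ hPi x hx.2⟩
  obtain ⟨k, hk, hks, hnd, hts, vs, hlen, hmem, hact, hchi⟩ := ih _ (by omega) S' hS'i hS' rfl
  have horth : ∀ a ∈ P, ∀ b ∈ S', QuadraticMap.polar ⇑Q a b = 0 := fun a ha b hb => mem_orth.1 hb.2 a ha
  have hvP : v ∈ P := Submodule.mem_sup_left (Submodule.mem_span_singleton_self v)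
  have hwP : f v ∈ P := Submodule.mem_sup_right (Submodule.mem_span_singleton_self (f v))
  have he1 : chi (-(Q v * Q v)) = e1 F := by rw [chi_neg, chi_sq hv, mul_one]
  refine ⟨k + 1, by omega, ?_, fun j hj => ?_, fun i hi j hj => ?_, (v + f v) :: v :: vs, ?_⟩
  · have hsg := sgn_sup hP hS' hdis horth ⟨1, by omega⟩ ⟨k, by omega⟩
    rw [hsup] at hsg
    rw [hsg, hPs, he1, hks, pow_succ']
  · rcases Nat.eq_zero_or_pos j with rfl | hj0
    · exact hbot
    obtain ⟨A, hA, hAi, hAn, hAd⟩ := hnd (j - 1) (by omega)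
    refine ⟨P ⊔ A, sup_le hPS (hA.trans inf_le_left), ?_, ?_, ?_⟩
    · intro x hx
      obtain ⟨a, ha, b, hb, rfl⟩ := Submodule.mem_sup.1 hx
      rw [map_add]
      exact Submodule.add_mem_sup (hPi a ha) (hAi b hb)
    · exact nd_of_iso (sep_prod (nd_iff.1 hP) (nd_iff.1 hAn))
        (iso_sup (hdis.mono_right hA) fun a ha b hb => horth a ha b (hA hb))
    · rw [finrank_sup_of_disjoint (hdis.mono_right hA), hPd, hAd]
      omega
  · rcases Nat.eq_zero_or_pos j with rfl | hj0
    · exact hbot'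
    obtain ⟨U, hU, hUi, hU0, hUd⟩ := hts i hi (j - 1) (by omega)
    set u := f v + i • v with hu
    have hfu : f u = i • u := by
      rw [hu, map_add, map_smul, hJ, smul_add, smul_smul, hi, neg_one_smul]
      abel
    have hune : u ≠ 0 := fun e => by
      have := congrArg (QuadraticMap.polar ⇑Q (f v)) e
      rw [hu, QuadraticMap.polar_add_right, QuadraticMap.polar_smul_right, QuadraticMap.polar_comm ⇑Q (f v) v, hvw,
        smul_zero, add_zero, QuadraticMap.polar_zero_right, polar_self', hwQ] at this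
      exact mul_ne_zero h2 hv this
    have hQu : Q u = 0 := by
      rw [hu, Q_add_orth (by rw [QuadraticMap.polar_smul_right, QuadraticMap.polar_comm ⇑Q (f v) v, hvw, smul_zero]),
        Q_smul, hwQ, hi]
      ring
    have huP : u ∈ P := P.add_mem hwP (P.smul_mem i hvP)
    have hle : F ∙ u ≤ P := (Submodule.span_singleton_le_iff_mem _ _).2 huP
    refine ⟨F ∙ u ⊔ U, sup_le (hle.trans hPS) (hU.trans inf_le_left), ?_, ?_, ?_⟩
    · intro x hx
      obtain ⟨a, ha, b, hb, rfl⟩ := Submodule.mem_sup.1 hx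
      obtain ⟨s, rfl⟩ := Submodule.mem_span_singleton.1 ha
      rw [map_add, map_smul, hfu, smul_smul]
      exact Submodule.add_mem_sup (Submodule.smul_mem _ _ (Submodule.mem_span_singleton_self u)) (hUi b hb)
    · intro x hx
      obtain ⟨a, ha, b, hb, rfl⟩ := Submodule.mem_sup.1 hx
      rw [Q_add_orth (horth a (hle ha) b (hU hb)), hU0 b hb, add_zero]
      obtain ⟨s, rfl⟩ := Submodule.mem_span_singleton.1 ha
      rw [Q_smul, hQu, mul_zero]
    · rw [finrank_sup_of_disjoint (hdis.mono hle hU), finrank_span_singleton hune, hUd]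
      omega
  · have hu2 : Q (v + f v) = 2 * Q v := by rw [Q_add_orth hvw, hwQ, two_mul]
    refine ⟨by simp [hlen]; omega, ?_, ?_, ?_⟩
    · intro u hu
      simp only [List.mem_cons] at hu
      rcases hu with rfl | rfl | hu
      · exact ⟨S.add_mem hvS (hS v hvS), hu2 ▸ mul_ne_zero h2 hv⟩
      · exact ⟨hvS, hv⟩
      · exact ⟨(hmem u hu).1.1, (hmem u hu).2⟩
    · intro x hx
      rw [← hsup] at hx
      obtain ⟨a, ha, z, hz, rfl⟩ := Submodule.mem_sup.1 hx
      obtain ⟨a', ha', b', hb', rfl⟩ := Submodule.mem_sup.1 ha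
      obtain ⟨s, rfl⟩ := Submodule.mem_span_singleton.1 ha'
      obtain ⟨t, rfl⟩ := Submodule.mem_span_singleton.1 hb'
      have hfix : ∀ y ∈ P, rv Q vs y = y := fun y hy => rv_fix vs fun u hu => by
        rw [QuadraticMap.polar_comm]
        exact mem_orth.1 (hmem u hu).1.2 y hy
      have hwv : QuadraticMap.polar ⇑Q (f v) v = 0 := by rw [QuadraticMap.polar_comm]; exact hvw
      have e1' : rv Q ((v + f v) :: v :: vs) z = f z := by
        have hfz := hS'i z hz
        rw [rv_cons, rv_cons, hact z hz, horth v hvP _ hfz]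
        simp [QuadraticMap.polar_add_left, horth v hvP _ hfz, horth (f v) hwP _ hfz]
      have e2 : rv Q ((v + f v) :: v :: vs) v = f v := by
        rw [rv_cons, rv_cons, hfix v hvP, polar_self', show (Q v)⁻¹ * (2 * Q v) = 2 by field_simp,
          show v - (2 : F) • v = -v by module, QuadraticMap.polar_neg_right, QuadraticMap.polar_add_left,
          polar_self', hwv, hu2, add_zero, show (2 * Q v)⁻¹ * -(2 * Q v) = -1 by field_simp]
        module
      have e3 : rv Q ((v + f v) :: v :: vs) (f v) = -v := by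
        rw [rv_cons, rv_cons, hfix (f v) hwP, hvw, mul_zero, zero_smul, sub_zero, QuadraticMap.polar_add_left,
          hvw, polar_self', hwQ, hu2, zero_add, inv_mul_cancel₀ (mul_ne_zero h2 hv), one_smul]
        abel
      rw [rv_add, rv_add, rv_smul, rv_smul, e1', e2, e3, map_add, map_add, map_smul, map_smul, hJ]
    · rw [List.map_cons, List.map_cons, List.prod_cons, List.prod_cons, hu2, ← mul_assoc, mul_assoc (2 : F),
        chi_mul, chi_mul, chi_sq hv, hchi, pow_succ', mul_one]

/-- Invariant totally singular subspaces of even dimension. -/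
theorem jts (h2 : (2 : F) ≠ 0) : ∀ (j k : ℕ) (S : Submodule F (ι → F)), Inv f S → Nd Q S →
    finrank F S = 2 * k → 2 * j ≤ k → ∃ U ≤ S, Inv f U ∧ (∀ u ∈ U, Q u = 0) ∧ finrank F U = 2 * j := by
  intro j
  induction j with
  | zero =>
    exact fun k S _ _ _ _ => ⟨⊥, bot_le,
      fun x hx => by rw [(Submodule.mem_bot F).1 hx, map_zero]; exact Submodule.zero_mem _,
      fun u hu => by rw [(Submodule.mem_bot F).1 hu, QuadraticMap.map_zero], by simp⟩
  | succ j ih =>
    intro k S hS hSn hd hjk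
    obtain ⟨v, hvS, hv⟩ := exists_aniso h2 hSn (by omega)
    have hvw := polar_J hf hJ h2 v
    obtain ⟨hP, hPd, -⟩ := plane h2 hvw hv ((hf v).symm ▸ hv)
    have hPi := plane_inv hf hJ (v := v)
    set P := F ∙ v ⊔ F ∙ f v
    have hPS : P ≤ S := sup_le ((Submodule.span_singleton_le_iff_mem _ _).2 hvS)
      ((Submodule.span_singleton_le_iff_mem _ _).2 (hS v hvS))
    obtain ⟨hS₁, hsup₁, hdis₁, hd₁⟩ := split_in hSn hP hPS
    have hS₁i : Inv f (S ⊓ orth Q P) := fun x hx => ⟨hS x hx.1, orth_inv hf hJ hPi x hx.2⟩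
    obtain ⟨v', hv'S, hv'⟩ := exists_aniso h2 hS₁ (by omega)
    have hvw' := polar_J hf hJ h2 v'
    obtain ⟨hP', hP'd, -⟩ := plane h2 hvw' hv' ((hf v').symm ▸ hv')
    have hP'i := plane_inv hf hJ (v := v')
    set P' := F ∙ v' ⊔ F ∙ f v'
    have hP'S : P' ≤ S ⊓ orth Q P := sup_le ((Submodule.span_singleton_le_iff_mem _ _).2 hv'S)
      ((Submodule.span_singleton_le_iff_mem _ _).2 (hS₁i v' hv'S))
    obtain ⟨hS₂, -, -, hd₂⟩ := split_in hS₁ hP' hP'S
    set S₂ := (S ⊓ orth Q P) ⊓ orth Q P'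
    have hS₂i : Inv f S₂ := fun x hx => ⟨hS₁i x hx.1, orth_inv hf hJ hP'i x hx.2⟩
    obtain ⟨U, hU, hUi, hU0, hUd⟩ := ih (k - 2) S₂ hS₂i hS₂ (by omega) (by omega)
    have hab : ∃ a b : F, a * a + b * b = -Q v / Q v' := by
      have hc : -Q v / Q v' ≠ 0 := div_ne_zero (neg_ne_zero.2 hv) hv'
      obtain ⟨a, b, h⟩ := QForm.exists_two_squares_eq_one h2 (inv_ne_zero hc) (inv_ne_zero hc)
      exact ⟨a, b, by field_simp at h ⊢; linear_combination -h⟩
    obtain ⟨a, b, hab⟩ := hab
    set u := v + (a • v' + b • f v') with hu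
    have hfu : f u = f v + (a • f v' + b • -v') := by rw [hu, map_add, map_add, map_smul, map_smul, hJ]
    have hP'mem : a • v' + b • f v' ∈ P' := Submodule.add_mem_sup
      (Submodule.smul_mem _ _ (Submodule.mem_span_singleton_self v'))
      (Submodule.smul_mem _ _ (Submodule.mem_span_singleton_self (f v')))
    have hvP : v ∈ P := Submodule.mem_sup_left (Submodule.mem_span_singleton_self v)
    have hor : ∀ x ∈ P, ∀ y ∈ P', QuadraticMap.polar ⇑Q x y = 0 := fun x hx y hy => mem_orth.1 (hP'S hy).2 x hx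
    have hQu : Q u = 0 := by
      rw [hu, Q_add_orth (hor v hvP _ hP'mem),
        Q_add_orth (by rw [QuadraticMap.polar_smul_left, QuadraticMap.polar_smul_right, hvw', smul_zero, smul_zero]),
        Q_smul, Q_smul, hf v']
      field_simp at hab
      linear_combination hab
    set R := F ∙ u ⊔ F ∙ f u
    have hRi := plane_inv hf hJ (v := u)
    have huR : R ≤ P ⊔ P' := by
      have huPP : u ∈ P ⊔ P' := Submodule.add_mem_sup hvP hP'mem
      refine sup_le ((Submodule.span_singleton_le_iff_mem _ _).2 huPP)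
        ((Submodule.span_singleton_le_iff_mem _ _).2 ?_)
      obtain ⟨x, hx, y, hy, hxy⟩ := Submodule.mem_sup.1 huPP
      rw [← hxy, map_add]
      exact Submodule.add_mem_sup (hPi x hx) (hP'i y hy)
    have hR0 : ∀ x ∈ R, Q x = 0 := by
      intro x hx
      obtain ⟨x₁, hx₁, x₂, hx₂, rfl⟩ := Submodule.mem_sup.1 hx
      obtain ⟨s, rfl⟩ := Submodule.mem_span_singleton.1 hx₁
      obtain ⟨t, rfl⟩ := Submodule.mem_span_singleton.1 hx₂
      rw [Q_add_orth (by rw [QuadraticMap.polar_smul_left, QuadraticMap.polar_smul_right, polar_J hf hJ h2,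
        smul_zero, smul_zero]), Q_smul, Q_smul, hf u, hQu]
      ring
    have hdisR : Disjoint (F ∙ u) (F ∙ f u) := by
      rw [Submodule.disjoint_def]
      intro x hx hx'
      obtain ⟨s, rfl⟩ := Submodule.mem_span_singleton.1 hx
      obtain ⟨t, ht⟩ := Submodule.mem_span_singleton.1 hx'
      have := congrArg (QuadraticMap.polar ⇑Q v) ht
      have hv'P : v' ∈ P' := Submodule.mem_sup_left (Submodule.mem_span_singleton_self v')
      have hfv'P : f v' ∈ P' := Submodule.mem_sup_right (Submodule.mem_span_singleton_self (f v'))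
      rw [hfu, hu] at this
      simp only [QuadraticMap.polar_smul_right, QuadraticMap.polar_add_right, QuadraticMap.polar_neg_right,
        hor v hvP v' hv'P, hor v hvP (f v') hfv'P, hvw, polar_self', smul_eq_mul, mul_zero, neg_zero, add_zero] at this
      rw [(mul_eq_zero.1 this.symm).resolve_right (mul_ne_zero h2 hv), zero_smul]
    have hune : u ≠ 0 := fun e => by
      have := congrArg (QuadraticMap.polar ⇑Q v) e
      rw [hu, QuadraticMap.polar_add_right, hor v hvP _ hP'mem, add_zero, polar_self',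
        QuadraticMap.polar_zero_right] at this
      exact mul_ne_zero h2 hv this
    have hRd : finrank F R = 2 := by
      have hfune : f u ≠ 0 := fun e => hune (neg_eq_zero.1 (by rw [← hJ u, e, map_zero]))
      rw [finrank_sup_of_disjoint hdisR, finrank_span_singleton hune, finrank_span_singleton hfune]
    have hPPS : ∀ z ∈ S₂, ∀ x ∈ P ⊔ P', QuadraticMap.polar ⇑Q x z = 0 := by
      intro z hz x hx
      obtain ⟨x₁, hx₁, x₂, hx₂, rfl⟩ := Submodule.mem_sup.1 hx
      rw [QuadraticMap.polar_add_left, mem_orth.1 hz.1.2 x₁ hx₁, mem_orth.1 hz.2 x₂ hx₂, add_zero]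
    have hdisRU : Disjoint R U := by
      rw [Submodule.disjoint_def]
      intro x hxR hxU
      exact hS₂ x (hU hxU) fun y hy => hPPS y hy x (huR hxR)
    refine ⟨R ⊔ U, sup_le (huR.trans (sup_le hPS (hP'S.trans inf_le_left)))
      (hU.trans (inf_le_left.trans inf_le_left)), ?_, ?_, ?_⟩
    · intro x hx
      obtain ⟨x₁, hx₁, x₂, hx₂, rfl⟩ := Submodule.mem_sup.1 hx
      rw [map_add]
      exact Submodule.add_mem_sup (hRi x₁ hx₁) (hUi x₂ hx₂)
    · intro x hx
      obtain ⟨x₁, hx₁, x₂, hx₂, rfl⟩ := Submodule.mem_sup.1 hx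
      rw [Q_add_orth (hPPS x₂ (hU hx₂) x₁ (huR hx₁)), hR0 x₁ hx₁, hU0 x₂ hx₂, add_zero]
    · rw [finrank_sup_of_disjoint hdisRU, hRd, hUd]
      omega

end J

end Cfsg.Agent.Elusive.OrthPlanes
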