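import Cfsg.Agent.Lib.Elusive.OrthModel

/-!
Isometries of odd prime order of quadratic spaces: fixed and moved parts, and the invariant totally singular or
non-degenerate subspaces in terms of the orbit multiplicities.
-/

set_option autoImplicit false
set_option linter.unusedSectionVars false

namespace Cfsg.Agent.Elusive.OrthPrime

open Module
open Semisimple (RootField Orb orbMult negOrb prodMap_pow prodMap_one_one)
open OrthType OrthModel

universe u

variable {F : Type u} [Field F] [Fintype F] {r : ℕ} [Fact r.Prime]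
  {K : Type} [Field K] [Algebra F K] [Finite K] {ζ : K}

local notation "i₀" => orderOf (Fintype.card F : ZMod r)

variable {V : Type u} [AddCommGroup V] [Module F V] [FiniteDimensional F V] {Q : QuadraticForm F V} {f : End F V}

/-- The fixed space. -/
abbrev fixS (f : End F V) : Submodule F V := LinearMap.ker (f - 1)

/-- The moved space. -/
abbrev movS (f : End F V) : Submodule F V := LinearMap.range (f - 1)

omit [Fintype F] [FiniteDimensional F V] in
theorem mem_fixS {x : V} : x ∈ fixS f ↔ f x = x := by simp [fixS, sub_eq_zero]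

variable (hQ : Sep Q) (hf : ∀ x, Q (f x) = Q x)

include hf in
theorem polar_f (x y : V) : QuadraticMap.polar ⇑Q (f x) (f y) = QuadraticMap.polar ⇑Q x y := by
  simp only [QuadraticMap.polar, ← map_add, hf]

include hf in
theorem fix_mov_orth {x y : V} (hx : x ∈ fixS f) (hy : y ∈ movS f) : QuadraticMap.polar ⇑Q x y = 0 := by
  obtain ⟨w, rfl⟩ := hy
  rw [LinearMap.sub_apply, Module.End.one_apply, QuadraticMap.polar_sub_right]
  conv_lhs => arg 1; arg 2; rw [← mem_fixS.1 hx]
  rw [polar_f hf, sub_self]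

variable (hK : RootField F r K ζ) (hpow : f ^ r = 1)
include hK hpow

theorem isCompl_fix_mov : IsCompl (fixS f) (movS f) := (Semisimple.isCompl_moved hpow hK.unit).symm

theorem inv_fix : Inv f (fixS f) := fun x hx => by rw [mem_fixS] at hx ⊢; rw [hx, hx]

theorem inv_mov : Inv f (movS f) := fun x hx => Semisimple.moved_stable f x hx

theorem fpf_mov : ∀ x : movS f, f.restrict (inv_mov hK hpow) x = x → x = 0 := fun x hx =>
  Subtype.ext (Semisimple.moved_fixed hpow hK.unit x.2 (congrArg Subtype.val hx))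

theorem orbMult_mov : (orbMult ζ (f.restrict (inv_mov hK hpow)) : Orb F r → ℕ) = orbMult ζ f := by
  have hC := inv_fix hK hpow
  have h := SympIsotropic.orbMult_of_equiv hK (Submodule.prodEquivOfIsCompl _ _ (isCompl_fix_mov hK hpow))
    (f.restrict hC) (f.restrict (inv_mov hK hpow)) f fun a b => by
      rw [Submodule.coe_prodEquivOfIsCompl', Submodule.coe_prodEquivOfIsCompl', map_add]
      rfl
  have hone : f.restrict hC = 1 := LinearMap.ext fun v => Subtype.ext (mem_fixS.1 v.2)
  rw [h, hone, hK.orbMult_one, zero_add]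

theorem finrank_mov : finrank F (movS f) = i₀ * ∑ c, (orbMult ζ f : Orb F r → ℕ) c := by
  have h := SympIsotropic.finrank_fix hK hpow
  have h' := Submodule.finrank_add_eq_of_isCompl (isCompl_fix_mov hK hpow)
  simp only [fixS, movS] at h' ⊢
  omega

include hQ hf

theorem symm_orbMult : Symm (orbMult ζ f : Orb F r → ℕ) :=
  hK.orbMult_symm (QuadraticMap.polarBilin Q) hQ f hpow fun x y => polar_f hf x y

theorem nd_fix : Nd Q (fixS f) := fun x hx hall => hQ x fun y => by
  obtain ⟨a, ha, b, hb, rfl⟩ := Submodule.mem_sup.1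
    (show y ∈ fixS f ⊔ movS f by rw [(isCompl_fix_mov hK hpow).sup_eq_top]; trivial)
  rw [QuadraticMap.polar_add_right, hall a ha, fix_mov_orth hf hx hb, add_zero]

theorem nd_mov : Nd Q (movS f) := fun x hx hall => hQ x fun y => by
  obtain ⟨a, ha, b, hb, rfl⟩ := Submodule.mem_sup.1
    (show y ∈ fixS f ⊔ movS f by rw [(isCompl_fix_mov hK hpow).sup_eq_top]; trivial)
  rw [QuadraticMap.polar_add_right, hall b hb, QuadraticMap.polar_comm, fix_mov_orth hf ha hx, add_zero]

variable (hr2 : r ≠ 2)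
include hr2

theorem finrank_split : finrank F (fixS f) + blk F r * tot (orbMult ζ f : Orb F r → ℕ) = finrank F V := by
  rw [blk_tot hK hr2 (symm_orbMult hQ hf hK hpow)]
  exact SympIsotropic.finrank_fix hK hpow

/-- The moved space is the model. -/
theorem exists_mov_iso {n : ℕ} {R : QuadraticForm F (Fin n → F)} {g : End F (Fin n → F)} (hR : Sep R)
    (hg : ∀ x, R (g x) = R x) (hgr : g ^ r = 1) (hgfix : ∀ x, g x = x → x = 0)
    (hn : n = i₀ * ∑ c, (orbMult ζ f : Orb F r → ℕ) c) (hga : (orbMult ζ g : Orb F r → ℕ) = orbMult ζ f) :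
    ∃ L : (Fin n → F) →ₗ[F] V, Function.Injective L ∧ LinearMap.range L = movS f ∧ (∀ x, Q (L x) = R x) ∧
      ∀ x, f (L x) = L (g x) := by
  have hM := inv_mov hK hpow
  have hfr := SympIsotropic.restrict_pow hK hpow hM
  have hdim : finrank F (movS f) = finrank F (Fin n → F) := by rw [finrank_mov hK hpow, Module.finrank_fin_fun, hn]
  obtain ⟨φ, hφ, hφQ⟩ := Semisimple.exists_isometry_of_fpf (res Q (movS f)) R
    (sep_iff.1 (nd_iff.1 (nd_mov hQ hf hK hpow))) (sep_iff.1 hR) (f.restrict hM) g hfr hgr hK.unit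
    ((Fact.out : r.Prime).odd_of_ne_two hr2) (fun x => hf x) hg (fpf_mov hK hpow) hgfix
    (hK.charpoly_eq_of_orbMult _ g hfr hgr hdim (by rw [orbMult_mov hK hpow, hga]))
  refine ⟨(movS f).subtype.comp φ.symm.toLinearMap, (movS f).injective_subtype.comp φ.symm.injective, ?_,
    fun x => ?_, fun x => ?_⟩
  · rw [LinearMap.range_comp, LinearEquiv.range, Submodule.map_top, Submodule.range_subtype]
  · have := hφQ (φ.symm x)
    rw [LinearEquiv.apply_symm_apply] at this
    exact this.symm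
  · have h := hφ (φ.symm x)
    rw [LinearEquiv.apply_symm_apply] at h
    show f (φ.symm x : V) = (φ.symm (g x) : V)
    rw [← h, LinearEquiv.symm_apply_apply]
    rfl

theorem sgn_mov : sgn (res Q (movS f)) = eta F r ^ tot (orbMult ζ f : Orb F r → ℕ) := by
  obtain ⟨R, g, hR, hg, hgr, hgfix, hga, hs, -⟩ := exists_model hK hr2 (symm_orbMult hQ hf hK hpow)
  obtain ⟨L, hL, hrange, hLQ, -⟩ := exists_mov_iso hQ hf hK hpow hr2 hR hg hgr hgfix rfl hga
  rw [← hs, ← hrange]
  exact (iso_range L hL hLQ).sgn_eq.symm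

/-- The sign of the whole space. -/
theorem sgn_split (hn : Even (finrank F V)) :
    sgn Q = sgn (res Q (fixS f)) * eta F r ^ tot (orbMult ζ f : Orb F r → ℕ) := by
  have hc := isCompl_fix_mov hK hpow
  have hm : Even (finrank F (movS f)) := by
    rw [finrank_mov hK hpow, ← blk_tot hK hr2 (symm_orbMult hQ hf hK hpow)]
    exact (SympDecomp.even_blockDim _ _).mul_right _
  have hfx : Even (finrank F (fixS f)) := by
    have h := Submodule.finrank_add_eq_of_isCompl hc
    rw [← h, Nat.even_add] at hn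
    exact hn.2 hm
  have h := sgn_sup (nd_fix hQ hf hK hpow) (nd_mov hQ hf hK hpow) hc.disjoint
    (fun a ha b hb => fix_mov_orth hf ha hb) hfx hm
  rw [hc.sup_eq_top, sgn_mov hQ hf hK hpow hr2] at h
  rw [← h]
  exact (iso_top Q).sgn_eq

/-- Totally singular invariant subspaces of the moved space. -/
theorem sub_ts {w : ℕ} (hw : w ≤ lmax (orbMult ζ f : Orb F r → ℕ)) :
    ∃ U ≤ movS f, Inv f U ∧ (∀ x ∈ U, Q x = 0) ∧ finrank F U = i₀ * w := by
  obtain ⟨R, g, hR, hg, hgr, hgfix, hga, -, hts⟩ := exists_model hK hr2 (symm_orbMult hQ hf hK hpow)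
  obtain ⟨L, hL, hrange, hLQ, hLg⟩ := exists_mov_iso hQ hf hK hpow hr2 hR hg hgr hgfix rfl hga
  obtain ⟨U, hU, hU0, hUd⟩ := hts w hw
  refine ⟨U.map L, (LinearMap.map_le_range).trans hrange.le, ?_, ?_, ?_⟩
  · rintro _ ⟨s, hs, rfl⟩
    exact ⟨g s, hU s hs, (hLg s).symm⟩
  · rintro _ ⟨s, hs, rfl⟩
    rw [hLQ, hU0 s hs]
  · rw [← (Submodule.equivMapOfInjective L hL U).finrank_eq, hUd]

omit hQ hf hpow hr2 in
theorem exists_le_sum {ι : Type*} [Fintype ι] (a : ι → ℕ) :
    ∀ e ≤ ∑ c, a c, ∃ b : ι → ℕ, (∀ c, b c ≤ a c) ∧ ∑ c, b c = e := by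
  classical
  intro e
  induction e with
  | zero => exact fun _ => ⟨0, fun c => Nat.zero_le _, by simp⟩
  | succ e ih =>
    intro he
    obtain ⟨b, hb, hbs⟩ := ih (by omega)
    obtain ⟨c₀, hc₀⟩ : ∃ c, b c < a c := by
      by_contra! h
      have := Finset.sum_le_sum (s := Finset.univ) fun c _ => h c
      omega
    refine ⟨b + Pi.single c₀ 1, fun c => ?_, ?_⟩
    · by_cases hc : c = c₀
      · subst hc; simp; omega
      · simp [hc, hb c]
    · simp [Finset.sum_add_distrib, hbs]

omit hQ hf hpow in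
theorem exists_sub_tuple {a : Orb F r → ℕ} (ha : Symm a) {e : ℕ} (he : e ≤ tot a) :
    ∃ a₁ a₂ : Orb F r → ℕ, Symm a₁ ∧ Symm a₂ ∧ (∀ c, a₁ c + a₂ c = a c) ∧ tot a₁ = e := by
  classical
  by_cases hi : Even i₀
  · simp only [tot, if_pos hi] at he ⊢
    obtain ⟨b, hb, hbs⟩ := exists_le_sum hK a e he
    have h1 : ∀ a' : Orb F r → ℕ, Symm a' := fun a' c => by rw [neg_eq_one hK hr2 hi, mul_one]
    exact ⟨b, fun c => a c - b c, h1 _, h1 _, fun c => by show b c + (a c - b c) = a c; have := hb c; omega, hbs⟩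
  · obtain ⟨b, hb, hbs⟩ := Semisimple.exists_half _ (Semisimple.negOrb_mul_self F r) (neg_ne_one hK hr2 hi) a ha
    simp only [tot, if_neg hi] at he ⊢
    obtain ⟨b₁, hb₁, hb₁s⟩ := exists_le_sum hK b e (by omega)
    refine ⟨fun c => b₁ c + b₁ (c * negOrb F r), fun c => (b c - b₁ c) + (b (c * negOrb F r) - b₁ (c * negOrb F r)),
      fun c => ?_, fun c => ?_, fun c => ?_, ?_⟩
    · show b₁ (c * negOrb F r) + b₁ (c * negOrb F r * negOrb F r) = _
      rw [mul_assoc, Semisimple.negOrb_mul_self, mul_one, add_comm]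
    · show (b (c * negOrb F r) - b₁ (c * negOrb F r)) + (b (c * negOrb F r * negOrb F r) -
        b₁ (c * negOrb F r * negOrb F r)) = _
      rw [mul_assoc, Semisimple.negOrb_mul_self, mul_one, add_comm]
    · have := hb c
      have := hb₁ c
      have := hb₁ (c * negOrb F r)
      show b₁ c + b₁ (c * negOrb F r) + ((b c - b₁ c) + (b (c * negOrb F r) - b₁ (c * negOrb F r))) = a c
      omega
    · rw [Finset.sum_add_distrib, show (∑ c, b₁ (c * negOrb F r)) = ∑ c, b₁ c from
        Equiv.sum_comp (Equiv.mulRight (negOrb F r)) b₁, hb₁s]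
      omega

/-- Non-degenerate invariant subspaces of the moved space. -/
theorem sub_nd {e : ℕ} (he : e ≤ tot (orbMult ζ f : Orb F r → ℕ)) :
    ∃ W ≤ movS f, Inv f W ∧ Nd Q W ∧ finrank F W = blk F r * e ∧ sgn (res Q W) = eta F r ^ e := by
  classical
  obtain ⟨a₁, a₂, ha₁, ha₂, hsum, htot⟩ := exists_sub_tuple hK hr2 (symm_orbMult hQ hf hK hpow) he
  obtain ⟨R₁, g₁, hR₁, hg₁, hr₁, hfix₁, hga₁, hs₁, -⟩ := exists_model hK hr2 ha₁
  obtain ⟨R₂, g₂, hR₂, hg₂, hr₂, hfix₂, hga₂, -, -⟩ := exists_model hK hr2 ha₂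
  set n := i₀ * ∑ c, (orbMult ζ f : Orb F r → ℕ) c
  let E := LinearEquiv.ofFinrankEq (R := F) ((Fin (i₀ * ∑ c, a₁ c) → F) × (Fin (i₀ * ∑ c, a₂ c) → F))
    (Fin n → F) (by
      rw [Module.finrank_prod, Module.finrank_fin_fun, Module.finrank_fin_fun, Module.finrank_fin_fun, ← Nat.mul_add,
        ← Finset.sum_add_distrib, Finset.sum_congr rfl fun c _ => hsum c])
  let R := (R₁.prod R₂).comp E.symm.toLinearMap
  let G := E.conj (g₁.prodMap g₂)
  have hER : ∀ x, R (E x) = R₁.prod R₂ x := fun x => by simp [R]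
  have hGr : G ^ r = 1 := by
    show (E.conjRingEquiv (g₁.prodMap g₂)) ^ r = 1
    rw [← map_pow, prodMap_pow, hr₁, hr₂, prodMap_one_one, map_one]
  obtain ⟨L, hL, hrange, hLQ, hLg⟩ := exists_mov_iso (n := n) hQ hf hK hpow hr2 (R := R) (g := G)
    ((show Iso (R₁.prod R₂) R from ⟨E, hER⟩).sep (sep_prod hR₁ hR₂)) (fun x => by
      obtain ⟨y, rfl⟩ := E.surjective x
      simp only [G, LinearEquiv.conj_apply_apply, LinearEquiv.symm_apply_apply, hER]
      simp [hg₁, hg₂]) hGr (fun x hx => by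
      obtain ⟨y, rfl⟩ := E.surjective x
      simp only [G, LinearEquiv.conj_apply_apply, LinearEquiv.symm_apply_apply] at hx
      have hy := E.injective hx
      rw [show y = 0 from Prod.ext (hfix₁ _ (congrArg Prod.fst hy)) (hfix₂ _ (congrArg Prod.snd hy)), map_zero])
    rfl (by
      rw [RootField.orbMult_conj, hK.orbMult_prodMap, hga₁, hga₂]
      exact funext hsum)
  let L₁ := L.comp (E.toLinearMap.comp (LinearMap.inl F _ (Fin (i₀ * ∑ c, a₂ c) → F)))
  have hi₁ : Function.Injective L₁ := hL.comp (E.injective.comp LinearMap.inl_injective)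
  have hiso : Iso R₁ (res Q (LinearMap.range L₁)) := iso_range L₁ hi₁ fun x => by
    show Q (L (E (x, 0))) = R₁ x
    rw [hLQ, hER]
    simp
  refine ⟨LinearMap.range L₁, (LinearMap.range_comp_le_range _ _).trans hrange.le, ?_, nd_of_iso hR₁ hiso, ?_, ?_⟩
  · rintro _ ⟨x, rfl⟩
    refine ⟨g₁ x, ?_⟩
    show L (E (g₁ x, 0)) = f (L (E (x, 0)))
    rw [hLg]
    simp [G]
  · rw [← hiso.finrank_eq, Module.finrank_fin_fun, ← blk_tot hK hr2 ha₁, htot]
  · rw [← hiso.sgn_eq, hs₁, htot]

/-- A totally singular invariant subspace takes a totally singular part of the fixed space and at most `lmax`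
blocks. -/
theorem inv_ts {W : Submodule F V} (hW : Inv f W) (hiso : ∀ u ∈ W, Q u = 0) :
    ∃ w ≤ lmax (orbMult ζ f : Orb F r → ℕ), finrank F W = finrank F ↥(fixS f ⊓ W) + i₀ * w := by
  classical
  set B : LinearMap.BilinForm F V := QuadraticMap.polarBilin Q with hB
  have hBf : ∀ u v, B (f u) (f v) = B u v := fun u v => polar_f hf u v
  have hBsw : ∀ u v, B u v = B v u := fun u v => QuadraticMap.polar_comm _ u v
  have hBiso : ∀ u ∈ W, ∀ v ∈ W, B u v = 0 := fun u hu v hv => by
    show QuadraticMap.polar ⇑Q u v = 0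
    simp [QuadraticMap.polar, hiso _ (W.add_mem hu hv), hiso _ hu, hiso _ hv]
  have hr' := (Fact.out : r.Prime)
  have hr := hK.unit
  have hss := isSemisimple_of_pow hr hpow
  have hWle : W ≤ B.orthogonal W := fun v hv n hn => hBiso n hn v hv
  obtain ⟨W', hW', hcompl⟩ := exists_compl hss (SympDecomp.inv_orth hBf hr'.pos hpow hW)
  have hd : finrank F W' = finrank F W := by
    have h1 := LinearMap.BilinForm.finrank_orthogonal (B := B) (sep_iff.1 hQ) W
    have h2 := Submodule.finrank_add_eq_of_isCompl hcompl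
    have h3 := Submodule.finrank_le W
    omega
  set g := f.restrict hW
  set g' := f.restrict hW'
  have hg := SympIsotropic.restrict_pow hK hpow hW
  let φ : W' →ₗ[F] Module.Dual F W := LinearMap.flip (B.compl₁₂ W.subtype W'.subtype)
  have hφ : Function.Injective φ := (injective_iff_map_eq_zero φ).2 fun y hy => by
    have hy' : (y : V) ∈ B.orthogonal W := fun n hn => LinearMap.congr_fun hy ⟨n, hn⟩
    exact Subtype.ext ((Submodule.mem_bot F).1 (hcompl.inf_eq_bot ▸ ⟨hy', y.2⟩))
  let E := LinearMap.linearEquivOfInjective φ hφ (by rw [hd, Subspace.dual_finrank_eq])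
  have hconj : E.conj g' = (g ^ (r - 1)).dualMap := by
    refine LinearMap.ext fun ψ => ?_
    obtain ⟨y, rfl⟩ := E.surjective ψ
    rw [LinearEquiv.conj_apply_apply, LinearEquiv.symm_apply_apply]
    refine LinearMap.ext fun w => ?_
    rw [LinearMap.dualMap_apply]
    show B (w : V) (f y) = B ((g ^ (r - 1)) w : V) y
    have e : f ((g ^ (r - 1)) w : V) = w := by
      show ((g * g ^ (r - 1)) w : V) = w
      rw [← pow_succ', Nat.sub_add_cancel hr'.pos, hg]
      rfl
    conv_lhs => rw [← e, hBf]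
  have hg'a : ∀ c, (orbMult ζ g' : Orb F r → ℕ) c = orbMult ζ g (c * negOrb F r) := fun c => by
    rw [← RootField.orbMult_conj g' E, hconj, orbMult, Semisimple.charpoly_dualMap, ← orbMult]
    have h := hK.orbMult_inv g hg (c * negOrb F r)
    rwa [mul_assoc, Semisimple.negOrb_mul_self, mul_one] at h
  obtain ⟨P, hP, hYP⟩ := exists_compl hss (hW.sup hW')
  let Ψ₀ : ((W × W') × P) →ₗ[F] V := (W.subtype.coprod W'.subtype).coprod P.subtype
  have hΨ : Function.Bijective Ψ₀ := by
    constructor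
    · rw [injective_iff_map_eq_zero]
      rintro ⟨⟨w, w'⟩, q⟩ h
      have h' : (w : V) + w' + q = 0 := h
      have hq : q = 0 := Subtype.ext ((Submodule.mem_bot F).1 (hYP.inf_eq_bot ▸ ⟨by
        rw [eq_neg_of_add_eq_zero_right h']
        exact Submodule.neg_mem _ (Submodule.add_mem_sup w.2 w'.2), q.2⟩))
      subst hq
      rw [Submodule.coe_zero, add_zero] at h'
      have hw' : w' = 0 := Subtype.ext ((Submodule.mem_bot F).1 (hcompl.inf_eq_bot ▸ ⟨by
        rw [eq_neg_of_add_eq_zero_right h']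
        exact Submodule.neg_mem _ (hWle w.2), w'.2⟩))
      subst hw'
      rw [Submodule.coe_zero, add_zero] at h'
      obtain rfl : w = 0 := Subtype.ext h'
      rfl
    · rw [← LinearMap.range_eq_top]
      show LinearMap.range ((W.subtype.coprod W'.subtype).coprod P.subtype) = ⊤
      rw [LinearMap.range_coprod, LinearMap.range_coprod, Submodule.range_subtype, Submodule.range_subtype,
        Submodule.range_subtype, hYP.sup_eq_top]
  have hsum : (orbMult ζ f : Orb F r → ℕ) = orbMult ζ g + orbMult ζ g' + orbMult ζ (f.restrict hP) := by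
    rw [← hK.orbMult_prodMap g g']
    exact SympIsotropic.orbMult_of_equiv hK (LinearEquiv.ofBijective Ψ₀ hΨ) _ _ f fun a b => by
      show f ((a.1 : V) + a.2 + b) = f a.1 + f a.2 + f b
      rw [map_add, map_add]
  have hle : ∀ c, (orbMult ζ g : Orb F r → ℕ) c + orbMult ζ g (c * negOrb F r) ≤ orbMult ζ f c := fun c => by
    have h := congrFun hsum c
    rw [Pi.add_apply, Pi.add_apply, hg'a] at h
    omega
  refine ⟨∑ c, (orbMult ζ g : Orb F r → ℕ) c, ?_, ?_⟩
  · unfold lmax
    split_ifs with hi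
    · refine Finset.sum_le_sum fun c _ => ?_
      have := hle c
      rw [neg_eq_one hK hr2 hi, mul_one] at this
      omega
    · have h := Finset.sum_le_sum (s := Finset.univ) fun c _ => hle c
      rw [Finset.sum_add_distrib, show (∑ c, (orbMult ζ g : Orb F r → ℕ) (c * negOrb F r)) =
        ∑ c, (orbMult ζ g : Orb F r → ℕ) c from Equiv.sum_comp (Equiv.mulRight (negOrb F r)) _] at h
      omega
  · rw [← SympIsotropic.finrank_fix hK hg]
    congr 1
    let e : LinearMap.ker (g - 1) ≃ₗ[F] ↥(fixS f ⊓ W) :=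
      { toFun := fun v => ⟨v.1.1, congrArg Subtype.val v.2, v.1.2⟩
        map_add' := fun _ _ => rfl
        map_smul' := fun _ _ => rfl
        invFun := fun v => ⟨⟨v.1, v.2.2⟩, Subtype.ext v.2.1⟩
        left_inv := fun _ => rfl
        right_inv := fun _ => rfl }
    exact e.finrank_eq

/-- A non-degenerate invariant subspace is a part of the fixed space plus at most `tot` blocks. -/
theorem inv_nd {W : Submodule F V} (hW : Inv f W) (hWn : Nd Q W) :
    ∃ A ≤ fixS f, ∃ B ≤ movS f, Nd Q A ∧ Nd Q B ∧ A ⊔ B = W ∧ ∃ e ≤ tot (orbMult ζ f : Orb F r → ℕ),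
      finrank F B = blk F r * e ∧ sgn (res Q B) = eta F r ^ e := by
  classical
  have hO : Inv f (orth Q W) := SympDecomp.inv_orth (fun u v => polar_f hf u v) (Fact.out : r.Prime).pos hpow hW
  set g := f.restrict hW
  have hg := SympIsotropic.restrict_pow hK hpow hW
  have hQW : Sep (res Q W) := nd_iff.1 hWn
  have hgQ : ∀ x, res Q W (g x) = res Q W x := fun x => hf x
  have hsum : (orbMult ζ f : Orb F r → ℕ) = orbMult ζ g + orbMult ζ (f.restrict hO) :=
    SympIsotropic.orbMult_of_equiv hK (Submodule.prodEquivOfIsCompl _ _ (isCompl_orth hWn)) _ _ f fun a b => by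
      rw [Submodule.coe_prodEquivOfIsCompl', Submodule.coe_prodEquivOfIsCompl', map_add]
      rfl
  have hle : tot (orbMult ζ g : Orb F r → ℕ) ≤ tot (orbMult ζ f : Orb F r → ℕ) := by
    have h : ∑ c, (orbMult ζ g : Orb F r → ℕ) c ≤ ∑ c, (orbMult ζ f : Orb F r → ℕ) c :=
      Finset.sum_le_sum fun c _ => by rw [hsum]; exact Nat.le_add_right _ _
    unfold tot
    split_ifs <;> omega
  have hA : Iso (res (res Q W) (fixS g)) (res Q ((fixS g).map W.subtype)) :=
    iso_map _ W.injective_subtype (fun _ => rfl) _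
  have hB : Iso (res (res Q W) (movS g)) (res Q ((movS g).map W.subtype)) :=
    iso_map _ W.injective_subtype (fun _ => rfl) _
  refine ⟨(fixS g).map W.subtype, ?_, (movS g).map W.subtype, ?_,
    nd_iff.2 (hA.sep (nd_iff.1 (nd_fix hQW hgQ hK hg))), nd_iff.2 (hB.sep (nd_iff.1 (nd_mov hQW hgQ hK hg))), ?_,
    _, hle, ?_, ?_⟩
  · rintro _ ⟨x, hx, rfl⟩
    exact mem_fixS.2 (congrArg Subtype.val (mem_fixS.1 hx))
  · rintro _ ⟨_, ⟨y, rfl⟩, rfl⟩
    exact ⟨(y : V), rfl⟩
  · rw [← Submodule.map_sup, (isCompl_fix_mov hK hg).sup_eq_top, Submodule.map_top, Submodule.range_subtype]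
  · rw [← hB.finrank_eq, finrank_mov hK hg, blk_tot hK hr2 (symm_orbMult hQW hgQ hK hg)]
  · rw [← hB.sgn_eq, sgn_mov hQW hgQ hK hg hr2]

end Cfsg.Agent.Elusive.OrthPrime
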