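import Cfsg.Agent.Lib.Elusive.OrthPlanes
import Cfsg.Agent.Lib.Elusive.OrthGroup
import Cfsg.Agent.Lib.Elusive.OrthCriteria

/-!
Elements of order two of orthogonal groups, odd `q`: involutions and isometries with square `-1` in `Omega`, and the
subspaces they leave invariant.
-/

set_option autoImplicit false
set_option linter.unusedSectionVars false

namespace Cfsg.Agent.Elusive.OrthTwo

open Module
open OrthType OrthPlanes
open OrthCriteria (SingP EvenP)
open scoped Matrix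

universe u

variable {F : Type u} [Field F] [Fintype F] {ι : Type} [Fintype ι] [DecidableEq ι] {Q : QuadraticForm F (ι → F)}

theorem neg_one_ne (h2 : (2 : F) ≠ 0) : (-1 : F) ≠ 1 := fun h => h2 (by linear_combination -h)

theorem e1_eq_or : e1 F = 1 ∨ e1 F = -1 := chi_eq_or (neg_ne_zero.2 one_ne_zero)

theorem e1_eq_one_iff (h2 : (2 : F) ≠ 0) : e1 F = 1 ↔ Fintype.card F % 4 = 1 := by
  rw [e1, chi_eq_one_iff (neg_ne_zero.2 one_ne_zero), FiniteField.isSquare_neg_one_iff]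
  have h := FiniteField.odd_card_of_char_ne_two (F := F) fun h => h2 (by
    have : CharP F 2 := ringChar.of_eq h
    exact CharTwo.two_eq_zero)
  omega

theorem two_square_iff (h2 : (2 : F) ≠ 0) :
    chi (2 : F) = 1 ↔ Fintype.card F % 8 = 1 ∨ Fintype.card F % 8 = 7 := by
  rw [chi_eq_one_iff h2, FiniteField.isSquare_two_iff]
  have h := FiniteField.odd_card_of_char_ne_two (F := F) fun h => h2 (by
    have : CharP F 2 := ringChar.of_eq h
    exact CharTwo.two_eq_zero)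
  omega

/-- Membership of a product of reflections. -/
theorem rv_mem_iff (hQ : Sep Q) (h2 : (2 : F) ≠ 0) {vs : List (ι → F)} (hvs : ∀ v ∈ vs, Q v ≠ 0)
    {f : End F (ι → F)} (hf : ∀ x, rv Q vs x = f x) :
    (∃ x : GL ι F, x ∈ Cfsg.Geo.omegaGL ⇑Q ∧ Matrix.toLin' (x : Matrix ι ι F) = f) ↔
      Even vs.length ∧ chi (vs.map fun v => Q v).prod = 1 := by
  have hP : (vs.map fun v => Q v).prod ≠ 0 := List.prod_ne_zero fun h => by
    obtain ⟨v, hv, hv0⟩ := List.mem_map.1 h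
    exact hvs v hv hv0
  classical
  obtain ⟨g, hg⟩ := QForm.exists_prod_refl Q vs hvs
  have key := QForm.mem_omega_iff_of_prod (sep_iff.1 hQ) h2 g vs hvs hg
  rw [chi_eq_one_iff hP, ← key]
  have hgf : Matrix.toLin' ((g : GL ι F) : Matrix ι ι F) = f := LinearMap.ext fun v => by
    rw [Matrix.toLin'_apply, hg, ← hf]
    rfl
  constructor
  · rintro ⟨x, ⟨g', hg', rfl⟩, hx⟩
    have : g' = g := Subtype.ext (Units.ext (Matrix.toLin'.injective (hx.trans hgf.symm)))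
    exact this ▸ hg'
  · exact fun h => ⟨_, ⟨g, h, rfl⟩, hgf⟩

/-- The eigenspaces of an involution of `Omega`. -/
theorem invol_split (hQ : Sep Q) (h2 : (2 : F) ≠ 0) {x : GL ι F} (hx : x ∈ Cfsg.Geo.omegaGL ⇑Q)
    (hsq : ∀ v, Matrix.toLin' (x : Matrix ι ι F) (Matrix.toLin' (x : Matrix ι ι F) v) = v)
    (h1 : Matrix.toLin' (x : Matrix ι ι F) ≠ 1) :
    ∃ (C M : Submodule F (ι → F)) (β : ℕ), IsCompl C M ∧ (∀ a ∈ C, ∀ b ∈ M, QuadraticMap.polar ⇑Q a b = 0) ∧
      Nd Q C ∧ Nd Q M ∧ (∀ a ∈ C, Matrix.toLin' (x : Matrix ι ι F) a = a) ∧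
      (∀ b ∈ M, Matrix.toLin' (x : Matrix ι ι F) b = -b) ∧ 0 < β ∧ finrank F M = 2 * β ∧
      sgn (res Q M) = e1 F ^ β := by
  set f : End F (ι → F) := Matrix.toLin' (x : Matrix ι ι F) with hf'
  have hf := OrthGroup.isometry_of_omega hx
  rw [← hf'] at hf
  set C := LinearMap.ker (f - 1) with hC
  set M := LinearMap.ker (f + 1) with hM
  have hCm : ∀ a, a ∈ C ↔ f a = a := fun a => by simp [hC, sub_eq_zero]
  have hMm : ∀ b, b ∈ M ↔ f b = -b := fun b => by simp [hM, add_eq_zero_iff_eq_neg]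
  have horth : ∀ a ∈ C, ∀ b ∈ M, QuadraticMap.polar ⇑Q a b = 0 := by
    intro a ha b hb
    have h : QuadraticMap.polar ⇑Q (f a) (f b) = QuadraticMap.polar ⇑Q a b := by
      simp only [QuadraticMap.polar, ← map_add, hf]
    rw [(hCm a).1 ha, (hMm b).1 hb, QuadraticMap.polar_neg_right] at h
    have : (2 : F) * QuadraticMap.polar ⇑Q a b = 0 := by linear_combination -h
    exact (mul_eq_zero.1 this).resolve_left h2
  have hsup : ∀ v, ∃ a ∈ C, ∃ b ∈ M, a + b = v := fun v => by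
    refine ⟨(2 : F)⁻¹ • (v + f v), (hCm _).2 ?_, (2 : F)⁻¹ • (v - f v), (hMm _).2 ?_, ?_⟩
    · rw [map_smul, map_add, hsq, add_comm]
    · rw [map_smul, map_sub, hsq, ← smul_neg, neg_sub]
    · rw [← smul_add, show v + f v + (v - f v) = (2 : F) • v by rw [two_smul]; abel, smul_smul,
        inv_mul_cancel₀ h2, one_smul]
  have hcompl : IsCompl C M := by
    refine ⟨Submodule.disjoint_def.2 fun v ha hb => ?_, codisjoint_iff.2 (eq_top_iff.2 fun v _ => ?_)⟩
    · have h : v = -v := ((hCm v).1 ha).symm.trans ((hMm v).1 hb)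
      have : (2 : F) • v = 0 := by rw [two_smul]; nth_rewrite 2 [h]; exact add_neg_cancel v
      exact (smul_eq_zero.1 this).resolve_left h2
    · obtain ⟨a, ha, b, hb, rfl⟩ := hsup v
      exact Submodule.add_mem_sup ha hb
  have hndC : Nd Q C := fun v hv hall => hQ v fun y => by
    obtain ⟨a, ha, b, hb, rfl⟩ := hsup y
    rw [QuadraticMap.polar_add_right, hall a ha, horth v hv b hb, add_zero]
  have hndM : Nd Q M := fun v hv hall => hQ v fun y => by
    obtain ⟨a, ha, b, hb, rfl⟩ := hsup y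
    rw [QuadraticMap.polar_add_right, hall b hb, QuadraticMap.polar_comm, horth a ha v hv, add_zero]
  have hrv : ∀ vs : List (ι → F), (∀ v ∈ vs, v ∈ M ∧ Q v ≠ 0) → (∀ b ∈ M, rv Q vs b = -b) →
      ∀ v, rv Q vs v = f v := fun vs hmem hact v => by
    obtain ⟨a, ha, b, hb, rfl⟩ := hsup v
    rw [rv_add, hact b hb, map_add, (hCm a).1 ha, (hMm b).1 hb, rv_fix vs fun u hu => by
      rw [QuadraticMap.polar_comm]; exact horth a ha u (hmem u hu).1]
  obtain ⟨β, hβ⟩ : ∃ β, finrank F M = 2 * β ∨ finrank F M = 2 * β + 1 := ⟨finrank F M / 2, by omega⟩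
  rcases hβ with hβ | hβ
  · obtain ⟨vs, -, hmem, hact, hsgn⟩ := diag_even h2 β M hndM hβ
    have hch := ((rv_mem_iff hQ h2 (fun v hv => (hmem v hv).2) (hrv vs hmem hact)).1 ⟨x, hx, rfl⟩).2
    refine ⟨C, M, β, hcompl, horth, hndC, hndM, fun a => (hCm a).1, fun b => (hMm b).1, ?_, hβ, ?_⟩
    · by_contra hb0
      refine h1 (LinearMap.ext fun v => ?_)
      obtain ⟨a, ha, b, hb, rfl⟩ := hsup v
      have hb' : b = 0 := by
        have : M = ⊥ := Submodule.finrank_eq_zero.1 (by omega)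
        rw [this] at hb
        exact (Submodule.mem_bot F).1 hb
      rw [hb', add_zero, (hCm a).1 ha, Module.End.one_apply]
    · rw [hsgn, hch, mul_one]
  · obtain ⟨vs, hlen, hmem, hact⟩ := diag_odd h2 hndM hβ
    have hev := ((rv_mem_iff hQ h2 (fun v hv => (hmem v hv).2) (hrv vs hmem hact)).1 ⟨x, hx, rfl⟩).1
    rw [hlen] at hev
    exact absurd hev (by simp)

/-- Negation of a suitable non-degenerate subspace lies in `Omega`. -/
theorem exists_invol (hQ : Sep Q) (h2 : (2 : F) ≠ 0) {M : Submodule F (ι → F)} (hM : Nd Q M) {β : ℕ}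
    (hd : finrank F M = 2 * β) (hs : sgn (res Q M) = e1 F ^ β) :
    ∃ x : GL ι F, x ∈ Cfsg.Geo.omegaGL ⇑Q ∧ (∀ a ∈ orth Q M, Matrix.toLin' (x : Matrix ι ι F) a = a) ∧
      ∀ b ∈ M, Matrix.toLin' (x : Matrix ι ι F) b = -b := by
  obtain ⟨vs, hlen, hmem, hact, hsgn⟩ := diag_even h2 β M hM hd
  rw [hs] at hsgn
  have he : e1 F ^ β ≠ 0 := pow_ne_zero _ (by rcases e1_eq_or (F := F) with h | h <;> rw [h] <;> norm_num)
  have hch : chi (vs.map fun v => Q v).prod = 1 := (mul_right_eq_self₀.1 hsgn.symm).resolve_right he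
  let f : End F (ι → F) := Matrix.toLin' (vs.map fun u => reflectionMatrix ⇑Q u).prod
  have hf : ∀ v, rv Q vs v = f v := fun v => (Matrix.toLin'_apply _ _).symm
  obtain ⟨x, hx, hxf⟩ := (rv_mem_iff hQ h2 (fun v hv => (hmem v hv).2) hf).2 ⟨hlen ▸ even_two_mul β, hch⟩
  refine ⟨x, hx, fun a ha => ?_, fun b hb => ?_⟩
  · rw [hxf, ← hf, rv_fix vs fun u hu => mem_orth.1 ha u (hmem u hu).1]
  · rw [hxf, ← hf, hact b hb]

theorem inv_split {C M A B : Submodule F (ι → F)} {f : End F (ι → F)} (hC : ∀ a ∈ C, f a = a)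
    (hM : ∀ b ∈ M, f b = -b) (hA : A ≤ C) (hB : B ≤ M) : Inv f (A ⊔ B) := fun v hv => by
  obtain ⟨a, ha, b, hb, rfl⟩ := Submodule.mem_sup.1 hv
  rw [map_add, hC a (hA ha), hM b (hB hb)]
  exact Submodule.add_mem_sup ha (B.neg_mem hb)

/-- An invariant subspace of an involution is the sum of its eigenparts. -/
theorem inv_parts (h2 : (2 : F) ≠ 0) {C M W : Submodule F (ι → F)} (hc : IsCompl C M) {f : End F (ι → F)}
    (hC : ∀ a ∈ C, f a = a) (hM : ∀ b ∈ M, f b = -b) (hW : Inv f W) :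
    finrank F W = finrank F ↥(C ⊓ W) + finrank F ↥(M ⊓ W) := by
  have hsup : C ⊓ W ⊔ M ⊓ W = W := by
    refine le_antisymm (sup_le inf_le_right inf_le_right) fun v hv => ?_
    obtain ⟨a, ha, b, hb, hab⟩ := Submodule.mem_sup.1
      (show v ∈ C ⊔ M by rw [hc.sup_eq_top]; trivial)
    have h := hW v hv
    rw [← hab, map_add, hC a ha, hM b hb] at h
    have ha2 : (2 : F) • a ∈ W := by
      rw [show (2 : F) • a = a + -b + v by rw [two_smul, ← hab]; abel]
      exact W.add_mem h hv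
    have haW : a ∈ W := by
      have := W.smul_mem (2 : F)⁻¹ ha2
      rwa [smul_smul, inv_mul_cancel₀ h2, one_smul] at this
    rw [← hab]
    exact Submodule.add_mem_sup ⟨ha, haW⟩ ⟨hb, (Submodule.add_mem_iff_right W haW).1 (hab.symm ▸ hv)⟩
  rw [← finrank_sup_of_disjoint (hc.disjoint.mono inf_le_left inf_le_left), hsup]

/-! ### Isometries with square `-1` -/

theorem top_data {f : End F (ι → F)} (hQ : Sep Q) (hf : ∀ v, Q (f v) = Q v) (hJ : ∀ v, f (f v) = -v)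
    (h2 : (2 : F) ≠ 0) :
    ∃ k, Fintype.card ι = 2 * k ∧ sgn Q = e1 F ^ k ∧
      (∀ j ≤ k, ∃ A : Submodule F (ι → F), Inv f A ∧ Nd Q A ∧ finrank F A = 2 * j) ∧
      (∀ i : F, i * i = -1 → ∀ j ≤ k, ∃ U : Submodule F (ι → F), Inv f U ∧ (∀ u ∈ U, Q u = 0) ∧ finrank F U = j) ∧
      (∀ j, 2 * j ≤ k → ∃ U : Submodule F (ι → F), Inv f U ∧ (∀ u ∈ U, Q u = 0) ∧ finrank F U = 2 * j) ∧
      ∃ vs : List (ι → F), vs.length = 2 * k ∧ (∀ v ∈ vs, Q v ≠ 0) ∧ (∀ v, rv Q vs v = f v) ∧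
        chi (vs.map fun v => Q v).prod = chi (2 : F) ^ k := by
  have hnd : Nd Q (⊤ : Submodule F (ι → F)) := fun x _ hall => hQ x fun y => hall y trivial
  have hd : finrank F (⊤ : Submodule F (ι → F)) = Fintype.card ι := by
    rw [finrank_top, Module.finrank_fintype_fun_eq_card]
  obtain ⟨k, hk, hs, h3, h4, vs, hl, hm, ha, hc⟩ := jsub hf hJ h2 _ ⊤ (fun v _ => trivial) hnd hd
  refine ⟨k, hk, ?_, fun j hj => ?_, fun i hi j hj => ?_, fun j hj => ?_, vs, hl, fun v hv => (hm v hv).2,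
    fun v => ha v trivial, hc⟩
  · rw [← hs, (iso_top Q).sgn_eq]
  · obtain ⟨A, -, h⟩ := h3 j hj
    exact ⟨A, h⟩
  · obtain ⟨A, -, h⟩ := h4 i hi j hj
    exact ⟨A, h⟩
  · obtain ⟨A, -, h⟩ := jts hf hJ h2 j k ⊤ (fun v _ => trivial) hnd (hd.trans hk) hj
    exact ⟨A, h⟩

/-- An invariant non-degenerate subspace of `J` has even dimension and forced sign. -/
theorem nd_J {f : End F (ι → F)} (hf : ∀ v, Q (f v) = Q v) (hJ : ∀ v, f (f v) = -v) (h2 : (2 : F) ≠ 0)
    {W : Submodule F (ι → F)} (hW : Inv f W) (hWn : Nd Q W) :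
    ∃ k, finrank F W = 2 * k ∧ sgn (res Q W) = e1 F ^ k := by
  obtain ⟨k, h, h', -⟩ := jsub hf hJ h2 _ W hW hWn rfl
  exact ⟨k, h, h'⟩

/-- An invariant subspace of `J` has even dimension when `-1` is a non-square. -/
theorem even_J {f : End F (ι → F)} (hJ : ∀ v, f (f v) = -v) (he : e1 F = -1) {W : Submodule F (ι → F)}
    (hW : Inv f W) : Even (finrank F W) := by
  by_contra hodd
  set g : End F W := f.restrict hW
  have hg : g * g = (-1 : F) • 1 := LinearMap.ext fun v => Subtype.ext (by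
    rw [Module.End.mul_apply, LinearMap.smul_apply, Module.End.one_apply, Submodule.coe_smul, neg_one_smul]
    exact hJ v)
  have hdet := congrArg LinearMap.det hg
  rw [map_mul, LinearMap.det_smul, map_one, mul_one, (Nat.not_even_iff_odd.1 hodd).neg_one_pow] at hdet
  have h1 : chi (-1 : F) = 1 := by
    rw [chi_eq_one_iff (neg_ne_zero.2 one_ne_zero)]
    exact ⟨_, hdet.symm⟩
  rw [← e1, he] at h1
  norm_num at h1

/-- The standard model. -/
theorem exists_J (hQ : Sep Q) (h2 : (2 : F) ≠ 0) {d : ℕ} (hd : Fintype.card ι = 2 * d) (hs : sgn Q = e1 F ^ d)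
    (hsp : chi (2 : F) ^ d = 1) :
    ∃ x : GL ι F, x ∈ Cfsg.Geo.omegaGL ⇑Q ∧
      ∀ v, Matrix.toLin' (x : Matrix ι ι F) (Matrix.toLin' (x : Matrix ι ι F) v) = -v := by
  let R : QuadraticForm F (Fin d ⊕ Fin d → F) := ∑ i, QuadraticMap.proj i i
  have hRv : ∀ v, R v = ∑ i, v i * v i := fun v => by simp [R]
  let J : End F (Fin d ⊕ Fin d → F) :=
    { toFun := fun v => Sum.elim (fun a => -v (Sum.inr a)) fun a => v (Sum.inl a)
      map_add' := fun v w => by funext i; rcases i with i | i <;> simp [add_comm]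
      map_smul' := fun s v => by funext i; rcases i with i | i <;> simp }
  have hJJ : ∀ v, J (J v) = -v := fun v => by funext i; rcases i with i | i <;> simp [J]
  have hJQ : ∀ v, R (J v) = R v := fun v => by
    rw [hRv, hRv, Fintype.sum_sum_type, Fintype.sum_sum_type, add_comm]
    simp [J]
  have hRp : ∀ v w, QuadraticMap.polar ⇑R v w = 2 * ∑ i, v i * w i := fun v w => by
    simp only [QuadraticMap.polar, hRv, Pi.add_apply]
    rw [Finset.mul_sum, ← Finset.sum_sub_distrib, ← Finset.sum_sub_distrib]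
    exact Finset.sum_congr rfl fun i _ => by ring
  have hR : Sep R := fun v hv => funext fun i => by
    have := hv (Pi.single i 1)
    simp only [hRp, Pi.single_apply, mul_ite, mul_one, mul_zero, Finset.sum_ite_eq', Finset.mem_univ,
      if_true, mul_eq_zero] at this
    exact this.resolve_left h2
  obtain ⟨k, hk, hks, -⟩ := top_data hR hJQ hJJ h2
  have hkd : k = d := by simp at hk; omega
  subst hkd
  obtain ⟨e, he⟩ := iso_of_sgn hR hQ (M := k) (by simp; omega)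
    (by rw [Module.finrank_fintype_fun_eq_card]; omega) (hks.trans hs.symm)
  have hf : ∀ v, Q (e.conj J v) = Q v := fun v => by
    obtain ⟨w, rfl⟩ := e.surjective v
    rw [LinearEquiv.conj_apply_apply, LinearEquiv.symm_apply_apply, he, he, hJQ]
  have hfJ : ∀ v, e.conj J (e.conj J v) = -v := fun v => by
    rw [LinearEquiv.conj_apply_apply, LinearEquiv.conj_apply_apply, LinearEquiv.symm_apply_apply, hJJ, map_neg,
      LinearEquiv.apply_symm_apply]
  obtain ⟨k', hk', -, -, -, -, vs, hl, hm, ha, hc⟩ := top_data hQ hf hfJ h2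
  obtain ⟨x, hx, hxf⟩ := (rv_mem_iff hQ h2 hm ha).2 ⟨hl ▸ even_two_mul k', by
    rw [hc, show k' = k by omega, hsp]⟩
  exact ⟨x, hx, fun v => by rw [hxf]; exact hfJ v⟩

/-- An element of order two of the projective group. -/
theorem elem_cases (hQ : Sep Q) (h2 : (2 : F) ≠ 0) (hn : 1 ≤ Fintype.card ι) {x : GL ι F}
    (hx : x ∈ Cfsg.Geo.omegaGL ⇑Q) (hz : ∃ z : F, ((x ^ 2 : GL ι F) : Matrix ι ι F) = z • (1 : Matrix ι ι F))
    (hns : ∀ z : F, (x : Matrix ι ι F) ≠ z • (1 : Matrix ι ι F)) :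
    ((∀ v, Matrix.toLin' (x : Matrix ι ι F) (Matrix.toLin' (x : Matrix ι ι F) v) = v) ∧
        Matrix.toLin' (x : Matrix ι ι F) ≠ 1 ∧ Matrix.toLin' (x : Matrix ι ι F) ≠ -1) ∨
      (∀ v, Matrix.toLin' (x : Matrix ι ι F) (Matrix.toLin' (x : Matrix ι ι F) v) = -v) := by
  obtain ⟨z, hz⟩ := hz
  have hsq : ∀ v, Matrix.toLin' (x : Matrix ι ι F) (Matrix.toLin' (x : Matrix ι ι F) v) = z • v := fun v => by
    rw [Units.val_pow_eq_pow_val, pow_two] at hz
    rw [Matrix.toLin'_apply, Matrix.toLin'_apply, Matrix.mulVec_mulVec, hz, Matrix.smul_mulVec, Matrix.one_mulVec]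
  have hz2 := OrthGroup.sq_eq_one_of_scalar hQ hn (z := z) fun v => by
    rw [← hsq, OrthGroup.isometry_of_omega hx, OrthGroup.isometry_of_omega hx]
  rcases mul_self_eq_one_iff.1 hz2 with rfl | rfl
  · refine Or.inl ⟨fun v => by rw [hsq, one_smul], fun h => hns 1 ?_, fun h => hns (-1) ?_⟩
    · refine Matrix.toLin'.injective ?_
      rw [h, one_smul, Matrix.toLin'_one]
      rfl
    · refine Matrix.toLin'.injective ?_
      rw [h, map_smul, Matrix.toLin'_one]
      exact LinearMap.ext fun v => (neg_one_smul F v).symm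
  · exact Or.inr fun v => by rw [hsq, neg_one_smul]

/-- An involution that is not scalar, seen as an element of the projective group. -/
theorem invol_elem {x : GL ι F} {C M : Submodule F (ι → F)} (hc : IsCompl C M)
    (hC : ∀ a ∈ C, Matrix.toLin' (x : Matrix ι ι F) a = a) (hM : ∀ b ∈ M, Matrix.toLin' (x : Matrix ι ι F) b = -b)
    (h2 : (2 : F) ≠ 0) (hC0 : C ≠ ⊥) (hM0 : M ≠ ⊥) :
    (∃ z : F, ((x ^ 2 : GL ι F) : Matrix ι ι F) = z • (1 : Matrix ι ι F)) ∧
      (∀ z : F, (x : Matrix ι ι F) ≠ z • (1 : Matrix ι ι F)) ∧ orderOf x = 2 := by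
  have hns : ∀ z : F, (x : Matrix ι ι F) ≠ z • (1 : Matrix ι ι F) := by
    intro z hz
    have hf : ∀ v, Matrix.toLin' (x : Matrix ι ι F) v = z • v := fun v => by
      rw [hz, Matrix.toLin'_apply, Matrix.smul_mulVec, Matrix.one_mulVec]
    obtain ⟨a, ha, ha0⟩ := Submodule.exists_mem_ne_zero_of_ne_bot hC0
    obtain ⟨b, hb, hb0⟩ := Submodule.exists_mem_ne_zero_of_ne_bot hM0
    have h1 : z = 1 := smul_left_injective F ha0 (((hf a).symm.trans (hC a ha)).trans (one_smul F a).symm)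
    have h1' : z = -1 := smul_left_injective F hb0
      (((hf b).symm.trans (hM b hb)).trans (neg_one_smul F b).symm)
    exact neg_one_ne h2 (h1'.symm.trans h1)
  have hsq : x ^ 2 = 1 := Units.ext (Matrix.ext_iff_mulVec.2 fun v => by
    obtain ⟨a, ha, b, hb, rfl⟩ := Submodule.mem_sup.1 (show v ∈ C ⊔ M by rw [hc.sup_eq_top]; trivial)
    rw [Units.val_pow_eq_pow_val, pow_two, ← Matrix.mulVec_mulVec, ← Matrix.toLin'_apply, ← Matrix.toLin'_apply,
      map_add, hC a ha, hM b hb, map_add, map_neg, hC a ha, hM b hb, neg_neg, Units.val_one, Matrix.one_mulVec])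
  refine ⟨⟨1, by rw [hsq, one_smul]; rfl⟩, hns, orderOf_eq_prime hsq fun h => hns 1 ?_⟩
  rw [h, one_smul]
  rfl

/-- An element with square `-1`, seen as an element of the projective group. -/
theorem J_elem (hQ : Sep Q) (hn : 1 ≤ Fintype.card ι) (h2 : (2 : F) ≠ 0) {x : GL ι F}
    (hx : x ∈ Cfsg.Geo.omegaGL ⇑Q)
    (hJ : ∀ v, Matrix.toLin' (x : Matrix ι ι F) (Matrix.toLin' (x : Matrix ι ι F) v) = -v) :
    (∃ z : F, ((x ^ 2 : GL ι F) : Matrix ι ι F) = z • (1 : Matrix ι ι F)) ∧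
      (∀ z : F, (x : Matrix ι ι F) ≠ z • (1 : Matrix ι ι F)) := by
  refine ⟨⟨-1, Matrix.ext_iff_mulVec.2 fun v => ?_⟩, fun z hz => ?_⟩
  · rw [Units.val_pow_eq_pow_val, pow_two, ← Matrix.mulVec_mulVec, ← Matrix.toLin'_apply, ← Matrix.toLin'_apply,
      hJ, Matrix.smul_mulVec, Matrix.one_mulVec, neg_one_smul]
  · obtain ⟨v, hv⟩ := OrthGroup.exists_nonsingular hQ hn
    have hfv : Matrix.toLin' (x : Matrix ι ι F) v = z • v := by
      rw [hz, Matrix.toLin'_apply, Matrix.smul_mulVec, Matrix.one_mulVec]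
    have h := hJ v
    rw [hfv, map_smul, hfv, smul_smul] at h
    have hv0 : v ≠ 0 := fun e => hv (by rw [e, QuadraticMap.map_zero])
    have hz1 : z * z = -1 := smul_left_injective F hv0 (h.trans (neg_one_smul F v).symm)
    have hz2 := OrthGroup.sq_eq_one_of_scalar hQ hn (z := z) fun w => by
      have := OrthGroup.isometry_of_omega hx w
      rwa [hz, Matrix.toLin'_apply, Matrix.smul_mulVec, Matrix.one_mulVec] at this
    exact neg_one_ne h2 (hz1.symm.trans hz2)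

/-! ### Subspaces adapted to an orthogonal decomposition -/

theorem ts_in (h2 : (2 : F) ≠ 0) {S : Submodule F (ι → F)} (hS : Nd Q S) {j : ℕ}
    (hj : j ≤ widx (finrank F S) (sgn (res Q S))) :
    ∃ U ≤ S, (∀ u ∈ U, Q u = 0) ∧ finrank F U = j := by
  obtain ⟨U, hU, hd⟩ := exists_ts (nd_iff.1 hS) (fun _ => h2) hj
  refine ⟨U.map S.subtype, Submodule.map_subtype_le _ _, ?_, by rw [Submodule.finrank_map_subtype_eq, hd]⟩
  rintro _ ⟨u, hu, rfl⟩
  exact hU u hu

theorem sub_in (h2 : (2 : F) ≠ 0) {S : Submodule F (ι → F)} (hS : Nd Q S) {j : ℕ} (hj : 2 * j < finrank F S)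
    {τ : ℤ} (hτ : τ = 1 ∨ τ = -1) (h0 : j = 0 → τ = 1) :
    ∃ A ≤ S, Nd Q A ∧ finrank F A = 2 * j ∧ sgn (res Q A) = τ := by
  obtain ⟨A, hA, hd, hs⟩ := exists_sub_even (nd_iff.1 hS) (fun _ => h2) hj hτ h0
  have hiso := iso_map (Q := Q) (Q' := res Q S) S.subtype S.injective_subtype (fun _ => rfl) A
  exact ⟨A.map S.subtype, Submodule.map_subtype_le _ _, nd_iff.2 (hiso.sep (nd_iff.1 hA)),
    by rw [Submodule.finrank_map_subtype_eq, hd], by rw [← hiso.sgn_eq, hs]⟩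

section Split

variable {C M : Submodule F (ι → F)} (hc : IsCompl C M)
  (horth : ∀ a ∈ C, ∀ b ∈ M, QuadraticMap.polar ⇑Q a b = 0)
include hc horth

/-- Totally singular subspaces. -/
theorem split_ts (h2 : (2 : F) ≠ 0) (hC : Nd Q C) (hM : Nd Q M) {m : ℕ}
    (hm : m ≤ widx (finrank F C) (sgn (res Q C)) + widx (finrank F M) (sgn (res Q M))) :
    ∃ A ≤ C, ∃ B ≤ M, SingP Q m (A ⊔ B) := by
  obtain ⟨j, hj, k, hk, rfl⟩ : ∃ j ≤ widx (finrank F C) (sgn (res Q C)),
      ∃ k ≤ widx (finrank F M) (sgn (res Q M)), j + k = m := by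
    refine ⟨min m (widx (finrank F C) (sgn (res Q C))), min_le_right _ _,
      m - min m (widx (finrank F C) (sgn (res Q C))), ?_, ?_⟩ <;> omega
  obtain ⟨A, hA, hA0, hAd⟩ := ts_in h2 hC hj
  obtain ⟨B, hB, hB0, hBd⟩ := ts_in h2 hM hk
  refine ⟨A, hA, B, hB, by rw [finrank_sup_of_disjoint (hc.disjoint.mono hA hB), hAd, hBd], fun v hv => ?_⟩
  obtain ⟨a, ha, b, hb, rfl⟩ := Submodule.mem_sup.1 hv
  rw [Q_add_orth (horth a (hA ha) b (hB hb)), hA0 a ha, hB0 b hb, add_zero]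

theorem evenP_sup {A B : Submodule F (ι → F)} (hA : A ≤ C) (hB : B ≤ M) (hAn : Nd Q A) (hBn : Nd Q B) {j k μ : ℕ}
    {τ : ℤ} (hAd : finrank F A = 2 * j) (hBd : finrank F B = 2 * k) (hμ : j + k = μ)
    (hs : sgn (res Q A) * sgn (res Q B) = τ) : EvenP Q (2 * μ) τ (A ⊔ B) := by
  have hd := hc.disjoint.mono hA hB
  have hor : ∀ a ∈ A, ∀ b ∈ B, QuadraticMap.polar ⇑Q a b = 0 := fun a ha b hb => horth a (hA ha) b (hB hb)
  refine ⟨by rw [finrank_sup_of_disjoint hd, hAd, hBd]; omega,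
    nd_of_iso (sep_prod (nd_iff.1 hAn) (nd_iff.1 hBn)) (iso_sup hd hor), ?_⟩
  rw [sgn_sup hAn hBn hd hor ⟨j, by omega⟩ ⟨k, by omega⟩, hs]

omit hc horth in
theorem mul_sgn_or {τ : ℤ} (hτ : τ = 1 ∨ τ = -1) (S : Submodule F (ι → F)) :
    τ * sgn (res Q S) = 1 ∨ τ * sgn (res Q S) = -1 := by
  rcases hτ with rfl | rfl <;> rcases sgn_eq_or (res Q S) with h | h <;> simp [h]

/-- Non-degenerate subspaces of even dimension, both parts of even dimension. -/
theorem split_even (h2 : (2 : F) ≠ 0) (hC : Nd Q C) (hM : Nd Q M) {α β μ : ℕ} (hCd : finrank F C = 2 * α)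
    (hMd : finrank F M = 2 * β) (hμ : 0 < μ) (hlt : μ < α + β) (hbig : 3 ≤ α + β) {τ : ℤ} (hτ : τ = 1 ∨ τ = -1) :
    ∃ A ≤ C, ∃ B ≤ M, EvenP Q (2 * μ) τ (A ⊔ B) := by
  rcases Nat.lt_or_ge μ α with h | h
  · obtain ⟨A, hA, hAn, hAd, hAs⟩ := sub_in h2 hC (j := μ) (by omega) hτ (by omega)
    exact ⟨A, hA, ⊥, bot_le, evenP_sup hc horth hA bot_le hAn nd_bot hAd (k := 0) (by simp) (by omega)
      (by rw [sgn_bot, mul_one, hAs])⟩
  rcases Nat.lt_or_ge μ β with h' | h'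
  · obtain ⟨B, hB, hBn, hBd, hBs⟩ := sub_in h2 hM (j := μ) (by omega) hτ (by omega)
    exact ⟨⊥, bot_le, B, hB, evenP_sup hc horth bot_le hB nd_bot hBn (j := 0) (by simp) hBd (by omega)
      (by rw [sgn_bot, one_mul, hBs])⟩
  rcases Nat.lt_or_ge β μ with h'' | h''
  · obtain ⟨A, hA, hAn, hAd, hAs⟩ := sub_in h2 hC (j := μ - β) (by omega) (mul_sgn_or hτ M) (by omega)
    exact ⟨A, hA, M, le_rfl, evenP_sup hc horth hA le_rfl hAn hM hAd hMd (by omega)
      (by rw [hAs, mul_assoc, sgn_mul_self, mul_one])⟩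
  rcases Nat.lt_or_ge α μ with h3 | h3
  · obtain ⟨B, hB, hBn, hBd, hBs⟩ := sub_in h2 hM (j := μ - α) (by omega) (mul_sgn_or hτ C) (by omega)
    exact ⟨C, le_rfl, B, hB, evenP_sup hc horth le_rfl hB hC hBn hCd hBd (by omega)
      (by rw [hBs, mul_comm, mul_assoc, sgn_mul_self, mul_one])⟩
  obtain ⟨A, hA, hAn, hAd, hAs⟩ := sub_in h2 hC (j := 1) (by omega) hτ (by omega)
  obtain ⟨B, hB, hBn, hBd, hBs⟩ := sub_in h2 hM (j := μ - 1) (by omega) (Or.inl rfl) (fun _ => rfl)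
  exact ⟨A, hA, B, hB, evenP_sup hc horth hA hB hAn hBn hAd hBd (by omega) (by rw [hAs, hBs, mul_one])⟩

/-- Non-degenerate subspaces of even dimension below the top, first part of odd dimension. -/
theorem split_even_odd (h2 : (2 : F) ≠ 0) (hC : Nd Q C) (hM : Nd Q M) {α β μ : ℕ} (hCd : finrank F C = 2 * α + 1)
    (hMd : finrank F M = 2 * β) (hμ : 0 < μ) (hlt : μ < α + β) {τ : ℤ} (hτ : τ = 1 ∨ τ = -1) :
    ∃ A ≤ C, ∃ B ≤ M, EvenP Q (2 * μ) τ (A ⊔ B) := by
  rcases Nat.lt_or_ge α μ with h | h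
  swap
  · obtain ⟨A, hA, hAn, hAd, hAs⟩ := sub_in h2 hC (j := μ) (by omega) hτ (by omega)
    exact ⟨A, hA, ⊥, bot_le, evenP_sup hc horth hA bot_le hAn nd_bot hAd (k := 0) (by simp) (by omega)
      (by rw [sgn_bot, mul_one, hAs])⟩
  rcases Nat.lt_or_ge μ β with h' | h'
  · obtain ⟨B, hB, hBn, hBd, hBs⟩ := sub_in h2 hM (j := μ) (by omega) hτ (by omega)
    exact ⟨⊥, bot_le, B, hB, evenP_sup hc horth bot_le hB nd_bot hBn (j := 0) (by simp) hBd (by omega)
      (by rw [sgn_bot, one_mul, hBs])⟩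
  rcases Nat.lt_or_ge β μ with h'' | h''
  · obtain ⟨A, hA, hAn, hAd, hAs⟩ := sub_in h2 hC (j := μ - β) (by omega) (mul_sgn_or hτ M) (by omega)
    exact ⟨A, hA, M, le_rfl, evenP_sup hc horth hA le_rfl hAn hM hAd hMd (by omega)
      (by rw [hAs, mul_assoc, sgn_mul_self, mul_one])⟩
  obtain ⟨A, hA, hAn, hAd, hAs⟩ := sub_in h2 hC (j := 1) (by omega) hτ (by omega)
  obtain ⟨B, hB, hBn, hBd, hBs⟩ := sub_in h2 hM (j := μ - 1) (by omega) (Or.inl rfl) (fun _ => rfl)
  exact ⟨A, hA, B, hB, evenP_sup hc horth hA hB hAn hBn hAd hBd (by omega) (by rw [hAs, hBs, mul_one])⟩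

/-- Non-degenerate subspaces of odd dimension below half. -/
theorem split_odd (h2 : (2 : F) ≠ 0) (hC : Nd Q C) (hM : Nd Q M) {α β : ℕ} (hCd : finrank F C = 2 * α)
    (hMd : finrank F M = 2 * β) {W₀ : Submodule F (ι → F)} (hW : Nd Q W₀) {j : ℕ}
    (hWd : finrank F W₀ = 2 * j + 1) (hlt : 2 * j + 1 < α + β) :
    ∃ A ≤ C, ∃ B ≤ M, Iso (res Q W₀) (res Q (A ⊔ B)) := by
  have hone : ∀ S : Submodule F (ι → F), Nd Q S → Even (finrank F S) → finrank F W₀ < finrank F S →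
      ∃ A ≤ S, Iso (res Q W₀) (res Q A) := fun S hS he hl => by
    obtain ⟨A, -, hiso⟩ := exists_sub_odd h2 (nd_iff.1 hS) he (nd_iff.1 hW) hWd hl
    exact ⟨A.map S.subtype, Submodule.map_subtype_le _ _,
      hiso.trans (iso_map (Q := Q) (Q' := res Q S) S.subtype S.injective_subtype (fun _ => rfl) A)⟩
  rcases Nat.lt_or_ge (2 * j + 1) (2 * α) with h | h
  · obtain ⟨A, hA, hiso⟩ := hone C hC ⟨α, by omega⟩ (by omega)
    exact ⟨A, hA, ⊥, bot_le, by rwa [sup_bot_eq]⟩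
  · obtain ⟨B, hB, hiso⟩ := hone M hM ⟨β, by omega⟩ (by omega)
    exact ⟨⊥, bot_le, B, hB, by rwa [bot_sup_eq]⟩

end Split

/-- An invariant hyperplane of either type orthogonal to a vector negated by an involution. -/
theorem top_even (hQ : Sep Q) (h2 : (2 : F) ≠ 0) {d : ℕ} (hn : Fintype.card ι = 2 * d + 1) (hd : 0 < d)
    {M : Submodule F (ι → F)} (hM : Nd Q M) {β : ℕ} (hMd : finrank F M = 2 * β) (hβ : 0 < β) {f : End F (ι → F)}
    (hf : ∀ v, Q (f v) = Q v) (hfM : ∀ b ∈ M, f b = -b) {τ : ℤ} (hτ : τ = 1 ∨ τ = -1) :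
    ∃ W, EvenP Q (2 * d) τ W ∧ Inv f W := by
  have hfr : finrank F (ι → F) = 2 * d + 1 := by rw [Module.finrank_fintype_fun_eq_card, hn]
  obtain ⟨A, hA, hAd, hAs⟩ := exists_sub_even hQ (fun _ => h2) (j := d) (by omega) hτ (by omega)
  have hO := nd_orth hQ hA
  have hOd : finrank F (orth Q A) = 1 := by
    have := Submodule.finrank_add_eq_of_isCompl (isCompl_orth hA)
    omega
  obtain ⟨v₀, hv₀, hQv₀⟩ := exists_aniso h2 hO (by omega)
  obtain ⟨v, hv⟩ := QForm.exists_apply_eq_of_module h2 (sep_iff.1 (nd_iff.1 hM)) (by omega) (Q v₀) hQv₀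
  have hv' : Q (v : ι → F) ≠ 0 := fun e => hQv₀ (by rw [← hv]; exact e)
  have hv00 : v₀ ≠ 0 := fun e => hQv₀ (by rw [e, QuadraticMap.map_zero])
  have hv0 : (v : ι → F) ≠ 0 := fun e => hv' (by rw [e, QuadraticMap.map_zero])
  have hline : orth Q A = F ∙ v₀ := (Submodule.eq_of_le_of_finrank_eq
    ((Submodule.span_singleton_le_iff_mem _ _).2 hv₀) (by rw [finrank_span_singleton hv00, hOd])).symm
  have hiso : Iso (res Q (F ∙ v₀)) (res Q (F ∙ (v : ι → F))) := by
    refine ⟨(LinearEquiv.toSpanNonzeroSingleton F _ v₀ hv00).symm.trans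
      (LinearEquiv.toSpanNonzeroSingleton F _ _ hv0), fun y => ?_⟩
    obtain ⟨s, rfl⟩ := (LinearEquiv.toSpanNonzeroSingleton F _ v₀ hv00).surjective y
    rw [LinearEquiv.trans_apply, LinearEquiv.symm_apply_apply]
    show Q (s • (v : ι → F)) = Q (s • v₀)
    rw [Q_smul, Q_smul]
    exact congrArg (s * s * ·) hv
  obtain ⟨g, hg, hgm⟩ := exists_isom_map hQ hiso
  have hgQ : ∀ y, Q (g y) = Q y := fun y => hg y y
  refine ⟨A.map g.toLinearMap, ⟨?_, ?_, ?_⟩, ?_⟩
  · rw [LinearEquiv.finrank_map_eq, hAd]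
  · exact nd_iff.2 ((iso_map g.toLinearMap g.injective hgQ A).sep (nd_iff.1 hA))
  · rw [← (iso_map g.toLinearMap g.injective hgQ A).sgn_eq, hAs]
  · have hle : A.map g.toLinearMap ≤ orth Q (F ∙ (v : ι → F)) := by
      rintro _ ⟨a, ha, rfl⟩
      rw [mem_orth, ← hgm]
      rintro _ ⟨y, hy, rfl⟩
      show QuadraticMap.polar ⇑Q (g y) (g a) = 0
      simp only [QuadraticMap.polar, ← map_add, hgQ]
      rw [← hline] at hy
      have := mem_orth.1 hy a ha
      rw [QuadraticMap.polar, add_comm a y] at this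
      linear_combination this
    have heq : A.map g.toLinearMap = orth Q (F ∙ (v : ι → F)) := by
      refine Submodule.eq_of_le_of_finrank_eq hle ?_
      rw [LinearEquiv.finrank_map_eq, hAd]
      have := Submodule.finrank_add_eq_of_isCompl (isCompl_orth (line_nd h2 hv'))
      rw [finrank_span_singleton hv0] at this
      omega
    intro y hy
    rw [heq, mem_orth] at hy ⊢
    intro a ha
    obtain ⟨s, rfl⟩ := Submodule.mem_span_singleton.1 ha
    have h : QuadraticMap.polar ⇑Q (f (-(s • (v : ι → F)))) (f y) = QuadraticMap.polar ⇑Q (-(s • (v : ι → F))) y := by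
      simp only [QuadraticMap.polar, ← map_add, hf]
    rw [map_neg, map_smul, hfM v v.2, smul_neg, neg_neg] at h
    rw [h, QuadraticMap.polar_neg_left, hy _ ha, neg_zero]

end Cfsg.Agent.Elusive.OrthTwo
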