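import Cfsg.Agent.Lib.Elusive.OrthMain
import Cfsg.Agent.Lib.Elusive.OrthTwo
import Cfsg.Agent.Lib.Elusive.OrthCount

/-!
The standard orthogonal spaces and the translation of the vocabulary of the statements.
-/

set_option autoImplicit false
set_option linter.unusedSectionVars false

namespace Cfsg.Agent.Elusive.OrthStd

open Module
open OrthType
open OrthCriteria (SingP EvenP)

universe u

variable {F : Type u} [Field F] [Fintype F] {p : ℕ} [Fact p.Prime] [CharP F p]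

include p in
theorem two_ne_zero_of_ne (hp : p ≠ 2) : (2 : F) ≠ 0 := fun h => hp (by
  have h' : p ∣ 2 := (CharP.cast_eq_zero_iff F p 2).1 (by exact_mod_cast h)
  exact (Nat.prime_dvd_prime_iff_eq Fact.out Nat.prime_two).1 h')

include p in
theorem ne_two_of_odd (hq : Odd (Fintype.card F)) : p ≠ 2 := by
  rintro rfl
  obtain ⟨k, -, hk⟩ := FiniteField.card F 2
  rw [hk] at hq
  exact Nat.not_even_iff_odd.2 hq ((Nat.even_pow' k.ne_zero).2 even_two)

include p in
theorem odd_card_of_ne (hp : p ≠ 2) : Odd (Fintype.card F) := by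
  obtain ⟨k, -, hk⟩ := FiniteField.card F p
  rw [hk]
  exact ((Fact.out : p.Prime).odd_of_ne_two hp).pow

/-! ### Hyperbolic -/

theorem coe_plus (d : ℕ) : Cfsg.quadFormPlus d F = ⇑(Forms.quadPlus d F) :=
  (funext fun v => Forms.quadPlus_apply v).symm

theorem sep_plus (d : ℕ) : Sep (Forms.quadPlus d F) := sep_iff.2 (Forms.quadPlus_nondegenerate d)

theorem sgn_plus (d : ℕ) : sgn (Forms.quadPlus d F) = 1 := sgn_of_plus (plusQ_quadPlus d)

theorem card_plus (d : ℕ) : Fintype.card (Fin d ⊕ Fin d) = 2 * d := by simp; omega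

/-! ### Elliptic -/

theorem coe_minus (d : ℕ) (a b : F) : Cfsg.quadFormMinus d F a b = ⇑(Forms.quadMinus d F a b) :=
  (funext fun v => Forms.quadMinus_apply v).symm

theorem sep_minus (d : ℕ) {a b : F} (hab : ∀ x y : F, x ^ 2 + a * x * y + b * y ^ 2 = 0 → x = 0 ∧ y = 0) :
    Sep (Forms.quadMinus d F a b) := sep_iff.2 (Forms.quadMinus_nondegenerate d hab)

theorem sgn_minus (d : ℕ) {a b : F} (hab : ∀ x y : F, x ^ 2 + a * x * y + b * y ^ 2 = 0 → x = 0 ∧ y = 0) :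
    sgn (Forms.quadMinus d F a b) = -1 := sgn_of_not (not_plusQ_minus hab d)

theorem card_minus {d : ℕ} (hd : 1 ≤ d) : Fintype.card ((Fin (d - 1) ⊕ Fin (d - 1)) ⊕ Fin 2) = 2 * d := by
  simp; omega

/-! ### Odd dimension -/

theorem coe_odd (d : ℕ) : Cfsg.quadFormOdd d F = ⇑(Forms.quadOdd d F) :=
  (funext fun v => Forms.quadOdd_apply v).symm

theorem sep_odd (h2 : (2 : F) ≠ 0) (d : ℕ) : Sep (Forms.quadOdd d F) := sep_iff.2 (Forms.quadOdd_nondegenerate h2 d)

theorem card_odd (d : ℕ) : Fintype.card (Unit ⊕ (Fin d ⊕ Fin d)) = 2 * d + 1 := by simp; omega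

/-! ### Predicates -/

variable {ι : Type} [Fintype ι] [DecidableEq ι] {Q : QuadraticForm F (ι → F)}

theorem plus_iff {m : ℕ} {W : Submodule F (ι → F)} :
    (finrank F W = m ∧ Cfsg.Geo.IsNondegenerateOn (QuadraticMap.polar ⇑Q) W ∧ Cfsg.Geo.IsPlusTypeOn ⇑Q W) ↔
      EvenP Q m 1 W := by
  rw [EvenP, isNondegenerateOn_iff, isPlusTypeOn_iff, sgn_eq_one_iff]

theorem minus_iff {m : ℕ} {W : Submodule F (ι → F)} :
    (finrank F W = m ∧ Cfsg.Geo.IsNondegenerateOn (QuadraticMap.polar ⇑Q) W ∧ ¬ Cfsg.Geo.IsPlusTypeOn ⇑Q W) ↔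
      EvenP Q m (-1) W := by
  rw [EvenP, isNondegenerateOn_iff, isPlusTypeOn_iff, ← sgn_eq_one_iff]
  refine and_congr_right fun _ => and_congr_right fun _ => ?_
  rcases sgn_eq_or (res Q W) with h | h <;> simp [h]

theorem plus_iff' {m : ℕ} {W : Submodule F (ι → F)} :
    (finrank F W = m ∧ (∀ u ∈ W, u ≠ 0 → ∃ v ∈ W, QuadraticMap.polar ⇑Q u v ≠ 0) ∧
        ∃ U : Submodule F (ι → F), U ≤ W ∧ 2 * finrank F U = m ∧ ∀ u ∈ U, Q u = 0) ↔
      EvenP Q m 1 W := by
  rw [← plus_iff, isNondegenerateOn_iff]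
  refine and_congr_right fun hd => and_congr ⟨fun h x hx hall => ?_, fun h u hu hne => ?_⟩
    ⟨fun ⟨U, hU, hUd, hU0⟩ => ⟨U, hU, hU0, hUd.trans hd.symm⟩, fun ⟨U, hU, hU0, hUd⟩ => ⟨U, hU, hUd.trans hd, hU0⟩⟩
  · by_contra hne
    obtain ⟨v, hv, hxv⟩ := h x hx hne
    exact hxv (hall v hv)
  · by_contra! hall
    exact hne (h u hu hall)

theorem class_iff {m : ℕ} {W W₀ : Submodule F (ι → F)} (hd : finrank F W₀ = m) (hn : Nd Q W₀) :
    (finrank F W = m ∧ Cfsg.Geo.IsNondegenerateOn (QuadraticMap.polar ⇑Q) W ∧ Cfsg.Geo.AreIsometricFor ⇑Q W W₀) ↔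
      Iso (res Q W₀) (res Q W) := by
  rw [isNondegenerateOn_iff, areIsometricFor_iff]
  exact ⟨fun h => h.2.2.symm, fun h => ⟨h.finrank_eq.symm.trans hd, nd_iff.2 (h.sep (nd_iff.1 hn)), h.symm⟩⟩

/-! ### Elements of order two -/

theorem order_two {x : GL ι F} (h : orderOf x = 2) :
    (∀ v, Matrix.toLin' (x : Matrix ι ι F) (Matrix.toLin' (x : Matrix ι ι F) v) = v) ∧
      Matrix.toLin' (x : Matrix ι ι F) ≠ 1 := by
  constructor
  · intro v
    have h2 : x ^ 2 = 1 := h ▸ pow_orderOf_eq_one x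
    rw [Matrix.toLin'_apply, Matrix.toLin'_apply, Matrix.mulVec_mulVec, ← Units.val_mul, ← pow_two, h2,
      Units.val_one, Matrix.one_mulVec]
  · intro he
    have hx : x = 1 := Units.ext (Matrix.toLin'.injective (by rw [he, Units.val_one, Matrix.toLin'_one]; rfl))
    rw [hx, orderOf_one] at h
    omega

end Cfsg.Agent.Elusive.OrthStd
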