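import Cfsg.Agent.Lib.Elusive.OrthType

/-!
Subspaces of quadratic spaces: orthogonal sums, existence with prescribed type or isometry class, the Witt index,
transitivity of the isometry group.
-/

set_option autoImplicit false
set_option linter.unusedSectionVars false

namespace Cfsg.Agent.Elusive.OrthType

open Module

section Basic

variable {F : Type*} [Field F] {V W : Type*} [AddCommGroup V] [Module F V] [AddCommGroup W] [Module F W]
  {Q : QuadraticForm F V} {Q' : QuadraticForm F W}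

/-- The form on a subspace. -/
noncomputable abbrev res (Q : QuadraticForm F V) (S : Submodule F V) : QuadraticForm F S := Q.comp S.subtype

/-- Non-degenerate subspaces. -/
def Nd (Q : QuadraticForm F V) (S : Submodule F V) : Prop :=
  ∀ x ∈ S, (∀ y ∈ S, QuadraticMap.polar ⇑Q x y = 0) → x = 0

theorem nd_iff {S : Submodule F V} : Nd Q S ↔ Sep (res Q S) := by
  constructor
  · intro h x hx
    exact Subtype.ext (h x x.2 fun y hy => hx ⟨y, hy⟩)
  · intro h x hx hall
    exact congrArg Subtype.val (h ⟨x, hx⟩ fun y => hall y y.2)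

theorem iso_range (L : W →ₗ[F] V) (hi : Function.Injective L) (hL : ∀ x, Q (L x) = Q' x) :
    Iso Q' (res Q (LinearMap.range L)) :=
  ⟨LinearEquiv.ofInjective L hi, fun x => hL x⟩

theorem iso_map (L : W →ₗ[F] V) (hi : Function.Injective L) (hL : ∀ x, Q (L x) = Q' x) (S : Submodule F W) :
    Iso (res Q' S) (res Q (S.map L)) :=
  ⟨Submodule.equivMapOfInjective L hi S, fun x => hL x⟩

theorem iso_top (Q : QuadraticForm F V) : Iso Q (res Q ⊤) := ⟨Submodule.topEquiv.symm, fun _ => rfl⟩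

theorem plusQ_res_iff {S : Submodule F V} :
    PlusQ (res Q S) ↔ ∃ U ≤ S, (∀ u ∈ U, Q u = 0) ∧ 2 * finrank F U = finrank F S := by
  constructor
  · rintro ⟨U, hU, hd⟩
    refine ⟨U.map S.subtype, Submodule.map_subtype_le S U, ?_, ?_⟩
    · rintro _ ⟨u, hu, rfl⟩
      exact hU u hu
    · rw [Submodule.finrank_map_subtype_eq]; exact hd
  · rintro ⟨U, hle, hU, hd⟩
    exact ⟨U.comap S.subtype, fun u hu => hU _ hu,
      (congrArg (2 * ·) (Submodule.comapSubtypeEquivOfLe hle).finrank_eq).trans hd⟩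

/-- `S` inside the orthogonal of `A`. -/
noncomputable abbrev orth (Q : QuadraticForm F V) (A : Submodule F V) : Submodule F V :=
  LinearMap.BilinForm.orthogonal (QuadraticMap.polarBilin Q) A

theorem mem_orth {A : Submodule F V} {x : V} : x ∈ orth Q A ↔ ∀ a ∈ A, QuadraticMap.polar ⇑Q a x = 0 := Iff.rfl

theorem Q_add_orth {a b : V} (h : QuadraticMap.polar ⇑Q a b = 0) : Q (a + b) = Q a + Q b := by
  rw [Forms.quadratic_map_add, QuadraticMap.polarBilin_apply_apply, h, add_zero]

theorem isCompl_orth [FiniteDimensional F V] {A : Submodule F V} (hA : Nd Q A) : IsCompl A (orth Q A) :=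
  LinearMap.BilinForm.isCompl_orthogonal_of_restrict_nondegenerate
    (fun x y h => (QuadraticMap.polar_comm _ y x).trans h)
    ⟨fun x hx => Subtype.ext (hA x x.2 fun y hy => hx ⟨y, hy⟩),
      fun x hx => Subtype.ext (hA x x.2 fun y hy => (QuadraticMap.polar_comm _ _ _).trans (hx ⟨y, hy⟩))⟩

/-- An orthogonal direct sum is the product. -/
theorem iso_sup {A B : Submodule F V} (hd : Disjoint A B) (hor : ∀ a ∈ A, ∀ b ∈ B, QuadraticMap.polar ⇑Q a b = 0) :
    Iso ((res Q A).prod (res Q B)) (res Q (A ⊔ B)) := by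
  let L : A × B →ₗ[F] V := A.subtype.coprod B.subtype
  have hi : Function.Injective L := by
    rw [injective_iff_map_eq_zero]
    rintro ⟨a, b⟩ h
    have h' : (a : V) + b = 0 := h
    have hb : (b : V) ∈ A := by rw [eq_neg_of_add_eq_zero_right h']; exact A.neg_mem a.2
    have hb0 : (b : V) = 0 := Submodule.disjoint_def.1 hd _ hb b.2
    rw [hb0, add_zero] at h'
    exact Prod.ext (Subtype.ext h') (Subtype.ext hb0)
  have hr : LinearMap.range L = A ⊔ B := by
    rw [LinearMap.range_coprod, Submodule.range_subtype, Submodule.range_subtype]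
  rw [← hr]
  exact iso_range L hi fun x => Q_add_orth (hor _ x.1.2 _ x.2.2)

theorem Iso.prod {V' W' : Type*} [AddCommGroup V'] [Module F V'] [AddCommGroup W'] [Module F W']
    {R : QuadraticForm F V'} {R' : QuadraticForm F W'} (h : Iso Q R) (h' : Iso Q' R') :
    Iso (Q.prod Q') (R.prod R') := by
  obtain ⟨e, he⟩ := h
  obtain ⟨e', he'⟩ := h'
  exact ⟨e.prodCongr e', fun x => by simp [he, he']⟩

theorem finrank_sup_of_disjoint [FiniteDimensional F V] {A B : Submodule F V} (hd : Disjoint A B) :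
    finrank F ↥(A ⊔ B) = finrank F A + finrank F B := by
  have h := Submodule.finrank_sup_add_finrank_inf_eq A B
  rw [hd.eq_bot, finrank_bot] at h
  omega

theorem nd_of_iso {A : Submodule F V} {R : QuadraticForm F W} (hR : Sep R) (h : Iso R (res Q A)) : Nd Q A :=
  nd_iff.2 (h.sep hR)

theorem nd_orth [FiniteDimensional F V] (hQ : Sep Q) {A : Submodule F V} (hA : Nd Q A) : Nd Q (orth Q A) := by
  intro x hx hall
  refine hQ x fun y => ?_
  obtain ⟨a, ha, b, hb, rfl⟩ := Submodule.mem_sup.1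
    (show y ∈ A ⊔ orth Q A by rw [(isCompl_orth hA).sup_eq_top]; trivial)
  rw [QuadraticMap.polar_add_right, hall b hb, add_zero, QuadraticMap.polar_comm]
  exact mem_orth.1 hx a ha

theorem iso_split [FiniteDimensional F V] {A : Submodule F V} (hA : Nd Q A) :
    Iso Q ((res Q A).prod (res Q (orth Q A))) := by
  have h := iso_sup (isCompl_orth hA).disjoint (fun a ha b hb => mem_orth.1 hb a ha)
  rw [(isCompl_orth hA).sup_eq_top] at h
  exact (iso_top Q).trans h.symm

theorem nd_bot : Nd Q (⊥ : Submodule F V) := fun x hx _ => (Submodule.mem_bot F).1 hx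

theorem sgn_bot : sgn (res Q (⊥ : Submodule F V)) = 1 :=
  sgn_of_plus (plusQ_res_iff.2 ⟨⊥, le_rfl, fun u hu => by rw [(Submodule.mem_bot F).1 hu, QuadraticMap.map_zero],
    by simp⟩)

/-! ### Bridges to the prelude vocabulary -/

section Bridge

variable {ι : Type} [Fintype ι] [DecidableEq ι] {R : QuadraticForm F (ι → F)}

theorem isNondegenerateOn_iff {S : Submodule F (ι → F)} :
    Cfsg.Geo.IsNondegenerateOn (QuadraticMap.polar ⇑R) S ↔ Nd R S := by
  constructor
  · intro h x hx hall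
    by_contra hne
    obtain ⟨y, hy, hxy⟩ := (h x hx hne).2
    exact hxy (hall y hy)
  · intro h x hx hne
    obtain ⟨y, hy, hxy⟩ : ∃ y ∈ S, QuadraticMap.polar ⇑R x y ≠ 0 := by
      by_contra! hall
      exact hne (h x hx hall)
    exact ⟨⟨y, hy, fun he => hxy ((QuadraticMap.polar_comm _ _ _).trans he)⟩, ⟨y, hy, hxy⟩⟩

theorem isPlusTypeOn_iff {S : Submodule F (ι → F)} : Cfsg.Geo.IsPlusTypeOn ⇑R S ↔ PlusQ (res R S) := by
  rw [plusQ_res_iff]
  exact Iff.rfl

theorem areIsometricFor_iff {S T : Submodule F (ι → F)} :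
    Cfsg.Geo.AreIsometricFor ⇑R S T ↔ Iso (res R S) (res R T) :=
  Iff.rfl

end Bridge

end Basic

/-! ### Existence -/

section Exists

variable {F : Type*} [Field F] [Fintype F] {V W : Type*} [AddCommGroup V] [Module F V] [FiniteDimensional F V]
  [AddCommGroup W] [Module F W] [FiniteDimensional F W] {Q : QuadraticForm F V}

/-- Sign of an orthogonal sum. -/
theorem sgn_sup {A B : Submodule F V} (hA : Nd Q A) (hB : Nd Q B) (hd : Disjoint A B)
    (hor : ∀ a ∈ A, ∀ b ∈ B, QuadraticMap.polar ⇑Q a b = 0) (hAe : Even (finrank F A)) (hBe : Even (finrank F B)) :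
    sgn (res Q (A ⊔ B)) = sgn (res Q A) * sgn (res Q B) := by
  obtain ⟨a, ha⟩ := hAe
  obtain ⟨b, hb⟩ := hBe
  rw [← (iso_sup hd hor).sgn_eq, sgn_prod (nd_iff.1 hA) (nd_iff.1 hB) (A := a) (B := b) (by omega) (by omega)]

theorem exists_anisotropic_pair :
    ∃ a b : F, ∀ z₁ z₂ : F, z₁ ^ 2 + a * z₁ * z₂ + b * z₂ ^ 2 = 0 → z₁ = 0 ∧ z₂ = 0 := by
  have h : ¬ Function.Surjective fun x : F => x * x + x := fun hs => by
    have := (Finite.injective_iff_surjective.2 hs) (a₁ := 0) (a₂ := -1) (by ring)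
    simp at this
  simp only [Function.Surjective, not_forall, not_exists] at h
  obtain ⟨c, hc⟩ := h
  refine ⟨1, -c, fun z₁ z₂ hz => ?_⟩
  by_cases h2 : z₂ = 0
  · subst h2; simp at hz; exact ⟨hz, rfl⟩
  · exact absurd (by field_simp; linear_combination hz) (hc (z₁ / z₂))

/-- A space of each dimension and sign. -/
theorem exists_model (M : ℕ) {τ : ℤ} (hτ : τ = 1 ∨ τ = -1) (h0 : M = 0 → τ = 1) :
    ∃ R : QuadraticForm F (Fin (2 * M) → F), Sep R ∧ sgn R = τ := by
  obtain ⟨a, b, hab⟩ := exists_anisotropic_pair (F := F)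
  rcases hτ with rfl | rfl
  · let e : (Fin (2 * M) → F) ≃ₗ[F] (Fin M ⊕ Fin M → F) := LinearEquiv.ofFinrankEq _ _ (by simp; omega)
    have h : Iso (Forms.quadPlus M F) ((Forms.quadPlus M F).comp e.toLinearMap) :=
      ⟨e.symm, fun x => by simp⟩
    exact ⟨_, h.sep (sep_iff.2 (Forms.quadPlus_nondegenerate M)), h.sgn_eq.symm.trans (sgn_of_plus (plusQ_quadPlus M))⟩
  · obtain ⟨N, rfl⟩ : ∃ N, M = N + 1 := ⟨M - 1, by
      rcases Nat.eq_zero_or_pos M with h | h
      · exact absurd (h0 h) (by norm_num)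
      · omega⟩
    let e : (Fin (2 * (N + 1)) → F) ≃ₗ[F] ((Fin N ⊕ Fin N) ⊕ Fin 2 → F) :=
      LinearEquiv.ofFinrankEq _ _ (by simp; omega)
    have h : Iso (Forms.quadMinus N F a b) ((Forms.quadMinus N F a b).comp e.toLinearMap) :=
      ⟨e.symm, fun x => by simp⟩
    exact ⟨_, h.sep (sep_iff.2 (Forms.quadMinus_nondegenerate N hab)),
      h.sgn_eq.symm.trans (sgn_of_not (not_plusQ_minus hab N))⟩

/-- Odd dimensions: unique up to a scalar. -/
theorem exists_iso_smul (h2 : (2 : F) ≠ 0) (hQ : Sep Q) {R : QuadraticForm F W} (hR : Sep R) {M : ℕ}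
    (hd : finrank F V = 2 * M + 1) (hd' : finrank F W = 2 * M + 1) :
    ∃ c : F, c ≠ 0 ∧ Iso (c • R) Q := by
  obtain ⟨a, ha, e, he⟩ := QForm.exists_iso_odd h2 M Q (sep_iff.1 hQ) hd
  obtain ⟨b, hb, f, hf⟩ := QForm.exists_iso_odd h2 M R (sep_iff.1 hR) hd'
  refine ⟨a / b, div_ne_zero ha hb, f.trans e.symm, fun x => ?_⟩
  rw [LinearEquiv.trans_apply, ← he, e.apply_symm_apply, smul_apply, smul_eq_mul, ← hf]
  field_simp

/-- Even-dimensional non-degenerate subspaces of every type. -/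
theorem exists_sub_even (hQ : Sep Q) (hodd : Odd (finrank F V) → (2 : F) ≠ 0) {j : ℕ}
    (hj : 2 * j < finrank F V) {τ : ℤ} (hτ : τ = 1 ∨ τ = -1) (h0 : j = 0 → τ = 1) :
    ∃ A : Submodule F V, Nd Q A ∧ finrank F A = 2 * j ∧ sgn (res Q A) = τ := by
  obtain ⟨R, hR, hRs⟩ := exists_model (F := F) j hτ h0
  suffices h : ∃ (n : ℕ) (X : QuadraticForm F ((Fin (2 * j) → F) × (Fin n → F))) (R' : QuadraticForm F (Fin n → F))
      (c : F), c ≠ 0 ∧ X = R.prod R' ∧ Iso (c • X) Q by
    obtain ⟨n, X, R', c, hc, rfl, e, he⟩ := h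
    have hiso : Iso (c • R) (res Q (LinearMap.range (e.toLinearMap.comp (LinearMap.inl F _ _)))) :=
      iso_range _ (e.injective.comp LinearMap.inl_injective) fun x => (he _).trans (by simp)
    refine ⟨_, nd_of_iso (sep_smul hR hc) hiso, ?_, ?_⟩
    · rw [← hiso.finrank_eq, Module.finrank_fin_fun]
    · rw [← hiso.sgn_eq, sgn_smul hc, hRs]
  rcases Nat.even_or_odd (finrank F V) with ⟨M, hM⟩ | ⟨M, hM⟩
  · obtain ⟨R', hR', hR's⟩ := exists_model (F := F) (M - j) (τ := τ * sgn Q)
      (by rcases hτ with rfl | rfl <;> rcases sgn_eq_or Q with h | h <;> simp [h]) (fun h => by omega)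
    refine ⟨_, _, R', 1, one_ne_zero, rfl, ?_⟩
    rw [one_smul]
    refine iso_of_sgn (sep_prod hR hR') hQ (M := M) (by simp; omega) (by omega) ?_
    rw [sgn_prod hR hR' (A := j) (B := M - j) (by simp) (by simp), hRs, hR's, ← mul_assoc,
      ← hRs, sgn_mul_self, one_mul]
  · have h2 := hodd ⟨M, hM⟩
    let e : (Fin (2 * (M - j) + 1) → F) ≃ₗ[F] (Unit ⊕ (Fin (M - j) ⊕ Fin (M - j)) → F) :=
      LinearEquiv.ofFinrankEq _ _ (by simp; omega)
    let R' := (Forms.quadOdd (M - j) F).comp e.toLinearMap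
    have hR' : Sep R' := (show Iso (Forms.quadOdd (M - j) F) R' from ⟨e.symm, fun x => by simp [R']⟩).sep
      (sep_iff.2 (Forms.quadOdd_nondegenerate h2 _))
    obtain ⟨c, hc, h⟩ := exists_iso_smul h2 hQ (sep_prod hR hR') (M := M) (by omega) (by simp; omega)
    exact ⟨_, _, R', c, hc, rfl, h⟩

/-- The line through a vector of prescribed value. -/
theorem exists_line (h2 : (2 : F) ≠ 0) (hQ : Sep Q) (hn : 2 ≤ finrank F V) {a : F} (ha : a ≠ 0) :
    ∃ L : Submodule F V, Nd Q L ∧ finrank F L = 1 ∧ ∃ v ∈ L, Q v = a := by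
  obtain ⟨v, hv⟩ := QForm.exists_apply_eq_of_module h2 (sep_iff.1 hQ) hn a ha
  have hv0 : v ≠ 0 := fun h => ha (by rw [← hv, h, QuadraticMap.map_zero])
  refine ⟨F ∙ v, fun x hx hall => ?_, finrank_span_singleton hv0, v, Submodule.mem_span_singleton_self v, hv⟩
  obtain ⟨s, rfl⟩ := Submodule.mem_span_singleton.1 hx
  have h := hall v (Submodule.mem_span_singleton_self v)
  rw [QuadraticMap.polar_smul_left, QuadraticMap.polar_self, hv, nsmul_eq_mul, smul_eq_mul, mul_eq_zero] at h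
  rw [h.resolve_right (mul_ne_zero (by exact_mod_cast h2) ha), zero_smul]

/-- Odd-dimensional subspaces of every isometry class. -/
theorem exists_sub_odd (h2 : (2 : F) ≠ 0) (hQ : Sep Q) (hn : Even (finrank F V)) {R : QuadraticForm F W}
    (hR : Sep R) {j : ℕ} (hW : finrank F W = 2 * j + 1) (hlt : finrank F W < finrank F V) :
    ∃ A : Submodule F V, Nd Q A ∧ Iso R (res Q A) := by
  obtain ⟨M, hM⟩ := hn
  obtain ⟨c, hc, g, hg⟩ := QForm.exists_iso_odd h2 j R (sep_iff.1 hR) hW
  obtain ⟨L, hL, hLd, v, hvL, hv⟩ := exists_line h2 hQ (by omega) hc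
  have hO := nd_orth hQ hL
  have hOd : finrank F (orth Q L) + 1 = finrank F V := by
    have := Submodule.finrank_add_eq_of_isCompl (isCompl_orth hL)
    omega
  obtain ⟨B, hB, hBd, hBs⟩ := exists_sub_even (nd_iff.1 hO) (fun _ => h2) (j := j) (by omega) (τ := 1)
    (Or.inl rfl) fun _ => rfl
  set B' := B.map (orth Q L).subtype
  have hle : B' ≤ orth Q L := Submodule.map_subtype_le _ _
  have hBiso : Iso (res (res Q (orth Q L)) B) (res Q B') :=
    iso_map _ (orth Q L).injective_subtype (fun x => rfl) B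
  obtain ⟨ψ, hψ⟩ : Iso (c • Forms.quadPlus j F) (res (res Q (orth Q L)) B) :=
    iso_of_sgn (sep_smul (sep_iff.2 (Forms.quadPlus_nondegenerate j)) hc) (nd_iff.1 hB) (M := j) (by simp; omega)
      hBd (by rw [sgn_smul hc, sgn_of_plus (plusQ_quadPlus j), hBs])
  have hd : Disjoint L B' := (isCompl_orth hL).disjoint.mono_right hle
  have hiso := iso_sup hd fun a ha b hb => mem_orth.1 (hle hb) a ha
  have hlin : Iso R ((res Q L).prod (c • Forms.quadPlus j F)) := by
    have hv0 : v ≠ 0 := fun h => hc (by rw [← hv, h, QuadraticMap.map_zero])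
    obtain ⟨u, hu⟩ : ∃ u : F ≃ₗ[F] L, ∀ s, (u s : V) = s • v := by
      have hspan : F ∙ v = L := Submodule.eq_of_le_of_finrank_eq
        ((Submodule.span_singleton_le_iff_mem _ _).2 hvL) (by rw [finrank_span_singleton hv0, hLd])
      exact ⟨(LinearEquiv.toSpanNonzeroSingleton F V v hv0).trans (LinearEquiv.ofEq _ _ hspan), fun s => rfl⟩
    refine ⟨g.trans ((LinearEquiv.sumArrowLequivProdArrow Unit (Fin j ⊕ Fin j) F F).trans
      (((LinearEquiv.funUnique Unit F F).trans u).prodCongr (LinearEquiv.refl F _))), fun x => ?_⟩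
    rw [← hg]
    set y := g x
    simp only [LinearEquiv.trans_apply, QuadraticMap.prod_apply, LinearEquiv.prodCongr_apply,
      LinearEquiv.refl_apply, QuadraticMap.comp_apply, Submodule.coe_subtype, hu, QuadraticMap.map_smul, hv,
      smul_apply, smul_eq_mul, Forms.quadPlus_apply]
    show (y (Sum.inl ()) * y (Sum.inl ())) * c + c * _ = _
    simp only [quadFormOdd, quadFormPlus, LinearEquiv.sumArrowLequivProdArrow_apply_snd]
    ring
  refine ⟨L ⊔ B', nd_of_iso (sep_prod (nd_iff.1 hL) (hBiso.sep (nd_iff.1 hB))) hiso, hlin.trans ?_⟩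
  exact ((Iso.refl _).prod ((Iso.trans ⟨ψ, hψ⟩ hBiso))).trans hiso

/-- The Witt index from dimension and sign. -/
def widx (n : ℕ) (ε : ℤ) : ℕ := if n % 2 = 1 then n / 2 else if ε = 1 then n / 2 else n / 2 - 1

theorem ts_bound (hQ : Sep Q) {U : Submodule F V} (hU : ∀ u ∈ U, Q u = 0) :
    finrank F U ≤ widx (finrank F V) (sgn Q) := by
  have hle : U ≤ orth Q U := fun x hx => mem_orth.2 fun a ha => by
    simp [QuadraticMap.polar, hU _ (U.add_mem ha hx), hU _ ha, hU _ hx]
  have h := Submodule.finrank_mono hle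
  rw [show finrank F (orth Q U) = finrank F V - finrank F U from
    LinearMap.BilinForm.finrank_orthogonal (sep_iff.1 hQ) U] at h
  have h' := Submodule.finrank_le U
  unfold widx
  split_ifs with h1 h2
  · omega
  · omega
  · by_contra hcon
    exact h2 (sgn_of_plus ⟨U, hU, by omega⟩)

theorem exists_ts (hQ : Sep Q) (hodd : Odd (finrank F V) → (2 : F) ≠ 0) {j : ℕ}
    (hj : j ≤ widx (finrank F V) (sgn Q)) : ∃ U : Submodule F V, (∀ u ∈ U, Q u = 0) ∧ finrank F U = j := by
  rcases Nat.eq_zero_or_pos j with rfl | hj0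
  · exact ⟨⊥, fun u hu => by rw [(Submodule.mem_bot F).1 hu, QuadraticMap.map_zero], by simp⟩
  have h2j : 2 * j ≤ finrank F V := by
    unfold widx at hj
    split_ifs at hj <;> omega
  rcases h2j.lt_or_eq with h | h
  · obtain ⟨A, hA, hAd, hAs⟩ := exists_sub_even hQ hodd h (τ := 1) (Or.inl rfl) fun _ => rfl
    obtain ⟨U, -, hU, hUd⟩ := plusQ_res_iff.1 (sgn_eq_one_iff.1 hAs)
    exact ⟨U, hU, by omega⟩
  · have hs : sgn Q = 1 := by
      by_contra hs
      unfold widx at hj
      rw [if_neg (by omega), if_neg hs] at hj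
      omega
    obtain ⟨U, hU, hUd⟩ := sgn_eq_one_iff.1 hs
    exact ⟨U, hU, by omega⟩

/-- Isometric subspaces are equivalent under the isometry group. -/
theorem exists_isom_map (hQ : Sep Q) {A B : Submodule F V} (h : Iso (res Q A) (res Q B)) :
    ∃ g ∈ Forms.isomQ Q, A.map g.toLinearMap = B := by
  obtain ⟨e, he⟩ := h
  obtain ⟨g, hg, hgA⟩ := Forms.witt_quadratic (sep_iff.1 hQ) A (B.subtype.comp e.toLinearMap)
    (B.injective_subtype.comp e.injective) fun x => he x
  refine ⟨g, hg, le_antisymm ?_ fun y hy => ?_⟩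
  · rintro _ ⟨x, hx, rfl⟩
    show g x ∈ B
    rw [hgA ⟨x, hx⟩]
    exact (e ⟨x, hx⟩).2
  · obtain ⟨x, hx⟩ := e.surjective ⟨y, hy⟩
    exact ⟨x, x.2, (hgA x).trans (congrArg Subtype.val hx)⟩

theorem iso_of_ts {A B : Submodule F V} (hA : ∀ u ∈ A, Q u = 0) (hB : ∀ u ∈ B, Q u = 0)
    (hd : finrank F A = finrank F B) : Iso (res Q A) (res Q B) :=
  ⟨LinearEquiv.ofFinrankEq _ _ hd, fun x => (hB _ (Subtype.coe_prop _)).trans (hA _ x.2).symm⟩

end Exists

end Cfsg.Agent.Elusive.OrthType
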