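import Cfsg.Agent.Lib.Elusive.OrthTwo
import Cfsg.Agent.Lib.Elusive.OrthStd

/-!
Elements of order two in even dimension, odd `q`: the data used by the criteria.
-/

set_option autoImplicit false
set_option linter.unusedSectionVars false

namespace Cfsg.Agent.Elusive.OrthTwoFix

open Module
open OrthType OrthPlanes OrthTwo
open OrthCriteria (SingP EvenP)

universe u

variable {F : Type u} [Field F] [Fintype F] {ι : Type} [Fintype ι] [DecidableEq ι] {Q : QuadraticForm F (ι → F)}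

theorem invol_data (hQ : Sep Q) (h2 : (2 : F) ≠ 0) {d : ℕ} (hn : Fintype.card ι = 2 * d) {x : GL ι F}
    (hx : x ∈ Cfsg.Geo.omegaGL ⇑Q)
    (hsq : ∀ v, Matrix.toLin' (x : Matrix ι ι F) (Matrix.toLin' (x : Matrix ι ι F) v) = v)
    (h1 : Matrix.toLin' (x : Matrix ι ι F) ≠ 1) (h1' : Matrix.toLin' (x : Matrix ι ι F) ≠ -1) :
    ∃ (C M : Submodule F (ι → F)) (α β : ℕ), IsCompl C M ∧ (∀ a ∈ C, ∀ b ∈ M, QuadraticMap.polar ⇑Q a b = 0) ∧
      Nd Q C ∧ Nd Q M ∧ finrank F C = 2 * α ∧ finrank F M = 2 * β ∧ 0 < α ∧ 0 < β ∧ α + β = d ∧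
      sgn (res Q M) = e1 F ^ β ∧ sgn (res Q C) * sgn (res Q M) = sgn Q ∧
      ∀ A ≤ C, ∀ B ≤ M, (A ⊔ B).map (Matrix.toLin' (x : Matrix ι ι F)) ≤ A ⊔ B := by
  obtain ⟨C, M, β, hc, horth, hC, hM, hxC, hxM, hβ, hMd, hMs⟩ := invol_split hQ h2 hx hsq h1
  have hCM := Submodule.finrank_add_eq_of_isCompl hc
  rw [Module.finrank_fintype_fun_eq_card, hn, hMd] at hCM
  have hCd : finrank F C = 2 * (d - β) := by omega
  refine ⟨C, M, d - β, β, hc, horth, hC, hM, hCd, hMd, ?_, hβ, by omega, hMs, ?_,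
    fun A hA B hB => inv_iff_map.1 (inv_split hxC hxM hA hB)⟩
  · by_contra h0
    refine h1' (LinearMap.ext fun v => ?_)
    have hC0 : C = ⊥ := Submodule.finrank_eq_zero.1 (by omega)
    have hMt : M = ⊤ := by
      have := hc.sup_eq_top
      rwa [hC0, bot_sup_eq] at this
    rw [hxM v (hMt ▸ Submodule.mem_top), LinearMap.neg_apply, Module.End.one_apply]
  · have hiso := iso_sup hc.disjoint horth
    have hs := sgn_sup hC hM hc.disjoint horth ⟨d - β, by omega⟩ ⟨β, by omega⟩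
    rw [hc.sup_eq_top, ← (iso_top Q).sgn_eq] at hs
    exact hs.symm

/-- The spinor condition on an element with square `-1`. -/
theorem J_data (hQ : Sep Q) (h2 : (2 : F) ≠ 0) {d : ℕ} (hn : Fintype.card ι = 2 * d) {x : GL ι F}
    (hx : x ∈ Cfsg.Geo.omegaGL ⇑Q)
    (hJ : ∀ v, Matrix.toLin' (x : Matrix ι ι F) (Matrix.toLin' (x : Matrix ι ι F) v) = -v) :
    sgn Q = e1 F ^ d ∧ chi (2 : F) ^ d = 1 ∧
      (∀ j ≤ d, ∃ A : Submodule F (ι → F), A.map (Matrix.toLin' (x : Matrix ι ι F)) ≤ A ∧ Nd Q A ∧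
        finrank F A = 2 * j ∧ sgn (res Q A) = e1 F ^ j) ∧
      (e1 F = 1 → ∀ j ≤ d, ∃ U : Submodule F (ι → F), U.map (Matrix.toLin' (x : Matrix ι ι F)) ≤ U ∧
        SingP Q j U) ∧
      (∀ j, 2 * j ≤ d → ∃ U : Submodule F (ι → F), U.map (Matrix.toLin' (x : Matrix ι ι F)) ≤ U ∧
        SingP Q (2 * j) U) := by
  have hf := OrthGroup.isometry_of_omega hx
  obtain ⟨k, hk, hs, h3, h4, h5, vs, -, hm, ha, hc⟩ := top_data hQ hf hJ h2
  obtain rfl : k = d := by omega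
  refine ⟨hs, ?_, fun j hj => ?_, fun he j hj => ?_, fun j hj => ?_⟩
  · rw [← hc]
    exact ((rv_mem_iff hQ h2 hm ha).1 ⟨x, hx, rfl⟩).2
  · obtain ⟨A, hAi, hAn, hAd⟩ := h3 j hj
    obtain ⟨j', hj', hs'⟩ := nd_J hf hJ h2 hAi hAn
    exact ⟨A, inv_iff_map.1 hAi, hAn, hAd, by rw [hs', show j' = j by omega]⟩
  · obtain ⟨i, hi⟩ := (chi_eq_one_iff (neg_ne_zero.2 one_ne_zero)).1 he
    obtain ⟨U, hUi, hU0, hUd⟩ := h4 i hi.symm j hj
    exact ⟨U, inv_iff_map.1 hUi, hUd, hU0⟩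
  · obtain ⟨U, hUi, hU0, hUd⟩ := h5 j hj
    exact ⟨U, inv_iff_map.1 hUi, hUd, hU0⟩

/-- The widths of the two eigenspaces. -/
theorem widx_even {α : ℕ} (hα : 0 < α) {ε : ℤ} (hε : ε = 1 ∨ ε = -1) :
    (ε = 1 → widx (2 * α) ε = α) ∧ (ε = -1 → widx (2 * α) ε = α - 1) := by
  constructor <;> intro h <;> subst h <;> rw [widx, if_neg (by omega)]
  · rw [if_pos rfl]; omega
  · rw [if_neg (by norm_num)]; omega

/-- Totally singular bound for an invariant subspace of an involution. -/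
theorem invol_ts_bound (h2 : (2 : F) ≠ 0) {C M W : Submodule F (ι → F)} (hc : IsCompl C M) (hC : Nd Q C)
    (hM : Nd Q M) {f : End F (ι → F)} (hfC : ∀ a ∈ C, f a = a) (hfM : ∀ b ∈ M, f b = -b)
    (hW : W.map f ≤ W) (hW0 : ∀ w ∈ W, Q w = 0) :
    finrank F W ≤ widx (finrank F C) (sgn (res Q C)) + widx (finrank F M) (sgn (res Q M)) := by
  rw [inv_parts h2 hc hfC hfM (inv_iff_map.2 hW)]
  have b1 := ts_bound (nd_iff.1 hC) (U := (C ⊓ W).comap C.subtype) fun u hu => hW0 _ hu.2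
  rw [(Submodule.comapSubtypeEquivOfLe (inf_le_left : C ⊓ W ≤ C)).finrank_eq] at b1
  have b2 := ts_bound (nd_iff.1 hM) (U := (M ⊓ W).comap M.subtype) fun u hu => hW0 _ hu.2
  rw [(Submodule.comapSubtypeEquivOfLe (inf_le_left : M ⊓ W ≤ M)).finrank_eq] at b2
  omega

end Cfsg.Agent.Elusive.OrthTwoFix
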