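import Cfsg.Agent.Lib.QForm.Classify
import Cfsg.Prelude.Def_GeometricClasses

/-!
The type (sign) of even-dimensional non-degenerate quadratic spaces over finite fields: zero counts, products,
classification, and sub-spaces of prescribed type.
-/

set_option autoImplicit false
set_option linter.unusedSectionVars false

namespace Cfsg.Agent.Elusive.OrthType

open Module

/-! ### Isometry of quadratic spaces -/

section Iso

variable {F : Type*} [Field F] {V W X : Type*} [AddCommGroup V] [Module F V] [AddCommGroup W] [Module F W]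
  [AddCommGroup X] [Module F X]

/-- The quadratic spaces are isometric. -/
def Iso (Q : QuadraticForm F V) (Q' : QuadraticForm F W) : Prop := ∃ e : V ≃ₗ[F] W, ∀ x, Q' (e x) = Q x

variable {Q : QuadraticForm F V} {Q' : QuadraticForm F W} {Q'' : QuadraticForm F X}

theorem Iso.refl (Q : QuadraticForm F V) : Iso Q Q := ⟨LinearEquiv.refl F V, fun _ => rfl⟩

theorem Iso.symm (h : Iso Q Q') : Iso Q' Q := by
  obtain ⟨e, he⟩ := h
  exact ⟨e.symm, fun y => by rw [← he, e.apply_symm_apply]⟩

theorem Iso.trans (h : Iso Q Q') (h' : Iso Q' Q'') : Iso Q Q'' := by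
  obtain ⟨e, he⟩ := h
  obtain ⟨e', he'⟩ := h'
  exact ⟨e.trans e', fun x => by rw [LinearEquiv.trans_apply, he', he]⟩

theorem Iso.finrank_eq (h : Iso Q Q') : finrank F V = finrank F W := by
  obtain ⟨e, -⟩ := h
  exact e.finrank_eq

theorem Iso.smul (h : Iso Q Q') (c : F) : Iso (c • Q) (c • Q') := by
  obtain ⟨e, he⟩ := h
  exact ⟨e, fun x => by simp [he]⟩

/-- Nothing but zero is orthogonal to the whole space. -/
def Sep (Q : QuadraticForm F V) : Prop := ∀ x, (∀ y, QuadraticMap.polar ⇑Q x y = 0) → x = 0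

theorem sep_iff : Sep Q ↔ (QuadraticMap.polarBilin Q).Nondegenerate := by
  constructor
  · intro h
    exact ⟨fun x hx => h x hx, fun x hx => h x fun y => (QuadraticMap.polar_comm _ _ _).trans (hx y)⟩
  · exact fun h x hx => h.1 x hx

theorem Iso.polar (e : V ≃ₗ[F] W) (he : ∀ x, Q' (e x) = Q x) (x y : V) :
    QuadraticMap.polar ⇑Q' (e x) (e y) = QuadraticMap.polar ⇑Q x y := by
  simp only [QuadraticMap.polar, ← map_add, he]

theorem Iso.sep (h : Iso Q Q') (hQ : Sep Q) : Sep Q' := by
  obtain ⟨e, he⟩ := h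
  intro x hx
  obtain ⟨x, rfl⟩ := e.surjective x
  rw [hQ x fun y => by rw [← Iso.polar e he]; exact hx (e y), map_zero]

theorem sep_prod (h : Sep Q) (h' : Sep Q') : Sep (Q.prod Q') := by
  intro p hp
  refine Prod.ext (h _ fun y => ?_) (h' _ fun y => ?_)
  · simpa using hp (y, 0)
  · simpa using hp (0, y)

theorem sep_smul (h : Sep Q) {c : F} (hc : c ≠ 0) : Sep (c • Q) := fun x hx => h x fun y => by
  have h1 := hx y
  simp only [QuadraticMap.polar, smul_apply, smul_eq_mul] at h1 ⊢
  refine (mul_eq_zero.1 ?_).resolve_left hc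
  linear_combination h1

/-- A totally singular subspace of half the dimension. -/
def PlusQ (Q : QuadraticForm F V) : Prop :=
  ∃ U : Submodule F V, (∀ u ∈ U, Q u = 0) ∧ 2 * finrank F U = finrank F V

theorem Iso.plusQ (h : Iso Q Q') (hp : PlusQ Q) : PlusQ Q' := by
  obtain ⟨e, he⟩ := h
  obtain ⟨U, hU, hd⟩ := hp
  refine ⟨U.map e.toLinearMap, ?_, (congrArg (2 * ·) (LinearEquiv.finrank_map_eq e U)).trans (hd.trans e.finrank_eq)⟩
  rintro _ ⟨u, hu, rfl⟩
  exact (he u).trans (hU u hu)

theorem plusQ_smul (c : F) (h : PlusQ Q) : PlusQ (c • Q) := by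
  obtain ⟨U, hU, hd⟩ := h
  exact ⟨U, fun u hu => by simp [hU u hu], hd⟩

theorem plusQ_prod [FiniteDimensional F V] [FiniteDimensional F W] (h : PlusQ Q) (h' : PlusQ Q') :
    PlusQ (Q.prod Q') := by
  obtain ⟨U, hU, hd⟩ := h
  obtain ⟨U', hU', hd'⟩ := h'
  refine ⟨U.prod U', fun p hp => by simp [hU _ hp.1, hU' _ hp.2], ?_⟩
  have e : finrank F (U.prod U') = finrank F U + finrank F U' := by
    rw [← Module.finrank_prod]
    exact LinearEquiv.finrank_eq
      { toFun := fun x => (⟨x.1.1, x.2.1⟩, ⟨x.1.2, x.2.2⟩)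
        invFun := fun y => ⟨(y.1.1, y.2.1), y.1.2, y.2.2⟩
        map_add' := fun _ _ => rfl
        map_smul' := fun _ _ => rfl
        left_inv := fun _ => rfl
        right_inv := fun _ => rfl }
  rw [e, Module.finrank_prod]
  omega

/-- A plus space is the standard one. -/
theorem iso_of_plusQ [FiniteDimensional F V] (hQ : Sep Q) (hp : PlusQ Q) {M : ℕ} (hM : finrank F V = 2 * M) :
    Iso Q (Forms.quadPlus M F) := by
  obtain ⟨U, hU, hd⟩ := hp
  let b := Module.finBasisOfFinrankEq F U (show finrank F U = M by omega)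
  have hpol : ∀ x ∈ U, ∀ y ∈ U, QuadraticMap.polar ⇑Q x y = 0 := fun x hx y hy => by
    simp [QuadraticMap.polar, hU _ (U.add_mem hx hy), hU _ hx, hU _ hy]
  obtain ⟨f, h⟩ := QForm.exists_pairs_of_singular (sep_iff.1 hQ) (fun j => (b j : V))
    (b.linearIndependent.map' U.subtype U.ker_subtype) (fun j => hU _ (b j).2)
    fun j l => hpol _ (b j).2 _ (b l).2
  set e : Fin M → V := fun j => (b j : V)
  let Φ : (Fin M ⊕ Fin M → F) →ₗ[F] V :=
    { toFun := fun v => ∑ j, (v (.inl j) • e j + v (.inr j) • f j)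
      map_add' := fun v w => by
        rw [← Finset.sum_add_distrib]
        exact Finset.sum_congr rfl fun j _ => by simp only [Pi.add_apply, add_smul]; abel
      map_smul' := fun c v => by
        rw [RingHom.id_apply, Finset.smul_sum]
        exact Finset.sum_congr rfl fun j _ => by simp [smul_add, smul_smul] }
  have hinj : Function.Injective Φ := by
    rw [injective_iff_map_eq_zero]
    intro v hv
    funext j
    rcases j with j | j
    · have h1 := h.polar_f_sum (fun l => v (.inl l)) (fun l => v (.inr l)) j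
      rw [show (∑ l, (v (.inl l) • e l + v (.inr l) • f l)) = Φ v from rfl, hv, QuadraticMap.polar_zero_right] at h1
      exact h1.symm
    · have h1 := h.polar_e_sum (fun l => v (.inl l)) (fun l => v (.inr l)) j
      rw [show (∑ l, (v (.inl l) • e l + v (.inr l) • f l)) = Φ v from rfl, hv, QuadraticMap.polar_zero_right] at h1
      exact h1.symm
  have hdim : finrank F (Fin M ⊕ Fin M → F) = finrank F V := by
    rw [hM, Module.finrank_fintype_fun_eq_card, Fintype.card_sum, Fintype.card_fin]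
    omega
  refine Iso.symm ⟨LinearEquiv.ofBijective Φ ⟨hinj, (LinearMap.injective_iff_surjective_of_finrank_eq_finrank
    hdim).1 hinj⟩, fun v => ?_⟩
  rw [Forms.quadPlus_apply]
  show Q (∑ j, (v (.inl j) • e j + v (.inr j) • f j)) = _
  have h2 := h.apply_combination (fun l => v (.inl l)) (fun l => v (.inr l)) (c := 0) (Submodule.zero_mem _)
  rw [add_zero, QuadraticMap.map_zero, add_zero] at h2
  rw [h2]
  rfl

theorem plusQ_quadPlus (M : ℕ) : PlusQ (Forms.quadPlus M F) := by
  refine ⟨LinearMap.range ((LinearEquiv.sumArrowLequivProdArrow (Fin M) (Fin M) F F).symm.toLinearMap.comp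
    (LinearMap.inl F (Fin M → F) (Fin M → F))), ?_, ?_⟩
  · rintro _ ⟨u, rfl⟩
    rw [Forms.quadPlus_apply]
    simp [quadFormPlus, LinearEquiv.sumArrowLequivProdArrow_symm_apply_inr]
  · have hinj : Function.Injective ((LinearEquiv.sumArrowLequivProdArrow (Fin M) (Fin M) F F).symm.toLinearMap.comp
        (LinearMap.inl F (Fin M → F) (Fin M → F))) :=
      (LinearEquiv.sumArrowLequivProdArrow (Fin M) (Fin M) F F).symm.injective.comp LinearMap.inl_injective
    rw [LinearMap.finrank_range_of_inj hinj,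
      Module.finrank_fintype_fun_eq_card, Module.finrank_fintype_fun_eq_card, Fintype.card_sum, Fintype.card_fin]
    omega

open scoped Classical in
/-- `1` for plus type, `-1` otherwise. -/
noncomputable def sgn (Q : QuadraticForm F V) : ℤ := if PlusQ Q then 1 else -1

theorem sgn_of_plus (h : PlusQ Q) : sgn Q = 1 := by rw [sgn, if_pos h]

theorem sgn_of_not (h : ¬ PlusQ Q) : sgn Q = -1 := by rw [sgn, if_neg h]

theorem sgn_eq_one_iff : sgn Q = 1 ↔ PlusQ Q := by
  unfold sgn
  split_ifs with h <;> simp [h]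

theorem sgn_eq_or (Q : QuadraticForm F V) : sgn Q = 1 ∨ sgn Q = -1 := by
  unfold sgn
  split_ifs <;> simp

theorem sgn_mul_self (Q : QuadraticForm F V) : sgn Q * sgn Q = 1 := by
  rcases sgn_eq_or Q with h | h <;> simp [h]

theorem Iso.sgn_eq (h : Iso Q Q') : sgn Q = sgn Q' := by
  by_cases hp : PlusQ Q
  · rw [sgn_of_plus hp, sgn_of_plus (h.plusQ hp)]
  · rw [sgn_of_not hp, sgn_of_not fun h' => hp (h.symm.plusQ h')]

end Iso

/-! ### Finite fields -/

section Finite

variable {F : Type*} [Field F] [Fintype F] {V W : Type*} [AddCommGroup V] [Module F V] [FiniteDimensional F V]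
  [AddCommGroup W] [Module F W] [FiniteDimensional F W] {Q : QuadraticForm F V} {Q' : QuadraticForm F W}

/-- The number of solutions of `Q = a`. -/
noncomputable def num (Q : QuadraticForm F V) (a : F) : ℕ := Nat.card {v // Q v = a}

theorem Iso.num_eq (h : Iso Q Q') (a : F) : num Q a = num Q' a := by
  obtain ⟨e, he⟩ := h
  exact Nat.card_congr (e.toEquiv.subtypeEquiv fun v => by simp [he])

/-- Classification in even dimension. -/
theorem iso_plus_or_minus {a b : F} (hab : ∀ z₁ z₂ : F, z₁ ^ 2 + a * z₁ * z₂ + b * z₂ ^ 2 = 0 → z₁ = 0 ∧ z₂ = 0)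
    (hQ : Sep Q) {M : ℕ} (hd : finrank F V = 2 * M) :
    Iso Q (Forms.quadPlus M F) ∨ (1 ≤ M ∧ Iso Q (Forms.quadMinus (M - 1) F a b)) := by
  rcases QForm.exists_iso_plus_or_minus hab M Q (sep_iff.1 hQ) hd with ⟨e, he⟩ | ⟨hM, e, he⟩
  · exact Or.inl ⟨e, fun v => by rw [Forms.quadPlus_apply, he]⟩
  · exact Or.inr ⟨hM, e, fun v => by rw [Forms.quadMinus_apply, he]⟩

theorem not_plusQ_minus {a b : F} (hab : ∀ z₁ z₂ : F, z₁ ^ 2 + a * z₁ * z₂ + b * z₂ ^ 2 = 0 → z₁ = 0 ∧ z₂ = 0)
    (N : ℕ) : ¬ PlusQ (Forms.quadMinus N F a b) := by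
  intro h
  have hd : finrank F ((Fin N ⊕ Fin N) ⊕ Fin 2 → F) = 2 * (N + 1) := by
    simp [Module.finrank_fintype_fun_eq_card]
    omega
  obtain ⟨e, he⟩ := iso_of_plusQ (sep_iff.2 (Forms.quadMinus_nondegenerate N hab)) h hd
  have h1 := Forms.card_zeros_congr e he
  have h2 := Forms.card_quadPlus_zeros_aux (F := F) (N + 1)
  have h3 := Forms.card_quadMinus_zeros_aux (F := F) N hab
  rw [← h1, h3] at h2
  have hq : (2 : ℤ) ≤ Fintype.card F := by
    have := Fintype.one_lt_card (α := F)
    omega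
  have hp : (0 : ℤ) < (Fintype.card F : ℤ) ^ (N + 1) := by positivity
  have e2 : 2 * (N + 1) = 2 * N + 2 := by ring
  rw [e2, pow_succ (n := N + 1)] at h2
  nlinarith

/-- The zero count in terms of the sign. -/
theorem q_num_zero (hQ : Sep Q) {M : ℕ} (hd : finrank F V = 2 * M) :
    (Fintype.card F : ℤ) * num Q 0 = (Fintype.card F : ℤ) ^ (2 * M) +
      sgn Q * ((Fintype.card F : ℤ) ^ (M + 1) - (Fintype.card F : ℤ) ^ M) := by
  obtain ⟨a, b, hab⟩ : ∃ a b : F, ∀ z₁ z₂ : F, z₁ ^ 2 + a * z₁ * z₂ + b * z₂ ^ 2 = 0 → z₁ = 0 ∧ z₂ = 0 := by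
    have h : ¬ Function.Surjective fun x : F => x * x + x := fun hs => by
      have := (Finite.injective_iff_surjective.2 hs) (a₁ := 0) (a₂ := -1) (by ring)
      simp at this
    simp only [Function.Surjective, not_forall, not_exists] at h
    obtain ⟨c, hc⟩ := h
    refine ⟨1, -c, fun z₁ z₂ hz => ?_⟩
    by_cases h2 : z₂ = 0
    · subst h2; simp at hz; exact ⟨hz, rfl⟩
    · exact absurd (by field_simp; linear_combination hz) (hc (z₁ / z₂))
  rcases iso_plus_or_minus hab hQ hd with h | ⟨hM, h⟩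
  · rw [h.num_eq, h.sgn_eq, sgn_of_plus (plusQ_quadPlus M)]
    have := Forms.card_quadPlus_zeros_aux (F := F) M
    simp only [num]
    linear_combination this
  · obtain ⟨N, rfl⟩ : ∃ N, M = N + 1 := ⟨M - 1, by omega⟩
    rw [h.num_eq, h.sgn_eq, Nat.add_sub_cancel, sgn_of_not (not_plusQ_minus hab N)]
    have := Forms.card_quadMinus_zeros_aux (F := F) N hab
    simp only [num]
    rw [show 2 * (N + 1) = 2 * N + 2 by ring, show N + 1 + 1 = N + 2 by ring]
    linear_combination this

/-- Two even-dimensional spaces of equal dimension and sign are isometric. -/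
theorem iso_of_sgn (hQ : Sep Q) (hQ' : Sep Q') {M : ℕ} (hd : finrank F V = 2 * M) (hd' : finrank F W = 2 * M)
    (hs : sgn Q = sgn Q') : Iso Q Q' := by
  obtain ⟨a, b, hab⟩ : ∃ a b : F, ∀ z₁ z₂ : F, z₁ ^ 2 + a * z₁ * z₂ + b * z₂ ^ 2 = 0 → z₁ = 0 ∧ z₂ = 0 := by
    have h : ¬ Function.Surjective fun x : F => x * x + x := fun hs => by
      have := (Finite.injective_iff_surjective.2 hs) (a₁ := 0) (a₂ := -1) (by ring)
      simp at this
    simp only [Function.Surjective, not_forall, not_exists] at h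
    obtain ⟨c, hc⟩ := h
    refine ⟨1, -c, fun z₁ z₂ hz => ?_⟩
    by_cases h2 : z₂ = 0
    · subst h2; simp at hz; exact ⟨hz, rfl⟩
    · exact absurd (by field_simp; linear_combination hz) (hc (z₁ / z₂))
  rcases iso_plus_or_minus hab hQ hd with h | ⟨-, h⟩ <;> rcases iso_plus_or_minus hab hQ' hd' with h' | ⟨-, h'⟩
  · exact h.trans h'.symm
  · rw [h.sgn_eq, h'.sgn_eq, sgn_of_plus (plusQ_quadPlus M), sgn_of_not (not_plusQ_minus hab _)] at hs
    exact absurd hs (by norm_num)
  · rw [h.sgn_eq, h'.sgn_eq, sgn_of_plus (plusQ_quadPlus M), sgn_of_not (not_plusQ_minus hab _)] at hs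
    exact absurd hs (by norm_num)
  · exact h.trans h'.symm

theorem sgn_smul {c : F} (hc : c ≠ 0) : sgn (c • Q) = sgn Q := by
  by_cases hp : PlusQ Q
  · rw [sgn_of_plus hp, sgn_of_plus (plusQ_smul c hp)]
  · rw [sgn_of_not hp, sgn_of_not]
    intro h
    apply hp
    have := plusQ_smul c⁻¹ h
    rwa [smul_smul, inv_mul_cancel₀ hc, one_smul] at this

/-- Every non-zero value is taken equally often. -/
theorem num_const (hQ : Sep Q) {M : ℕ} (hd : finrank F V = 2 * M) {a : F} (ha : a ≠ 0) :
    num Q a = num Q 1 := by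
  obtain ⟨e, he⟩ := iso_of_sgn hQ (sep_smul hQ (inv_ne_zero ha)) hd hd (sgn_smul (inv_ne_zero ha)).symm
  refine (Nat.card_congr (e.toEquiv.subtypeEquiv fun v => ?_)).symm
  have := he v
  simp only [smul_apply, smul_eq_mul] at this
  show Q v = 1 ↔ Q (e v) = a
  constructor <;> intro h
  · rw [h] at this
    field_simp at this
    exact this
  · rw [← this, h, inv_mul_cancel₀ ha]

theorem sum_num (Q : QuadraticForm F V) :
    ∑ a : F, num Q a = Fintype.card F ^ finrank F V := by
  classical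
  have := Module.finite_of_finite F (M := V)
  have := Fintype.ofFinite V
  simp only [num, Nat.card_eq_fintype_card]
  rw [← Module.card_eq_pow_finrank (K := F) (V := V), ← Fintype.card_sigma]
  exact Fintype.card_congr (Equiv.sigmaFiberEquiv fun v => Q v)

theorem num_prod (a : F) :
    num (Q.prod Q') a = ∑ b : F, num Q b * num Q' (a - b) := by
  classical
  have := Module.finite_of_finite F (M := V)
  have := Fintype.ofFinite V
  have := Module.finite_of_finite F (M := W)
  have := Fintype.ofFinite W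
  simp only [num, Nat.card_eq_fintype_card, ← Fintype.card_prod]
  rw [← Fintype.card_sigma]
  refine Fintype.card_congr
    { toFun := fun p => ⟨Q p.1.1, ⟨p.1.1, rfl⟩, ⟨p.1.2, by have := p.2; simp at this; linear_combination this⟩⟩
      invFun := fun s => ⟨(s.2.1.1, s.2.2.1), by simp [s.2.1.2, s.2.2.2]⟩
      left_inv := fun p => rfl
      right_inv := fun s => by
        obtain ⟨b, ⟨v, rfl⟩, w⟩ := s
        rfl }

theorem num_one (hQ : Sep Q) {M : ℕ} (hd : finrank F V = 2 * M) :
    ((Fintype.card F : ℤ) - 1) * (num Q 1 : ℤ) = (Fintype.card F : ℤ) ^ (2 * M) - num Q 0 := by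
  classical
  have h := sum_num Q
  rw [Finset.sum_eq_add_sum_sdiff_singleton_of_mem (Finset.mem_univ (0 : F)) (num Q),
    Finset.sum_congr (s₁ := Finset.univ \ {(0 : F)}) (g := fun _ => num Q 1) rfl
      (fun a ha => num_const hQ hd (by simpa using ha : a ≠ 0)), Finset.sum_const, Finset.card_sdiff, hd] at h
  simp at h
  have h' := congrArg (fun n : ℕ => (n : ℤ)) h
  have h1 : 1 ≤ Fintype.card F := Fintype.card_pos
  push_cast [Nat.cast_sub h1] at h'
  linear_combination h'

/-- The sign is multiplicative. -/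
theorem sgn_prod (hQ : Sep Q) (hQ' : Sep Q') {A B : ℕ} (hA : finrank F V = 2 * A) (hB : finrank F W = 2 * B) :
    sgn (Q.prod Q') = sgn Q * sgn Q' := by
  classical
  have hd : finrank F (V × W) = 2 * (A + B) := by rw [Module.finrank_prod, hA, hB]; ring
  have z₁ := q_num_zero hQ hA
  have z₂ := q_num_zero hQ' hB
  have z := q_num_zero (sep_prod hQ hQ') hd
  set q : ℤ := (Fintype.card F : ℤ) with hq
  have hq2 : 2 ≤ q := by have := Fintype.one_lt_card (α := F); omega
  have hN : (num (Q.prod Q') 0 : ℤ) = num Q 0 * num Q' 0 + (q - 1) * (num Q 1 * num Q' 1) := by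
    rw [num_prod, Finset.sum_eq_add_sum_sdiff_singleton_of_mem (Finset.mem_univ (0 : F))
      (fun b => num Q b * num Q' (0 - b)), sub_zero, Finset.sum_congr rfl (fun b hb => by
      rw [num_const hQ hA (by simpa using hb : b ≠ 0), num_const hQ' hB (by simpa using hb : (0 - b) ≠ 0)]),
      Finset.sum_const, Finset.card_sdiff]
    simp
    rw [Nat.cast_sub (Fintype.card_pos : 1 ≤ Fintype.card F)]
    push_cast
    simp [hq]
    try ring
  have s₁ := num_one hQ hA
  have s₂ := num_one hQ' hB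
  have hne : (q - 1) * (q * q ^ (A + B)) ≠ 0 := mul_ne_zero (by omega) (mul_ne_zero (by omega) (pow_ne_zero _ (by omega)))
  refine mul_left_cancel₀ (mul_ne_zero hne (by omega : (q - 1) ≠ 0)) ?_
  have e1 : q ^ (2 * (A + B)) = q ^ (2 * A) * q ^ (2 * B) := by rw [← pow_add]; ring_nf
  have e2 : q ^ (A + B + 1) = q * (q ^ A * q ^ B) := by rw [pow_succ', pow_add]
  have e3 : q ^ (A + B) = q ^ A * q ^ B := pow_add _ _ _
  rw [e1, e2, e3] at z
  rw [pow_succ' q A] at z₁
  rw [pow_succ' q B] at z₂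
  rw [e3]
  linear_combination
    (-(q * (q - 1))) * z + (q * q * (q - 1)) * hN
      + (q * q * ((q - 1) * (num Q' 1 : ℤ))) * s₁ + (q * q * (q ^ (2 * A) - num Q 0)) * s₂
      + (q * (q * num Q' 0 - q ^ (2 * B))) * z₁
      + (q * sgn Q * (q * q ^ A - q ^ A)) * z₂

end Finite

end Cfsg.Agent.Elusive.OrthType
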