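import Cfsg.Agent.Lib.Elusive.OrthPlanes
import Cfsg.Agent.Lib.QForm.UnipFix

/-!
Unipotent isometries with parts of size at most three: the invariant non-degenerate subspaces.
-/

set_option autoImplicit false
set_option linter.unusedSectionVars false
set_option maxHeartbeats 800000

namespace Cfsg.Agent.Elusive.OrthUnip

open LinRep.JordanType Module UnipForms
open OrthType
open QForm.UnipFix (realize pow_eq_zero_of_type rankDim_restrict)

universe u

theorem sum_small {ν : Multiset ℕ} (h : ∀ e ∈ ν, 1 ≤ e ∧ e ≤ 3) :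
    ν.sum = ν.count 1 + 2 * ν.count 2 + 3 * ν.count 3 := by
  induction ν using Multiset.induction with
  | empty => simp
  | cons a s ih =>
    have ih' := ih fun e he => h e (Multiset.mem_cons_of_mem he)
    obtain ⟨h1, h3⟩ := h a (Multiset.mem_cons_self _ _)
    interval_cases a <;> simp [Multiset.count_cons] <;> omega

theorem le_two_of_count {ν : Multiset ℕ} (h : ∀ e ∈ ν, 1 ≤ e ∧ e ≤ 3) (h3 : ν.count 3 = 0) :
    ∀ e ∈ ν, e ≤ 2 := by
  intro e he
  obtain ⟨-, he3⟩ := h e he
  by_contra hc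
  have he' : e = 3 := by omega
  rw [he'] at he
  exact Multiset.count_eq_zero.1 h3 he

section General

variable {F : Type u} [Field F] [Fintype F] {V : Type u} [AddCommGroup V] [Module F V] [FiniteDimensional F V]
  {Q : QuadraticForm F V} {N : Module.End F V}

theorem polar_iso (hiso : ∀ x, Q (x + N x) = Q x) (x y : V) :
    QuadraticMap.polar ⇑Q (x + N x) (y + N y) = QuadraticMap.polar ⇑Q x y := by
  simp only [QuadraticMap.polar]
  rw [show x + N x + (y + N y) = (x + y) + N (x + y) by rw [map_add]; abel, hiso, hiso, hiso]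

/-- The orthogonal of an invariant subspace is invariant. -/
theorem inv_orth (hiso : ∀ x, Q (x + N x) = Q x) (hnil : IsNilpotent N) {X : Submodule F V}
    (hinv : ∀ x ∈ X, N x ∈ X) : ∀ y ∈ orth Q X, N y ∈ orth Q X := by
  have hsurj : ∀ x ∈ X, ∃ z ∈ X, z + N z = x := by
    intro x hx
    have hr : ∀ z ∈ X, (1 + N : Module.End F V) z ∈ X := fun z hz => add_mem hz (hinv z hz)
    have hinj : Function.Injective ((1 + N : Module.End F V).restrict hr) := by
      intro u v huv
      exact Subtype.ext (((Module.End.isUnit_iff _).1 hnil.isUnit_one_add).1 (congrArg Subtype.val huv))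
    obtain ⟨z, hz⟩ := LinearMap.injective_iff_surjective.1 hinj ⟨x, hx⟩
    exact ⟨z, z.2, congrArg Subtype.val hz⟩
  intro y hy
  rw [mem_orth] at hy ⊢
  intro x hx
  obtain ⟨z, hz, rfl⟩ := hsurj x hx
  have h1 := polar_iso hiso z y
  rw [hy z hz, QuadraticMap.polar_add_right, hy _ (add_mem hz (hinv z hz)), zero_add] at h1
  exact h1

/-- The Jordan type seen on an invariant non-degenerate subspace. -/
theorem sub_data (h2 : (2 : F) ≠ 0) (hiso : ∀ x, Q (x + N x) = Q x) (hnil : IsNilpotent N) {μ : Multiset ℕ}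
    (hQ : Sep Q) (ht : HasType N μ) {p : ℕ} (hp2 : 2 ≤ p) (hp : ∀ e ∈ μ, e ≤ p) {X : Submodule F V}
    (hX : Nd Q X) (hinv : ∀ x ∈ X, N x ∈ X) :
    ∃ ν : Multiset ℕ, ν ≤ μ ∧ ν.sum = finrank F X ∧ (∀ e, Even e → Even (ν.count e)) ∧
      ((∀ e ∈ ν, e ≤ 2) → (∀ x ∈ X, N (N x) = 0) ∧ ν.count 1 + 2 * finrank F ↥(X.map N) = finrank F X) := by
  classical
  set B := QuadraticMap.polarBilin Q with hB
  have hsymm : ∀ x y, B x y = B y x := fun x y => QuadraticMap.polar_comm _ _ _
  have hres : (LinearMap.BilinForm.restrict B X).Nondegenerate :=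
    ⟨fun x hx => Subtype.ext (hX x x.2 fun y hy => hx ⟨y, hy⟩),
      fun x hx => Subtype.ext (hX x x.2 fun y hy => (hsymm _ _).trans (hx ⟨y, hy⟩))⟩
  have hc := isCompl_orth (Q := Q) hX
  let E : Bool → Submodule F V := fun i => if i then X else orth Q X
  have hE : iSupIndep E := by
    rw [iSupIndep_pair (i := true) (j := false) (by simp) (fun k => by cases k <;> simp)]
    exact hc.disjoint
  have htop : iSup E = ⊤ := by
    rw [iSup_bool_eq]; exact hc.sup_eq_top
  have hEinv : ∀ i, (E i).map N ≤ E i := fun i => by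
    rintro _ ⟨x, hx, rfl⟩
    cases i
    · exact inv_orth hiso hnil hinv x hx
    · exact hinv x hx
  have hDN : X.map N ≤ X := hEinv true
  have hN0 : X.map (N ^ p) = ⊥ := by rw [pow_eq_zero_of_type ht hp, Submodule.map_zero]
  refine ⟨jordanType N X p, (count_summand_le hE htop hEinv true p).trans (ht.jordanType_le p),
    sum_jordanType_eq hDN hN0, fun e he => ?_, fun hν => ?_⟩
  · rcases e with _ | e
    · rw [count_jordanType_zero]; exact ⟨0, rfl⟩
    rw [count_jordanType]
    split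
    swap
    · exact ⟨0, rfl⟩
    have hA' : ∀ x y : X, (LinearMap.BilinForm.restrict B X) (((1 + N).restrict (fun z hz => add_mem hz (hinv z hz))) x)
        (((1 + N).restrict (fun z hz => add_mem hz (hinv z hz))) y) = (LinearMap.BilinForm.restrict B X) x y :=
      fun x y => polar_iso hiso (x : V) y
    have hsub : ((1 + N).restrict (fun z hz => add_mem hz (hinv z hz)) : Module.End F X) - 1 =
        N.restrict hinv := LinearMap.ext fun z => Subtype.ext (by simp)
    have hev : ∀ i, Even (rankDim N X (i + i + 1)) := fun i => by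
      rw [← rankDim_restrict hinv, ← hsub]
      refine even_rankDim_isSymm h2 (B := LinearMap.BilinForm.restrict B X) (fun x y => hsymm x y) hres.1 hA' ?_ i
      rw [hsub]
      obtain ⟨k, hk⟩ := hnil
      refine ⟨k, LinearMap.ext fun z => Subtype.ext ?_⟩
      rw [Module.End.pow_restrict, LinearMap.restrict_apply]
      simp [hk]
    obtain ⟨i, hi⟩ := he
    obtain ⟨j, rfl⟩ : ∃ j, i = j + 1 := ⟨i - 1, by omega⟩
    obtain rfl : e = j + j + 1 := by omega
    have r1 := rankDim_succ N X (j + j + 1)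
    have r2 := rankDim_succ N X (j + j + 1 + 1)
    have h3 := kerDim_succ_le hDN (j + j + 1)
    obtain ⟨u, hu⟩ := hev j
    obtain ⟨v, hv⟩ := hev (j + 1)
    rw [show j + 1 + (j + 1) + 1 = j + j + 1 + 1 + 1 by omega] at hv
    exact ⟨u + v - rankDim N X (j + j + 1 + 1), by omega⟩
  · have hkp : kerDim N X p = 0 := by rw [kerDim, hN0, inf_bot_eq, finrank_bot]
    have hk : ∀ j, j + 2 ≤ p → kerDim N X (p - j) = 0 := by
      intro j
      induction j with
      | zero => exact fun _ => hkp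
      | succ j ih =>
        intro hj
        have h0 := ih (by omega)
        have hc : (jordanType N X p).count (p - (j + 1) + 1) = 0 :=
          Multiset.count_eq_zero.2 fun hm => by have := hν _ hm; omega
        rw [count_jordanType, if_pos (by omega)] at hc
        have hle := kerDim_succ_le hDN (p - (j + 1))
        rw [show p - (j + 1) + 1 = p - j by omega] at hc hle
        omega
    have hk2 : ∀ e, 2 ≤ e → e ≤ p → kerDim N X e = 0 := fun e h1 h2' => by
      rw [show e = p - (p - e) by omega]; exact hk _ (by omega)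
    have hr : ∀ j, j + 2 ≤ p → rankDim N X (p - j) = 0 := by
      intro j
      induction j with
      | zero => intro _; rw [rankDim, Nat.sub_zero, hN0, finrank_bot]
      | succ j ih =>
        intro hj
        have h0 := ih (by omega)
        have hs := rankDim_succ N X (p - (j + 1))
        rw [show p - (j + 1) + 1 = p - j by omega, h0, hk2 (p - (j + 1)) (by omega) (by omega)] at hs
        omega
    have hr2 : rankDim N X 2 = 0 := by
      have := hr (p - 2) (by omega)
      rwa [show p - (p - 2) = 2 by omega] at this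
    refine ⟨fun x hx => ?_, ?_⟩
    · have hmem : (N ^ 2) x ∈ X.map (N ^ 2) := Submodule.mem_map_of_mem hx
      rw [Submodule.finrank_eq_zero.1 hr2, Submodule.mem_bot, pow_two] at hmem
      exact hmem
    · rw [count_jordanType, if_pos (by omega)]
      have r0 := rankDim_succ N X 0
      have r1 := rankDim_succ N X 1
      have h3 := kerDim_succ_le hDN 0
      have e1 : rankDim N X 1 = finrank F ↥(X.map N) := by rw [rankDim, pow_one]
      have e0 : rankDim N X 0 = finrank F X := by
        rw [rankDim, pow_zero, Module.End.one_eq_id, Submodule.map_id]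
      simp only [show (0 : ℕ) + 1 = 1 from rfl, show (1 : ℕ) + 1 = 2 from rfl] at r0 r1 h3 ⊢
      omega

variable {X : Submodule F V}

/-- The image of a square-zero `N` is totally singular and orthogonal to the fixed vectors. -/
theorem image_ts (h2 : (2 : F) ≠ 0) (hiso : ∀ x, Q (x + N x) = Q x) (hsq : ∀ x ∈ X, N (N x) = 0) :
    (∀ w ∈ X.map N, Q w = 0) ∧ ∀ w ∈ X.map N, ∀ k, N k = 0 → QuadraticMap.polar ⇑Q w k = 0 := by
  constructor
  · rintro _ ⟨x, hx, rfl⟩
    have h := polar_iso hiso (N x) x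
    rw [hsq x hx, add_zero, QuadraticMap.polar_add_right, add_eq_left, QuadraticMap.polar_self, nsmul_eq_mul,
      Nat.cast_ofNat, mul_eq_zero] at h
    exact h.resolve_left h2
  · rintro _ ⟨x, -, rfl⟩ k hk
    have h := polar_iso hiso x k
    rw [hk, add_zero, QuadraticMap.polar_add_left, add_eq_left] at h
    exact h

theorem twos_plus (h2 : (2 : F) ≠ 0) (hiso : ∀ x, Q (x + N x) = Q x) (hinv : ∀ x ∈ X, N x ∈ X)
    (hsq : ∀ x ∈ X, N (N x) = 0) (hd : 2 * finrank F ↥(X.map N) = finrank F X) : sgn (res Q X) = 1 :=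
  sgn_eq_one_iff.2 (plusQ_res_iff.2 ⟨X.map N, Submodule.map_le_iff_le_comap.2 hinv,
    (image_ts h2 hiso hsq).1, hd⟩)

theorem twos_one (h2 : (2 : F) ≠ 0) (hiso : ∀ x, Q (x + N x) = Q x) (hinv : ∀ x ∈ X, N x ∈ X) (hX : Nd Q X)
    (hsq : ∀ x ∈ X, N (N x) = 0) (hd : 2 * finrank F ↥(X.map N) + 1 = finrank F X) :
    ∃ u ∈ X, N u = 0 ∧ Q u ≠ 0 ∧ sgn (res Q (X ⊓ orth Q (F ∙ u))) = 1 := by
  obtain ⟨hts, hperp⟩ := image_ts h2 hiso hsq
  have hker : finrank F ↥(LinearMap.ker N ⊓ X) + finrank F ↥(X.map N) = finrank F X := by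
    have := LinRep.JordanType.finrank_map_add N X
    omega
  obtain ⟨u, ⟨huN, huX⟩, hu⟩ : ∃ u ∈ LinearMap.ker N ⊓ X, Q u ≠ 0 := by
    by_contra! hall
    have hb := ts_bound (nd_iff.1 hX) (U := (LinearMap.ker N ⊓ X).comap X.subtype) fun v hv => hall _ hv
    rw [(Submodule.comapSubtypeEquivOfLe (inf_le_right : LinearMap.ker N ⊓ X ≤ X)).finrank_eq, widx,
      if_pos (by omega)] at hb
    omega
  refine ⟨u, huX, huN, hu, sgn_eq_one_iff.2 (plusQ_res_iff.2 ⟨X.map N, ?_, hts, ?_⟩)⟩
  · refine le_inf (Submodule.map_le_iff_le_comap.2 hinv) fun w hw => mem_orth.2 fun a ha => ?_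
    obtain ⟨s, rfl⟩ := Submodule.mem_span_singleton.1 ha
    rw [QuadraticMap.polar_smul_left, QuadraticMap.polar_comm, hperp w hw u huN, smul_zero]
  · have hu0 : u ≠ 0 := fun e => hu (by rw [e, QuadraticMap.map_zero])
    have hline : Nd Q (F ∙ u) := by
      intro x hx hall
      obtain ⟨s, rfl⟩ := Submodule.mem_span_singleton.1 hx
      have h := hall u (Submodule.mem_span_singleton_self u)
      rw [QuadraticMap.polar_smul_left, QuadraticMap.polar_self, smul_eq_mul, nsmul_eq_mul, Nat.cast_ofNat,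
        mul_eq_zero] at h
      rw [h.resolve_right (mul_ne_zero h2 hu), zero_smul]
    have hc := isCompl_orth hline
    have hle : F ∙ u ≤ X := (Submodule.span_singleton_le_iff_mem _ _).2 huX
    have hsup : F ∙ u ⊔ X ⊓ orth Q (F ∙ u) = X := by
      refine le_antisymm (sup_le hle inf_le_left) fun y hy => ?_
      obtain ⟨a, ha, b, hb, rfl⟩ := Submodule.mem_sup.1
        (show y ∈ F ∙ u ⊔ orth Q (F ∙ u) by rw [hc.sup_eq_top]; trivial)
      exact Submodule.add_mem_sup ha ⟨(Submodule.add_mem_iff_right X (hle ha)).1 hy, hb⟩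
    have hdim := finrank_sup_of_disjoint (hc.disjoint.mono_right (inf_le_right : X ⊓ orth Q (F ∙ u) ≤ _))
    rw [hsup, finrank_span_singleton hu0] at hdim
    omega

/-- In odd dimension the value on a line with hyperbolic complement is determined up to squares. -/
theorem line_class (h2 : (2 : F) ≠ 0) (hQ : Sep Q) (hodd : Odd (finrank F V)) {u u' : V} (hu : Q u ≠ 0)
    (hu' : Q u' ≠ 0) (hs : sgn (res Q (orth Q (F ∙ u))) = 1) (hs' : sgn (res Q (orth Q (F ∙ u'))) = 1) :
    IsSquare (Q u * Q u') := by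
  have hline : ∀ {w : V}, Q w ≠ 0 → Nd Q (F ∙ w) ∧ finrank F (F ∙ w) = 1 := fun {w} hw => by
    refine ⟨fun x hx hall => ?_, finrank_span_singleton fun e => hw (by rw [e, QuadraticMap.map_zero])⟩
    obtain ⟨s, rfl⟩ := Submodule.mem_span_singleton.1 hx
    have h := hall w (Submodule.mem_span_singleton_self w)
    rw [QuadraticMap.polar_smul_left, QuadraticMap.polar_self, smul_eq_mul, nsmul_eq_mul, Nat.cast_ofNat,
      mul_eq_zero] at h
    rw [h.resolve_right (mul_ne_zero h2 hw), zero_smul]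
  obtain ⟨hn, hd⟩ := hline hu
  obtain ⟨hn', hd'⟩ := hline hu'
  obtain ⟨M, hM⟩ := hodd
  have hO : finrank F (orth Q (F ∙ u)) = 2 * M := by
    have := Submodule.finrank_add_eq_of_isCompl (isCompl_orth hn); omega
  have hO' : finrank F (orth Q (F ∙ u')) = 2 * M := by
    have := Submodule.finrank_add_eq_of_isCompl (isCompl_orth hn'); omega
  obtain ⟨g, hg, hgm⟩ := exists_isom_map hQ
    (iso_of_sgn (nd_iff.1 (nd_orth hQ hn)) (nd_iff.1 (nd_orth hQ hn')) hO hO' (hs.trans hs'.symm))
  have hgQ : ∀ y, Q (g y) = Q y := fun y => hg y y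
  have hgu : g u ∈ orth Q (orth Q (F ∙ u')) := by
    rw [mem_orth, ← hgm]
    rintro _ ⟨y, hy, rfl⟩
    show QuadraticMap.polar ⇑Q (g y) (g u) = 0
    simp only [QuadraticMap.polar, ← map_add, hgQ]
    have := mem_orth.1 hy u (Submodule.mem_span_singleton_self u)
    rw [QuadraticMap.polar, add_comm u y] at this
    linear_combination this
  have hle : F ∙ u' ≤ orth Q (orth Q (F ∙ u')) := fun y hy => mem_orth.2 fun a ha => by
    rw [QuadraticMap.polar_comm]; exact mem_orth.1 ha y hy
  have heq : F ∙ u' = orth Q (orth Q (F ∙ u')) := Submodule.eq_of_le_of_finrank_eq hle (by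
    have := Submodule.finrank_add_eq_of_isCompl (isCompl_orth (nd_orth hQ hn'))
    omega)
  rw [← heq] at hgu
  obtain ⟨s, hs⟩ := Submodule.mem_span_singleton.1 hgu
  refine ⟨s * Q u', ?_⟩
  rw [← hgQ u, ← hs, QuadraticMap.map_smul, smul_eq_mul]
  ring

/-- The same inside a non-degenerate subspace. -/
theorem line_class_in (h2 : (2 : F) ≠ 0) {S : Submodule F V} (hS : Nd Q S) (hodd : Odd (finrank F S)) {u u' : V}
    (huS : u ∈ S) (hu'S : u' ∈ S) (hu : Q u ≠ 0) (hu' : Q u' ≠ 0) (hs : sgn (res Q (S ⊓ orth Q (F ∙ u))) = 1)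
    (hs' : sgn (res Q (S ⊓ orth Q (F ∙ u'))) = 1) : IsSquare (Q u * Q u') := by
  have conv : ∀ w : S, Iso (res (res Q S) (orth (res Q S) (F ∙ w))) (res Q (S ⊓ orth Q (F ∙ (w : V)))) := fun w => by
    have h : (orth (res Q S) (F ∙ w)).map S.subtype = S ⊓ orth Q (F ∙ (w : V)) := by
      ext y
      constructor
      · rintro ⟨y, hy, rfl⟩
        refine ⟨y.2, mem_orth.2 fun a ha => ?_⟩
        obtain ⟨s, rfl⟩ := Submodule.mem_span_singleton.1 ha
        exact mem_orth.1 hy (s • w) (Submodule.smul_mem _ _ (Submodule.mem_span_singleton_self w))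
      · rintro ⟨hyS, hy⟩
        refine ⟨⟨y, hyS⟩, mem_orth.2 fun a ha => ?_, rfl⟩
        obtain ⟨s, rfl⟩ := Submodule.mem_span_singleton.1 ha
        exact mem_orth.1 hy (s • (w : V)) (Submodule.smul_mem _ _ (Submodule.mem_span_singleton_self _))
    rw [← h]
    exact iso_map S.subtype S.injective_subtype (fun _ => rfl) _
  exact line_class (Q := res Q S) h2 (nd_iff.1 hS) hodd (u := ⟨u, huS⟩) (u' := ⟨u', hu'S⟩) hu hu'
    ((conv _).sgn_eq.trans hs) ((conv _).sgn_eq.trans hs')

/-- A unipotent isometry fixing an anisotropic line, the other fixed vectors totally singular. -/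
theorem realize_line (h2 : (2 : F) ≠ 0) (hQ : Sep Q) {v : V} (hv : Q v ≠ 0) (μ : Multiset ℕ)
    (hpos : ∀ j ∈ μ, 2 ≤ j) (hev : ∀ j, Even j → Even (μ.count j)) (hodd : ∃ e ∈ μ, Odd e)
    (hsum : μ.sum + 1 = finrank F V) :
    ∃ N : Module.End F V, (∀ x, Q (x + N x) = Q x) ∧ IsNilpotent N ∧ HasType N (1 ::ₘ μ) ∧
      ∀ k, N k = 0 → ∃ s : F, Q k = s * s * Q v := by
  classical
  have hv0 : v ≠ 0 := fun e => hv (by rw [e, QuadraticMap.map_zero])
  have hline : Nd Q (F ∙ v) := by
    intro x hx hall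
    obtain ⟨s, rfl⟩ := Submodule.mem_span_singleton.1 hx
    have h := hall v (Submodule.mem_span_singleton_self v)
    rw [QuadraticMap.polar_smul_left, QuadraticMap.polar_self, smul_eq_mul, nsmul_eq_mul, Nat.cast_ofNat,
      mul_eq_zero] at h
    rw [h.resolve_right (mul_ne_zero h2 hv), zero_smul]
  have hc := isCompl_orth hline
  have hdim := Submodule.finrank_add_eq_of_isCompl hc
  rw [finrank_span_singleton hv0] at hdim
  set O := orth Q (F ∙ v) with hOdef
  obtain ⟨N', hi', hn', ht'⟩ := realize h2 (sep_iff.1 (nd_iff.1 (nd_orth hQ hline))) μ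
    (fun j hj => (by norm_num : 1 ≤ 2).trans (hpos j hj)) hev (show μ.sum = finrank F ↥O by omega) (Or.inl hodd)
  let e := Submodule.prodEquivOfIsCompl _ _ hc
  have he : ∀ q : ↥(F ∙ v) × ↥O, e q = (q.1 : V) + q.2 := fun q => Submodule.coe_prodEquivOfIsCompl' _ _ hc q
  have heQ : ∀ q, Q (e q) = ((res Q (F ∙ v)).prod (res Q O)) q := fun q => by
    rw [he, Q_add_orth (mem_orth.1 q.2.2 _ q.1.2)]
    rfl
  have ht1 : HasType (0 : Module.End F ↥(F ∙ v)) {1} := fun k => by
    rcases k with _ | k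
    · rw [rankDim, pow_zero, Module.End.one_eq_id, Submodule.map_id, finrank_top, finrank_span_singleton hv0]
      simp
    · rw [rankDim, zero_pow (Nat.succ_ne_zero k), Submodule.map_zero, finrank_bot]
      simp
  set T := (0 : Module.End F ↥(F ∙ v)).prodMap N' with hT
  have hiT : ∀ q, ((res Q (F ∙ v)).prod (res Q O)) (q + T q) = ((res Q (F ∙ v)).prod (res Q O)) q := fun q => by
    have := hi' q.2
    simp only [hT, QuadraticMap.prod_apply, LinearMap.prodMap_apply, Prod.fst_add, Prod.snd_add,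
      LinearMap.zero_apply, add_zero]
    rw [this]
  obtain ⟨N, hiN, hnN, htN, hNe⟩ : ∃ N : Module.End F V, (∀ x, Q (x + N x) = Q x) ∧ IsNilpotent N ∧
      HasType N (1 ::ₘ μ) ∧ ∀ q, N (e q) = e (0, N' q.2) := by
    let M : Module.End F V := e.toLinearMap ∘ₗ T ∘ₗ e.symm.toLinearMap
    have hM : ∀ q, e (T q) = M (e q) := fun q => by simp [M]
    refine ⟨M, fun x => ?_, isNilpotent_conj e hM (isNilpotent_prodMap ⟨1, pow_one _⟩ hn'),
      hasType_conj e hM (by rw [← Multiset.singleton_add]; exact hasType_prod ht1 ht'), fun q => ?_⟩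
    · obtain ⟨q, rfl⟩ := e.surjective x
      rw [← hM, ← map_add, heQ, heQ, hiT]
    · rw [← hM]
      rfl
  refine ⟨N, hiN, hnN, htN, fun k hk => ?_⟩
  obtain ⟨q, rfl⟩ := e.surjective k
  rw [hNe, LinearEquiv.map_eq_zero_iff, Prod.ext_iff] at hk
  obtain ⟨s, hs⟩ := Submodule.mem_span_singleton.1 q.1.2
  refine ⟨s, ?_⟩
  have hq2 : (res Q O) q.2 = 0 := by
    have hrange : LinearMap.ker N' ≤ LinearMap.range N' := by
      have h0 := ht'.kerDim_eq 0
      have h1 := ht'.kerDim_eq 1
      rw [kerDim, pow_zero, Module.End.one_eq_id, Submodule.map_id, inf_top_eq] at h0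
      rw [kerDim, pow_one, Submodule.map_top] at h1
      have hcp : μ.countP (0 < ·) = μ.countP (1 < ·) := Multiset.countP_congr rfl fun j hj => by
        have := hpos j hj
        exact propext (iff_of_true (by omega) (by omega))
      exact le_of_eq_of_le (Submodule.eq_of_le_of_finrank_eq (inf_le_left : LinearMap.ker N' ⊓ _ ≤ _)
        (by omega)).symm inf_le_right
    obtain ⟨z, hz⟩ := hrange (LinearMap.mem_ker.2 hk.2)
    have h := polar_iso (Q := res Q O) hi' q.2 z
    have hk2 : N' q.2 = 0 := hk.2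
    rw [hk2, add_zero, QuadraticMap.polar_add_right, add_eq_left, hz, QuadraticMap.polar_self, nsmul_eq_mul,
      Nat.cast_ofNat, mul_eq_zero] at h
    exact h.resolve_left h2
  rw [heQ, QuadraticMap.prod_apply, hq2, add_zero]
  show Q (q.1 : V) = _
  rw [← hs, QuadraticMap.map_smul, smul_eq_mul]

end General

/-! ### The element of order `p` -/

section Coord

variable {F : Type u} [Field F] [Fintype F] {ι : Type} [Fintype ι] [DecidableEq ι]

theorem element {p : ℕ} [Fact p.Prime] [CharP F p] (hp : p ≠ 2) (h2 : (2 : F) ≠ 0) {Q : QuadraticForm F (ι → F)}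
    (hQ : Sep Q) {N : Module.End F (ι → F)} (hiso : ∀ x, Q (x + N x) = Q x) (hnil : IsNilpotent N)
    {μ : Multiset ℕ} (ht : HasType N μ) (hle : ∀ e ∈ μ, e ≤ p) (hbig : ∃ e ∈ μ, 1 < e) :
    ∃ x : GL ι F, x ∈ Cfsg.Geo.omegaGL ⇑Q ∧ (∀ v, Matrix.toLin' (x : Matrix ι ι F) v = v + N v) ∧
      (∃ z : F, ((x ^ p : GL ι F) : Matrix ι ι F) = z • (1 : Matrix ι ι F)) ∧
      (∀ z : F, (x : Matrix ι ι F) ≠ z • (1 : Matrix ι ι F)) ∧ orderOf x = p := by
  have hNp : N ^ p = 0 := pow_eq_zero_of_type ht hle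
  have hp1 : (1 + N) ^ p = 1 := by
    obtain ⟨r, hr⟩ := (Commute.one_left N).exists_add_pow_prime_eq (Fact.out : p.Prime)
    have hp0 : (p : Module.End F (ι → F)) = 0 := by
      rw [← map_natCast (algebraMap F (Module.End F (ι → F))), CharP.cast_eq_zero F p, map_zero]
    rw [hr, hNp, hp0, one_pow, add_zero, zero_mul, zero_mul, zero_mul, add_zero]
  have hu : IsUnit (Matrix.toLinAlgEquiv'.symm (1 + N)) := hnil.isUnit_one_add.map _
  set x : GL ι F := hu.unit with hx
  have hxN : ∀ v, Matrix.toLin' (x : Matrix ι ι F) v = v + N v := fun v => by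
    show Matrix.toLinAlgEquiv' (x : Matrix ι ι F) v = _
    rw [hx, IsUnit.unit_spec, AlgEquiv.apply_symm_apply]
    rfl
  have hxp : x ^ p = 1 := Units.ext (by
    rw [Units.val_pow_eq_pow_val, hx, IsUnit.unit_spec, ← map_pow, hp1, map_one, Units.val_one])
  have hns : ∀ z : F, (x : Matrix ι ι F) ≠ z • 1 := by
    intro z hz
    have hN : N = (z - 1) • (1 : Module.End F (ι → F)) := LinearMap.ext fun v => by
      have := hxN v
      rw [hz, map_smul, LinearMap.smul_apply, Matrix.toLin'_one, LinearMap.id_apply] at this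
      rw [LinearMap.smul_apply, Module.End.one_apply, sub_smul, one_smul, this]; abel
    have hne : N ≠ 0 := by
      intro h0
      have h1 := ht 1
      rw [rankDim, h0, pow_one, Submodule.map_zero, finrank_bot, eq_comm, Multiset.sum_eq_zero_iff] at h1
      obtain ⟨e, he, he1⟩ := hbig
      have := h1 _ (Multiset.mem_map_of_mem _ he)
      omega
    rcases eq_or_ne (z - 1) 0 with h0 | h0
    · exact hne (by rw [hN, h0, zero_smul])
    · refine hne (LinearMap.ext fun v => ?_)
      have h := congrArg (fun T : Module.End F (ι → F) => T v) hNp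
      simp only [hN, smul_pow, one_pow, LinearMap.smul_apply, Module.End.one_apply, LinearMap.zero_apply] at h
      rw [(smul_eq_zero.1 h).resolve_left (pow_ne_zero _ h0), map_zero, LinearMap.zero_apply]
  have hmem : x ∈ Cfsg.isometryGroup F ⇑Q := fun v w => by
    show Q (Matrix.toLin' (x : Matrix ι ι F) v) = Q v
    rw [hxN, hiso]
  refine ⟨x, ⟨⟨x, hmem⟩, ?_, rfl⟩, hxN, ⟨1, by rw [hxp, one_smul]; rfl⟩, hns,
    orderOf_eq_prime hxp fun h1 => hns 1 (by rw [h1, one_smul]; rfl)⟩
  have hq : Fintype.card F ≠ 2 := by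
    intro hq
    apply h2
    have := FiniteField.cast_card_eq_zero F
    rwa [hq, Nat.cast_ofNat] at this
  have h0 : (⟨x, hmem⟩ : Cfsg.isometryGroup F ⇑Q) ^ p = 1 := Subtype.ext hxp
  have h1 := QForm.of_mul_self (sep_iff.1 hQ) (Or.inl hq) ⟨x, hmem⟩
  obtain ⟨k, hk⟩ := (Fact.out : p.Prime).odd_of_ne_two hp
  have h3 : Abelianization.of (⟨x, hmem⟩ : Cfsg.isometryGroup F ⇑Q) ^ p = 1 := by
    rw [← map_pow, h0, map_one]
  rw [hk, pow_succ, pow_mul, pow_two, h1, one_pow, one_mul] at h3
  exact (Abelianization.ker_of (Cfsg.isometryGroup F ⇑Q)).le (MonoidHom.mem_ker.2 h3)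

theorem inv_of_map {x : GL ι F} {N : Module.End F (ι → F)} (hxN : ∀ v, Matrix.toLin' (x : Matrix ι ι F) v = v + N v)
    {W : Submodule F (ι → F)} (h : W.map (Matrix.toLin' (x : Matrix ι ι F)) ≤ W) : ∀ v ∈ W, N v ∈ W :=
  fun v hv => by
    have hm := h (Submodule.mem_map_of_mem hv)
    rw [hxN] at hm
    simpa using W.sub_mem hm hv

end Coord

end Cfsg.Agent.Elusive.OrthUnip
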