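import Cfsg.Agent.Lib.Elusive.OrthUnip

/-!
Elements of order `p` with parts `1`, `2`, `3` whose invariant non-degenerate subspaces avoid a given class.
-/

set_option autoImplicit false
set_option linter.unusedSectionVars false

namespace Cfsg.Agent.Elusive.OrthUnipFree

open LinRep.JordanType Module
open OrthType OrthUnip

universe u

variable {F : Type u} [Field F] [Fintype F] {p : ℕ} [Fact p.Prime] [CharP F p]
  {ι : Type} [Fintype ι] [DecidableEq ι] {Q : QuadraticForm F (ι → F)}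

/-- The multiset with prescribed numbers of parts `1`, `2`, `3`. -/
def parts (a k b : ℕ) : Multiset ℕ :=
  Multiset.replicate a 1 + (Multiset.replicate k 2 + Multiset.replicate b 3)

theorem parts_mem {a k b e : ℕ} (he : e ∈ parts a k b) : 1 ≤ e ∧ e ≤ 3 := by
  simp only [parts, Multiset.mem_add, Multiset.mem_replicate] at he
  omega

theorem parts_even {a k b : ℕ} (hk : Even k) (j : ℕ) (hj : Even j) : Even ((parts a k b).count j) := by
  rw [Nat.even_iff] at hj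
  simp only [parts, Multiset.count_add, Multiset.count_replicate]
  rw [if_neg (by omega : ¬ 1 = j), if_neg (by omega : ¬ 3 = j)]
  split <;> simp [hk]

theorem parts_count (a k b : ℕ) : (parts a k b).count 1 = a ∧ (parts a k b).count 2 = k ∧ (parts a k b).count 3 = b := by
  simp [parts, Multiset.count_replicate]

theorem parts_sum (a k b : ℕ) : (parts a k b).sum = a + 2 * k + 3 * b := by
  simp [parts]; ring

include p in
/-- The parts seen on the invariant non-degenerate subspaces. -/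
theorem seen (h2 : (2 : F) ≠ 0) (hp : 3 ≤ p) (hQ : Sep Q) {N : Module.End F (ι → F)}
    (hiso : ∀ x, Q (x + N x) = Q x) (hnil : IsNilpotent N) {μ : Multiset ℕ} {a k b : ℕ}
    (hμ : μ = parts a k b) (ht : HasType N μ) {x : GL ι F}
    (hxN : ∀ v, Matrix.toLin' (x : Matrix ι ι F) v = v + N v)
    {W : Submodule F (ι → F)} (hW : Nd Q W) (hWi : ∀ v ∈ W, N v ∈ W) :
    ∃ c₁ c₂ c₃, c₁ ≤ a ∧ c₂ ≤ k ∧ c₃ ≤ b ∧ Even c₂ ∧ c₁ + 2 * c₂ + 3 * c₃ = finrank F W ∧
      (c₃ = 0 → (∀ v ∈ W, N (N v) = 0) ∧ c₁ + 2 * finrank F ↥(W.map N) = finrank F W) := by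
  subst hμ
  obtain ⟨ν, hνμ, hνs, hνe, hν2⟩ := sub_data h2 hiso hnil hQ ht (by omega : 2 ≤ p)
    (fun e he => (parts_mem he).2.trans hp) hW hWi
  have hle : ∀ e ∈ ν, 1 ≤ e ∧ e ≤ 3 := fun e he => parts_mem (Multiset.mem_of_le hνμ he)
  obtain ⟨h1, h2', h3⟩ := parts_count a k b
  refine ⟨ν.count 1, ν.count 2, ν.count 3, h1 ▸ Multiset.count_le_of_le 1 hνμ,
    h2' ▸ Multiset.count_le_of_le 2 hνμ, h3 ▸ Multiset.count_le_of_le 3 hνμ, hνe 2 even_two,
    by rw [← hνs, sum_small hle], fun h => hν2 (le_two_of_count hle h)⟩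

include p in
/-- The element of a given type. -/
theorem exists_of_parts (h2 : (2 : F) ≠ 0) (hp : 3 ≤ p) (hQ : Sep Q) {a k b : ℕ} (hk : Even k) (hkb : 0 < k + b)
    (hsum : a + 2 * k + 3 * b = Fintype.card ι) (hok : 0 < a + b ∨ sgn Q = 1) :
    ∃ (x : GL ι F) (N : Module.End F (ι → F)), x ∈ Cfsg.Geo.omegaGL ⇑Q ∧
      (∃ z : F, ((x ^ p : GL ι F) : Matrix ι ι F) = z • (1 : Matrix ι ι F)) ∧
      (∀ z : F, (x : Matrix ι ι F) ≠ z • (1 : Matrix ι ι F)) ∧ (∀ v, Q (v + N v) = Q v) ∧ IsNilpotent N ∧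
      HasType N (parts a k b) ∧ ∀ v, Matrix.toLin' (x : Matrix ι ι F) v = v + N v := by
  obtain ⟨N, hiso, hnil, ht⟩ := QForm.UnipFix.realize h2 (sep_iff.1 hQ) (parts a k b)
    (fun e he => (parts_mem he).1) (parts_even hk)
    (by rw [parts_sum, Module.finrank_fintype_fun_eq_card, hsum]) (by
      rcases Nat.eq_zero_or_pos (a + b) with h | h
      · obtain ⟨U, hU, hUd⟩ := sgn_eq_one_iff.1 (hok.resolve_left (by omega))
        exact Or.inr ⟨U, hU, hUd⟩
      · rcases Nat.eq_zero_or_pos a with ha | ha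
        · exact Or.inl ⟨3, by simp [parts, Multiset.mem_replicate]; omega, by decide⟩
        · exact Or.inl ⟨1, by simp [parts, Multiset.mem_replicate]; omega, by decide⟩)
  obtain ⟨x, hx, hxN, hz, hns, -⟩ := element (p := p) (by omega) h2 hQ hiso hnil ht
    (fun e he => (parts_mem he).2.trans hp) (by
      rcases Nat.eq_zero_or_pos k with h | h
      · exact ⟨3, by simp [parts, Multiset.mem_replicate]; omega, by omega⟩
      · exact ⟨2, by simp [parts, Multiset.mem_replicate]; omega, by omega⟩)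
  exact ⟨x, N, hx, hz, hns, hiso, hnil, ht, hxN⟩

theorem map_orth (hQ : Sep Q) {g : (ι → F) ≃ₗ[F] (ι → F)} (hg : ∀ v, Q (g v) = Q v) {A B : Submodule F (ι → F)}
    (h : A.map g.toLinearMap = B) : (orth Q A).map g.toLinearMap = orth Q B := by
  subst h
  ext y
  constructor
  · rintro ⟨y, hy, rfl⟩
    rw [mem_orth]
    rintro _ ⟨a, ha, rfl⟩
    show QuadraticMap.polar ⇑Q (g a) (g y) = 0
    simp only [QuadraticMap.polar, ← map_add, hg]
    exact mem_orth.1 hy a ha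
  · intro hy
    obtain ⟨z, rfl⟩ := g.surjective y
    refine ⟨z, mem_orth.2 fun a ha => ?_, rfl⟩
    have := mem_orth.1 hy (g a) ⟨a, ha, rfl⟩
    simp only [QuadraticMap.polar, ← map_add, hg] at this
    exact this

include p in
/-- For `n = 2 d`, `d` even: an element fixing no member of a class of odd-dimensional subspaces. -/
theorem exists_free_line (h2 : (2 : F) ≠ 0) (hp : 3 ≤ p) (hQ : Sep Q) {d : ℕ} (hn : Fintype.card ι = 2 * d)
    (hde : Even d) (hd : 2 ≤ d) {m : ℕ} (hm : Odd m) {W₀ : Submodule F (ι → F)} (hW₀ : Nd Q W₀)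
    (hW₀d : finrank F W₀ = m) :
    ∃ x : GL ι F, x ∈ Cfsg.Geo.omegaGL ⇑Q ∧
      (∃ z : F, ((x ^ p : GL ι F) : Matrix ι ι F) = z • (1 : Matrix ι ι F)) ∧
      (∀ z : F, (x : Matrix ι ι F) ≠ z • (1 : Matrix ι ι F)) ∧
      ∀ W : Submodule F (ι → F), Iso (res Q W₀) (res Q W) → ¬ W.map (Matrix.toLin' (x : Matrix ι ι F)) ≤ W := by
  have hfr : finrank F (ι → F) = 2 * d := by rw [Module.finrank_fintype_fun_eq_card, hn]
  obtain ⟨d', hd'⟩ := hde
  -- the member of dimension one modulo four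
  obtain ⟨S, hS, hS1, hSW⟩ : ∃ S : Submodule F (ι → F), Nd Q S ∧ finrank F S % 4 = 1 ∧
      ((S = W₀ ∧ m % 4 = 1) ∨ (S = orth Q W₀ ∧ m % 4 = 3)) := by
    have := Submodule.finrank_add_eq_of_isCompl (isCompl_orth hW₀)
    rw [Nat.odd_iff] at hm
    rcases (show m % 4 = 1 ∨ m % 4 = 3 by omega) with h | h
    · exact ⟨W₀, hW₀, by omega, Or.inl ⟨rfl, h⟩⟩
    · exact ⟨orth Q W₀, nd_orth hQ hW₀, by omega, Or.inr ⟨rfl, h⟩⟩
  have hSodd : Odd (finrank F S) := by rw [Nat.odd_iff]; omega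
  -- the value avoided by the class
  obtain ⟨c, hc, hcS⟩ : ∃ c : F, c ≠ 0 ∧ ∀ u ∈ S, Q u ≠ 0 → sgn (res Q (S ⊓ orth Q (F ∙ u))) = 1 →
      ¬ IsSquare (Q u * c) := by
    obtain ⟨δ, hδ⟩ := FiniteField.exists_nonsquare (F := F) fun h => h2 (by
      have : CharP F 2 := ringChar.of_eq h
      exact CharTwo.two_eq_zero)
    by_contra! hall
    obtain ⟨u, huS, hu, hus, r₁, hr₁⟩ := hall 1 one_ne_zero
    obtain ⟨u', hu'S, hu', hu's, r₂, hr₂⟩ := hall δ fun h => hδ (h ▸ ⟨0, (mul_zero 0).symm⟩)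
    obtain ⟨t, ht⟩ := line_class_in h2 hS hSodd huS hu'S hu hu' hus hu's
    refine hδ ⟨r₁ * r₂ / t, ?_⟩
    rw [mul_one] at hr₁
    have ht0 : t ≠ 0 := fun h => mul_ne_zero hu hu' (by rw [ht, h, mul_zero])
    field_simp
    linear_combination δ * ht.symm + Q u' * δ * hr₁ + r₁ * r₁ * hr₂
  obtain ⟨v, hv⟩ := QForm.exists_apply_eq_of_module h2 (sep_iff.1 hQ) (by omega) c hc
  obtain ⟨N, hiso, hnil, ht, hfixed⟩ := realize_line h2 hQ (v := v) (hv.symm ▸ hc) (parts 0 (d - 2) 1)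
    (fun e he => by
      simp only [parts, Multiset.mem_add, Multiset.mem_replicate] at he
      omega)
    (parts_even (by rw [Nat.even_iff]; omega)) ⟨3, by simp [parts], by decide⟩
    (by rw [parts_sum]; omega)
  have hμ : (1 ::ₘ parts 0 (d - 2) 1) = parts 1 (d - 2) 1 := by
    rw [← Multiset.singleton_add]; simp [parts]
  rw [hμ] at ht
  obtain ⟨x, hx, hxN, hz, hns, -⟩ := element (p := p) (by omega) h2 hQ hiso hnil ht
    (fun e he => (parts_mem he).2.trans hp) ⟨3, by simp [parts], by omega⟩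
  refine ⟨x, hx, hz, hns, fun W hW hWi => ?_⟩
  have hWn : Nd Q W := nd_iff.2 (hW.sep (nd_iff.1 hW₀))
  have hWd : finrank F W = m := hW.finrank_eq.symm.trans hW₀d
  have hWN := inv_of_map hxN hWi
  obtain ⟨g, hg, hgm⟩ := exists_isom_map hQ hW.symm
  have hgQ : ∀ v, Q (g v) = Q v := fun v => hg v v
  obtain ⟨T, hT, hTi, hTS, hTd⟩ : ∃ T : Submodule F (ι → F), Nd Q T ∧ (∀ v ∈ T, N v ∈ T) ∧
      T.map g.toLinearMap = S ∧ finrank F T % 4 = 1 := by
    rcases hSW with ⟨rfl, h⟩ | ⟨rfl, h⟩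
    · exact ⟨W, hWn, hWN, hgm, by omega⟩
    · refine ⟨orth Q W, nd_orth hQ hWn, inv_orth hiso hnil hWN, map_orth hQ hgQ hgm, ?_⟩
      have := Submodule.finrank_add_eq_of_isCompl (isCompl_orth hWn)
      omega
  obtain ⟨c₁, c₂, c₃, ha, -, hb, hev, hsum, hc3⟩ := seen (p := p) h2 hp hQ hiso hnil rfl ht hxN hT hTi
  obtain ⟨e₂, he₂⟩ := hev
  obtain ⟨hsq, hdim⟩ := hc3 (by omega)
  obtain ⟨u, huT, huN, hu, hus⟩ := twos_one h2 hiso hTi hT hsq (by omega)
  obtain ⟨s, hs⟩ := hfixed u huN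
  refine hcS (g u) (hTS ▸ Submodule.mem_map_of_mem huT) (by rw [hgQ]; exact hu) ?_ ?_
  · have hline : (F ∙ u).map g.toLinearMap = F ∙ g u := by
      rw [Submodule.map_span, Set.image_singleton]; rfl
    have hmap : (T ⊓ orth Q (F ∙ u)).map g.toLinearMap = S ⊓ orth Q (F ∙ g u) := by
      rw [Submodule.map_inf _ g.injective, hTS, map_orth hQ hgQ hline]
    rw [← hmap, ← (iso_map g.toLinearMap g.injective hgQ _).sgn_eq, hus]
  · rw [hgQ, hs, hv]
    exact ⟨s * c, by ring⟩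

end Cfsg.Agent.Elusive.OrthUnipFree
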