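import Mathlib
import Cfsg.Prelude.Def_GeometricClasses
import Cfsg.Agent.Lib.Aschbacher.FieldNorm
import Cfsg.Agent.Lib.Elusive.Sl
import Cfsg.Agent.Lib.Semisimple.Classes

/-!
Elements of order `n` modulo scalars in the normaliser of a field of degree `n`, `n` prime, in `SL_n`.
-/

set_option autoImplicit false
set_option linter.unusedSectionVars false
set_option linter.style.haveILetI false

open scoped MatrixGroups

namespace Cfsg.Agent.Elusive.Singer

open Polynomial Module Matrix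

variable {F : Type*} [Field F] [Fintype F] {n : ℕ}

/-- Conjugation by an invertible matrix. -/
def conjA (u : GL (Fin n) F) : Matrix (Fin n) (Fin n) F ≃ₐ[F] Matrix (Fin n) (Fin n) F where
  toFun M := u.1 * M * (u⁻¹ : GL (Fin n) F).1
  invFun M := (u⁻¹ : GL (Fin n) F).1 * M * u.1
  left_inv M := by
    show (u⁻¹ : GL (Fin n) F).1 * (u.1 * M * (u⁻¹ : GL (Fin n) F).1) * u.1 = M
    simp [mul_assoc]
  right_inv M := by
    show u.1 * ((u⁻¹ : GL (Fin n) F).1 * M * u.1) * (u⁻¹ : GL (Fin n) F).1 = M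
    simp [mul_assoc]
  map_mul' A B := by simp [mul_assoc]
  map_add' A B := by simp [Matrix.mul_add, Matrix.add_mul]
  commutes' c := by simp [Algebra.algebraMap_eq_smul_one]

theorem conjA_apply (u : GL (Fin n) F) (M : Matrix (Fin n) (Fin n) F) :
    conjA u M = u.1 * M * (u⁻¹ : GL (Fin n) F).1 := rfl

variable {K : Subalgebra F (Matrix (Fin n) (Fin n) F)}

theorem isField (hK : Geo.IsFieldSubalgebra n K) (hn : 0 < n) : IsField K :=
  haveI := Fin.pos_iff_nonempty.1 hn
  { exists_pair_ne := ⟨0, 1, fun h => one_ne_zero (congrArg Subtype.val h).symm⟩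
    mul_comm := fun a b => Subtype.ext (hK.comm _ a.2 _ b.2)
    mul_inv_cancel := fun {a} ha => by
      obtain ⟨b, hb, hab⟩ := hK.inv _ a.2 fun h => ha (Subtype.ext h)
      exact ⟨⟨b, hb⟩, Subtype.ext hab⟩ }

theorem eval_bij (hK : Geo.IsFieldSubalgebra n K) {v : Fin n → F} (hv : v ≠ 0) :
    Function.Bijective (Aschbacher.evalAt K v) :=
  Aschbacher.evalAt_bijective (by rwa [Fintype.card_fin]) hv

/-- The minimal polynomial of an element of the normaliser with a scalar `n`-th power. -/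
theorem minpoly_cases (hn : n.Prime) (hK : Geo.IsFieldSubalgebra n K) (g : GL (Fin n) F)
    (hg : g ∈ Geo.subalgebraNormalizer K) (c : F)
    (hc : g.1 ^ n = c • (1 : Matrix (Fin n) (Fin n) F)) :
    Irreducible (minpoly F g.1) ∨ ∀ P : F[X], P.natDegree < n → aeval g.1 P = 0 → P = 0 := by
  classical
  haveI := Fin.pos_iff_nonempty.1 hn.pos
  letI : Field K := (isField hK hn.pos).toField
  haveI : Finite K := Finite.of_injective (fun k : K => (k : Matrix (Fin n) (Fin n) F)) Subtype.val_injective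
  have hv : (Pi.single ⟨0, hn.pos⟩ 1 : Fin n → F) ≠ 0 := fun h => by simpa using congrFun h ⟨0, hn.pos⟩
  set v : Fin n → F := Pi.single ⟨0, hn.pos⟩ 1 with hvdef
  have hbij := eval_bij hK hv
  have hconj : ∀ k ∈ K, conjA g k ∈ K := fun k hk => (hg k).1 hk
  let τ : K →ₐ[F] K := ((conjA g).toAlgHom.comp K.val).codRestrict K fun k => hconj k k.2
  have hτ : ∀ k : K, (τ k : Matrix (Fin n) (Fin n) F) * g.1 = g.1 * k := fun k => by
    show g.1 * (k : Matrix (Fin n) (Fin n) F) * (g⁻¹ : GL (Fin n) F).1 * g.1 = _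
    simp [mul_assoc]
  have hτj : ∀ (j : ℕ) (k : K), ((τ ^ j) k : Matrix (Fin n) (Fin n) F) * g.1 ^ j = g.1 ^ j * k := by
    intro j
    induction j with
    | zero => intro k; simp
    | succ j ih =>
      intro k
      rw [pow_succ', pow_succ', AlgHom.mul_apply, ← mul_assoc, hτ, mul_assoc, ih, mul_assoc]
  by_cases hfix : τ = 1
  · refine Or.inl ?_
    obtain ⟨k₀, hk₀⟩ := hbij.2 (g.1 *ᵥ v)
    have hmem : g.1 = (k₀ : Matrix (Fin n) (Fin n) F) := by
      refine Matrix.ext_iff_mulVec.2 fun w => ?_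
      obtain ⟨k, rfl⟩ := hbij.2 w
      show g.1 *ᵥ ((k : Matrix (Fin n) (Fin n) F) *ᵥ v) = (k₀ : Matrix (Fin n) (Fin n) F) *ᵥ ((k : Matrix (Fin n) (Fin n) F) *ᵥ v)
      have h1 : g.1 * (k : Matrix (Fin n) (Fin n) F) = k * g.1 := by
        rw [← hτ k, hfix]; rfl
      rw [Matrix.mulVec_mulVec, h1, ← Matrix.mulVec_mulVec, ← show (k₀ : Matrix (Fin n) (Fin n) F) *ᵥ v = g.1 *ᵥ v from hk₀,
        Matrix.mulVec_mulVec, Matrix.mulVec_mulVec, hK.comm _ k.2 _ k₀.2]
    rw [hmem, show (k₀ : Matrix (Fin n) (Fin n) F) = K.val k₀ from rfl, minpoly.algHom_eq K.val Subtype.val_injective]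
    exact minpoly.irreducible (Algebra.IsIntegral.isIntegral k₀)
  refine Or.inr fun P hdeg hP => ?_
  have hord : orderOf τ = n := by
    haveI : Fact n.Prime := ⟨hn⟩
    refine orderOf_eq_prime (AlgHom.ext fun k => Subtype.ext ?_) hfix
    have h1 := hτj n k
    rw [hc] at h1
    simp only [Matrix.mul_smul, mul_one, Matrix.smul_mul, one_mul] at h1
    have hc0 : c ≠ 0 := fun h0 => by
      have h2 : IsUnit ((g ^ n : GL (Fin n) F) : Matrix (Fin n) (Fin n) F) := Units.isUnit _
      rw [Units.val_pow_eq_pow_val, hc, h0, zero_smul] at h2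
      exact not_isUnit_zero h2
    exact smul_right_injective _ hc0 h1
  -- coordinates of `g ^ j v`
  choose a ha using fun j : ℕ => hbij.2 ((g ^ j).1 *ᵥ v)
  have ha0 : ∀ j, a j ≠ 0 := by
    intro j h0
    apply hv
    have h1 := ha j
    rw [h0, map_zero] at h1
    have h2 := congrArg (fun w => ((g ^ j)⁻¹ : GL (Fin n) F).1 *ᵥ w) h1.symm
    simpa [Matrix.mulVec_mulVec] using h2
  let φ : Fin n → (K →* K) := fun j => ((τ ^ (j : ℕ)) : K →ₐ[F] K).toRingHom.toMonoidHom
  have hφinj : Function.Injective φ := by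
    intro i j hij
    refine Fin.ext (pow_injOn_Iio_orderOf (x := τ) (by rw [Set.mem_Iio, hord]; exact i.2)
      (by rw [Set.mem_Iio, hord]; exact j.2) (AlgHom.ext fun k => ?_))
    exact DFunLike.congr_fun hij k
  have hli : LinearIndependent K fun j : Fin n => (φ j : K → K) :=
    (linearIndependent_monoidHom K K).comp φ hφinj
  have hsum : ∑ j : Fin n, (algebraMap F K (P.coeff j) * a j) • (φ j : K → K) = 0 := by
    funext k
    rw [Finset.sum_apply, Pi.zero_apply]
    apply hbij.1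
    rw [map_sum, map_zero]
    have hterm : ∀ j : Fin n, Aschbacher.evalAt K v (((algebraMap F K (P.coeff j) * a j) • (φ j : K → K)) k) =
        (P.coeff j • g.1 ^ (j : ℕ)) *ᵥ ((k : Matrix (Fin n) (Fin n) F) *ᵥ v) := by
      intro j
      show ((algebraMap F K (P.coeff j) * a j * (τ ^ (j : ℕ)) k : K) : Matrix (Fin n) (Fin n) F) *ᵥ v = _
      rw [MulMemClass.coe_mul, MulMemClass.coe_mul, Subalgebra.coe_algebraMap, Algebra.algebraMap_eq_smul_one,
        Matrix.smul_mul, one_mul, Matrix.smul_mul, hK.comm _ (a j).2 _ ((τ ^ (j : ℕ)) k).2, Matrix.smul_mulVec,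
        ← Matrix.mulVec_mulVec,
        show (a j : Matrix (Fin n) (Fin n) F) *ᵥ v = (g ^ (j : ℕ)).1 *ᵥ v from ha j,
        Units.val_pow_eq_pow_val, Matrix.mulVec_mulVec, hτj, Matrix.mulVec_mulVec, Matrix.smul_mul,
        Matrix.smul_mulVec]
    rw [Finset.sum_congr rfl fun j _ => hterm j, ← Matrix.sum_mulVec,
      Fin.sum_univ_eq_sum_range (fun j => P.coeff j • g.1 ^ j) n, ← aeval_eq_sum_range' hdeg, hP,
      Matrix.zero_mulVec]
  ext j
  rw [coeff_zero]
  by_cases hj : j < n
  · have h := (Fintype.linearIndependent_iff.1 hli) _ hsum ⟨j, hj⟩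
    exact (map_eq_zero (algebraMap F K)).1 ((mul_eq_zero.1 h).resolve_right (ha0 j))
  · exact coeff_eq_zero_of_natDegree_lt (by omega)

theorem toGL_val (x : Matrix.SpecialLinearGroup (Fin n) F) :
    ((Matrix.SpecialLinearGroup.toGL x : GL (Fin n) F) : Matrix (Fin n) (Fin n) F) = x.1 := rfl

/-- An element killed by a polynomial of degree below `n`, with reducible minimal polynomial, has no conjugate
in the normaliser. -/
theorem not_conj_normalizer (hn : n.Prime) (hK : Geo.IsFieldSubalgebra n K)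
    (x : Matrix.SpecialLinearGroup (Fin n) F) (c : F)
    (hc : x.1 ^ n = c • (1 : Matrix (Fin n) (Fin n) F)) (P : F[X]) (hP0 : P ≠ 0) (hdeg : P.natDegree < n)
    (hP : aeval x.1 P = 0) (hred : ¬ Irreducible (minpoly F x.1)) (Q : Matrix.SpecialLinearGroup (Fin n) F) :
    Q⁻¹ * x * Q ∉ (Geo.subalgebraNormalizer K).comap Matrix.SpecialLinearGroup.toGL := by
  intro h
  rw [Subgroup.mem_comap] at h
  set u : GL (Fin n) F := (Matrix.SpecialLinearGroup.toGL Q)⁻¹
  have hval : ((Matrix.SpecialLinearGroup.toGL (Q⁻¹ * x * Q) : GL (Fin n) F) : Matrix (Fin n) (Fin n) F) = conjA u x.1 := by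
    rw [map_mul, map_mul, map_inv, conjA_apply, inv_inv]
    rfl
  rcases minpoly_cases hn hK _ h c (by rw [hval, ← map_pow, hc, map_smul, map_one]) with h1 | h1
  · rw [hval, minpoly.algEquiv_eq] at h1
    exact hred h1
  · exact hP0 (h1 P hdeg (by rw [hval, aeval_algEquiv, AlgHom.comp_apply, hP]; exact map_zero _))

/-- If `X - a` is a proper divisor of the minimal polynomial, that polynomial is reducible. -/
theorem not_irreducible_of_root (M : Matrix (Fin n) (Fin n) F) {a : F}
    (hroot : (X - C a) ∣ minpoly F M) (hne : M ≠ a • (1 : Matrix (Fin n) (Fin n) F)) :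
    ¬ Irreducible (minpoly F M) := by
  intro h
  have hass := (irreducible_X_sub_C a).associated_of_dvd h hroot
  have := eq_of_monic_of_associated (monic_X_sub_C a) (minpoly.monic (Algebra.IsIntegral.isIntegral M)) hass
  have h0 := minpoly.aeval F M
  rw [← this] at h0
  apply hne
  simpa [sub_eq_zero, Algebra.algebraMap_eq_smul_one] using h0

theorem root_dvd (M : Matrix (Fin n) (Fin n) F) {a : F} {v : Fin n → F} (hv : v ≠ 0) (h : M *ᵥ v = a • v) :
    (X - C a) ∣ minpoly F M := by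
  rw [dvd_iff_isRoot, ← Matrix.minpoly_toLin']
  exact Module.End.isRoot_of_hasEigenvalue (Module.End.hasEigenvalue_of_hasEigenvector
    ⟨by rw [Module.End.mem_eigenspace_iff, Matrix.toLin'_apply, h], hv⟩)

/-- An element of order `r = n` when `q` has order `r - 1` modulo `r`. -/
theorem minpoly_eq_of_full_order {r : ℕ} [Fact r.Prime] (h2 : 2 ≤ orderOf (Fintype.card F : ZMod r))
    (hfull : orderOf (Fintype.card F : ZMod r) = r - 1) (hr3 : 3 ≤ r) (f : End F (Fin r → F)) (hf : f ^ r = 1)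
    (hf1 : f ≠ 1) : minpoly F f = X ^ r - 1 := by
  have hr0 : (r : F) ≠ 0 := ne_zero_of_order (by omega)
  obtain ⟨b, hb⟩ := dim_eq hr0 hf (W := ⊤) (fun _ _ => trivial)
  rw [finrank_top, Module.finrank_fin_fun, inf_top_eq, hfull] at hb
  have hC : LinearMap.ker (f - 1) ≠ ⊥ := by
    intro h0
    rw [h0, finrank_bot, zero_add] at hb
    obtain ⟨_ | _ | b, rfl⟩ : ∃ c, b = c := ⟨b, rfl⟩
    · rw [Nat.zero_mul] at hb; omega
    · rw [Nat.zero_add, Nat.one_mul] at hb; omega
    · rw [Nat.add_mul, Nat.add_mul, Nat.one_mul] at hb; omega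
  set Φ : F[X] := ∑ j ∈ Finset.range r, X ^ j with hΦ
  have hΦm : Φ.Monic := monic_geom_sum_X (by omega)
  have hΦd : Φ.natDegree = r - 1 := by
    have h := congrArg natDegree (geom_sum_mul (X : F[X]) r)
    rw [natDegree_mul hΦm.ne_zero (by simpa using X_sub_C_ne_zero (1 : F)),
      show (X - 1 : F[X]) = X - C 1 by simp, natDegree_X_sub_C,
      show (X ^ r - 1 : F[X]) = X ^ r - C 1 by simp, natDegree_X_pow_sub_C] at h
    change Φ.natDegree + 1 = r at h
    omega
  have hΦi : Irreducible Φ := by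
    have hnu : ¬ IsUnit Φ := fun hu => by have := natDegree_eq_zero_of_isUnit hu; omega
    obtain ⟨g, hgm, hg, hd⟩ := Polynomial.exists_monic_irreducible_factor Φ hnu
    have hgd := factorDeg_geom hr0 g hg hd
    rwa [eq_of_monic_of_dvd_of_natDegree_le hgm hΦm hd (by omega)]
  have hint : IsIntegral F f := Algebra.IsIntegral.isIntegral f
  have hone : aeval f (X ^ r - 1 : F[X]) = 0 := by simp [hf]
  have hm := minpoly.dvd F f hone
  have h1 : (X - 1 : F[X]) ∣ minpoly F f := by
    obtain ⟨v, hv, hv0⟩ := (Submodule.ne_bot_iff _).1 hC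
    rw [show (X - 1 : F[X]) = X - C 1 by simp, dvd_iff_isRoot]
    refine Module.End.isRoot_of_hasEigenvalue (Module.End.hasEigenvalue_of_hasEigenvector (x := v) ⟨?_, hv0⟩)
    rw [Module.End.mem_eigenspace_iff, one_smul]
    simpa [sub_eq_zero] using hv
  have h2 : Φ ∣ minpoly F f := by
    by_contra hnd
    have hd' : minpoly F f ∣ (X - 1 : F[X]) := by
      refine ((hΦi.coprime_iff_not_dvd.2 hnd).symm).dvd_of_dvd_mul_left ?_
      rw [hΦ, geom_sum_mul]; exact hm
    have h0 := aeval_eq_zero_of_dvd_aeval_eq_zero hd' (minpoly.aeval F f)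
    exact hf1 (by simpa [sub_eq_zero] using h0)
  have hdvd : (X ^ r - 1 : F[X]) ∣ minpoly F f := by
    rw [← geom_sum_mul, mul_comm]
    exact (coprime_sub_one hr0).mul_dvd h1 h2
  exact eq_of_monic_of_associated (minpoly.monic hint) (by simpa using monic_X_pow_sub_C (1 : F) (by omega))
    (associated_of_dvd_dvd hm hdvd)

theorem endOf_smul_minpoly {r : ℕ} (x : Matrix.SpecialLinearGroup (Fin r) F) (e : F) :
    minpoly F (e • x.1) = minpoly F (e • endOf x) := by
  rw [← Matrix.minpoly_toLin', map_smul]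

/-- The Galois automorphism as an element of the normaliser, with minimal polynomial `X ^ n - 1`. -/
theorem exists_galois (hn : n.Prime) (hodd : Odd n) (hK : Geo.IsFieldSubalgebra n K) :
    ∃ x : Matrix.SpecialLinearGroup (Fin n) F,
      x ∈ (Geo.subalgebraNormalizer K).comap Matrix.SpecialLinearGroup.toGL ∧
        x.1 ^ n = 1 ∧ minpoly F x.1 = X ^ n - 1 ∧ x.1.charpoly = X ^ n - 1 := by
  classical
  haveI := Fin.pos_iff_nonempty.1 hn.pos
  letI : Field K := (isField hK hn.pos).toField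
  haveI : Finite K := Finite.of_injective (fun k : K => (k : Matrix (Fin n) (Fin n) F)) Subtype.val_injective
  haveI : FiniteDimensional F K := Module.Finite.of_finite
  set v : Fin n → F := Pi.single ⟨0, hn.pos⟩ 1 with hvdef
  have hv : v ≠ 0 := fun h => by simpa [hvdef] using congrFun h ⟨0, hn.pos⟩
  let e : K ≃ₗ[F] (Fin n → F) := LinearEquiv.ofBijective _ (eval_bij hK hv)
  let σ : K ≃ₐ[F] K := FiniteField.frobeniusAlgEquivOfAlgebraic F K
  have hσord : orderOf σ = n := by
    rw [FiniteField.orderOf_frobeniusAlgEquivOfAlgebraic, hK.finrank_eq]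
  let fl : (Fin n → F) ≃ₗ[F] (Fin n → F) := e.symm.trans (σ.toLinearEquiv.trans e)
  let M : Matrix (Fin n) (Fin n) F := LinearMap.toMatrix' fl.toLinearMap
  have hMe : ∀ k : K, M *ᵥ e k = e (σ k) := fun k => by
    show LinearMap.toMatrix' fl.toLinearMap *ᵥ e k = _
    rw [← Matrix.toLin'_apply, Matrix.toLin'_toMatrix']
    simp [fl]
  have hpow : ∀ (j : ℕ) (k : K), M ^ j *ᵥ e k = e ((σ ^ j) k) := by
    intro j
    induction j with
    | zero => intro k; simp
    | succ j ih => intro k; rw [pow_succ', ← Matrix.mulVec_mulVec, ih, hMe, pow_succ', AlgEquiv.mul_apply]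
  have hMn : M ^ n = 1 := Matrix.ext_iff_mulVec.2 fun w => by
    obtain ⟨k, rfl⟩ := e.surjective w
    have h1 := pow_orderOf_eq_one σ
    rw [hσord] at h1
    rw [hpow, h1, Matrix.one_mulVec]; rfl
  let g : GL (Fin n) F := ⟨M, M ^ (n - 1), by rw [← pow_succ', Nat.sub_add_cancel hn.pos, hMn], by
    rw [← pow_succ, Nat.sub_add_cancel hn.pos, hMn]⟩
  have hgk : ∀ k : K, M * (k : Matrix (Fin n) (Fin n) F) = (σ k : Matrix (Fin n) (Fin n) F) * M := fun k => by
    refine Matrix.ext_iff_mulVec.2 fun w => ?_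
    obtain ⟨k', rfl⟩ := e.surjective w
    have h1 : ∀ a b : K, (a : Matrix (Fin n) (Fin n) F) *ᵥ e b = e (a * b) := fun a b => by
      show _ *ᵥ ((b : Matrix (Fin n) (Fin n) F) *ᵥ v) = ((a * b : K) : Matrix (Fin n) (Fin n) F) *ᵥ v
      rw [Matrix.mulVec_mulVec, MulMemClass.coe_mul]
    rw [← Matrix.mulVec_mulVec, ← Matrix.mulVec_mulVec, h1, hMe, hMe, h1, map_mul]
  have hgN : g ∈ Geo.subalgebraNormalizer K := by
    intro k
    refine ⟨fun hk => ?_, fun hk => ?_⟩
    · show M * k * (g⁻¹ : GL (Fin n) F).1 ∈ K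
      rw [hgk ⟨k, hk⟩, mul_assoc, show M * (g⁻¹ : GL (Fin n) F).1 = 1 from g.mul_inv, mul_one]
      exact (σ ⟨k, hk⟩).2
    · obtain ⟨k', hk'⟩ := σ.surjective ⟨_, hk⟩
      have h1 := hgk k'
      rw [hk'] at h1
      have h2 : (k' : Matrix (Fin n) (Fin n) F) = k := by
        have h3 : M * (k' : Matrix (Fin n) (Fin n) F) = M * k := by
          rw [h1]
          show M * k * (g⁻¹ : GL (Fin n) F).1 * M = M * k
          rw [mul_assoc, show (g⁻¹ : GL (Fin n) F).1 * M = 1 from g.inv_mul, mul_one]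
        exact g.isUnit.mul_left_cancel h3
      exact h2 ▸ k'.2
  have hone : aeval M (X ^ n - 1 : F[X]) = 0 := by simp [hMn]
  have hdvd := minpoly.dvd F M hone
  have hint := Algebra.IsIntegral.isIntegral (R := F) M
  have hm1 : (X ^ n - 1 : F[X]).Monic := by simpa using monic_X_pow_sub_C (1 : F) hn.ne_zero
  have hd1 : (X ^ n - 1 : F[X]).natDegree = n := by
    simpa using natDegree_X_pow_sub_C (n := n) (r := (1 : F))
  have hnat : n ≤ (minpoly F M).natDegree := by
    rcases minpoly_cases hn hK g hgN 1 (by rw [one_smul]; exact hMn) with h1 | h1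
    · exfalso
      have hfix : M *ᵥ e 1 = e 1 := by rw [hMe, map_one]
      have hroot : (X - C (1 : F)) ∣ minpoly F M := by
        by_contra hnd
        obtain ⟨s, t, hst⟩ := (irreducible_X_sub_C (1 : F)).coprime_iff_not_dvd.2 hnd
        have h2 := congrArg (fun P : F[X] => aeval M P *ᵥ e 1) hst
        simp only [map_add, map_mul, map_one, Matrix.add_mulVec, Matrix.one_mulVec, minpoly.aeval, mul_zero,
          Matrix.zero_mulVec, add_zero, ← Matrix.mulVec_mulVec] at h2
        simp only [map_sub, aeval_X, map_one, Matrix.sub_mulVec, hfix, Matrix.one_mulVec, sub_self,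
          Matrix.mulVec_zero] at h2
        exact one_ne_zero (e.map_eq_zero_iff.1 h2.symm)
      refine not_irreducible_of_root M hroot (fun hM => ?_) h1
      have hσ1 : σ = 1 := AlgEquiv.ext fun k => e.injective (by
        rw [← hMe, hM, one_smul, Matrix.one_mulVec]; rfl)
      rw [hσ1, orderOf_one] at hσord
      exact hn.one_lt.ne hσord
    · by_contra hlt
      exact minpoly.ne_zero hint (h1 _ (by omega) (minpoly.aeval F M))
  have hmin : minpoly F M = X ^ n - 1 :=
    (eq_of_monic_of_dvd_of_natDegree_le (minpoly.monic hint) hm1 hdvd (by omega)).symm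
  have hchar : M.charpoly = X ^ n - 1 := by
    refine eq_of_monic_of_dvd_of_natDegree_le hm1 (Matrix.charpoly_monic M) (hmin ▸ Matrix.minpoly_dvd_charpoly M) ?_
    rw [Matrix.charpoly_natDegree_eq_dim, Fintype.card_fin, hd1]
  have hdet : M.det = 1 := by
    rw [Matrix.det_eq_sign_charpoly_coeff, hchar, Fintype.card_fin, hodd.neg_one_pow]
    simp [hn.ne_zero.symm]
  refine ⟨⟨M, hdet⟩, ?_, hMn, hmin, hchar⟩
  refine Subgroup.mem_comap.2 ?_
  convert hgN using 1
  exact Units.ext rfl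

/-- Elements whose multiple has minimal polynomial `X ^ n - 1` are conjugate into the normaliser. -/
theorem conj_into (hn : n.Prime) (hodd : Odd n) (hK : Geo.IsFieldSubalgebra n K) (hn0 : (n : F) ≠ 0)
    (x : Matrix.SpecialLinearGroup (Fin n) F) (e : F) (he : e ≠ 0)
    (hmin : minpoly F (e • x.1) = X ^ n - 1) :
    ∃ Q : Matrix.SpecialLinearGroup (Fin n) F,
      Q⁻¹ * x * Q ∈ (Geo.subalgebraNormalizer K).comap Matrix.SpecialLinearGroup.toGL := by
  obtain ⟨x₀, hx₀, -, hmin₀, hchar₀⟩ := exists_galois hn hodd hK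
  have hm1 : (X ^ n - 1 : F[X]).Monic := by simpa using monic_X_pow_sub_C (1 : F) hn.ne_zero
  have hd1 : (X ^ n - 1 : F[X]).natDegree = n := by
    simpa using natDegree_X_pow_sub_C (n := n) (r := (1 : F))
  have hchar : (e • x.1).charpoly = X ^ n - 1 := by
    refine eq_of_monic_of_dvd_of_natDegree_le hm1 (Matrix.charpoly_monic _) (hmin ▸ Matrix.minpoly_dvd_charpoly _) ?_
    rw [Matrix.charpoly_natDegree_eq_dim, Fintype.card_fin, hd1]
  have hdet : (e • x.1).det = 1 := by
    rw [Matrix.det_eq_sign_charpoly_coeff, hchar, Fintype.card_fin, hodd.neg_one_pow]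
    simp [hn.ne_zero.symm]
  let y : Matrix.SpecialLinearGroup (Fin n) F := ⟨e • x.1, hdet⟩
  have hss : ∀ M : Matrix (Fin n) (Fin n) F, minpoly F M = X ^ n - 1 → Semisimple.SS (K := F) M :=
    fun M hM => ⟨X ^ n - C 1, (separable_X_pow_sub_C 1 hn0 one_ne_zero).squarefree, by
      rw [map_one C, ← hM, minpoly.aeval]⟩
  obtain ⟨Q, hQ⟩ := isConj_iff.1 (Semisimple.isConj_sl y x₀ (hss _ hmin) (hss _ hmin₀) (hchar.trans hchar₀.symm))
  refine ⟨Q⁻¹, ?_⟩
  rw [inv_inv]
  rw [Subgroup.mem_comap] at hx₀ ⊢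
  have hxy : x.1 = e⁻¹ • y.1 := by rw [inv_smul_smul₀ he]
  have hval : (Q * x * Q⁻¹).1 = e⁻¹ • x₀.1 := by
    rw [← hQ, Matrix.SpecialLinearGroup.coe_mul, Matrix.SpecialLinearGroup.coe_mul, hxy,
      Matrix.SpecialLinearGroup.coe_mul, Matrix.SpecialLinearGroup.coe_mul, Matrix.mul_smul, Matrix.smul_mul]
  set A : GL (Fin n) F := Matrix.SpecialLinearGroup.toGL (Q * x * Q⁻¹) with hA
  set B : GL (Fin n) F := Matrix.SpecialLinearGroup.toGL x₀ with hB
  have hAv : A.1 = e⁻¹ • B.1 := hval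
  have hAi : (A⁻¹ : GL (Fin n) F).1 = e • (B⁻¹ : GL (Fin n) F).1 := by
    refine (left_inv_eq_right_inv (a := A.1) ?_ A.mul_inv).symm
    rw [hAv, Matrix.smul_mul, Matrix.mul_smul, smul_smul, mul_inv_cancel₀ he, one_smul, B.inv_mul]
  intro k
  rw [hx₀ k, hAv, hAi, Matrix.smul_mul, Matrix.smul_mul, Matrix.mul_smul, smul_smul, inv_mul_cancel₀ he, one_smul]

end Cfsg.Agent.Elusive.Singer
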