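import Cfsg.Agent.Lib.Elusive.Involution
import Cfsg.Agent.Lib.GL.Basic

/-!
The subfield subgroups: membership and index.
-/

set_option autoImplicit false
set_option linter.unusedSectionVars false
set_option linter.style.haveILetI false

open scoped MatrixGroups Matrix

namespace Cfsg.Agent.Elusive

open Module Matrix

variable {F : Type*} [Field F] [Fintype F] {n : ℕ} (F₀ : Subfield F)

theorem mem_subfield_of (y : GL (Fin n) F) {μ : F} (hμ : μ ≠ 0)
    (h : ∀ i j, μ⁻¹ * y.val i j ∈ F₀) : y ∈ Geo.subfieldSubgroup F₀ 1 := by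
  let Y : Matrix (Fin n) (Fin n) F₀ := fun i j => ⟨_, h i j⟩
  have hmap : Y.map F₀.subtype = μ⁻¹ • y.val := by ext i j; rfl
  have hdet : Y.det ≠ 0 := by
    intro h0
    have h1 := RingHom.map_det F₀.subtype Y
    rw [h0, map_zero, RingHom.mapMatrix_apply, hmap, Matrix.det_smul] at h1
    exact mul_ne_zero (pow_ne_zero _ (inv_ne_zero hμ))
      ((Matrix.isUnit_iff_isUnit_det _).1 y.isUnit).ne_zero h1.symm
  refine ⟨Matrix.GeneralLinearGroup.map (F₀.subtype : F₀ →+* F)
    (Matrix.GeneralLinearGroup.mkOfDetNeZero Y hdet) *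
      Units.map (Matrix.scalar (Fin n) : F →+* Matrix (Fin n) (Fin n) F).toMonoidHom (Units.mk0 μ hμ),
    Subgroup.mul_mem_sup ⟨_, rfl⟩ ⟨_, rfl⟩, ?_⟩
  simp only [MulEquiv.coe_toMonoidHom, map_one, MulAut.one_apply]
  refine Units.ext ?_
  show Y.map F₀.subtype * Matrix.scalar (Fin n) μ = y.val
  rw [hmap]
  ext i j
  simp [Matrix.mul_diagonal]
  field_simp

theorem exists_of_mem_subfield {y : GL (Fin n) F} (hy : y ∈ Geo.subfieldSubgroup F₀ 1) :
    ∃ (Y : GL (Fin n) F₀) (μ : F), μ ≠ 0 ∧ y.val = μ • Y.val.map F₀.subtype := by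
  obtain ⟨y', hy', rfl⟩ := hy
  obtain ⟨a, ⟨Y, rfl⟩, b, hb, rfl⟩ := Subgroup.mem_sup_of_normal_right.1 hy'
  obtain ⟨c, hc⟩ := (Geo.mem_scalars_iff b).1 hb
  refine ⟨Y, c, c.ne_zero, ?_⟩
  simp only [MulEquiv.coe_toMonoidHom, map_one, MulAut.one_apply, Units.val_mul, hc, mul_smul_comm, mul_one]
  rfl

/-- A conjugate in the subfield group gives one of determinant one. -/
theorem subfield_conj (x : Matrix.SpecialLinearGroup (Fin n) F) (hx : DetSurj (endOf x))
    {ι : Type*} [Fintype ι] [DecidableEq ι] (b : Basis ι F (Fin n → F)) {μ : F} (hμ : μ ≠ 0)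
    (h : ∀ i j, μ⁻¹ * LinearMap.toMatrix b b (endOf x) i j ∈ F₀) :
    ∃ Q : Matrix.SpecialLinearGroup (Fin n) F,
      Q⁻¹ * x * Q ∈ (Geo.subfieldSubgroup F₀ 1).comap SpecialLinearGroup.toGL := by
  obtain ⟨e, P, hP⟩ := exists_gl_of_basis x b
  refine exists_sl_conj _ x hx P (mem_subfield_of F₀ _ hμ fun i j => ?_)
  rw [hP]
  exact h _ _

/-- The index in odd characteristic is odd for odd degree. -/
theorem odd_index_subfield {k q₀ : ℕ} (hk : Odd k) (hF₀ : Nat.card F₀ = q₀)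
    (hqk : Fintype.card F = q₀ ^ k) (hodd : Odd q₀) :
    Odd ((Geo.subfieldSubgroup F₀ 1).comap
      (Matrix.SpecialLinearGroup.toGL : Matrix.SpecialLinearGroup (Fin n) F →* GL (Fin n) F)).index := by
  classical
  set S := (Matrix.SpecialLinearGroup.map (n := Fin n) (F₀.subtype : F₀ →+* F)).range with hS
  have hle : S ≤ (Geo.subfieldSubgroup F₀ 1).comap
      (Matrix.SpecialLinearGroup.toGL : Matrix.SpecialLinearGroup (Fin n) F →* GL (Fin n) F) := by
    rintro _ ⟨Y, rfl⟩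
    refine mem_subfield_of F₀ _ one_ne_zero fun i j => ?_
    rw [inv_one, one_mul]
    exact (Y.1 i j).2
  have hinj : Function.Injective (Matrix.SpecialLinearGroup.map (n := Fin n) (F₀.subtype : F₀ →+* F)) := by
    intro A B hAB
    refine Subtype.ext (Matrix.ext fun i j => F₀.subtype.injective ?_)
    exact congrArg (fun M : Matrix.SpecialLinearGroup (Fin n) F => M.1 i j) hAB
  have hcard : Nat.card S = Nat.card (Matrix.SpecialLinearGroup (Fin n) F₀) :=
    (Nat.card_congr (MonoidHom.ofInjective hinj).toEquiv).symm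
  have : Fintype F₀ := Fintype.ofFinite _
  have hc0 : Fintype.card F₀ = q₀ := by rw [← hF₀, Nat.card_eq_fintype_card]
  set R := (q₀ ^ (n * (n - 1) / 2)) ^ (k - 1) *
    ∏ i ∈ Finset.Ico 2 (n + 1), ∑ j ∈ Finset.range k, (q₀ ^ i) ^ j with hR
  have hgeom : ∀ x : ℕ, 1 ≤ x → (∑ j ∈ Finset.range k, x ^ j) * (x - 1) = x ^ k - 1 := by
    intro x hx
    zify [hx, Nat.one_le_pow k x hx]
    exact geom_sum_mul _ k
  have hmul : Nat.card (Matrix.SpecialLinearGroup (Fin n) F) =
      Nat.card (Matrix.SpecialLinearGroup (Fin n) F₀) * R := by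
    rw [GL.card_SL_prod, GL.card_SL_prod, hc0, hqk, hR, mul_mul_mul_comm, ← Finset.prod_mul_distrib]
    congr 1
    · rw [← pow_succ', Nat.sub_add_cancel hk.pos, ← pow_mul, ← pow_mul, mul_comm]
    · refine Finset.prod_congr rfl fun i _ => ?_
      rw [mul_comm, hgeom _ (Nat.one_le_pow _ _ hodd.pos), ← pow_mul, ← pow_mul, mul_comm]
  have hidx : S.index = R := by
    have h1 := Subgroup.card_mul_index S
    rw [hcard, hmul] at h1
    exact Nat.eq_of_mul_eq_mul_left Nat.card_pos h1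
  have hRodd : Odd R := by
    refine (hodd.pow.pow).mul ?_
    refine Finset.prod_induction _ Odd (fun _ _ => Odd.mul) odd_one fun i _ => ?_
    rw [Finset.odd_sum_iff_odd_card_odd, Finset.filter_true_of_mem (fun j _ => hodd.pow.pow),
      Finset.card_range]
    exact hk
  exact hRodd.of_dvd_nat (hidx ▸ Subgroup.index_dvd_of_le hle)

theorem isSquare_of_mem {q₀ : ℕ} (hF₀ : Nat.card F₀ = q₀) (hq : Fintype.card F = q₀ ^ 2) (hodd : Odd q₀)
    {u : F} (hu : u ∈ F₀) : IsSquare u := by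
  rcases eq_or_ne u 0 with rfl | hu0
  · exact IsSquare.zero
  have : Fintype F₀ := Fintype.ofFinite _
  have h1 : u ^ (q₀ - 1) = 1 := by
    have := congrArg Subtype.val (FiniteField.pow_card_sub_one_eq_one (⟨u, hu⟩ : F₀) (by simpa [Subtype.ext_iff] using hu0))
    rwa [← Nat.card_eq_fintype_card, hF₀] at this
  have hchar : ringChar F ≠ 2 := fun h => by
    have := FiniteField.even_card_of_char_two h
    obtain ⟨r, hr⟩ := hodd.pow (n := 2)
    omega
  rw [FiniteField.isSquare_iff hchar hu0, hq]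
  obtain ⟨r, rfl⟩ := hodd
  rw [show (2 * r + 1) ^ 2 / 2 = (2 * r + 1 - 1) * (r + 1) by
    rw [show (2 * r + 1) ^ 2 = 2 * (2 * r * (r + 1)) + 1 by ring, show 2 * r + 1 - 1 = 2 * r by omega]
    omega, pow_mul, h1, one_pow]

end Cfsg.Agent.Elusive
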