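import Cfsg.Agent.Lib.Elusive.SympDecompositions
import Cfsg.Prelude.Def_GeometricClasses

/-!
The symplectic group on orthogonal decompositions into non-degenerate subspaces of equal dimension, and witnesses
of prime order in the symplectic group with prescribed fixed space.
-/

set_option autoImplicit false
set_option linter.unusedSectionVars false
set_option linter.style.haveILetI false

namespace Cfsg.Agent.Elusive.SympDecomp

open Module
open Forms (sympB sympB_apply sympB_isAlt sympB_nondegenerate)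

variable {F : Type*} [Field F] [Fintype F] {d : ℕ} {r : ℕ} [Fact r.Prime]

/-- Orthogonal decompositions into non-degenerate subspaces of dimension `a`. -/
def IsOrth {t : ℕ} (a : ℕ) (D : Fin t → Submodule F (Fin d ⊕ Fin d → F)) : Prop :=
  Cfsg.Geo.IsMDecomposition a D ∧ (∀ j, ∀ u ∈ D j, u ≠ 0 → ∃ v ∈ D j, Cfsg.sympForm d F u v ≠ 0) ∧
    (∀ j j', j ≠ j' → ∀ u ∈ D j, ∀ v ∈ D j', Cfsg.sympForm d F u v = 0)

/-- A symplectic matrix as an endomorphism. -/
noncomputable def spEnd : Matrix.symplecticGroup (Fin d) F →* Module.End F (Fin d ⊕ Fin d → F) where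
  toFun x := Matrix.toLin' (x : Matrix (Fin d ⊕ Fin d) (Fin d ⊕ Fin d) F)
  map_one' := Matrix.toLin'_one
  map_mul' x y := Matrix.toLin'_mul _ _

theorem spEnd_apply (x : Matrix.symplecticGroup (Fin d) F) (v : Fin d ⊕ Fin d → F) :
    spEnd x v = (x : Matrix (Fin d ⊕ Fin d) (Fin d ⊕ Fin d) F).mulVec v :=
  Matrix.toLin'_apply _ v

theorem spEnd_isom (x : Matrix.symplecticGroup (Fin d) F) (u v : Fin d ⊕ Fin d → F) :
    sympB d F (spEnd x u) (spEnd x v) = sympB d F u v := by
  rw [sympB_apply, sympB_apply, spEnd_apply, spEnd_apply]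
  exact Forms.mem_symplecticGroup_iff_form.1 x.2 u v

theorem spEnd_injective (x : Matrix.symplecticGroup (Fin d) F) : Function.Injective (spEnd x) := by
  intro u w h
  have := congrArg (spEnd x⁻¹) h
  simpa [← Module.End.mul_apply, ← map_mul] using this

theorem nd_of_isOrth {t a : ℕ} {D : Fin t → Submodule F (Fin d ⊕ Fin d → F)} (hD : IsOrth a D) (j : Fin t) :
    Nd (sympB d F) (D j) := fun u hu h0 => by
  simpa only [sympB_apply] using hD.2.1 j u hu h0

theorem nd_top : Nd (sympB d F) (⊤ : Submodule F (Fin d ⊕ Fin d → F)) := fun u _ hu => by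
  by_contra! h
  exact hu ((sympB_nondegenerate d).1 u fun y => h y trivial)

theorem finrank_top_eq : finrank F (⊤ : Submodule F (Fin d ⊕ Fin d → F)) = 2 * d := by
  rw [finrank_top, Module.finrank_fintype_fun_eq_card, Fintype.card_sum, Fintype.card_fin, two_mul]

theorem exists_isOrth (hr : (r : F) ≠ 0) (hr2 : r ≠ 2) (hi : 0 < orderOf (Fintype.card F : ZMod r)) {a t : ℕ}
    (hat : 2 * d = a * t) (ha : 1 ≤ a) (hae : Even a) (ht : 2 ≤ t) :
    ∃ D : Fin t → Submodule F (Fin d ⊕ Fin d → F), IsOrth a D := by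
  obtain ⟨D, hD, horth, hsup⟩ := exists_family (f := 1) (sympB_isAlt d) (fun _ _ => rfl) hr (one_pow r) hr2 hi
    hae t ⊤ (fun _ _ => trivial) nd_top (by rw [finrank_top_eq, hat, mul_comm]) (by
      rw [sub_self, LinearMap.ker_zero, top_inf_eq, finrank_top_eq, hat, mul_comm a t]
      exact Nat.mul_le_mul_left t (Nat.mod_le _ _))
  exact ⟨D, ⟨ht, ha, fun l => (hD l).2.2.2, indep_of_orth (fun l => (hD l).2.2.1) horth, hsup⟩,
    fun j u hu h0 => by simpa only [sympB_apply] using (hD j).2.2.1 u hu h0,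
    fun j j' hjj u hu v hv => by simpa only [sympB_apply] using horth j j' hjj u hu v hv⟩

/-- A basis adapted to a decomposition, with a Gram matrix depending only on `a` and `t`. -/
theorem exists_adapted {t a h : ℕ} (hah : a = h + h) {D : Fin t → Submodule F (Fin d ⊕ Fin d → F)}
    (hD : IsOrth a D) :
    ∃ v : Fin t × (Fin h ⊕ Fin h) → (Fin d ⊕ Fin d → F), LinearIndependent F v ∧
      (∀ i, v i ∈ D i.1) ∧ (∀ j, D j ≤ Submodule.span F (Set.range fun k => v (j, k))) ∧
      ∀ i i', Cfsg.sympForm d F (v i) (v i') =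
        if i.1 = i'.1 then Cfsg.sympForm h F (Pi.single i'.2 1) (Pi.single i.2 1) else 0 := by
  classical
  have key : ∀ j, ∃ e : D j ≃ₗ[F] (Fin h ⊕ Fin h → F), ∀ u v : D j,
      Cfsg.sympForm d F u.1 v.1 = Cfsg.sympForm h F (e v) (e u) := fun j => by
    obtain ⟨m, e, hm, he⟩ := Forms.SympTwo.exists_alt_equiv
      (β := (sympB d F).compl₁₂ (D j).subtype (D j).subtype) (fun u => sympB_isAlt d u.1) fun u hu => by
        by_contra hne
        obtain ⟨w, hw, huw⟩ := nd_of_isOrth hD j u u.2 (fun h => hne (Subtype.ext h))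
        exact huw (hu ⟨w, hw⟩)
    obtain rfl : m = h := by
      rw [hD.1.finrank_eq] at hm
      omega
    exact ⟨e, fun u v => by rw [← he u v, ← sympB_apply]; rfl⟩
  choose e he using key
  let v : Fin t × (Fin h ⊕ Fin h) → (Fin d ⊕ Fin d → F) := fun i => ((e i.1).symm (Pi.single i.2 1) : D i.1).1
  have hint := DirectSum.isInternal_submodule_of_iSupIndep_of_iSup_eq_top hD.1.indep hD.1.iSup_eq_top
  let b := hint.collectedBasis fun j => (Pi.basisFun F (Fin h ⊕ Fin h)).map (e j).symm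
  have hv : v = b ∘ (Equiv.sigmaEquivProd (Fin t) (Fin h ⊕ Fin h)).symm := funext fun ⟨j, k⟩ => by
    show _ = b ⟨j, k⟩
    simp [v, b]
  refine ⟨v, hv ▸ b.linearIndependent.comp _ (Equiv.injective _), fun i => SetLike.coe_mem _, fun j w hw => ?_,
    fun i i' => ?_⟩
  · have hs := congrArg Subtype.val (((Pi.basisFun F (Fin h ⊕ Fin h)).map (e j).symm).sum_repr ⟨w, hw⟩)
    rw [Submodule.coe_sum] at hs
    rw [show w = _ from hs.symm]
    exact Submodule.sum_mem _ fun k _ =>
      Submodule.smul_mem _ _ (Submodule.subset_span ⟨k, by simp [v]⟩)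
  · obtain ⟨j, k⟩ := i
    obtain ⟨j', k'⟩ := i'
    by_cases hj : j = j'
    · subst hj
      rw [if_pos rfl, he j, LinearEquiv.apply_symm_apply, LinearEquiv.apply_symm_apply]
    · rw [if_neg hj]
      exact hD.2.2 j j' hj _ (SetLike.coe_mem _) _ (SetLike.coe_mem _)

theorem isOrth_map {t a : ℕ} {D : Fin t → Submodule F (Fin d ⊕ Fin d → F)} (hD : IsOrth a D)
    (g : Matrix.symplecticGroup (Fin d) F) : IsOrth a fun l => (D l).map (spEnd g) := by
  let G := LinearEquiv.ofBijective (spEnd g)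
    ⟨spEnd_injective g, LinearMap.surjective_of_injective (spEnd_injective g)⟩
  have hG : G.toLinearMap = spEnd g := LinearMap.ext fun _ => rfl
  refine ⟨⟨hD.1.two_le, hD.1.pos, fun i => ?_, ?_, ?_⟩, fun j u hu h0 => ?_, fun j j' hjj u hu v hv => ?_⟩
  · rw [← hG, LinearEquiv.finrank_map_eq, hD.1.finrank_eq]
  · exact hD.1.indep.map_orderIso (Submodule.orderIsoMapComap G)
  · rw [← Submodule.map_iSup, hD.1.iSup_eq_top, Submodule.map_top, ← hG, LinearEquiv.range]
  · obtain ⟨u, hu, rfl⟩ := hu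
    obtain ⟨v, hv, huv⟩ := hD.2.1 j u hu (fun h => h0 (by rw [h, map_zero]))
    refine ⟨_, ⟨v, hv, rfl⟩, ?_⟩
    rwa [← sympB_apply, spEnd_isom, sympB_apply]
  · obtain ⟨u, hu, rfl⟩ := hu
    obtain ⟨v, hv, rfl⟩ := hv
    rw [← sympB_apply, spEnd_isom, sympB_apply]
    exact hD.2.2 j j' hjj u hu v hv

/-- The number of unordered decompositions divides the order of the symplectic group. -/
theorem dvd_card_sp (hr : (r : F) ≠ 0) (hr2 : r ≠ 2) (hi : 0 < orderOf (Fintype.card F : ZMod r)) {a t : ℕ}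
    (hat : 2 * d = a * t) (ha : 1 ≤ a) (hae : Even a) (ht : 2 ≤ t)
    (hΩ : r ∣ Nat.card {D : Fin t → Submodule F (Fin d ⊕ Fin d → F) // IsOrth a D} / Nat.factorial t) :
    r ∣ Nat.card (Matrix.symplecticGroup (Fin d) F) := by
  classical
  set X := {D : Fin t → Submodule F (Fin d ⊕ Fin d → F) // IsOrth a D}
  haveI : Finite X := Subtype.finite
  have hfree : Nat.factorial t ∣ Nat.card X := by
    letI : MulAction (Equiv.Perm (Fin t)) X :=
      { smul := fun π D => ⟨D.1 ∘ π.symm, ⟨ht, ha, fun i => D.2.1.finrank_eq _,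
          D.2.1.indep.comp π.symm.injective,
          by rw [Function.comp_def, π.symm.surjective.iSup_comp D.1]; exact D.2.1.iSup_eq_top⟩,
          fun i => D.2.2.1 _, fun i i' h => D.2.2.2 _ _ (π.symm.injective.ne h)⟩
        one_smul := fun D => rfl
        mul_smul := fun π π' D => rfl }
    have hst : ∀ D : X, MulAction.stabilizer (Equiv.Perm (Fin t)) D = ⊥ := fun D => by
      rw [Subgroup.eq_bot_iff_forall]
      intro π hπ
      refine Equiv.ext fun i => by_contra fun hne' => ?_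
      have hne : π i ≠ i := hne'
      have h := congrFun (congrArg Subtype.val hπ) (π i)
      change D.1 (π.symm (π i)) = D.1 (π i) at h
      rw [π.symm_apply_apply] at h
      have hd := D.2.1.indep.pairwiseDisjoint hne
      rw [Function.onFun, ← h, disjoint_self] at hd
      have := D.2.1.finrank_eq i
      rw [hd, finrank_bot] at this
      omega
    haveI := Fintype.ofFinite (Quotient (MulAction.orbitRel (Equiv.Perm (Fin t)) X))
    rw [Nat.card_congr (MulAction.selfEquivSigmaOrbitsQuotientStabilizer (Equiv.Perm (Fin t)) X), Nat.card_sigma]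
    refine Finset.dvd_sum fun o _ => ?_
    rw [hst, ← Subgroup.index_eq_card, Subgroup.index_bot, Nat.card_eq_fintype_card, Fintype.card_perm,
      Fintype.card_fin]
  refine (hΩ.trans (Nat.div_dvd_of_dvd hfree)).trans ?_
  obtain ⟨D₀, hD₀⟩ := exists_isOrth (F := F) hr hr2 hi hat ha hae ht
  letI : MulAction (Matrix.symplecticGroup (Fin d) F) (Fin t → Submodule F (Fin d ⊕ Fin d → F)) :=
    { smul := fun g D l => (D l).map (spEnd g)
      one_smul := fun D => funext fun l => by
        show (D l).map (spEnd 1) = D l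
        rw [map_one]; exact Submodule.map_id _
      mul_smul := fun g g' D => funext fun l => by
        show (D l).map (spEnd (g * g')) = ((D l).map (spEnd g')).map (spEnd g)
        rw [map_mul]; exact Submodule.map_comp (spEnd g') (spEnd g) _ }
  obtain ⟨h, hah⟩ := hae
  have horb : MulAction.orbit (Matrix.symplecticGroup (Fin d) F) D₀ = {D | IsOrth a D} := by
    ext D
    constructor
    · rintro ⟨g, rfl⟩
      exact isOrth_map hD₀ g
    · intro hD
      obtain ⟨v, hv, -, hvspan, hvg⟩ := exists_adapted hah hD₀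
      obtain ⟨w, hw, hwmem, -, hwg⟩ := exists_adapted hah hD
      obtain ⟨A, hA⟩ := Forms.exists_symplectic_map hv hw fun i j => by rw [hvg, hwg]
      refine ⟨A, funext fun l => ?_⟩
      show (D₀ l).map (spEnd A) = D l
      refine Submodule.eq_of_le_of_finrank_eq ?_ ?_
      · refine (Submodule.map_mono (hvspan l)).trans ?_
        rw [Submodule.map_span_le]
        rintro _ ⟨k, rfl⟩
        rw [spEnd_apply, hA]
        exact hwmem (l, k)
      · rw [← (Submodule.equivMapOfInjective _ (spEnd_injective A) (D₀ l)).finrank_eq, hD₀.1.finrank_eq,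
          hD.1.finrank_eq]
  have hX : Nat.card X = Nat.card (MulAction.orbit (Matrix.symplecticGroup (Fin d) F) D₀) := by
    rw [horb]; rfl
  rw [hX, Nat.card_congr (MulAction.orbitEquivQuotientStabilizer _ _)]
  exact Subgroup.card_quotient_dvd_card _

/-- An element of order `r` moves a multiple of `blockDim` dimensions. -/
theorem exists_of_dvd_card (hr : (r : F) ≠ 0) (hd : r ∣ Nat.card (Matrix.symplecticGroup (Fin d) F)) :
    ∃ (x : Matrix.symplecticGroup (Fin d) F) (b : ℕ), x ^ r = 1 ∧ 0 < b ∧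
      2 * d = finrank F (LinearMap.ker (spEnd x - 1)) + b * blockDim (Fintype.card F) r := by
  obtain ⟨x, hx⟩ := exists_prime_orderOf_dvd_card' r hd
  have hxr : x ^ r = 1 := by rw [← hx]; exact pow_orderOf_eq_one x
  obtain ⟨b, hb⟩ := dim_symp (f := spEnd x) (sympB_isAlt d) (spEnd_isom x) hr (by rw [← map_pow, hxr, map_one])
    (S := ⊤) (fun _ _ => trivial) nd_top
  rw [finrank_top_eq, inf_top_eq] at hb
  refine ⟨x, b, hxr, Nat.pos_of_ne_zero fun h0 => ?_, hb⟩
  rw [h0, zero_mul, add_zero] at hb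
  have htop : LinearMap.ker (spEnd x - 1) = ⊤ := Submodule.eq_top_of_finrank_eq (by
    rw [← hb, ← finrank_top_eq (F := F) (d := d), finrank_top])
  have h1 : spEnd x = 1 := sub_eq_zero.1 (LinearMap.ker_eq_top.1 htop)
  have hx1 : x = 1 := Subtype.ext (Matrix.toLin'.injective (h1.trans Matrix.toLin'_one.symm))
  rw [hx1, orderOf_one] at hx
  exact (Fact.out : r.Prime).one_lt.ne hx

theorem finrank_prod_submodule {M N : Type*} [AddCommGroup M] [Module F M] [FiniteDimensional F M] [AddCommGroup N]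
    [Module F N] [FiniteDimensional F N] (p : Submodule F M) (q : Submodule F N) :
    finrank F ↥(p.prod q) = finrank F p + finrank F q := by
  let E : ↥(p.prod q) ≃ₗ[F] p × q :=
    { toFun := fun x => (⟨x.1.1, x.2.1⟩, ⟨x.1.2, x.2.2⟩)
      map_add' := fun _ _ => rfl
      map_smul' := fun _ _ => rfl
      invFun := fun y => ⟨(y.1, y.2), y.1.2, y.2.2⟩
      left_inv := fun _ => rfl
      right_inv := fun _ => rfl }
  rw [E.finrank_eq, Module.finrank_prod]

theorem fix_sympBlock {d₁ d₂ n : ℕ} (h : d₁ + d₂ = n)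
    (A₁ : Matrix (Fin d₁ ⊕ Fin d₁) (Fin d₁ ⊕ Fin d₁) F) (A₂ : Matrix (Fin d₂ ⊕ Fin d₂) (Fin d₂ ⊕ Fin d₂) F) :
    finrank F (LinearMap.ker (Matrix.toLin' (GL.sympBlock h (A₁, A₂)) - 1)) =
      finrank F (LinearMap.ker (Matrix.toLin' A₁ - 1)) + finrank F (LinearMap.ker (Matrix.toLin' A₂ - 1)) := by
  let Φ := (LinearEquiv.funCongrLeft F F (GL.sympBlockEquiv h)).trans
    (LinearEquiv.sumArrowLequivProdArrow (Fin d₁ ⊕ Fin d₁) (Fin d₂ ⊕ Fin d₂) F F)
  set g₁ := Matrix.toLin' A₁ - 1 with hg₁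
  set g₂ := Matrix.toLin' A₂ - 1 with hg₂
  have key : ∀ w, Φ ((Matrix.toLin' (GL.sympBlock h (A₁, A₂)) - 1) w) = (g₁.prodMap g₂) (Φ w) := fun w => by
    have e : ∀ i, (GL.sympBlock h (A₁, A₂)).mulVec w (GL.sympBlockEquiv h i) =
        (Matrix.fromBlocks A₁ 0 0 A₂).mulVec (w ∘ GL.sympBlockEquiv h) i := fun i => by
      change ((Matrix.fromBlocks A₁ 0 0 A₂).submatrix (GL.sympBlockEquiv h).symm
        (GL.sympBlockEquiv h).symm).mulVec w (GL.sympBlockEquiv h i) = _
      rw [Matrix.submatrix_mulVec_equiv]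
      simp
    refine Prod.ext (funext fun i => ?_) (funext fun i => ?_) <;>
      simp [Φ, g₁, g₂, LinearEquiv.funCongrLeft_apply, e, Matrix.fromBlocks_mulVec, Function.comp_def] <;> rfl
  have hker : LinearMap.ker (Matrix.toLin' (GL.sympBlock h (A₁, A₂)) - 1) =
      (LinearMap.ker (g₁.prodMap g₂)).comap Φ.toLinearMap := by
    ext w
    rw [Submodule.mem_comap, LinearMap.mem_ker, LinearMap.mem_ker, LinearEquiv.coe_coe, ← key, map_eq_zero_iff _
      Φ.injective]
  rw [hker, Submodule.comap_equiv_eq_map_symm, LinearEquiv.finrank_map_eq, LinearMap.ker_prodMap,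
    finrank_prod_submodule]

/-- A fixed-point-free element of order `r` on `M` blocks. -/
theorem exists_block_power {e : ℕ} (T : Matrix (Fin e ⊕ Fin e) (Fin e ⊕ Fin e) F)
    (hT : GL.Preserves (Cfsg.sympForm e F) T) (hTr : T ^ r = 1)
    (hfix : finrank F (LinearMap.ker (Matrix.toLin' T - 1)) = 0) :
    ∀ M : ℕ, ∃ A : Matrix (Fin (e * M) ⊕ Fin (e * M)) (Fin (e * M) ⊕ Fin (e * M)) F,
      GL.Preserves (Cfsg.sympForm (e * M) F) A ∧ A ^ r = 1 ∧
        finrank F (LinearMap.ker (Matrix.toLin' A - 1)) = 0 := by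
  intro M
  induction M with
  | zero =>
    refine ⟨1, (fun u v => by rw [Matrix.one_mulVec, Matrix.one_mulVec]), one_pow r, ?_⟩
    rw [Matrix.toLin'_one]
    exact Nat.eq_zero_of_le_zero ((Submodule.finrank_le _).trans (by simp))
  | succ M ih =>
    obtain ⟨A, hA, hAr, hA0⟩ := ih
    exact ⟨GL.sympBlock (Nat.mul_succ e M).symm (A, T), GL.preserves_sympBlock _ hA hT,
      by rw [← map_pow, Prod.pow_mk, hAr, hTr, Prod.mk_one_one, map_one],
      by rw [fix_sympBlock, hA0, hfix]⟩

/-- An element moving exactly `M` blocks. -/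
theorem exists_witness (hr : (r : F) ≠ 0) {e : ℕ} (he : blockDim (Fintype.card F) r = e + e) (he0 : 0 < e)
    {M : ℕ} (hM : e * M ≤ d) :
    ∃ x : Matrix.symplecticGroup (Fin d) F, x ^ r = 1 ∧
      finrank F (LinearMap.ker (spEnd x - 1)) = 2 * (d - e * M) := by
  have hdvd : r ∣ Nat.card (Matrix.symplecticGroup (Fin e) F) := by
    rw [Forms.card_symplecticGroup]
    have hmem : e - 1 ∈ Finset.range e := Finset.mem_range.2 (by omega)
    have h1 := Finset.dvd_prod_of_mem (fun i => Fintype.card F ^ (2 * (i + 1)) - 1) hmem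
    refine Dvd.dvd.mul_left (Dvd.dvd.trans ?_ h1) _
    show r ∣ Fintype.card F ^ (2 * (e - 1 + 1)) - 1
    rw [Nat.sub_add_cancel he0, two_mul, ← he, ← ZMod.natCast_eq_zero_iff,
      Nat.cast_sub (Nat.one_le_pow _ _ Fintype.card_pos), Nat.cast_pow, Nat.cast_one, sub_eq_zero,
      ← orderOf_dvd_iff_pow_eq_one]
    exact order_dvd_blockDim _ _
  obtain ⟨T, b, hTr, hb, hdim⟩ := exists_of_dvd_card hr hdvd
  have hfix : finrank F (LinearMap.ker (spEnd T - 1)) = 0 := by
    have := Nat.le_mul_of_pos_left (blockDim (Fintype.card F) r) hb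
    omega
  have hT : GL.Preserves (Cfsg.sympForm e F) (T : Matrix (Fin e ⊕ Fin e) (Fin e ⊕ Fin e) F) := fun u v =>
    Forms.mem_symplecticGroup_iff_form.1 T.2 u v
  have hT1 : (T : Matrix (Fin e ⊕ Fin e) (Fin e ⊕ Fin e) F) ^ r = 1 := by
    rw [← SubmonoidClass.coe_pow, hTr]; rfl
  obtain ⟨A, hA, hAr, hA0⟩ := exists_block_power (T : Matrix (Fin e ⊕ Fin e) (Fin e ⊕ Fin e) F) hT hT1 hfix M
  have h : e * M + (d - e * M) = d := by omega
  have h1 : GL.Preserves (Cfsg.sympForm (d - e * M) F)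
      (1 : Matrix (Fin (d - e * M) ⊕ Fin (d - e * M)) (Fin (d - e * M) ⊕ Fin (d - e * M)) F) := fun u v => by
    rw [Matrix.one_mulVec, Matrix.one_mulVec]
  let B : Matrix (Fin d ⊕ Fin d) (Fin d ⊕ Fin d) F := GL.sympBlock h (A, 1)
  have hB : GL.Preserves (Cfsg.sympForm d F) B := GL.preserves_sympBlock h hA h1
  have hBr : B ^ r = 1 := by
    rw [← map_pow, Prod.pow_mk, hAr, one_pow, Prod.mk_one_one, map_one]
  have hBfix : finrank F (LinearMap.ker (Matrix.toLin' B - 1)) = 2 * (d - e * M) := by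
    rw [fix_sympBlock, hA0, zero_add, Matrix.toLin'_one, ← Module.End.one_eq_id, sub_self, LinearMap.ker_zero,
      finrank_top_eq]
  exact ⟨⟨B, Forms.mem_symplecticGroup_iff_form.2 hB⟩, Subtype.ext hBr, hBfix⟩

end Cfsg.Agent.Elusive.SympDecomp
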