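import Cfsg.Agent.Lib.Elusive.Decompositions
import Cfsg.Agent.Lib.Semisimple.Isometry
import Cfsg.Agent.Lib.Forms.SympTwo
import Cfsg.Agent.Lib.GL.SympOrders

/-!
Symplectic isometries of prime order and orthogonal decompositions into non-degenerate subspaces of equal
dimension.
-/

set_option autoImplicit false
set_option linter.unusedSectionVars false
set_option linter.style.haveILetI false

namespace Cfsg.Agent.Elusive.SympDecomp

open Polynomial Module

/-- The least dimension of a non-degenerate invariant subspace with no fixed vector. -/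
noncomputable def blockDim (q r : ℕ) : ℕ :=
  if Even (orderOf (q : ZMod r)) then orderOf (q : ZMod r) else 2 * orderOf (q : ZMod r)

theorem even_blockDim (q r : ℕ) : Even (blockDim q r) := by
  unfold blockDim
  split
  · assumption
  · exact even_two_mul _

theorem order_dvd_blockDim (q r : ℕ) : orderOf (q : ZMod r) ∣ blockDim q r := by
  unfold blockDim
  split
  · exact dvd_rfl
  · exact dvd_mul_left _ _

theorem blockDim_dvd {q r n : ℕ} (h1 : orderOf (q : ZMod r) ∣ n) (h2 : Even n) : blockDim q r ∣ n := by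
  unfold blockDim
  split
  · exact h1
  · exact Nat.Coprime.mul_dvd_of_dvd_of_dvd
      (Nat.coprime_two_left.2 (Nat.not_even_iff_odd.1 ‹_›)) (even_iff_two_dvd.1 h2) h1

section Orth

variable {F : Type*} [Field F] {V : Type*} [AddCommGroup V] [Module F V] [FiniteDimensional F V]
  {B : LinearMap.BilinForm F V} (hA : B.IsAlt)

/-- The form is non-degenerate on the subspace. -/
def Nd (B : LinearMap.BilinForm F V) (S : Submodule F V) : Prop := ∀ u ∈ S, u ≠ 0 → ∃ v ∈ S, B u v ≠ 0

theorem mem_orth {P : Submodule F V} {x : V} : x ∈ B.orthogonal P ↔ ∀ n ∈ P, B n x = 0 := Iff.rfl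

include hA in
theorem swap (u v : V) : B v u = -B u v := (LinearMap.IsAlt.neg hA u v).symm

include hA in
theorem nd_split {S P : Submodule F V} (hPS : P ≤ S) (hP : Nd B P) (hS : Nd B S) :
    Nd B (S ⊓ B.orthogonal P) ∧ P ⊔ S ⊓ B.orthogonal P = S ∧ P ⊓ (S ⊓ B.orthogonal P) = ⊥ := by
  let T : P →ₗ[F] Module.Dual F P := LinearMap.flip (B.compl₁₂ P.subtype P.subtype)
  have hT : ∀ u v : P, T u v = B v u := fun u v => rfl
  have hinj : Function.Injective T := (injective_iff_map_eq_zero T).2 fun u hu => by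
    by_contra hne
    obtain ⟨v, hv, huv⟩ := hP u u.2 (fun h => hne (Subtype.ext h))
    apply huv
    rw [swap hA v u, ← hT u ⟨v, hv⟩, hu]
    simp
  have hsurj := (LinearMap.injective_iff_surjective_of_finrank_eq_finrank Subspace.dual_finrank_eq.symm).1 hinj
  have hsup : P ⊔ S ⊓ B.orthogonal P = S := by
    refine le_antisymm (sup_le hPS inf_le_left) fun s hs => ?_
    obtain ⟨p, hp⟩ := hsurj ((B.flip s).comp P.subtype)
    rw [show s = (p : V) + (s - p) by abel]
    refine Submodule.add_mem_sup p.2 ⟨S.sub_mem hs (hPS p.2), mem_orth.2 fun n hn => ?_⟩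
    rw [map_sub, sub_eq_zero]
    exact (LinearMap.congr_fun hp ⟨n, hn⟩).symm
  refine ⟨fun u hu hu0 => ?_, hsup, ?_⟩
  · obtain ⟨v, hv, huv⟩ := hS u hu.1 hu0
    rw [← hsup] at hv
    obtain ⟨p, hp, x, hx, rfl⟩ := Submodule.mem_sup.1 hv
    refine ⟨x, hx, fun h => huv ?_⟩
    rw [map_add, h, swap hA p u, mem_orth.1 hu.2 p hp, neg_zero, add_zero]
  · refine (Submodule.eq_bot_iff _).2 fun u hu => ?_
    by_contra hne
    obtain ⟨v, hv, huv⟩ := hP u hu.1 hne
    exact huv (by rw [swap hA v u, mem_orth.1 hu.2.2 v hv, neg_zero])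

include hA in
theorem nd_split_finrank {S P : Submodule F V} (hPS : P ≤ S) (hP : Nd B P) (hS : Nd B S) :
    finrank F P + finrank F ↥(S ⊓ B.orthogonal P) = finrank F S := by
  obtain ⟨-, hsup, hinf⟩ := nd_split hA hPS hP hS
  have h := Submodule.finrank_sup_add_finrank_inf_eq P (S ⊓ B.orthogonal P)
  rw [hsup, hinf, finrank_bot] at h
  omega

include hA in
theorem nd_sup {P Q : Submodule F V} (hP : Nd B P) (hQ : Nd B Q) (horth : Q ≤ B.orthogonal P) :
    Nd B (P ⊔ Q) := by
  intro u hu hu0
  obtain ⟨p, hp, x, hx, rfl⟩ := Submodule.mem_sup.1 hu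
  by_cases hp0 : p = 0
  · subst hp0
    rw [zero_add] at hu0 ⊢
    obtain ⟨v, hv, h⟩ := hQ x hx hu0
    exact ⟨v, Submodule.mem_sup_right hv, h⟩
  · obtain ⟨v, hv, h⟩ := hP p hp hp0
    refine ⟨v, Submodule.mem_sup_left hv, ?_⟩
    rw [map_add, LinearMap.add_apply, swap hA v x, mem_orth.1 (horth hx) v hv, neg_zero, add_zero]
    exact h

include hA in
theorem nd_even {S : Submodule F V} (hS : Nd B S) : Even (finrank F S) :=
  Forms.SympTwo.even_finrank_of_isAlt (β := B.compl₁₂ S.subtype S.subtype) (fun u => hA u.1) fun u hu => by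
    by_contra hne
    obtain ⟨v, hv, huv⟩ := hS u u.2 (fun h => hne (Subtype.ext h))
    exact huv (hu ⟨v, hv⟩)

/-- Mutually orthogonal non-degenerate subspaces are independent. -/
theorem indep_of_orth {ι : Type*} {D : ι → Submodule F V} (hD : ∀ l, Nd B (D l))
    (horth : ∀ l l', l ≠ l' → ∀ u ∈ D l, ∀ v ∈ D l', B u v = 0) : iSupIndep D := by
  rw [iSupIndep_def]
  intro l
  have hle : (⨆ (j) (_ : j ≠ l), D j) ≤ B.orthogonal (D l) :=
    iSup₂_le fun j hj v hv n hn => horth l j (Ne.symm hj) n hn v hv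
  refine Submodule.disjoint_def.2 fun v hv hv' => ?_
  by_contra hne
  obtain ⟨w, hw, hvw⟩ := hD l v hv hne
  -- the pairing is reflexive on the two parts
  refine hvw ?_
  have : (⨆ (j) (_ : j ≠ l), D j) ≤ LinearMap.ker (B.flip w) :=
    iSup₂_le fun j hj u hu => horth j l hj u hu w hw
  exact this hv'

variable {f : End F V} {r : ℕ} (hf : ∀ u v, B (f u) (f v) = B u v)

include hf in
theorem inv_orth (hr : 0 < r) (hpow : f ^ r = 1) {P : Submodule F V} (hP : Inv f P) :
    Inv f (B.orthogonal P) := by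
  intro x hx
  refine mem_orth.2 fun n hn => ?_
  have hn' : ∀ k : ℕ, (f ^ k) n ∈ P := fun k => by
    induction k with
    | zero => simpa using hn
    | succ k ih => rw [pow_succ', Module.End.mul_apply]; exact hP _ ih
  have e : f ((f ^ (r - 1)) n) = n := by
    rw [← Module.End.mul_apply, ← pow_succ', Nat.sub_add_cancel hr, hpow]; rfl
  rw [← e, hf]
  exact mem_orth.1 hx _ (hn' _)

include hA hf in
/-- Non-degenerate invariant subspaces built from blocks. -/
theorem exists_nd_sub (hr : 0 < r) (hpow : f ^ r = 1) {S : Submodule F V} (hS : Inv f S) (hSn : Nd B S) {c : ℕ}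
    (hblock : ∀ T ≤ S, Inv f T → Nd B T → T ≠ ⊥ → ∃ U ≤ T, Inv f U ∧ Nd B U ∧ finrank F U = c) :
    ∀ j, j * c ≤ finrank F S → ∃ P ≤ S, Inv f P ∧ Nd B P ∧ finrank F P = j * c := by
  intro j
  induction j with
  | zero =>
    exact fun _ => ⟨⊥, bot_le, fun v hv => by rw [Submodule.mem_bot] at hv; simp [hv],
      fun u hu h => absurd ((Submodule.mem_bot F).1 hu) h, by simp⟩
  | succ j ih =>
    intro hj
    rw [Nat.succ_mul] at hj
    obtain ⟨P, hPS, hP, hPn, hPd⟩ := ih (by omega)
    rcases Nat.eq_zero_or_pos c with rfl | hc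
    · exact ⟨P, hPS, hP, hPn, by simpa using hPd⟩
    obtain ⟨hTn, hsup, hinf⟩ := nd_split hA hPS hPn hSn
    have hd := nd_split_finrank hA hPS hPn hSn
    obtain ⟨U, hUT, hU, hUn, hUd⟩ := hblock _ inf_le_left (hS.inf (inv_orth hf hr hpow hP)) hTn (fun h => by
      rw [h, finrank_bot] at hd; omega)
    refine ⟨P ⊔ U, sup_le hPS (hUT.trans inf_le_left), hP.sup hU, nd_sup hA hPn hUn (hUT.trans inf_le_right), ?_⟩
    have h := Submodule.finrank_sup_add_finrank_inf_eq P U
    rw [le_bot_iff.1 ((inf_le_inf_left P hUT).trans hinf.le), finrank_bot, hPd, hUd] at h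
    rw [Nat.succ_mul]
    omega

end Orth

section PrimeOrder

variable {F : Type*} [Field F] [Fintype F] {V : Type*} [AddCommGroup V] [Module F V] [FiniteDimensional F V]
  {B : LinearMap.BilinForm F V} (hA : B.IsAlt) {f : End F V} {r : ℕ} [Fact r.Prime]
  (hf : ∀ u v, B (f u) (f v) = B u v) (hr : (r : F) ≠ 0) (hpow : f ^ r = 1)

include hf in
theorem fixed_orth (w : V) {k : V} (hk : k ∈ LinearMap.ker (f - 1)) : B k ((f - 1) w) = 0 := by
  have hk' : f k = k := sub_eq_zero.1 (show (f - 1) k = 0 from hk)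
  rw [LinearMap.sub_apply, Module.End.one_apply, map_sub, sub_eq_zero]
  conv_lhs => rw [← hk', hf]

include hA hf hr hpow in
/-- The fixed and the moved part of a non-degenerate invariant subspace. -/
theorem split_fixed {S : Submodule F V} (hS : Inv f S) (hSn : Nd B S) :
    Nd B (LinearMap.ker (f - 1) ⊓ S) ∧ Nd B (S.map (f - 1)) ∧ S.map (f - 1) ≤ S ∧ Inv f (S.map (f - 1)) ∧
      finrank F ↥(LinearMap.ker (f - 1) ⊓ S) + finrank F (S.map (f - 1)) = finrank F S ∧
      blockDim (Fintype.card F) r ∣ finrank F (S.map (f - 1)) := by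
  set K := LinearMap.ker (f - 1) with hK
  have hM : S.map (f - 1) ≤ LinearMap.ker (aeval f (∑ j ∈ Finset.range r, X ^ j : F[X])) := by
    rintro _ ⟨w, -, rfl⟩
    exact LinearMap.congr_fun (Decomp.geom_mul_sub_one hpow) w
  have hS' : S.map (f - 1) ≤ S := by
    rintro _ ⟨w, hw, rfl⟩
    exact S.sub_mem (hS w hw) hw
  have hinv : Inv f (S.map (f - 1)) := by
    rintro _ ⟨w, hw, rfl⟩
    exact ⟨f w, hS w hw, by simp⟩
  have hd : finrank F ↥(K ⊓ S) + finrank F (S.map (f - 1)) = finrank F S := by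
    have h := LinearMap.finrank_range_add_finrank_ker ((f - 1).comp S.subtype)
    rw [LinearMap.range_comp, Submodule.range_subtype, LinearMap.ker_comp,
      LinearEquiv.finrank_eq (Submodule.equivMapOfInjective S.subtype S.injective_subtype
        (Submodule.comap S.subtype K)), Submodule.map_comap_subtype, inf_comm] at h
    omega
  have hdis : (K ⊓ S) ⊓ S.map (f - 1) = ⊥ :=
    le_bot_iff.1 ((inf_le_inf inf_le_left hM).trans (isCompl_parts hr hpow).inf_eq_bot.le)
  have hsup : (K ⊓ S) ⊔ S.map (f - 1) = S := by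
    refine Submodule.eq_of_le_of_finrank_eq (sup_le inf_le_right hS') ?_
    have h := Submodule.finrank_sup_add_finrank_inf_eq (K ⊓ S) (S.map (f - 1))
    rw [hdis, finrank_bot] at h
    omega
  have hn1 : Nd B (K ⊓ S) := fun u hu hu0 => by
    obtain ⟨v, hv, huv⟩ := hSn u hu.2 hu0
    rw [← hsup] at hv
    obtain ⟨k, hk, x, hx, rfl⟩ := Submodule.mem_sup.1 hv
    obtain ⟨w, -, rfl⟩ := hx
    refine ⟨k, hk, fun h => huv ?_⟩
    rw [map_add, h, fixed_orth hf w hu.1, add_zero]
  have hn2 : Nd B (S.map (f - 1)) := fun u hu hu0 => by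
    obtain ⟨v, hv, huv⟩ := hSn u (hS' hu) hu0
    rw [← hsup] at hv
    obtain ⟨k, hk, x, hx, rfl⟩ := Submodule.mem_sup.1 hv
    refine ⟨x, hx, fun h => huv ?_⟩
    obtain ⟨w, -, rfl⟩ := hu
    rw [map_add, h, swap hA k _, fixed_orth hf w hk.1, neg_zero, add_zero]
  exact ⟨hn1, hn2, hS', hinv, hd,
    blockDim_dvd (dvd_finrank (factorDeg_geom hr) hinv fun v hv => hM hv) (nd_even hA hn2)⟩

include hA hf hr hpow in
theorem dim_symp {S : Submodule F V} (hS : Inv f S) (hSn : Nd B S) :
    ∃ b, finrank F S = finrank F ↥(LinearMap.ker (f - 1) ⊓ S) + b * blockDim (Fintype.card F) r := by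
  obtain ⟨-, -, -, -, hd, b, hb⟩ := split_fixed hA hf hr hpow hS hSn
  exact ⟨b, by rw [mul_comm b, ← hb, hd]⟩

include hA in
/-- A non-degenerate plane of fixed vectors. -/
theorem exists_plane {T : Submodule F V} (hT : T ≤ LinearMap.ker (f - 1)) (hTn : Nd B T) (hne : T ≠ ⊥) :
    ∃ U ≤ T, Inv f U ∧ Nd B U ∧ finrank F U = 2 := by
  obtain ⟨u, hu, hu0⟩ := Submodule.exists_mem_ne_zero_of_ne_bot hne
  obtain ⟨v, hv, huv⟩ := hTn u hu hu0
  have hle : Submodule.span F {u, v} ≤ T := Submodule.span_le.2 (Set.insert_subset hu (Set.singleton_subset_iff.2 hv))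
  have hli : LinearIndependent F ![u, v] := by
    rw [LinearIndependent.pair_iff]
    intro s s' h
    have h1 : s * B u v = 0 := by
      have := congrArg (fun x => B x v) h
      simpa [hA.self_eq_zero v] using this
    have h2 : s' * B u v = 0 := by
      have := congrArg (fun x => B u x) h
      simpa [hA.self_eq_zero u] using this
    exact ⟨(mul_eq_zero.1 h1).resolve_right huv, (mul_eq_zero.1 h2).resolve_right huv⟩
  refine ⟨_, hle, fun x hx => ?_, fun x hx hx0 => ?_, ?_⟩
  · rw [sub_eq_zero.1 (show (f - 1) x = 0 from hT (hle hx))]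
    exact hx
  · obtain ⟨s, s', rfl⟩ := Submodule.mem_span_pair.1 hx
    by_cases hs : s = 0
    · refine ⟨u, Submodule.subset_span (Set.mem_insert _ _), fun h => hx0 ?_⟩
      simp only [hs, zero_smul, zero_add, map_smul, LinearMap.smul_apply, smul_eq_mul, swap hA u v, mul_neg,
        neg_eq_zero, mul_eq_zero, huv, or_false] at h
      simp [hs, h]
    · refine ⟨v, Submodule.subset_span (Set.mem_insert_of_mem _ rfl), ?_⟩
      simp [hA.self_eq_zero v, hs, huv]
  · have h := finrank_span_eq_card hli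
    rwa [Matrix.range_cons, Matrix.range_cons, Matrix.range_empty, Set.union_empty, Set.singleton_union,
      Fintype.card_fin] at h

include hA hf hr hpow in
/-- For an even multiplicative order some block is not totally isotropic. -/
theorem exists_nonisotropic (hr2 : r ≠ 2) {k : ℕ} (hk : orderOf (Fintype.card F : ZMod r) = k + k)
    {T : Submodule F V} (hT : Inv f T) (hTn : Nd B T) (hne : T ≠ ⊥)
    (hann : ∀ v ∈ T, aeval f (∑ j ∈ Finset.range r, X ^ j : F[X]) v = 0)
    (hiso : ∀ U ≤ T, Inv f U → finrank F U = orderOf (Fintype.card F : ZMod r) →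
      ∀ u ∈ U, ∀ v ∈ U, B u v = 0) : False := by
  classical
  have hr' := (Fact.out : r.Prime)
  have hpos : 0 < finrank F T := Nat.pos_of_ne_zero fun h0 => hne (Submodule.finrank_eq_zero.1 h0)
  obtain ⟨π, hπm, hπ, hd⟩ := Polynomial.exists_monic_irreducible_factor (f.restrict hT).charpoly (fun hu => by
    have := natDegree_eq_zero_of_isUnit hu
    rw [LinearMap.charpoly_natDegree] at this
    omega)
  obtain ⟨hπg, v, hvT, hv0, hv⟩ := factor_dvd hT hann hπ hd
  have hdeg : π.natDegree = k + k := (factorDeg_geom hr π hπ hπg).trans hk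
  set g : End F T := f.restrict hT
  let BT : LinearMap.BilinForm F T := B.compl₁₂ T.subtype T.subtype
  have key : ∀ (P : F[X]) (x : T), ((aeval g P x : T) : V) = aeval f P x := by
    intro P
    induction P using Polynomial.induction_on' with
    | add a b iha ihb => intro x; simp [iha, ihb]
    | monomial m a =>
      intro x
      simp only [aeval_monomial, Module.End.mul_apply, Module.algebraMap_end_apply, Submodule.coe_smul]
      congr 1
      rw [Module.End.pow_restrict]
      rfl
  have hH : Semisimple.IsHerm (RingHom.id F) (-1 : F) BT :=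
    ⟨fun x y => by show B y x = -1 * B x y; rw [swap hA (x : V) y]; ring, fun _ => rfl, fun x hx => by
      by_contra hne'
      obtain ⟨w, hw, hxw⟩ := hTn x x.2 (fun h => hne' (Subtype.ext h))
      exact hxw (hx ⟨w, hw⟩)⟩
  have hg : Semisimple.IsSSIsom (σ := RingHom.id F) BT g r :=
    ⟨fun x y => hf x y, LinearMap.ext fun x => Subtype.ext (by
      rw [Module.End.pow_restrict, LinearMap.restrict_coe_apply, hpow]; rfl), hr⟩
  haveI : Fact (Irreducible π) := ⟨hπ⟩
  haveI : Module.Finite F (AdjoinRoot π) := (AdjoinRoot.powerBasis' hπm).finite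
  haveI : Finite (AdjoinRoot π) := Module.finite_of_finite F
  set α := AdjoinRoot.root π with hα
  have hαr : α ^ r = 1 := by
    have h0 : AdjoinRoot.mk π (X ^ r - 1 : F[X]) = 0 :=
      AdjoinRoot.mk_eq_zero.2 ((geom_sum_mul (X : F[X]) r) ▸ hπg.mul_right _)
    simpa [sub_eq_zero] using h0
  have hα1 : α ≠ 1 := by
    intro h1
    have h0 : AdjoinRoot.mk π (X - 1 : F[X]) = 0 := by simp [← hα, h1]
    exact hπ.not_isUnit ((coprime_sub_one hr).isUnit_of_dvd' (AdjoinRoot.mk_eq_zero.1 h0) hπg)
  have hord : orderOf α = r := orderOf_eq_prime hαr hα1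
  have hqk : (Fintype.card F : ZMod r) ^ k = -1 := by
    have h1 : ((Fintype.card F : ZMod r) ^ k) * ((Fintype.card F : ZMod r) ^ k) = 1 := by
      rw [← pow_add, ← hk, pow_orderOf_eq_one]
    refine (mul_self_eq_one_iff.1 h1).resolve_left fun h => ?_
    have hk0 : 0 < k := by have := hπ.natDegree_pos; omega
    have := Nat.le_of_dvd hk0 (orderOf_dvd_of_pow_eq_one h)
    omega
  have hroot : aeval (α ^ (r - 1)) π = 0 := by
    have e : α ^ (r - 1) = α ^ (Fintype.card F ^ k) := by
      refine pow_eq_pow_of_modEq ?_ hαr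
      rw [← ZMod.natCast_eq_natCast_iff, Nat.cast_sub hr'.one_le, ZMod.natCast_self, Nat.cast_one, Nat.cast_pow,
        hqk, zero_sub]
    have h := Polynomial.aeval_algHom_apply ((FiniteField.frobeniusAlgHom F (AdjoinRoot π)) ^ k) α π
    rw [AdjoinRoot.aeval_eq π, AdjoinRoot.mk_self, map_zero, AlgHom.coe_pow, FiniteField.coe_frobeniusAlgHom,
      pow_iterate] at h
    rw [e]
    exact h
  have hdvd : π ∣ Semisimple.star (RingHom.id F) r π := by
    rw [← AdjoinRoot.mk_eq_zero, ← AdjoinRoot.aeval_eq, Semisimple.aeval_star, Polynomial.map_id]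
    exact hroot
  have hlift : π.eval₂ ((algebraMap F (AdjoinRoot π)).comp (RingHom.id F)) (α ^ (r - 1)) = 0 := by
    rw [RingHom.comp_id, ← aeval_def]
    exact hroot
  let J := AdjoinRoot.lift ((algebraMap F (AdjoinRoot π)).comp (RingHom.id F)) (α ^ (r - 1)) hlift
  have hJ : ∀ p, J (AdjoinRoot.mk π p) = AdjoinRoot.mk π (Semisimple.star (RingHom.id F) r p) := fun p => by
    rw [AdjoinRoot.lift_mk, ← AdjoinRoot.aeval_eq, Semisimple.aeval_star, aeval_def, eval₂_map]
  have hJne : ∃ x, J x ≠ x := by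
    refine ⟨α, fun h => ?_⟩
    have h' : α ^ (r - 1) = α := (AdjoinRoot.lift_root hlift).symm.trans h
    have hα0 : α ≠ 0 := fun h0 => by simp [h0, hr'.ne_zero] at hαr
    have h2 : α ^ (r - 2) = 1 := by
      refine mul_right_cancel₀ hα0 ?_
      rw [one_mul, ← pow_succ, show r - 2 + 1 = r - 1 by have := hr'.two_le; omega]
      exact h'
    have h2r := hr'.two_le
    have h3 := Nat.le_of_dvd (by omega) (hord ▸ orderOf_dvd_of_pow_eq_one h2)
    omega
  refine hg.not_all_isotropic hH hπ hdvd J hJ hJne (fun x hx p => ?_)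
    ⟨⟨v, hvT⟩, fun h => hv0 (congrArg Subtype.val h), Subtype.ext (by rw [key]; exact hv)⟩
  rcases eq_or_ne x 0 with rfl | hx0
  · simp
  have hxf : aeval f π (x : V) = 0 := by rw [← key, hx]; rfl
  obtain ⟨j, hj⟩ := Semisimple.exists_embed f hxf
  have hU : Inv f (LinearMap.range j) := by
    rintro _ ⟨y, rfl⟩
    exact ⟨_, (Semisimple.embed_root f j hj y).symm⟩
  have hUT : LinearMap.range j ≤ T := by
    rintro _ ⟨y, rfl⟩
    obtain ⟨P, rfl⟩ := AdjoinRoot.mk_surjective y
    rw [hj]
    exact hT.aeval_mem P _ x.2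
  have hinj : Function.Injective j :=
    Semisimple.embed_injective f hπ (fun h => hx0 (Subtype.ext h)) hxf j hj
  have hUd : finrank F (LinearMap.range j) = orderOf (Fintype.card F : ZMod r) := by
    rw [LinearMap.finrank_range_of_inj hinj, (AdjoinRoot.powerBasis' hπm).finrank, AdjoinRoot.powerBasis'_dim,
      hdeg, hk]
  have hx1 : j (AdjoinRoot.mk π 1) = x := by rw [hj, map_one]; rfl
  show B (x : V) ((aeval g p x : T) : V) = 0
  rw [key, ← hj p]
  exact hiso _ hUT hU hUd _ ⟨_, hx1⟩ _ ⟨_, rfl⟩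

include hA hf hr hpow in
/-- A non-degenerate block in the moved part. -/
theorem exists_moved_block (hr2 : r ≠ 2) (hi : 0 < orderOf (Fintype.card F : ZMod r)) {T : Submodule F V}
    (hT : Inv f T) (hTn : Nd B T) (hne : T ≠ ⊥)
    (hann : ∀ v ∈ T, aeval f (∑ j ∈ Finset.range r, X ^ j : F[X]) v = 0) :
    ∃ U ≤ T, Inv f U ∧ Nd B U ∧ finrank F U = blockDim (Fintype.card F) r := by
  set i := orderOf (Fintype.card F : ZMod r) with hidef
  have hdeg := factorDeg_geom (F := F) hr
  have hr' := (Fact.out : r.Prime)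
  -- an invariant block is totally isotropic or non-degenerate
  have hdich : ∀ U ≤ T, Inv f U → finrank F U = i → Nd B U ∨ ∀ u ∈ U, ∀ v ∈ U, B u v = 0 := by
    intro U hUT hU hUd
    set R := U ⊓ B.orthogonal U
    obtain ⟨b, hb⟩ := dvd_finrank hdeg (hU.inf (inv_orth hf hr'.pos hpow hU)) fun v hv => hann v (hUT hv.1)
    rcases Nat.eq_zero_or_pos b with rfl | hb0
    · refine Or.inl fun u hu hu0 => ?_
      by_contra! hall
      refine hu0 ((Submodule.mem_bot F).1 ?_)
      rw [← Submodule.finrank_eq_zero.1 (hb.trans (mul_zero _))]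
      exact ⟨hu, mem_orth.2 fun n hn => by rw [swap hA u n, hall n hn, neg_zero]⟩
    · refine Or.inr fun u hu v hv => ?_
      have hUR : R = U := Submodule.eq_of_le_of_finrank_le inf_le_left (by
        rw [hb, hUd]; exact Nat.le_mul_of_pos_right i hb0)
      rw [← hUR] at hv
      exact mem_orth.1 hv.2 u hu
  by_cases hnon : ∃ U ≤ T, Inv f U ∧ finrank F U = i ∧ Nd B U
  · obtain ⟨U, hUT, hU, hUd, hUn⟩ := hnon
    refine ⟨U, hUT, hU, hUn, ?_⟩
    rw [blockDim, if_pos (by rw [← hidef, ← hUd]; exact nd_even hA hUn), ← hidef, hUd]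
  push Not at hnon
  have hiso : ∀ U ≤ T, Inv f U → finrank F U = i → ∀ u ∈ U, ∀ v ∈ U, B u v = 0 := fun U h1 h2 h3 =>
    (hdich U h1 h2 h3).resolve_left (hnon U h1 h2 h3)
  by_cases heven : Even i
  · obtain ⟨k, hk⟩ := heven
    exact (exists_nonisotropic hA hf hr hpow hr2 hk hT hTn hne hann hiso).elim
  obtain ⟨U, hUT, hU, hUd⟩ := exists_block hdeg hT hann hne
  have hUiso := hiso U hUT hU hUd
  have hUn : U ≠ ⊥ := fun h => by rw [h, finrank_bot] at hUd; omega
  set R := T ⊓ B.orthogonal U
  obtain ⟨Q, hQ, hRQ⟩ := exists_compl (isSemisimple_of_pow hr hpow) (hT.inf (inv_orth hf hr'.pos hpow hU))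
  have hTQ : T ⊓ Q ≠ ⊥ := by
    intro h
    obtain ⟨u, hu, hu0⟩ := Submodule.exists_mem_ne_zero_of_ne_bot hUn
    obtain ⟨v, hv, huv⟩ := hTn u (hUT hu) hu0
    have hsup : R ⊔ T ⊓ Q = T := by
      rw [inf_comm T Q, ← sup_inf_assoc_of_le Q (inf_le_left : R ≤ T), hRQ.sup_eq_top, top_inf_eq]
    rw [h, sup_bot_eq] at hsup
    rw [← hsup] at hv
    exact huv (mem_orth.1 hv.2 u hu)
  obtain ⟨U', hU'le, hU', hU'd⟩ := exists_block hdeg (hT.inf hQ) (fun v hv => hann v hv.1) hTQ
  have hU'iso := hiso U' (hU'le.trans inf_le_left) hU' hU'd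
  have hU'R : U' ⊓ R = ⊥ :=
    le_bot_iff.1 ((inf_le_inf_right R (hU'le.trans inf_le_right)).trans (by rw [inf_comm]; exact hRQ.inf_eq_bot.le))
  have hUR : U ≤ R := fun u hu => ⟨hUT hu, mem_orth.2 fun n hn => hUiso n hn u hu⟩
  refine ⟨U ⊔ U', sup_le hUT (hU'le.trans inf_le_left), hU.sup hU', fun w hw hw0 => ?_, ?_⟩
  · obtain ⟨u, hu, u', hu', rfl⟩ := Submodule.mem_sup.1 hw
    by_cases hu'0 : u' = 0
    · subst hu'0
      rw [add_zero] at hw0 ⊢
      by_contra! hall
      -- `U` would be orthogonal to `U'`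
      obtain ⟨b, hb⟩ := dvd_finrank hdeg (hU.inf (inv_orth hf hr'.pos hpow hU')) fun v hv => hann v (hUT hv.1)
      have hmem : u ∈ U ⊓ B.orthogonal U' :=
        ⟨hu, mem_orth.2 fun n hn => by rw [swap hA u n, hall n (Submodule.mem_sup_right hn), neg_zero]⟩
      rcases Nat.eq_zero_or_pos b with rfl | hb0
      · rw [Submodule.finrank_eq_zero.1 (hb.trans (mul_zero _)), Submodule.mem_bot] at hmem
        exact hw0 hmem
      have hUle : U ⊓ B.orthogonal U' = U := Submodule.eq_of_le_of_finrank_le inf_le_left (by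
        rw [hb, hUd]; exact Nat.le_mul_of_pos_right i hb0)
      obtain ⟨x, hx, hx0⟩ := Submodule.exists_mem_ne_zero_of_ne_bot (p := U') (fun h => by
        rw [h, finrank_bot] at hU'd; omega)
      refine hx0 ((Submodule.mem_bot F).1 (hU'R ▸ ⟨hx, (hU'le hx).1, mem_orth.2 fun n hn => ?_⟩))
      rw [← hUle] at hn
      rw [swap hA x n, mem_orth.1 hn.2 x hx, neg_zero]
    · have : ∃ n ∈ U, B n u' ≠ 0 := by
        by_contra! hall
        exact hu'0 ((Submodule.mem_bot F).1 (hU'R ▸ ⟨hu', (hU'le hu').1, mem_orth.2 hall⟩))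
      obtain ⟨n, hn, hne'⟩ := this
      refine ⟨n, Submodule.mem_sup_left hn, ?_⟩
      rw [map_add, LinearMap.add_apply, hUiso u hu n hn, zero_add, swap hA n u']
      exact neg_ne_zero.2 hne'
  · have h := Submodule.finrank_sup_add_finrank_inf_eq U U'
    rw [le_bot_iff.1 ((inf_le_inf_right U' hUR).trans (by rw [inf_comm]; exact hU'R.le)), finrank_bot, hUd,
      hU'd] at h
    rw [blockDim, if_neg heven]
    omega

include hA hf hr hpow in
/-- Orthogonal invariant non-degenerate parts of dimension `a`. -/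
theorem exists_family (hr2 : r ≠ 2) (hi : 0 < orderOf (Fintype.card F : ZMod r)) {a : ℕ} (ha : Even a) :
    ∀ (t : ℕ) (S : Submodule F V), Inv f S → Nd B S → finrank F S = t * a →
      t * (a % blockDim (Fintype.card F) r) ≤ finrank F ↥(LinearMap.ker (f - 1) ⊓ S) →
      ∃ D : Fin t → Submodule F V, (∀ l, D l ≤ S ∧ Inv f (D l) ∧ Nd B (D l) ∧ finrank F (D l) = a) ∧
        (∀ l l', l ≠ l' → ∀ u ∈ D l, ∀ v ∈ D l', B u v = 0) ∧ ⨆ l, D l = S := by
  set c := blockDim (Fintype.card F) r with hc
  intro t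
  induction t with
  | zero =>
    intro S _ _ hS _
    exact ⟨fun l => l.elim0, fun l => l.elim0, fun l => l.elim0, by
      have h0 : finrank F S = 0 := by simpa using hS
      rw [iSup_of_empty, Submodule.finrank_eq_zero.1 h0]⟩
  | succ t ih =>
    intro S hS hSn hdim hfix
    obtain ⟨hKn, hMn, hMS, hMinv, hd, C, hC⟩ := split_fixed hA hf hr hpow hS hSn
    set K := LinearMap.ker (f - 1) with hK
    rw [← hc] at hC
    rw [hC] at hd
    have hr' := (Fact.out : r.Prime)
    have hKM : IsCompl K (LinearMap.ker (aeval f (∑ j ∈ Finset.range r, X ^ j : F[X]))) := isCompl_parts hr hpow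
    have hM : S.map (f - 1) ≤ LinearMap.ker (aeval f (∑ j ∈ Finset.range r, X ^ j : F[X])) := by
      rintro _ ⟨w, -, rfl⟩
      exact LinearMap.congr_fun (Decomp.geom_mul_sub_one hpow) w
    have hKinv : Inv f (K ⊓ S) := fun v hv => by
      rw [sub_eq_zero.1 (show (f - 1) v = 0 from hv.1)]; exact hv
    have hdm := Nat.mod_add_div a c
    rw [Nat.succ_mul] at hdim hfix
    have htl : t * (a % c) ≤ t * a := Nat.mul_le_mul_left t (Nat.mod_le a c)
    set w := min (a / c) C with hw
    have hwA : c * w ≤ c * (a / c) := Nat.mul_le_mul_left c (Nat.min_le_left _ _)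
    have hwC : c * w ≤ c * C := Nat.mul_le_mul_left c (Nat.min_le_right _ _)
    have hwcase : c * w = c * (a / c) ∨ c * w = c * C := by
      rcases le_total (a / c) C with h | h
      · exact Or.inl (by rw [hw, min_eq_left h])
      · exact Or.inr (by rw [hw, min_eq_right h])
    have hja : a - c * w ≤ finrank F ↥(K ⊓ S) ∧ t * (a % c) + (a - c * w) ≤ finrank F ↥(K ⊓ S) := by
      rcases hwcase with h | h <;> omega
    obtain ⟨j, hj⟩ : Even (a - c * w) := by
      obtain ⟨e, he⟩ := even_blockDim (Fintype.card F) r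
      obtain ⟨x, hx⟩ := ha
      rw [← hc] at he
      exact ⟨x - e * w, by rw [he, hx, add_mul]; omega⟩
    obtain ⟨P, hPle, hPinv, hPn, hPd⟩ := exists_nd_sub hA hf hr'.pos hpow hKinv hKn (c := 2)
      (fun T hT _ hTn hTne => exists_plane hA (hT.trans inf_le_left) hTn hTne) j (by omega)
    obtain ⟨Qw, hQle, hQinv, hQn, hQd⟩ := exists_nd_sub hA hf hr'.pos hpow hMinv hMn (c := c)
      (fun T hT hTi hTn hTne => exists_moved_block hA hf hr hpow hr2 hi hTi hTn hTne fun v hv => hM (hT hv))
      w (by rw [hC, mul_comm w]; exact hwC)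
    set U := P ⊔ Qw with hU
    have hPK : P ≤ K := hPle.trans inf_le_left
    have hQM := hQle.trans hM
    have hUn : Nd B U := nd_sup hA hPn hQn fun x hx => mem_orth.2 fun n hn => by
      obtain ⟨y, -, rfl⟩ := hQle hx
      exact fixed_orth hf y (hPK hn)
    have hUd : finrank F U = a := by
      have h := Submodule.finrank_sup_add_finrank_inf_eq P Qw
      rw [le_bot_iff.1 ((inf_le_inf hPK hQM).trans hKM.inf_eq_bot.le), finrank_bot, hPd, hQd, mul_comm w] at h
      rw [hU]; omega
    have hUS : U ≤ S := sup_le (hPle.trans inf_le_right) (hQle.trans hMS)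
    have hUinv : Inv f U := hPinv.sup hQinv
    have hKU : K ⊓ U = P := by
      rw [hU, inf_comm, sup_inf_assoc_of_le Qw hPK,
        le_bot_iff.1 ((inf_le_inf hQM le_rfl).trans (by rw [inf_comm]; exact hKM.inf_eq_bot.le)), sup_bot_eq]
    obtain ⟨hRn, hsup, hdis⟩ := nd_split hA hUS hUn hSn
    have hRinv : Inv f (S ⊓ B.orthogonal U) := hS.inf (inv_orth hf hr'.pos hpow hUinv)
    set R := S ⊓ B.orthogonal U with hR
    have hRd : finrank F R = t * a := by
      have h := nd_split_finrank hA hUS hUn hSn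
      rw [hUd] at h
      rw [hR]; omega
    have hRfix : t * (a % c) ≤ finrank F ↥(K ⊓ R) := by
      have hle : K ⊓ S ≤ (K ⊓ U) ⊔ (K ⊓ R) := by
        rintro v ⟨hvK, hvS⟩
        rw [← hsup] at hvS
        obtain ⟨u, hu, x, hx, rfl⟩ := Submodule.mem_sup.1 hvS
        have h0 : (f - 1) u + (f - 1) x = 0 := by rw [← map_add]; exact hvK
        have h1 : (f - 1) u ∈ U := U.sub_mem (hUinv u hu) hu
        have h2 : (f - 1) x ∈ R := R.sub_mem (hRinv x hx) hx
        have h3 : (f - 1) u = 0 := by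
          have : (f - 1) u ∈ U ⊓ R := ⟨h1, by rw [eq_neg_of_add_eq_zero_left h0]; exact R.neg_mem h2⟩
          rwa [hdis, Submodule.mem_bot] at this
        rw [h3, zero_add] at h0
        exact Submodule.add_mem_sup ⟨h3, hu⟩ ⟨h0, hx⟩
      have h := Submodule.finrank_mono hle
      have h' := Submodule.finrank_sup_add_finrank_inf_eq (K ⊓ U) (K ⊓ R)
      rw [hKU, hPd] at h'
      rw [hKU] at h
      omega
    obtain ⟨D, hD, horth, hDsup⟩ := ih R hRinv hRn hRd hRfix
    refine ⟨Fin.cons U D, fun l => ?_, fun l l' hll u hu v hv => ?_, ?_⟩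
    · induction l using Fin.cases with
      | zero => exact ⟨hUS, hUinv, hUn, hUd⟩
      | succ l => exact ⟨(hD l).1.trans inf_le_left, (hD l).2⟩
    · induction l using Fin.cases with
      | zero =>
        induction l' using Fin.cases with
        | zero => exact absurd rfl hll
        | succ l' => exact mem_orth.1 ((hD l').1 hv).2 u hu
      | succ l =>
        induction l' using Fin.cases with
        | zero =>
          rw [swap hA v u, mem_orth.1 ((hD l).1 hu).2 v hv, neg_zero]
        | succ l' => exact horth l l' (fun e => hll (e ▸ rfl)) u hu v hv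
    · conv_rhs => rw [← hsup, ← hDsup]
      refine le_antisymm (iSup_le fun l => ?_)
        (sup_le (le_iSup (Fin.cons U D : Fin (t + 1) → Submodule F V) 0)
          (iSup_le fun l => le_iSup (Fin.cons U D : Fin (t + 1) → Submodule F V) l.succ))
      induction l using Fin.cases with
      | zero => exact le_sup_left
      | succ l => exact le_sup_of_le_right (le_iSup D l)

include hA hf hr hpow in
/-- Invariant non-degenerate blocks: each uses `a % c` fixed dimensions, one of them at least `c` in all. -/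
theorem invariant_bounds {t a : ℕ} {D : Fin t → Submodule F V} (hD : iSupIndep D) (hdim : ∀ l, finrank F (D l) = a)
    (hn : ∀ l, Nd B (D l)) (hinv : ∀ l, Inv f (D l)) (hsup : iSup D = ⊤) :
    t * (a % blockDim (Fintype.card F) r) ≤ finrank F (LinearMap.ker (f - 1)) ∧
      (f ≠ 1 → blockDim (Fintype.card F) r ≤ a) := by
  classical
  choose b hb using fun l => dim_symp hA hf hr hpow (hinv l) (hn l)
  constructor
  · let Φ : ((l : Fin t) → ↥(LinearMap.ker (f - 1) ⊓ D l)) →ₗ[F] LinearMap.ker (f - 1) :=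
      ∑ l, ((Submodule.inclusion inf_le_left).comp (LinearMap.proj l))
    have hΦ : Function.Injective Φ := (injective_iff_map_eq_zero Φ).2 fun g hg => funext fun l => Subtype.ext
      (Decomp.eq_zero_of_sum hD (fun l => (g l : V)) (fun l => (g l).2.2)
        (by simpa [Φ, LinearMap.sum_apply] using congrArg Subtype.val hg) l)
    refine le_trans ?_ (LinearMap.finrank_le_finrank_of_injective hΦ)
    rw [Module.finrank_pi_fintype]
    refine le_trans ?_ (Finset.card_nsmul_le_sum Finset.univ _ (a % blockDim (Fintype.card F) r) fun l _ => ?_)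
    · simp
    · conv_lhs => rw [← hdim l, hb l, Nat.add_mul_mod_self_right]
      exact Nat.mod_le _ _
  · intro hne
    by_contra hlt
    push Not at hlt
    apply hne
    have htop : (⊤ : Submodule F V) ≤ LinearMap.ker (f - 1) := by
      rw [← hsup]
      refine iSup_le fun l => ?_
      have h := hb l
      rw [hdim l] at h
      have hb0 : b l = 0 := by
        by_contra hne'
        have := Nat.le_mul_of_pos_left (blockDim (Fintype.card F) r) (Nat.pos_of_ne_zero hne')
        omega
      rw [hb0, zero_mul, add_zero] at h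
      exact (Submodule.eq_of_le_of_finrank_le (inf_le_right : LinearMap.ker (f - 1) ⊓ D l ≤ D l)
        (by rw [hdim l, ← h])).symm.le.trans inf_le_left
    exact LinearMap.ext fun v => sub_eq_zero.1 (show (f - 1) v = 0 from htop trivial)

end PrimeOrder

end Cfsg.Agent.Elusive.SympDecomp
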