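import Cfsg.Agent.Lib.Elusive.SympIsotropic
import Cfsg.Agent.Lib.Elusive.Count
import Cfsg.Agent.Lib.Forms.FrameCounts
import Cfsg.Agent.Lib.Forms.SympInvolution

/-!
Elements of prime order of the symplectic group and totally isotropic subspaces of given dimension.
-/

set_option autoImplicit false
set_option linter.unusedSectionVars false
set_option linter.style.haveILetI false

namespace Cfsg.Agent.Elusive.SympIsotropic

open Polynomial Module
open Semisimple (RootField Orb orbMult negOrb)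
open SympDecomp (Nd spEnd spEnd_isom finrank_top_eq nd_top)
open Forms (sympB sympB_apply sympB_isAlt sympB_nondegenerate)

universe u

variable {F : Type u} [Field F] [Fintype F] {d m : ℕ}

/-- The matrix fixes a totally isotropic `m`-space. -/
def Fixes (m : ℕ) (x : Matrix.symplecticGroup (Fin d) F) : Prop :=
  ∃ W : Submodule F (Fin d ⊕ Fin d → F), finrank F ↥W = m ∧ (∀ u ∈ W, ∀ v ∈ W, Cfsg.sympForm d F u v = 0) ∧
    W.map (Matrix.toLin' (x : Matrix (Fin d ⊕ Fin d) (Fin d ⊕ Fin d) F)) ≤ W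

theorem fixes_iff (x : Matrix.symplecticGroup (Fin d) F) :
    Fixes m x ↔ ∃ W : Submodule F (Fin d ⊕ Fin d → F), Inv (spEnd x) W ∧
      (∀ u ∈ W, ∀ v ∈ W, sympB d F u v = 0) ∧ finrank F ↥W = m := by
  constructor
  · rintro ⟨W, h1, h2, h3⟩
    exact ⟨W, inv_iff_map.2 h3, fun u hu v hv => by rw [sympB_apply]; exact h2 u hu v hv, h1⟩
  · rintro ⟨W, h1, h2, h3⟩
    exact ⟨W, h3, fun u hu v hv => by rw [← sympB_apply]; exact h2 u hu v hv, inv_iff_map.1 h1⟩

theorem two_finrank_le {W : Submodule F (Fin d ⊕ Fin d → F)} (hiso : ∀ u ∈ W, ∀ v ∈ W, sympB d F u v = 0) :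
    finrank F ↥W ≤ d := by
  have h1 := LinearMap.BilinForm.finrank_orthogonal (sympB_nondegenerate (F := F) d) W
  have h2 : W ≤ (sympB d F).orthogonal W := fun v hv n hn => hiso n hn v hv
  have h3 := Submodule.finrank_mono h2
  have h4 : finrank F (Fin d ⊕ Fin d → F) = 2 * d := by rw [← finrank_top_eq (F := F) (d := d), finrank_top]
  omega

/-- The number of totally isotropic subspaces. -/
theorem card_iso_mul (d m : ℕ) (hm : m ≤ d) :
    Nat.card {W : Submodule F (Fin d ⊕ Fin d → F) //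
        finrank F ↥W = m ∧ (∀ u ∈ W, ∀ v ∈ W, Cfsg.sympForm d F u v = 0)} * fallProd (Fintype.card F) m m =
      ∏ j ∈ Finset.range m, (Fintype.card F ^ (2 * (d - j)) - 1) := by
  have h := Forms.card_isoSubspace_mul (F := F) (B := sympB d F) m
  rw [Forms.card_isoFrame_alt (sympB_isAlt d) (sympB_nondegenerate d), Nat.card_eq_fintype_card (α := F),
    prod_frames _ le_rfl, Finset.prod_mul_distrib, Finset.prod_range_reflect (fun j => Fintype.card F ^ j) m,
    ← finrank_top (R := F) (M := Fin d ⊕ Fin d → F), finrank_top_eq, mul_left_comm,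
    mul_comm (∏ x ∈ Finset.range m, (Fintype.card F ^ (2 * d - 2 * x) - 1))] at h
  rw [Finset.prod_congr rfl fun j _ => by rw [Nat.mul_sub], ← Nat.eq_of_mul_eq_mul_left
    (Finset.prod_pos fun j _ => pow_pos Fintype.card_pos j) h]
  congr 1
  simp only [sympB_apply]

/-- A prime dividing the number of totally isotropic subspaces is not the characteristic. -/
theorem facts_of_dvd {p r : ℕ} [Fact p.Prime] [CharP F p] [Fact r.Prime] (hm : m ≤ d)
    (h : r ∣ Nat.card {W : Submodule F (Fin d ⊕ Fin d → F) //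
        finrank F ↥W = m ∧ (∀ u ∈ W, ∀ v ∈ W, Cfsg.sympForm d F u v = 0)}) :
    r ≠ p ∧ ∃ j < m, SympDecomp.blockDim (Fintype.card F) r ∣ 2 * (d - j) := by
  have h1 := h.mul_right (fallProd (Fintype.card F) m m)
  rw [card_iso_mul d m hm, (Fact.out : r.Prime).prime.dvd_finsetProd_iff] at h1
  obtain ⟨j, hj, hd⟩ := h1
  have hj' := Finset.mem_range.1 hj
  rw [← ZMod.natCast_eq_zero_iff, Nat.cast_sub (Nat.one_le_pow _ _ Fintype.card_pos), Nat.cast_pow, Nat.cast_one,
    sub_eq_zero] at hd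
  refine ⟨?_, j, hj', SympDecomp.blockDim_dvd (orderOf_dvd_iff_pow_eq_one.2 hd) (even_two_mul _)⟩
  rintro rfl
  obtain ⟨n, -, hn⟩ := FiniteField.card F r
  rw [hn, Nat.cast_pow, ZMod.natCast_self, zero_pow (PNat.ne_zero n), zero_pow (by omega)] at hd
  exact zero_ne_one hd

/-- Totally isotropic subspaces of a non-degenerate subspace. -/
theorem exists_iso_sub {V : Type*} [AddCommGroup V] [Module F V] [FiniteDimensional F V]
    {B : LinearMap.BilinForm F V} (hA : B.IsAlt) {S : Submodule F V} (hS : Nd B S) {j : ℕ}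
    (hj : 2 * j ≤ finrank F S) : ∃ W ≤ S, (∀ u ∈ W, ∀ v ∈ W, B u v = 0) ∧ finrank F W = j := by
  obtain ⟨k, e, hk, he⟩ := Forms.SympTwo.exists_alt_equiv (β := B.compl₁₂ S.subtype S.subtype)
    (fun x => hA x.1) fun x hx => by
      by_contra hne
      obtain ⟨v, hv, hxv⟩ := hS x x.2 (fun h => hne (Subtype.ext h))
      exact hxv (hx ⟨v, hv⟩)
  let pad : (Fin j → F) →ₗ[F] (Fin k ⊕ Fin k → F) :=
    { toFun := fun w => Sum.elim (fun l : Fin k => if h : (l : ℕ) < j then w ⟨l, h⟩ else 0) 0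
      map_add' := fun a b => by
        funext l
        rcases l with l | l
        · simp only [Pi.add_apply, Sum.elim_inl]; split <;> simp
        · simp
      map_smul' := fun c a => by
        funext l
        rcases l with l | l
        · simp only [Pi.smul_apply, Sum.elim_inl, RingHom.id_apply, smul_eq_mul]; split <;> simp
        · simp }
  let L : (Fin j → F) →ₗ[F] V := S.subtype.comp (e.symm.toLinearMap.comp pad)
  have hL : Function.Injective L := fun a b hab => by
    have h := e.symm.injective (Subtype.ext hab)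
    funext l
    have h' := congrFun h (Sum.inl ⟨l, by omega⟩)
    simpa [pad] using h'
  refine ⟨LinearMap.range L, ?_, ?_, ?_⟩
  · rintro _ ⟨w, rfl⟩
    exact Submodule.coe_mem _
  · rintro _ ⟨a, rfl⟩ _ ⟨b, rfl⟩
    refine (he (e.symm (pad a)) (e.symm (pad b))).trans ?_
    rw [LinearEquiv.apply_symm_apply, LinearEquiv.apply_symm_apply, Forms.sympForm_eq_sum]
    simp [pad]
  · rw [LinearMap.finrank_range_of_inj hL, Module.finrank_fin_fun]

section Two

variable (h2 : (2 : F) ≠ 0)
include h2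

/-- Involutions. -/
theorem fixes_of_sq_one (hm : m ≤ d) (x : Matrix.symplecticGroup (Fin d) F) (hx : spEnd x ^ 2 = 1) : Fixes m x := by
  rw [fixes_iff]
  set f := spEnd x with hf
  obtain ⟨hCn, hMn, -, -, hd, -⟩ := SympDecomp.split_fixed (r := 2) (sympB_isAlt d) (spEnd_isom x)
    (by exact_mod_cast h2) hx (S := ⊤) (fun _ _ => trivial) nd_top
  rw [finrank_top_eq] at hd
  have hneg : ∀ v ∈ (⊤ : Submodule F (Fin d ⊕ Fin d → F)).map (f - 1), f v = -v := by
    rintro _ ⟨w, -, rfl⟩
    have hw : f (f w) = w := by rw [← Module.End.mul_apply, ← pow_two, hx]; rfl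
    simp only [LinearMap.sub_apply, Module.End.one_apply, map_sub, hw]
    abel
  set C := LinearMap.ker (f - 1) ⊓ (⊤ : Submodule F (Fin d ⊕ Fin d → F))
  set M := (⊤ : Submodule F (Fin d ⊕ Fin d → F)).map (f - 1)
  have hfix : ∀ v ∈ C, f v = v := fun v hv => sub_eq_zero.1 (show (f - 1) v = 0 from hv.1)
  obtain ⟨c, hc⟩ := SympDecomp.nd_even (sympB_isAlt d) hCn
  obtain ⟨c', hc'⟩ := SympDecomp.nd_even (sympB_isAlt d) hMn
  obtain ⟨W₁, h1, i1, d1⟩ := exists_iso_sub (sympB_isAlt d) hCn (j := min m c) (by omega)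
  obtain ⟨W₂, h2', i2, d2⟩ := exists_iso_sub (sympB_isAlt d) hMn (j := m - min m c) (by omega)
  have hcross : ∀ a ∈ C, ∀ b ∈ M, sympB d F a b = 0 := by
    rintro a ha _ ⟨w, -, rfl⟩
    exact SympDecomp.fixed_orth (spEnd_isom x) w ha.1
  have hdis : W₁ ⊓ W₂ = ⊥ := (Submodule.eq_bot_iff _).2 fun v hv => by
    have e1 := hfix v (h1 hv.1)
    have e2 := hneg v (h2' hv.2)
    rw [e1] at e2
    have e3 : (2 : F) • v = 0 := by rw [two_smul]; nth_rw 2 [e2]; exact add_neg_cancel v
    exact (smul_eq_zero.1 e3).resolve_left h2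
  refine ⟨W₁ ⊔ W₂, ?_, ?_, ?_⟩
  · refine Inv.sup (fun v hv => ?_) fun v hv => ?_
    · rw [hfix v (h1 hv)]; exact hv
    · rw [hneg v (h2' hv)]; exact W₂.neg_mem hv
  · intro u hu v hv
    obtain ⟨a, ha, b, hb, rfl⟩ := Submodule.mem_sup.1 hu
    obtain ⟨a', ha', b', hb', rfl⟩ := Submodule.mem_sup.1 hv
    simp only [map_add, LinearMap.add_apply, i1 a ha a' ha', i2 b hb b' hb', hcross a (h1 ha) b' (h2' hb'),
      SympDecomp.swap (sympB_isAlt d) a' b, hcross a' (h1 ha') b (h2' hb), neg_zero, add_zero]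
  · have h := Submodule.finrank_sup_add_finrank_inf_eq W₁ W₂
    rw [hdis, finrank_bot, d1, d2] at h
    omega

/-- Elements squaring to `-1`. -/
theorem fixes_of_sq_neg (hm : m ≤ d) (hq : Even m ∨ Fintype.card F % 4 = 1) (x : Matrix.symplecticGroup (Fin d) F)
    (hx : ∀ v, spEnd x (spEnd x v) = -v) : Fixes m x := by
  classical
  rw [fixes_iff]
  set f := spEnd x with hf
  set B := sympB d F
  have hA : B.IsAlt := sympB_isAlt d
  have hiso : ∀ u v, B (f u) (f v) = B u v := spEnd_isom x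
  rcases hq with ⟨l₀, hl₀⟩ | hq
  · -- pairs of planes
    let G := LinearEquiv.ofBijective f
      ⟨SympDecomp.spEnd_injective x, LinearMap.surjective_of_injective (SympDecomp.spEnd_injective x)⟩
    obtain ⟨u, v, hfr, huv⟩ := Forms.SympInvolution.exists_frame_complex
      (show finrank F (Fin d ⊕ Fin d → F) = 2 * d by rw [← finrank_top_eq (F := F) (d := d), finrank_top])
      hA (sympB_nondegenerate d) h2 G hiso hx d le_rfl
    obtain ⟨α, β, hαβ⟩ := FiniteField.exists_root_sum_quadratic (R := F) (f := X ^ 2) (g := X ^ 2 + 1)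
      (degree_X_pow 2) (by rw [← C_1, degree_X_pow_add_C two_pos]; rfl)
      (FiniteField.odd_card_of_char_ne_two fun h => h2 (by
        haveI : CharP F 2 := ringChar.of_eq h
        exact CharTwo.two_eq_zero))
    simp only [eval_pow, eval_X, eval_add, eval_one] at hαβ
    let a : Fin l₀ → Fin d := fun l => ⟨2 * l, by omega⟩
    let b : Fin l₀ → Fin d := fun l => ⟨2 * l + 1, by omega⟩
    let zz : Fin l₀ → (Fin d ⊕ Fin d → F) := fun l => α • u (a l) + β • v (a l) + u (b l)
    have hXz : ∀ l, f (zz l) = α • v (a l) - β • u (a l) + v (b l) := fun l => by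
      have e1 : ∀ i, f (u i) = v i := fun i => (huv i).1
      have e2 : ∀ i, f (v i) = -u i := fun i => (huv i).2
      simp only [zz, map_add, map_smul, e1, e2, smul_neg, sub_eq_add_neg]
    have hab : ∀ l l', a l ≠ b l' := fun l l' h => by
      have := congrArg Fin.val h
      simp only [a, b] at this
      omega
    have haa : ∀ l l', a l = a l' ↔ l = l' := fun l l' => by simp [a, Fin.ext_iff]
    have hbb : ∀ l l', b l = b l' ↔ l = l' := fun l l' => by simp [b, Fin.ext_iff]
    have hvu : ∀ i j, B (v i) (u j) = -(if j = i then 1 else 0) := fun i j => by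
      rw [SympDecomp.swap hA (u j) (v i), hfr.uv]
    let z : Fin l₀ ⊕ Fin l₀ → (Fin d ⊕ Fin d → F) := Sum.elim zz fun l => f (zz l)
    have hzz : ∀ l l', B (zz l) (zz l') = 0 := fun l l' => by
      simp [zz, hfr.uu, hfr.vv, hfr.uv, hvu, hab, Ne.symm (hab _ _), haa, eq_comm (a := l')]
      split <;> ring
    have hzX : ∀ l l', B (zz l) (f (zz l')) = 0 := fun l l' => by
      rw [hXz]
      simp [zz, hfr.uu, hfr.vv, hfr.uv, hvu, hab, Ne.symm (hab _ _), haa, hbb, eq_comm (a := l')]
      split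
      · linear_combination hαβ
      · simp
    have hz0 : ∀ i i', B (z i) (z i') = 0 := fun i i' => by
      rcases i with l | l <;> rcases i' with l' | l'
      · exact hzz l l'
      · exact hzX l l'
      · show B (f (zz l)) (zz l') = 0
        rw [SympDecomp.swap hA (zz l') (f (zz l)), hzX, neg_zero]
      · show B (f (zz l)) (f (zz l')) = 0
        rw [hiso, hzz]
    have hli : LinearIndependent F z := by
      rw [Fintype.linearIndependent_iff]
      intro g hg i
      rw [Fintype.sum_sum_type] at hg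
      rcases i with l | l
      · have h := congrArg (fun w => B w (v (b l))) hg
        simpa [z, zz, hXz, hfr.uu, hfr.vv, hfr.uv, hvu, hab, Ne.symm (hab _ _), hbb, LinearMap.sum_apply] using h
      · have h := congrArg (fun w => B (u (b l)) w) hg
        simpa [z, zz, hXz, hfr.uu, hfr.vv, hfr.uv, hvu, hab, Ne.symm (hab _ _), hbb] using h
    refine ⟨Submodule.span F (Set.range z), fun w hw => ?_, ?_, ?_⟩
    · have hle : (Submodule.span F (Set.range z)).map f ≤ Submodule.span F (Set.range z) := by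
        rw [Submodule.map_span_le]
        rintro _ ⟨i | i, rfl⟩
        · exact Submodule.subset_span ⟨Sum.inr i, rfl⟩
        · show f (f (zz i)) ∈ _
          rw [hx]
          exact Submodule.neg_mem _ (Submodule.subset_span ⟨Sum.inl i, rfl⟩)
      exact hle (Submodule.mem_map_of_mem hw)
    · intro w hw w' hw'
      have h1 : ∀ i, B (z i) w' = 0 := fun i =>
        (Submodule.span_le.2 (by rintro _ ⟨j, rfl⟩; exact hz0 i j) :
          Submodule.span F (Set.range z) ≤ LinearMap.ker (B (z i))) hw'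
      exact (Submodule.span_le.2 (by rintro _ ⟨j, rfl⟩; exact h1 j) :
        Submodule.span F (Set.range z) ≤ LinearMap.ker (B.flip w')) hw
    · rw [finrank_span_eq_card hli, Fintype.card_sum, Fintype.card_fin]
      omega
  · -- a square root of `-1`
    obtain ⟨e, he⟩ := FiniteField.isSquare_neg_one_iff.2 (show Fintype.card F % 4 ≠ 3 by omega)
    have hU : ∀ s : F, s * s = -1 →
        ∀ v ∈ LinearMap.ker (f - s • (1 : End F (Fin d ⊕ Fin d → F))), ∀ w ∈ LinearMap.ker (f - s • (1 : End F (Fin d ⊕ Fin d → F))), B v w = 0 := by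
      intro s hs v hv w hw
      have ev : f v = s • v := sub_eq_zero.1 hv
      have ew : f w = s • w := sub_eq_zero.1 hw
      have h := hiso v w
      rw [ev, ew, map_smul, map_smul, LinearMap.smul_apply, smul_eq_mul, smul_eq_mul, ← mul_assoc, hs] at h
      exact (mul_eq_zero.1 (show (2 : F) * B v w = 0 by linear_combination -h)).resolve_left h2
    have hee : e * e = -1 := he.symm
    have h1 := two_finrank_le (hU e hee)
    have h1' := two_finrank_le (hU (-e) (by rw [neg_mul_neg, hee]))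
    set U := LinearMap.ker (f - e • (1 : End F (Fin d ⊕ Fin d → F)))
    set U' := LinearMap.ker (f - (-e) • (1 : End F (Fin d ⊕ Fin d → F)))
    have htop : (⊤ : Submodule F (Fin d ⊕ Fin d → F)) ≤ U ⊔ U' := fun v _ => by
      have hsum : v = (2 : F)⁻¹ • ((v - e • f v) + (v + e • f v)) := by
        rw [show (v - e • f v) + (v + e • f v) = (2 : F) • v by rw [two_smul]; abel, inv_smul_smul₀ h2]
      rw [hsum]
      refine Submodule.smul_mem _ _ (Submodule.add_mem_sup ?_ ?_)
      · show f (v - e • f v) - e • (v - e • f v) = 0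
        simp only [map_sub, map_smul, hx, smul_sub, smul_smul, hee, smul_neg, neg_one_smul]
        abel
      · show f (v + e • f v) - (-e) • (v + e • f v) = 0
        simp only [map_add, map_smul, hx, smul_add, smul_smul, neg_mul, hee, smul_neg, neg_neg, one_smul, neg_smul]
        abel
    have h3 := Submodule.finrank_mono htop
    have h4 := Submodule.finrank_sup_add_finrank_inf_eq U U'
    rw [finrank_top_eq] at h3
    obtain ⟨w, hw⟩ := exists_linearIndependent_of_le_finrank (R := F) (M := U) (n := m) (by omega)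
    have hw' : LinearIndependent F (fun i => (w i : Fin d ⊕ Fin d → F)) := hw.map' U.subtype U.ker_subtype
    have hsub : Submodule.span F (Set.range fun i => (w i : Fin d ⊕ Fin d → F)) ≤ U := by
      rw [Submodule.span_le]; rintro _ ⟨i, rfl⟩; exact (w i).2
    refine ⟨_, fun v hv => ?_, fun a ha b hb => hU e hee a (hsub ha) b (hsub hb),
      (finrank_span_eq_card hw').trans (Fintype.card_fin m)⟩
    rw [show f v = e • v from sub_eq_zero.1 (hsub hv)]
    exact Submodule.smul_mem _ _ hv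

/-- The standard element squaring to `-1`. -/
theorem not_all_fix (hd : 0 < d) (hm : Odd m) (hq : Fintype.card F % 4 = 3) :
    ∃ x : Matrix.symplecticGroup (Fin d) F,
      ((x ^ 2 : Matrix.symplecticGroup (Fin d) F) : Matrix (Fin d ⊕ Fin d) (Fin d ⊕ Fin d) F) =
        (-1 : F) • (1 : Matrix (Fin d ⊕ Fin d) (Fin d ⊕ Fin d) F) ∧
      (∀ z : F, (x : Matrix (Fin d ⊕ Fin d) (Fin d ⊕ Fin d) F) ≠ z • (1 : Matrix (Fin d ⊕ Fin d) (Fin d ⊕ Fin d) F)) ∧
      ¬ Fixes m x := by
  have hJ2 : Matrix.J (Fin d) F * Matrix.J (Fin d) F = -1 := Matrix.J_squared (Fin d) F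
  refine ⟨⟨Matrix.J (Fin d) F, SymplecticGroup.J_mem (Fin d) F⟩, ?_, fun z hz => ?_, ?_⟩
  · show Matrix.J (Fin d) F ^ 2 = _
    rw [pow_two, hJ2, neg_one_smul]
  · have h := congrFun (congrFun hz (Sum.inl ⟨0, hd⟩)) (Sum.inr ⟨0, hd⟩)
    simp [Matrix.J] at h
  · rw [fixes_iff]
    rintro ⟨W, hW, -, hWd⟩
    set g := (spEnd (⟨Matrix.J (Fin d) F, SymplecticGroup.J_mem (Fin d) F⟩ : Matrix.symplecticGroup (Fin d) F)).restrict hW
    have hg : g * g = (-1 : F) • (1 : End F W) := LinearMap.ext fun v => Subtype.ext (by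
      show (Matrix.J (Fin d) F).mulVecLin ((Matrix.J (Fin d) F).mulVecLin v.1) = (-1 : F) • v.1
      rw [Matrix.mulVecLin_apply, Matrix.mulVecLin_apply, Matrix.mulVec_mulVec, hJ2, Matrix.neg_mulVec,
        Matrix.one_mulVec, neg_one_smul])
    have hdet := congrArg LinearMap.det hg
    rw [map_mul, LinearMap.det_smul, map_one, mul_one, hWd, hm.neg_one_pow] at hdet
    exact FiniteField.isSquare_neg_one_iff.1 ⟨_, hdet.symm⟩ hq

end Two

section OddPrime

variable {r : ℕ} [Fact r.Prime] {K : Type} [Field K] [Algebra F K] [Finite K] {ζ : K} (hK : RootField F r K ζ)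

local notation "i₀" => orderOf (Fintype.card F : ZMod r)

include hK

theorem i_dvd : i₀ ∣ r - 1 := ZMod.orderOf_dvd_card_sub_one hK.card_ne_zero

theorem card_orb_eq : Fintype.card (Orb F r) = (r - 1) / i₀ :=
  hK.card_orb (Nat.div_mul_cancel (i_dvd hK))

/-- Totally isotropic invariant subspaces of an element of order `r`. -/
theorem fixes_of_criterion (hr2 : r ≠ 2) (hm : m ≤ d)
    (hk : 2 * (m % i₀) ≤ (2 * d) % SympDecomp.blockDim (Fintype.card F) r)
    (ht : Odd i₀ ∨ (r - 1) / i₀ + 2 * (m / i₀) ≤ (2 * d) / i₀)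
    (f : End F (Fin d ⊕ Fin d → F)) (hf : ∀ u v, sympB d F (f u) (f v) = sympB d F u v) (hpow : f ^ r = 1) :
    ∃ W : Submodule F (Fin d ⊕ Fin d → F), Inv f W ∧ (∀ u ∈ W, ∀ v ∈ W, sympB d F u v = 0) ∧
      finrank F ↥W = m := by
  classical
  set a : Orb F r → ℕ := orbMult ζ f with ha
  have hN : ∀ x, (∀ y, sympB d F x y = 0) → x = 0 := (sympB_nondegenerate d).1
  have hfix := finrank_fix hK hpow
  rw [← ha, ← finrank_top (R := F) (M := Fin d ⊕ Fin d → F), finrank_top_eq] at hfix
  obtain ⟨B, hB⟩ : ∃ B, B = ∑ c, a c := ⟨_, rfl⟩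
  obtain ⟨b, e, he, hab, heo, hesum⟩ : ∃ b e : Orb F r → ℕ, (e = 0 ∨ Even i₀) ∧
      (∀ c, b c + b (c * negOrb F r) + e c = a c) ∧ 2 * ∑ c, b c + ∑ c, e c = B ∧
      (∑ c, e c = 0 ∨ (¬ Odd i₀ ∧ ∑ c, e c ≤ (r - 1) / i₀)) := by
    rcases Nat.even_or_odd i₀ with hev | hodd
    · refine ⟨fun c => a c / 2, fun c => a c % 2, Or.inr hev, fun c => ?_, ?_, Or.inr ⟨Nat.not_odd_iff_even.2 hev, ?_⟩⟩
      · rw [(hK.negOrb_eq_one_iff hr2).2 hev, mul_one]
        show a c / 2 + a c / 2 + a c % 2 = a c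
        omega
      · rw [hB, Finset.mul_sum, ← Finset.sum_add_distrib]
        exact Finset.sum_congr rfl fun c _ => by show 2 * (a c / 2) + a c % 2 = a c; omega
      · calc ∑ c, a c % 2 ≤ ∑ _c : Orb F r, 1 := Finset.sum_le_sum fun c _ => by omega
          _ = _ := by rw [Finset.sum_const, smul_eq_mul, mul_one, Finset.card_univ, card_orb_eq hK]
    · have hne : negOrb F r ≠ 1 := fun h =>
        (Nat.not_even_iff_odd.2 hodd) ((hK.negOrb_eq_one_iff hr2).1 h)
      obtain ⟨b, hb, hbs⟩ := Semisimple.exists_half _ (Semisimple.negOrb_mul_self F r) hne a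
        fun c => hK.orbMult_symm (sympB d F) hN f hpow hf c
      exact ⟨b, 0, Or.inl rfl, fun c => by simpa using hb c, by simpa [hB] using hbs, Or.inl (by simp)⟩
  obtain ⟨h, hh⟩ : Even (finrank F (LinearMap.ker (f - 1))) := by
    have hev : Even (i₀ * B) := by
      rw [← heo, mul_add]
      refine Even.add ((even_two_mul _).mul_left _) ?_
      rcases he with he | he
      · simp [he]
      · exact he.mul_right _
    rw [← hB] at hfix
    exact (Nat.even_add.1 (hfix ▸ even_two_mul d : Even (_ + i₀ * B))).2 hev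
  rw [← hB, hh, ← heo, mul_add] at hfix
  obtain ⟨f₀, hf₀, hp₀, ha₀, hW⟩ := exists_model hK hr2 (d := d) (h := h) b e he (by
    rw [mul_add, ← mul_assoc, mul_comm 2 i₀, mul_assoc]; omega)
  have hc₀ : f₀.charpoly = f.charpoly := hK.charpoly_eq_of_orbMult f₀ f hp₀ hpow rfl
    (funext fun c => by rw [ha₀, hab])
  obtain ⟨T, hT, hTf⟩ := Semisimple.exists_isometric_conj (σ := RingHom.id F) (ε := (-1 : F)) (N := r) _ _ _
    (sympB d F) (sympB d F) f₀ f rfl
    ⟨(Forms.sympB_polar d).swap, (Forms.sympB_polar d).invol, (Forms.sympB_polar d).sep⟩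
    ⟨(Forms.sympB_polar d).swap, (Forms.sympB_polar d).invol, (Forms.sympB_polar d).sep⟩
    ⟨hf₀, hp₀, hK.unit⟩ ⟨hf, hpow, hK.unit⟩ (fun _ v _ => sympB_isAlt d v) (fun _ v _ => sympB_isAlt d v) hc₀
  -- the dimensions
  set w := min (∑ c, b c) (m / i₀) with hwdef
  have hmd := Nat.mod_add_div m i₀
  have hdd := Nat.mod_add_div (2 * d) i₀
  have hkfix : (2 * d) % SympDecomp.blockDim (Fintype.card F) r ≤ h + h := by
    obtain ⟨β, hβ⟩ := SympDecomp.dim_symp (S := ⊤) (sympB_isAlt d) hf hK.unit hpow (fun _ _ => trivial) nd_top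
    rw [finrank_top_eq, inf_top_eq, hh] at hβ
    rw [hβ, Nat.add_mul_mod_self_right]
    exact Nat.mod_le _ _
  have hwm : w * i₀ ≤ m := (Nat.mul_le_mul_right i₀ (Nat.min_le_right _ _)).trans (Nat.div_mul_le_self m i₀)
  have hjh : m - w * i₀ ≤ h := by
    rcases le_total (∑ c, b c) (m / i₀) with hle | hle
    · rw [hwdef, min_eq_left hle] at hwm ⊢
      rw [mul_comm _ i₀] at hwm ⊢
      rcases hesum with h0 | ⟨hodd, h0⟩
      · rw [h0, mul_zero, add_zero, ← mul_assoc, mul_comm i₀ 2, mul_assoc] at hfix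
        omega
      · have ht' := Nat.mul_le_mul_left i₀ (ht.resolve_left hodd)
        have h0' := Nat.mul_le_mul_left i₀ h0
        rw [mul_add] at ht'
        rw [← mul_assoc, mul_comm i₀ 2, mul_assoc] at hfix ht'
        have hk' : 2 * (m % i₀) ≤ (2 * d) % i₀ := by
          rw [SympDecomp.blockDim, if_pos (Nat.not_odd_iff_even.1 hodd)] at hk
          exact hk
        omega
    · rw [hwdef, min_eq_right hle, mul_comm]
      omega
  obtain ⟨W, hWi, hWiso, hWd⟩ := hW w (m - w * i₀) (Nat.min_le_left _ _) hjh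
  refine ⟨W.map T.toLinearMap, ?_, ?_, ?_⟩
  · rintro _ ⟨v, hv, rfl⟩
    exact ⟨f₀ v, hWi v hv, hT v⟩
  · rintro _ ⟨u, hu, rfl⟩ _ ⟨v, hv, rfl⟩
    exact (hTf u v).trans (hWiso u hu v hv)
  · rw [LinearEquiv.finrank_map_eq, hWd]
    omega

/-- What a witness says when every element fixes an isotropic `m`-space. -/
theorem witness (hr2 : r ≠ 2) (hd : 0 < d)
    (hall : ∀ x : Matrix.symplecticGroup (Fin d) F, x ^ r = 1 →
      (∀ z : F, (x : Matrix (Fin d ⊕ Fin d) (Fin d ⊕ Fin d) F) ≠ z • (1 : Matrix (Fin d ⊕ Fin d) (Fin d ⊕ Fin d) F)) →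
      Fixes m x)
    {h : ℕ} (b e : Orb F r → ℕ) (he : e = 0 ∨ Even i₀)
    (hdim : 2 * (h + i₀ * ∑ c, b c) + i₀ * ∑ c, e c = 2 * d) (hne : h < d) :
    ∃ (o : Orb F r → ℕ) (j : ℕ), (∀ c, o c + o (c * negOrb F r) ≤ b c + b (c * negOrb F r) + e c) ∧
      m = j + i₀ * ∑ c, o c ∧ j ≤ h := by
  classical
  obtain ⟨f, hf, hpow, hfa, -⟩ := exists_model hK hr2 b e he hdim
  have hM : LinearMap.toMatrix' f ∈ Matrix.symplecticGroup (Fin d) F :=
    Forms.mem_symplecticGroup_iff_form.2 fun u v => by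
      rw [← Matrix.toLin'_apply, ← Matrix.toLin'_apply, Matrix.toLin'_toMatrix', ← sympB_apply, ← sympB_apply, hf]
  set x : Matrix.symplecticGroup (Fin d) F := ⟨_, hM⟩
  have hx : spEnd x = f := Matrix.toLin'_toMatrix' f
  have hfix := finrank_fix hK hpow
  have hsum : ∑ c, (orbMult ζ f : Orb F r → ℕ) c = 2 * ∑ c, b c + ∑ c, e c := by
    have h1 : ∑ c, b (c * negOrb F r) = ∑ c, b c :=
      Fintype.sum_equiv (Equiv.mulRight (negOrb F r)) _ _ fun c => rfl
    rw [Finset.sum_congr rfl fun c _ => hfa c, Finset.sum_add_distrib, Finset.sum_add_distrib, h1, two_mul]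
  rw [hsum, ← finrank_top (R := F) (M := Fin d ⊕ Fin d → F), finrank_top_eq, mul_add, ← mul_assoc, mul_comm i₀ 2,
    mul_assoc] at hfix
  have hfix2 : finrank F (LinearMap.ker (f - 1)) = 2 * h := by omega
  obtain ⟨W, hW, hiso, hWd⟩ := (fixes_iff x).1 (hall x
    (Subtype.ext (Matrix.toLin'.injective (by
      show spEnd (x ^ r) = spEnd 1
      rw [map_pow, map_one, hx, hpow])))
    fun z hz => by
      have hfz : f = z • 1 := by
        rw [← hx]
        show Matrix.toLin' (x : Matrix (Fin d ⊕ Fin d) (Fin d ⊕ Fin d) F) = _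
        rw [hz, map_smul, Matrix.toLin'_one]
        rfl
      by_cases hz1 : z = 1
      · rw [hfz, hz1, one_smul, sub_self, LinearMap.ker_zero, finrank_top_eq] at hfix2
        omega
      have hzz : z * z = 1 := GL.symp_scalar_sq (n := d) hd fun u v => by
        rw [← hz]; exact Forms.mem_symplecticGroup_iff_form.1 x.2 u v
      have hzr : z ^ r = 1 := by
        have := congrArg (fun g : End F (Fin d ⊕ Fin d → F) => g (fun _ => 1) (Sum.inl ⟨0, hd⟩)) hpow
        rw [hfz, _root_.smul_pow, one_pow] at this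
        simpa using this
      obtain ⟨k, hk⟩ := (Fact.out : r.Prime).odd_of_ne_two hr2
      rw [hk, pow_succ, pow_mul, sq, hzz, one_pow, one_mul] at hzr
      exact hz1 hzr)
  rw [hx] at hW
  obtain ⟨o, j, ho, hj, hj2⟩ := iso_bound hK (sympB_isAlt d) (sympB_nondegenerate d).1 hf hpow hW hiso
  exact ⟨o, j, fun c => hfa c ▸ ho c, hWd ▸ hj, by omega⟩

/-- The conditions are necessary. -/
theorem criterion_of_fixes (hr2 : r ≠ 2) (hm1 : 1 ≤ m) (hm : m ≤ d)
    (hc : ∃ j < m, SympDecomp.blockDim (Fintype.card F) r ∣ 2 * (d - j))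
    (hall : ∀ x : Matrix.symplecticGroup (Fin d) F, x ^ r = 1 →
      (∀ z : F, (x : Matrix (Fin d ⊕ Fin d) (Fin d ⊕ Fin d) F) ≠ z • (1 : Matrix (Fin d ⊕ Fin d) (Fin d ⊕ Fin d) F)) →
      Fixes m x) :
    i₀ ≤ m ∧ 2 * (m % i₀) ≤ (2 * d) % SympDecomp.blockDim (Fintype.card F) r ∧
      (Odd i₀ ∨ (r - 1) / i₀ + 2 * (m / i₀) ≤ (2 * d) / i₀) := by
  classical
  have hi := order_pos hK
  set c := SympDecomp.blockDim (Fintype.card F) r with hcdef
  have hd : 0 < d := by omega
  obtain ⟨j₀, hj₀, β, hβ⟩ := hc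
  have hklow : (2 * d) % c ≤ 2 * j₀ := by
    rw [show 2 * d = 2 * j₀ + c * β by omega, Nat.add_mul_mod_self_left]
    exact Nat.mod_le _ _
  have hcle : c ≤ 2 * d := by
    rcases Nat.eq_zero_or_pos β with rfl | hb
    · omega
    · have := Nat.le_mul_of_pos_right c hb; omega
  let c₀ : Orb F r := 1
  -- as many blocks as possible
  obtain ⟨h, b, e, he, hdim, hh, hhi⟩ : ∃ (h : ℕ) (b e : Orb F r → ℕ), (e = 0 ∨ Even i₀) ∧
      2 * (h + i₀ * ∑ x, b x) + i₀ * ∑ x, e x = 2 * d ∧ 2 * h = (2 * d) % c ∧ h < i₀ := by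
    have hdd := Nat.mod_add_div (2 * d) i₀
    rcases Nat.even_or_odd i₀ with hev | hodd
    · have hci : c = i₀ := by rw [hcdef, SympDecomp.blockDim, if_pos hev]
      obtain ⟨h, hh⟩ : Even ((2 * d) % i₀) := (Nat.even_add.1 (hdd.symm ▸ even_two_mul d)).2 (hev.mul_right _)
      refine ⟨h, Pi.single c₀ ((2 * d) / i₀ / 2), Pi.single c₀ ((2 * d) / i₀ % 2), Or.inr hev, ?_, by rw [hci]; omega, ?_⟩
      · rw [Finset.sum_pi_single', Finset.sum_pi_single', if_pos (Finset.mem_univ _), if_pos (Finset.mem_univ _)]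
        have h2 := congrArg (i₀ * ·) (Nat.div_add_mod ((2 * d) / i₀) 2)
        simp only [mul_add, ← mul_assoc, mul_comm i₀ 2] at h2
        rw [mul_assoc 2] at h2
        omega
      · have := Nat.mod_lt (2 * d) hi; omega
    · have hci : c = 2 * i₀ := by rw [hcdef, SympDecomp.blockDim, if_neg (Nat.not_even_iff_odd.2 hodd)]
      refine ⟨d % i₀, Pi.single c₀ (d / i₀), 0, Or.inl rfl, ?_, ?_, Nat.mod_lt d hi⟩
      · rw [Finset.sum_pi_single', if_pos (Finset.mem_univ _)]
        simp [Nat.mod_add_div]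
      · rw [hci, Nat.mul_mod_mul_left]
  have hlt : h < d := by
    have := Nat.mod_lt (2 * d) (show c > 0 by
      rcases Nat.eq_zero_or_pos c with h0 | h0
      · rw [h0] at hcdef
        unfold SympDecomp.blockDim at hcdef
        split at hcdef <;> omega
      · exact h0)
    omega
  obtain ⟨o, j, -, hj, hjh⟩ := witness hK hr2 hd hall b e he hdim hlt
  have him : i₀ ≤ m := by
    by_contra hlt'
    rcases Nat.eq_zero_or_pos (∑ x, o x) with h0 | h0
    · rw [h0, mul_zero] at hj; omega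
    · have := Nat.le_mul_of_pos_right i₀ h0; omega
  have hmod : m % i₀ = j := by rw [hj, Nat.add_mul_mod_self_left, Nat.mod_eq_of_lt (by omega)]
  refine ⟨him, by rw [hmod]; omega, ?_⟩
  -- as many odd multiplicities as possible
  by_contra hcon
  push Not at hcon
  obtain ⟨hodd, hlt2⟩ := hcon
  have hev := Nat.not_odd_iff_even.1 hodd
  have hci : c = i₀ := by rw [hcdef, SympDecomp.blockDim, if_pos hev]
  have hneg := (hK.negOrb_eq_one_iff hr2).2 hev
  have hmd := Nat.mod_add_div m i₀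
  have hdd := Nat.mod_add_div (2 * d) i₀
  have hkl := Nat.mod_lt (2 * d) hi
  have hm' : 0 < m / i₀ := Nat.div_pos him hi
  set n' := (2 * d) / i₀ with hn'def
  set t := (r - 1) / i₀ with htdef
  obtain ⟨hr', hhr⟩ : Even ((2 * d) % i₀) := (Nat.even_add.1 (hdd.symm ▸ even_two_mul d)).2 (hev.mul_right _)
  rcases le_or_gt t n' with htn | htn
  · obtain ⟨e', he'⟩ := hev
    have hdim' : 2 * (hr' + (n' - t) % 2 * e' + i₀ * ∑ x, (Pi.single c₀ ((n' - t) / 2) : Orb F r → ℕ) x) +
        i₀ * ∑ _x : Orb F r, 1 = 2 * d := by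
      rw [Finset.sum_pi_single', if_pos (Finset.mem_univ _), Finset.sum_const, smul_eq_mul, mul_one,
        Finset.card_univ, card_orb_eq hK, ← htdef]
      have h1 : i₀ * n' = i₀ * (2 * ((n' - t) / 2)) + i₀ * ((n' - t) % 2) + i₀ * t := by
        rw [← mul_add, ← mul_add]; congr 1; omega
      have h2 : i₀ * ((n' - t) % 2) = 2 * ((n' - t) % 2 * e') := by rw [he']; ring
      rw [← mul_assoc, mul_comm i₀ 2, mul_assoc] at h1
      omega
    obtain ⟨o, j, ho, hj, hjh⟩ := witness hK hr2 hd hall (Pi.single c₀ ((n' - t) / 2)) (fun _ => 1)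
      (Or.inr ⟨e', he'⟩) hdim' (by
        have : 0 < i₀ * ∑ _x : Orb F r, 1 := Nat.mul_pos hi (by
          rw [Finset.sum_const, smul_eq_mul, mul_one]; exact Finset.card_pos.2 Finset.univ_nonempty)
        omega)
    have hsum : ∑ x, o x ≤ (n' - t) / 2 := by
      refine le_trans (Finset.sum_le_sum fun x _ => ?_)
        (le_of_eq ((Finset.sum_pi_single' c₀ ((n' - t) / 2) Finset.univ).trans (if_pos (Finset.mem_univ _))))
      have := ho x
      rw [hneg, mul_one] at this
      omega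
    have h3 := Nat.mul_le_mul_left i₀ hsum
    have h4 : i₀ * (2 * ((n' - t) / 2) + (n' - t) % 2 + 1) ≤ i₀ * (2 * (m / i₀)) := Nat.mul_le_mul_left i₀ (by omega)
    have h5 : i₀ * ((n' - t) % 2) = 2 * ((n' - t) % 2 * e') := by rw [he']; ring
    rw [mul_add, mul_add, mul_one, ← mul_assoc, mul_comm i₀ 2, mul_assoc, ← mul_assoc i₀ 2, mul_comm i₀ 2,
      mul_assoc] at h4
    omega
  · obtain ⟨S, hS⟩ := Finset.exists_subset_card_eq (s := (Finset.univ : Finset (Orb F r))) (n := n') (by
      rw [Finset.card_univ, card_orb_eq hK, ← htdef]; omega)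
    have hsumS : ∑ x : Orb F r, (if x ∈ S then 1 else 0) = n' := by
      rw [Finset.sum_boole, Finset.filter_mem_eq_inter, Finset.univ_inter, hS.2]
      rfl
    obtain ⟨o, j, ho, hj, hjh⟩ := witness hK hr2 hd hall (h := hr') 0 (fun x => if x ∈ S then 1 else 0)
      (Or.inr hev) (by rw [hsumS]; simp; omega) (by omega)
    have hsum : ∑ x, o x = 0 := Finset.sum_eq_zero fun x _ => by
      have := ho x
      rw [hneg, mul_one] at this
      simp only [Pi.zero_apply] at this
      split at this <;> omega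
    rw [hsum] at hj
    omega

end OddPrime

end Cfsg.Agent.Elusive.SympIsotropic
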