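import Cfsg.Agent.Lib.Elusive.SympUnipotentPieces
import Cfsg.Agent.Lib.Elusive.SympDecompositionOrbit
import Cfsg.Agent.Lib.Forms.SympInvolution

/-!
Elements of prime order of the symplectic group and non-degenerate subspaces of given dimension.
-/

set_option autoImplicit false
set_option linter.unusedSectionVars false
set_option linter.style.haveILetI false

namespace Cfsg.Agent.Elusive.SympNdPrime

open Module Polynomial
open SympDecomp (Nd spEnd spEnd_isom finrank_top_eq nd_top blockDim)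
open Forms (sympB sympB_apply sympB_isAlt sympB_nondegenerate)

section General

variable {F : Type*} [Field F] {V : Type*} [AddCommGroup V] [Module F V] [FiniteDimensional F V]
  {B : LinearMap.BilinForm F V} (hA : B.IsAlt)

include hA in
theorem finrank_sup_orth {P Q : Submodule F V} (hP : Nd B P) (hQ : Q ≤ B.orthogonal P) :
    finrank F ↥(P ⊔ Q) = finrank F P + finrank F Q := by
  have hdis : P ⊓ Q = ⊥ := (Submodule.eq_bot_iff _).2 fun v hv => by
    by_contra h0
    obtain ⟨w, hw, hvw⟩ := hP v hv.1 h0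
    exact hvw (by rw [SympDecomp.swap hA w v, SympDecomp.mem_orth.1 (hQ hv.2) w hw, neg_zero])
  have h := Submodule.finrank_sup_add_finrank_inf_eq P Q
  rw [hdis, finrank_bot] at h
  omega

variable {f : End F V} (hf : ∀ u v, B (f u) (f v) = B u v)

include hA hf in
/-- Odd parts of the type of a non-degenerate invariant subspace have even multiplicity. -/
theorem even_count {S : Submodule F V} (hS : Inv f S) (hSn : Nd B S) {ν : Multiset ℕ}
    (h : SympUnipotent.TypeOn (f - 1) S ν) {a : ℕ} (ha : Odd a) : Even (ν.count a) := by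
  have e : (f - 1).restrict (SympUnipotent.inv_nil.1 hS) = f.restrict hS - 1 :=
    LinearMap.ext fun v => Subtype.ext (by simp)
  refine UnipForms.even_count_of_odd (N := f.restrict hS - 1)
    (fun k => by rw [← e, SympUnipotent.rankDim_restrict, h k])
    (UnipForms.even_rankDim_isAlt (B := B.compl₁₂ S.subtype S.subtype) (fun v => hA v.1) (fun y hy => ?_)
      fun u v => hf u v) ha
  by_contra h0
  obtain ⟨w, hw, hyw⟩ := hSn y y.2 fun h => h0 (Subtype.ext h)
  exact hyw (by rw [SympDecomp.swap hA w y, show B w y = 0 from hy ⟨w, hw⟩, neg_zero])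

include hA hf in
/-- Non-degenerate planes of fixed vectors, as many as fit. -/
theorem exists_fixed_planes [Fintype F] {r : ℕ} (hr : 0 < r) (hpow : f ^ r = 1) {S : Submodule F V}
    (hS : S ≤ LinearMap.ker (f - 1)) (hSn : Nd B S) {j : ℕ} (hj : j * 2 ≤ finrank F S) :
    ∃ P ≤ S, Inv f P ∧ Nd B P ∧ finrank F P = j * 2 :=
  SympDecomp.exists_nd_sub hA hf hr hpow
    (fun v hv => by rwa [sub_eq_zero.1 (show (f - 1) v = 0 from hS hv)]) hSn
    (fun _ hT _ hTn hne => SympDecomp.exists_plane hA (hT.trans hS) hTn hne) j hj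

/-- The image of a square-zero map has at most half the dimension. -/
theorem two_mul_rank_le {N : End F V} (hN : ∀ v, N (N v) = 0) {S : Submodule F V} (hS : Inv N S) :
    2 * finrank F (S.map N) ≤ finrank F S := by
  have h := LinearMap.finrank_range_add_finrank_ker (N.comp S.subtype)
  rw [LinearMap.range_comp, Submodule.range_subtype, LinearMap.ker_comp,
    LinearEquiv.finrank_eq (Submodule.equivMapOfInjective S.subtype S.injective_subtype
      (Submodule.comap S.subtype (LinearMap.ker N))), Submodule.map_comap_subtype] at h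
  have h2 : S.map N ≤ S ⊓ LinearMap.ker N := by
    rintro _ ⟨v, hv, rfl⟩
    exact ⟨hS v hv, hN v⟩
  have := Submodule.finrank_mono h2
  omega

end General

variable {F : Type*} [Field F] [Fintype F] {d m : ℕ}

/-- The matrix fixes a non-degenerate `m`-space. -/
def Fixes (m : ℕ) (x : Matrix.symplecticGroup (Fin d) F) : Prop :=
  ∃ W : Submodule F (Fin d ⊕ Fin d → F), finrank F ↥W = m ∧
    (∀ u ∈ W, u ≠ 0 → ∃ v ∈ W, Cfsg.sympForm d F u v ≠ 0) ∧
    W.map (Matrix.toLin' (x : Matrix (Fin d ⊕ Fin d) (Fin d ⊕ Fin d) F)) ≤ W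

theorem fixes_iff (x : Matrix.symplecticGroup (Fin d) F) :
    Fixes m x ↔ ∃ W : Submodule F (Fin d ⊕ Fin d → F), Inv (spEnd x) W ∧ Nd (sympB d F) W ∧ finrank F ↥W = m := by
  constructor
  · rintro ⟨W, h1, h2, h3⟩
    exact ⟨W, inv_iff_map.2 h3, fun u hu h0 => by simpa only [sympB_apply] using h2 u hu h0, h1⟩
  · rintro ⟨W, h1, h2, h3⟩
    exact ⟨W, h3, fun u hu h0 => by simpa only [sympB_apply] using h2 u hu h0, inv_iff_map.1 h1⟩

theorem fixes_of_smul {x : Matrix.symplecticGroup (Fin d) F} {z : F} (hzz : z * z = 1)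
    {W : Submodule F (Fin d ⊕ Fin d → F)} (hW : Inv (z • spEnd x) W) (hn : Nd (sympB d F) W)
    (hd : finrank F W = m) : Fixes m x := by
  refine (fixes_iff x).2 ⟨W, fun v hv => ?_, hn, hd⟩
  have h := Submodule.smul_mem W z (hW v hv)
  rwa [LinearMap.smul_apply, smul_smul, hzz, one_smul] at h

theorem spEnd_scalar {r : ℕ} {x : Matrix.symplecticGroup (Fin d) F} {z : F} (hd : 0 < d)
    (hz : ((x ^ r : Matrix.symplecticGroup (Fin d) F) : Matrix (Fin d ⊕ Fin d) (Fin d ⊕ Fin d) F) =
      z • (1 : Matrix (Fin d ⊕ Fin d) (Fin d ⊕ Fin d) F)) :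
    z * z = 1 ∧ spEnd x ^ r = z • (1 : End F (Fin d ⊕ Fin d → F)) := by
  refine ⟨GL.symp_scalar_sq (n := d) hd fun u v => by
    rw [← hz]; exact Forms.mem_symplecticGroup_iff_form.1 (x ^ r).2 u v, ?_⟩
  rw [← map_pow]
  show Matrix.toLin' ((x ^ r : Matrix.symplecticGroup (Fin d) F) : Matrix (Fin d ⊕ Fin d) (Fin d ⊕ Fin d) F) = _
  rw [hz, map_smul, Matrix.toLin'_one]
  rfl

/-- Up to sign, an element whose odd power is scalar has that power equal to one. -/
theorem odd_normalise {r : ℕ} (hr : Odd r) {x : Matrix.symplecticGroup (Fin d) F} {z : F} (hzz : z * z = 1)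
    (hx : spEnd x ^ r = z • (1 : End F (Fin d ⊕ Fin d → F))) :
    (∀ u v, sympB d F ((z • spEnd x) u) ((z • spEnd x) v) = sympB d F u v) ∧ (z • spEnd x) ^ r = 1 := by
  obtain ⟨k, hk⟩ := hr
  refine ⟨fun u v => by
    rw [LinearMap.smul_apply, LinearMap.smul_apply, map_smul, map_smul, LinearMap.smul_apply, smul_smul, hzz,
      one_smul, spEnd_isom], ?_⟩
  rw [_root_.smul_pow, hx, smul_smul, ← pow_succ, show r + 1 = 2 * (k + 1) by omega, pow_mul, sq, hzz, one_pow,
    one_smul]

theorem exists_of_end (f : End F (Fin d ⊕ Fin d → F))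
    (hf : ∀ u v, sympB d F (f u) (f v) = sympB d F u v) :
    ∃ x : Matrix.symplecticGroup (Fin d) F, spEnd x = f := by
  have hM : LinearMap.toMatrix' f ∈ Matrix.symplecticGroup (Fin d) F :=
    Forms.mem_symplecticGroup_iff_form.2 fun u v => by
      rw [← Matrix.toLin'_apply, ← Matrix.toLin'_apply, Matrix.toLin'_toMatrix', ← sympB_apply, ← sympB_apply, hf]
  exact ⟨⟨_, hM⟩, Matrix.toLin'_toMatrix' f⟩

theorem pow_eq_one {r : ℕ} {x : Matrix.symplecticGroup (Fin d) F} (h : spEnd x ^ r = 1) : x ^ r = 1 :=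
  Subtype.ext (Matrix.toLin'.injective (by
    show spEnd (x ^ r) = spEnd 1
    rw [map_pow, map_one, h]))

theorem spEnd_eq_smul {x : Matrix.symplecticGroup (Fin d) F} {z : F}
    (hz : (x : Matrix (Fin d ⊕ Fin d) (Fin d ⊕ Fin d) F) = z • (1 : Matrix (Fin d ⊕ Fin d) (Fin d ⊕ Fin d) F)) :
    spEnd x = z • (1 : End F (Fin d ⊕ Fin d → F)) := by
  show Matrix.toLin' (x : Matrix (Fin d ⊕ Fin d) (Fin d ⊕ Fin d) F) = _
  rw [hz, map_smul, Matrix.toLin'_one]
  rfl

section Unipotent

variable {p : ℕ} [Fact p.Prime] [CharP F p]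

/-- Every type of elements of order `p` has an admissible sub-type of sum `m`. -/
def TypeCrit (p d m : ℕ) : Prop :=
  ∀ μ : Multiset ℕ, (∀ a ∈ μ, 0 < a ∧ a ≤ p) → (∀ a : ℕ, Odd a → Even (μ.count a)) → μ.sum = 2 * d →
    ∃ ν : Multiset ℕ, ν ≤ μ ∧ ν.sum = m ∧ ∀ a : ℕ, Odd a → Even (ν.count a)

theorem fixes_unipotent (hd : 0 < d) (hp : 2 < p) (hcrit : TypeCrit p d m) (x : Matrix.symplecticGroup (Fin d) F)
    {z : F} (hz : ((x ^ p : Matrix.symplecticGroup (Fin d) F) : Matrix (Fin d ⊕ Fin d) (Fin d ⊕ Fin d) F) =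
      z • (1 : Matrix (Fin d ⊕ Fin d) (Fin d ⊕ Fin d) F)) : Fixes m x := by
  have hp' := (Fact.out : p.Prime)
  have h2 : (2 : F) ≠ 0 := Ring.two_ne_zero (by rw [ringChar.eq F p]; omega)
  obtain ⟨hzz, hx⟩ := spEnd_scalar hd hz
  obtain ⟨hf, hpow⟩ := odd_normalise (hp'.odd_of_ne_two (by omega)) hzz hx
  have hnil := SympUnipotent.nil_of_pow (p := p) hpow
  have hT : Inv (z • spEnd x - 1) ⊤ := fun _ _ => trivial
  obtain ⟨μ, hμpos, hμ⟩ := SympUnipotent.exists_typeOn hT hnil
  have hle : ∀ a ∈ μ, a ≤ p := fun a ha => by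
    have h := hμ p
    rw [LinRep.JordanType.rankDim, hnil, Submodule.map_zero, finrank_bot] at h
    have h' := Multiset.le_sum_of_mem (Multiset.mem_map_of_mem (· - p) ha)
    omega
  have hpar : ∀ a : ℕ, Odd a → Even (μ.count a) := fun a ha =>
    even_count (sympB_isAlt d) hf (S := ⊤) (fun _ _ => trivial) nd_top hμ ha
  obtain ⟨ν, hν, hνs, hνe⟩ := hcrit μ (fun a ha => ⟨hμpos a ha, hle a ha⟩) hpar
    (by rw [← hμ.finrank_eq, finrank_top_eq])
  obtain ⟨W, -, hWi, hWn, hWd⟩ := SympUnipotent.exists_of_subtype (sympB_isAlt d) hf h2 hpow _ ⊤ μ ν rfl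
    (fun _ _ => trivial) nd_top hμpos hμ hν hνe
  exact fixes_of_smul hzz hWi hWn (hWd.trans hνs)

theorem crit_of_fixes (hme : Even m) (hm : m ≤ 2 * d)
    (hall : ∀ x : Matrix.symplecticGroup (Fin d) F, x ^ p = 1 →
      (∀ z : F, (x : Matrix (Fin d ⊕ Fin d) (Fin d ⊕ Fin d) F) ≠ z • (1 : Matrix (Fin d ⊕ Fin d) (Fin d ⊕ Fin d) F)) →
      Fixes m x) : TypeCrit p d m := by
  intro μ hμp hpar hsum
  by_cases hone : ∀ a ∈ μ, a = 1
  · have hμ : μ = Multiset.replicate (Multiset.card μ) 1 := Multiset.eq_replicate.2 ⟨rfl, hone⟩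
    have hc : Multiset.card μ = 2 * d := by
      rw [← hsum]; conv_rhs => rw [hμ, Multiset.sum_replicate, smul_eq_mul, mul_one]
    refine ⟨Multiset.replicate m 1, ?_, by simp, fun a _ => ?_⟩
    · rw [hμ, hc]
      exact (Multiset.replicate_le_replicate 1).2 hm
    · rw [Multiset.count_replicate]
      split
      · exact hme
      · exact Even.zero
  obtain ⟨n, β, N, hβA, hβsep, hβN, -, hNt⟩ := UnipForms.altReal_of_parity (F := F) μ
    (fun a ha => (hμp a ha).1) hpar
  obtain ⟨k, e, hk, he⟩ := Forms.SympTwo.exists_alt_equiv hβA hβsep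
  have hn : finrank F (Fin n → F) = μ.sum := (SympUnipotent.TypeOn.finrank_eq (S := ⊤) hNt) ▸ (finrank_top F _).symm
  obtain rfl : k = d := by omega
  set f : End F (Fin k ⊕ Fin k → F) := e.toLinearMap ∘ₗ (1 + N) ∘ₗ e.symm.toLinearMap with hfdef
  have hfN : ∀ v, e (N v) = (f - 1) (e v) := fun v => by simp [hfdef]
  have hfB : ∀ u v, sympB k F (f u) (f v) = sympB k F u v := fun u v => by
    rw [sympB_apply, sympB_apply]
    show Cfsg.sympForm k F (e ((1 + N) (e.symm u))) (e ((1 + N) (e.symm v))) = _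
    rw [← he, LinearMap.add_apply, LinearMap.add_apply, Module.End.one_apply, Module.End.one_apply, hβN, he,
      e.apply_symm_apply, e.apply_symm_apply]
  have hft : SympUnipotent.TypeOn (f - 1) ⊤ μ := UnipForms.hasType_conj e hfN hNt
  have hM : (f - 1) ^ p = 0 := by
    have h := hft p
    rw [Multiset.sum_eq_zero (fun a ha => by
      obtain ⟨b, hb, rfl⟩ := Multiset.mem_map.1 ha
      exact Nat.sub_eq_zero_of_le (hμp b hb).2)] at h
    rwa [UnipForms.rankDim_eq_range, Submodule.finrank_eq_zero, LinearMap.range_eq_bot] at h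
  have hpow : f ^ p = 1 := by
    have h := congrArg (aeval f) (sub_pow_char (R := F[X]) (p := p) X 1)
    simp only [hM, map_sub, map_pow, aeval_X, map_one, one_pow] at h
    exact sub_eq_zero.1 h.symm
  obtain ⟨x, hx⟩ := exists_of_end f hfB
  obtain ⟨W, hWi, hWn, hWd⟩ := (fixes_iff x).1 (hall x (pow_eq_one (hx.symm ▸ hpow)) fun z hz => by
    have hfz : f = z • 1 := hx ▸ spEnd_eq_smul hz
    have hz1 : z = 1 := by
      rcases Nat.eq_zero_or_pos k with rfl | hk0
      · exact absurd (fun a ha => by have := Multiset.le_sum_of_mem ha; have := hμp a ha; omega) hone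
      have h := hpow
      rw [hfz, _root_.smul_pow, one_pow] at h
      have h' := congrArg (fun g : End F (Fin k ⊕ Fin k → F) => g (fun _ => 1) (Sum.inl ⟨0, hk0⟩)) h
      have hzp : z ^ p = 1 := by simpa using h'
      have h'' : (z - 1) ^ p = 0 := by rw [sub_pow_char, hzp, one_pow, sub_self]
      exact sub_eq_zero.1 (eq_zero_of_pow_eq_zero h'')
    refine hone fun a ha => ?_
    have h := hft 1
    rw [hfz, hz1, one_smul, sub_self, UnipForms.rankDim_eq_range, pow_one, LinearMap.range_zero, finrank_bot] at h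
    have h' := Multiset.le_sum_of_mem (Multiset.mem_map_of_mem (· - 1) ha)
    have := (hμp a ha).1
    omega)
  rw [hx] at hWi
  have hA := sympB_isAlt (F := F) k
  obtain ⟨hRi, hRn, -, htype⟩ := SympUnipotent.split_piece hA hfB (S := ⊤) (fun _ _ => trivial) nd_top
    ⟨p, (Fact.out : p.Prime).pos, hpow⟩ le_top hWi hWn
  obtain ⟨ν, hνpos, hν⟩ := SympUnipotent.exists_typeOn (SympUnipotent.inv_nil.1 hWi) hM
  obtain ⟨ν', hν'pos, hν'⟩ := SympUnipotent.exists_typeOn (SympUnipotent.inv_nil.1 hRi) hM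
  have hμeq : μ = ν + ν' := SympUnipotent.eq_of_sums (fun a ha => (hμp a ha).1)
    (fun a ha => (Multiset.mem_add.1 ha).elim (hνpos a) (hν'pos a))
    fun j => (hft j).symm.trans (htype ν ν' hν hν' j)
  exact ⟨ν, hμeq ▸ Multiset.le_add_right ν ν', by rw [← hν.finrank_eq, hWd],
    fun a ha => even_count hA hfB hWi hWn hν ha⟩

end Unipotent

section CharTwo

variable [CharP F 2]

theorem fixes_two (hd : 0 < d) (hme : Even m) (hm : m ≤ 2 * d) (hc : (2 * d) % 4 = 2 ∨ m % 4 = 0)
    (x : Matrix.symplecticGroup (Fin d) F)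
    {z : F} (hz : ((x ^ 2 : Matrix.symplecticGroup (Fin d) F) : Matrix (Fin d ⊕ Fin d) (Fin d ⊕ Fin d) F) =
      z • (1 : Matrix (Fin d ⊕ Fin d) (Fin d ⊕ Fin d) F)) : Fixes m x := by
  obtain ⟨hzz, hx⟩ := spEnd_scalar hd hz
  obtain rfl : z = 1 := by
    rcases mul_self_eq_one_iff.1 hzz with h | h
    · exact h
    · rw [h, CharTwo.neg_eq]
  rw [one_smul] at hx
  obtain ⟨W, -, hWi, hWn, hWd⟩ := SympUnipotent.exists_involution_sub (sympB_isAlt d) (spEnd_isom x) hx _ ⊤ m
    finrank_top_eq (fun _ _ => trivial) nd_top hme hm hc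
  exact (fixes_iff x).2 ⟨W, hWi, hWn, hWd⟩

/-- An involution all of whose invariant non-degenerate subspaces have dimension divisible by four. -/
theorem not_all_two (hd : Even d) (hd0 : 0 < d) (hm : ¬ 4 ∣ m) :
    ∃ x : Matrix.symplecticGroup (Fin d) F, x ^ 2 = 1 ∧
      (∀ z : F, (x : Matrix (Fin d ⊕ Fin d) (Fin d ⊕ Fin d) F) ≠ z • (1 : Matrix (Fin d ⊕ Fin d) (Fin d ⊕ Fin d) F)) ∧
      ¬ Fixes m x := by
  obtain ⟨k, rfl⟩ := hd
  let π : Fin (k + k) → Fin (k + k) := fun i =>
    if h : (i : ℕ) < k then ⟨i + k, by omega⟩ else ⟨i - k, by omega⟩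
  have hπ : Function.Involutive π := fun i => by
    have := i.isLt
    dsimp only [π]
    by_cases h : (i : ℕ) < k
    · rw [dif_pos h, dif_neg (by simp)]
      exact Fin.ext (by simp)
    · rw [dif_neg h, dif_pos (show (i : ℕ) - k < k by omega)]
      exact Fin.ext (show (i : ℕ) - k + k = i by omega)
  have hπne : ∀ i, π i ≠ i := fun i e => by
    have h := congrArg Fin.val e
    have := i.isLt
    dsimp only [π] at h
    split at h <;> simp only at h <;> omega
  let N : End F (Fin (k + k) ⊕ Fin (k + k) → F) :=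
    { toFun := fun v => Sum.elim (fun i => v (Sum.inr (π i))) 0
      map_add' := fun a b => by funext i; rcases i with i | i <;> simp
      map_smul' := fun c a => by funext i; rcases i with i | i <;> simp }
  set B := sympB (k + k) F
  have hA : B.IsAlt := sympB_isAlt _
  have hNB : ∀ u v, B (N u) v = -∑ i, u (Sum.inr (π i)) * v (Sum.inr i) := fun u v => by
    rw [sympB_apply, Forms.sympForm_eq_sum, ← Finset.sum_neg_distrib]
    simp [N]
  have hNN : ∀ v, N (N v) = 0 := fun v => by
    funext i; rcases i with i | i <;> simp [N]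
  have hself : ∀ v, B (N v) v = 0 := fun v => by
    rw [hNB, neg_eq_zero]
    exact Finset.sum_involution (fun i _ => π i)
      (fun i _ => by rw [hπ i]; linear_combination CharTwo.add_self_eq_zero (v (Sum.inr (π i)) * v (Sum.inr i)))
      (fun i _ _ => hπne i) (fun i _ => Finset.mem_univ _) (fun i _ => hπ i)
  have hsymm : ∀ u v, B (N u) v = B (N v) u := fun u v => by
    rw [hNB, hNB]
    congr 1
    refine Fintype.sum_bijective π hπ.bijective _ _ fun i => ?_
    rw [hπ i, mul_comm]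
  set f : End F (Fin (k + k) ⊕ Fin (k + k) → F) := 1 + N with hfdef
  have hf : ∀ u v, B (f u) (f v) = B u v := fun u v => by
    simp only [hfdef, LinearMap.add_apply, Module.End.one_apply, map_add]
    rw [SympDecomp.swap hA (N v) u, hsymm u v, show B (N u) (N v) = 0 by rw [hNB]; simp [N]]
    ring
  have hpow : f ^ 2 = 1 := LinearMap.ext fun v => by
    rw [pow_two, Module.End.mul_apply]
    funext i
    simp only [hfdef, LinearMap.add_apply, Module.End.one_apply, map_add, hNN, add_zero, Pi.add_apply]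
    linear_combination CharTwo.add_self_eq_zero (N v i)
  obtain ⟨x, hx⟩ := exists_of_end f hf
  refine ⟨x, pow_eq_one (hx.symm ▸ hpow), fun z hz => ?_, ?_⟩
  · have h : f = z • 1 := hx ▸ spEnd_eq_smul hz
    let i₀ : Fin (k + k) := ⟨0, hd0⟩
    have h' := congrArg (fun g : End F (Fin (k + k) ⊕ Fin (k + k) → F) =>
      g (Pi.single (Sum.inr (π i₀)) 1) (Sum.inl i₀)) h
    simp [hfdef, N] at h'
  · rw [fixes_iff, hx]
    rintro ⟨W, hWi, hWn, hWd⟩
    have hfN : f - 1 = N := by rw [hfdef]; abel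
    obtain ⟨hRi, -, hdim, -⟩ := SympUnipotent.split_piece hA hf (S := ⊤) (fun _ _ => trivial) nd_top
      ⟨2, two_pos, hpow⟩ le_top hWi hWn
    obtain ⟨-, hsup, hinf⟩ := SympDecomp.nd_split hA le_top hWn nd_top
    have hWN : Inv N W := hfN ▸ SympUnipotent.inv_nil.1 hWi
    have hRN : Inv N (⊤ ⊓ B.orthogonal W) := hfN ▸ SympUnipotent.inv_nil.1 hRi
    have hrank := SympUnipotent.rankDim_sup N hWN hRN hinf 1
    rw [hsup] at hrank
    simp only [LinRep.JordanType.rankDim] at hrank
    have e1 : N ^ 1 = N := pow_one N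
    rw [e1] at hrank
    -- the whole image has dimension `k + k`
    let L : (Fin (k + k) → F) →ₗ[F] (Fin (k + k) ⊕ Fin (k + k) → F) :=
      { toFun := fun a => Sum.elim (fun i => a i) 0
        map_add' := fun a b => by funext i; rcases i with i | i <;> simp
        map_smul' := fun c a => by funext i; rcases i with i | i <;> simp }
    have hbig : k + k ≤ finrank F ((⊤ : Submodule F (Fin (k + k) ⊕ Fin (k + k) → F)).map N) := by
      have hinj : Function.Injective L := fun a b hab => funext fun i => congrFun hab (Sum.inl i)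
      have h1 : LinearMap.range L ≤ (⊤ : Submodule F (Fin (k + k) ⊕ Fin (k + k) → F)).map N := by
        rintro _ ⟨a, rfl⟩
        refine ⟨Sum.elim 0 (fun i => a (π i)), trivial, funext fun i => ?_⟩
        rcases i with i | i <;> simp [N, L, hπ _]
      have h2 := Submodule.finrank_mono h1
      rwa [LinearMap.finrank_range_of_inj hinj, Module.finrank_fin_fun] at h2
    have hWle := two_mul_rank_le hNN hWN
    have hRle := two_mul_rank_le hNN hRN
    rw [finrank_top_eq] at hdim
    -- the form `(u, v) ↦ B (N u) v` on `W`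
    let C : LinearMap.BilinForm F W := B.compl₁₂ (N.comp W.subtype) W.subtype
    have hC : C.IsAlt := fun v => hself v.1
    have hker : LinearMap.ker C = LinearMap.ker (N.comp W.subtype) := by
      ext v
      rw [LinearMap.mem_ker, LinearMap.mem_ker]
      refine ⟨fun h => ?_, fun h => LinearMap.ext fun w => ?_⟩
      · by_contra h0
        obtain ⟨w, hw, hvw⟩ := hWn _ (hWN v.1 v.2) h0
        exact hvw (LinearMap.congr_fun h ⟨w, hw⟩)
      · show B ((N.comp W.subtype) v) w = 0
        rw [h, map_zero, LinearMap.zero_apply]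
    obtain ⟨s, hs⟩ := UnipForms.even_rank_of_isAlt hC
    have h1 := C.finrank_range_add_finrank_ker
    have h2 := (N.comp W.subtype).finrank_range_add_finrank_ker
    rw [LinearMap.range_comp, Submodule.range_subtype] at h2
    rw [hker] at h1
    exact hm ⟨s, by omega⟩

end CharTwo

/-- Elements whose square is scalar, odd characteristic. -/
theorem fixes_involution (h2 : (2 : F) ≠ 0) (hd : 0 < d) (hme : Even m) (hm : m ≤ d)
    (x : Matrix.symplecticGroup (Fin d) F)
    {z : F} (hz : ((x ^ 2 : Matrix.symplecticGroup (Fin d) F) : Matrix (Fin d ⊕ Fin d) (Fin d ⊕ Fin d) F) =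
      z • (1 : Matrix (Fin d ⊕ Fin d) (Fin d ⊕ Fin d) F)) : Fixes m x := by
  classical
  obtain ⟨hzz, hx⟩ := spEnd_scalar hd hz
  obtain ⟨l, rfl⟩ := hme
  rw [fixes_iff]
  have hA := sympB_isAlt (F := F) d
  have hiso := spEnd_isom x
  rcases mul_self_eq_one_iff.1 hzz with rfl | rfl
  · rw [one_smul] at hx
    set f := spEnd x with hf
    obtain ⟨hCn, hMn, -, hMi, hdd, -⟩ := SympDecomp.split_fixed (r := 2) hA hiso
      (by exact_mod_cast h2) hx (S := ⊤) (fun _ _ => trivial) nd_top
    rw [finrank_top_eq] at hdd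
    set C := LinearMap.ker (f - 1) ⊓ (⊤ : Submodule F (Fin d ⊕ Fin d → F))
    set M := (⊤ : Submodule F (Fin d ⊕ Fin d → F)).map (f - 1)
    have hneg : ∀ v ∈ M, f v = -v := by
      rintro _ ⟨w, -, rfl⟩
      have hw : f (f w) = w := by rw [← Module.End.mul_apply, ← pow_two, hx]; rfl
      simp only [LinearMap.sub_apply, Module.End.one_apply, map_sub, hw]
      abel
    obtain ⟨c, hc⟩ := SympDecomp.nd_even hA hCn
    obtain ⟨c', hc'⟩ := SympDecomp.nd_even hA hMn
    obtain ⟨P, hPC, hPi, hPn, hPd⟩ := exists_fixed_planes hA hiso two_pos hx (S := C) inf_le_left hCn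
      (j := min l c) (by omega)
    obtain ⟨Q, hQM, -, hQn, hQd⟩ := exists_fixed_planes (f := (1 : End F (Fin d ⊕ Fin d → F))) hA
      (fun _ _ => rfl) two_pos (one_pow 2) (S := M)
      (by rw [sub_self, LinearMap.ker_zero]; exact le_top) hMn (j := l - min l c) (by omega)
    have horth : Q ≤ (sympB d F).orthogonal P := fun v hv => SympDecomp.mem_orth.2 fun n hn => by
      obtain ⟨w, -, rfl⟩ := hQM hv
      exact SympDecomp.fixed_orth hiso w (hPC hn).1
    refine ⟨P ⊔ Q, hPi.sup fun v hv => ?_, SympDecomp.nd_sup hA hPn hQn horth, ?_⟩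
    · rw [hneg v (hQM hv)]; exact Q.neg_mem hv
    · rw [finrank_sup_orth hA hPn horth, hPd, hQd]
      omega
  · have hxx : ∀ v, spEnd x (spEnd x v) = -v := fun v => by
      rw [← Module.End.mul_apply, ← pow_two, hx]
      simp
    let G := LinearEquiv.ofBijective (spEnd x)
      ⟨SympDecomp.spEnd_injective x, LinearMap.surjective_of_injective (SympDecomp.spEnd_injective x)⟩
    obtain ⟨u, v, hfr, huv⟩ := Forms.SympInvolution.exists_frame_complex
      (show finrank F (Fin d ⊕ Fin d → F) = 2 * d by rw [← finrank_top_eq (F := F) (d := d), finrank_top])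
      hA (sympB_nondegenerate d) h2 G hiso hxx l (by omega)
    refine ⟨Submodule.span F (Set.range (Sum.elim u v)), inv_iff_map.2 ?_, fun w hw hw0 => ?_, ?_⟩
    · rw [Submodule.map_span_le]
      rintro _ ⟨i | i, rfl⟩
      · exact Submodule.subset_span ⟨Sum.inr i, ((huv i).1).symm⟩
      · show spEnd x (v i) ∈ _
        rw [show spEnd x (v i) = -u i from (huv i).2]
        exact Submodule.neg_mem _ (Submodule.subset_span ⟨Sum.inl i, rfl⟩)
    · obtain ⟨g, rfl⟩ := (Submodule.mem_span_range_iff_exists_fun F).1 hw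
      by_contra! hall
      refine hw0 (Finset.sum_eq_zero fun i _ => ?_)
      rcases i with i | i
      · have h := hall (v i) (Submodule.subset_span ⟨Sum.inr i, rfl⟩)
        simp [Fintype.sum_sum_type, LinearMap.sum_apply, hfr.uv, hfr.vv] at h
        simp [h]
      · have h := hall (u i) (Submodule.subset_span ⟨Sum.inl i, rfl⟩)
        simp [Fintype.sum_sum_type, LinearMap.sum_apply, hfr.uu, hfr.vu hA] at h
        simp [h]
    · rw [finrank_span_eq_card (hfr.linearIndependent hA), Fintype.card_sum, Fintype.card_fin]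

section OddPrime

variable {r : ℕ} [Fact r.Prime]

theorem fixes_block (hr : (r : F) ≠ 0) (hr2 : r ≠ 2) (hi : 0 < orderOf (Fintype.card F : ZMod r)) (hd : 0 < d)
    (hme : Even m) (hm : m ≤ d)
    (hcrit : m % blockDim (Fintype.card F) r ≤ (2 * d) % blockDim (Fintype.card F) r)
    (x : Matrix.symplecticGroup (Fin d) F)
    {z : F} (hz : ((x ^ r : Matrix.symplecticGroup (Fin d) F) : Matrix (Fin d ⊕ Fin d) (Fin d ⊕ Fin d) F) =
      z • (1 : Matrix (Fin d ⊕ Fin d) (Fin d ⊕ Fin d) F)) : Fixes m x := by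
  have hr' := (Fact.out : r.Prime)
  obtain ⟨hzz, hx⟩ := spEnd_scalar hd hz
  obtain ⟨hf, hpow⟩ := odd_normalise (hr'.odd_of_ne_two hr2) hzz hx
  set f := z • spEnd x
  set c := blockDim (Fintype.card F) r
  have hA := sympB_isAlt (F := F) d
  obtain ⟨hKn, hMn, -, hMi, hdd, C, hC⟩ := SympDecomp.split_fixed hA hf hr hpow (S := ⊤) (fun _ _ => trivial) nd_top
  rw [finrank_top_eq, hC] at hdd
  set K := LinearMap.ker (f - 1) ⊓ (⊤ : Submodule F (Fin d ⊕ Fin d → F)) with hK
  have hM : ∀ v ∈ (⊤ : Submodule F (Fin d ⊕ Fin d → F)).map (f - 1),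
      aeval f (∑ j ∈ Finset.range r, X ^ j : F[X]) v = 0 := by
    rintro _ ⟨w, -, rfl⟩
    exact LinearMap.congr_fun (Decomp.geom_mul_sub_one hpow) w
  have hdd' : finrank F K + c * C = 2 * d := hdd
  have hfix : (2 * d) % c ≤ finrank F K := by
    rw [← hdd, Nat.add_mul_mod_self_left]
    exact Nat.mod_le _ _
  have hmd := Nat.mod_add_div m c
  set w := min (m / c) C with hw
  have hwA : c * w ≤ c * (m / c) := Nat.mul_le_mul_left c (Nat.min_le_left _ _)
  have hwcase : c * w = c * (m / c) ∨ c * w = c * C := by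
    rcases le_total (m / c) C with h | h
    · exact Or.inl (by rw [hw, min_eq_left h])
    · exact Or.inr (by rw [hw, min_eq_right h])
  have hja : m - c * w ≤ finrank F K := by rcases hwcase with h | h <;> omega
  obtain ⟨j, hj⟩ : Even (m - c * w) := by
    obtain ⟨e, he⟩ := SympDecomp.even_blockDim (Fintype.card F) r
    obtain ⟨y, hy⟩ := hme
    change c = e + e at he
    exact ⟨y - e * w, by rw [he, hy, add_mul]; omega⟩
  obtain ⟨P, hPK, hPi, hPn, hPd⟩ := exists_fixed_planes hA hf hr'.pos hpow (S := K) inf_le_left hKn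
    (j := j) (by omega)
  obtain ⟨Q, hQM, hQi, hQn, hQd⟩ := SympDecomp.exists_nd_sub hA hf hr'.pos hpow hMi hMn (c := c)
    (fun T hT hTi hTn hne => SympDecomp.exists_moved_block hA hf hr hpow hr2 hi hTi hTn hne fun v hv => hM v (hT hv))
    w (by rw [hC, mul_comm w]; exact Nat.mul_le_mul_left c (Nat.min_le_right _ _))
  have horth : Q ≤ (sympB d F).orthogonal P := fun v hv => SympDecomp.mem_orth.2 fun n hn => by
    obtain ⟨y, -, rfl⟩ := hQM hv
    exact SympDecomp.fixed_orth hf y (hPK hn).1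
  refine fixes_of_smul hzz (hPi.sup hQi) (SympDecomp.nd_sup hA hPn hQn horth) ?_
  rw [finrank_sup_orth hA hPn horth, hPd, hQd, mul_comm w]
  omega

/-- A prime dividing the number of non-degenerate `2 * h`-spaces divides one of the top factors of the order. -/
theorem exists_factor {p : ℕ} [Fact p.Prime] [CharP F p] (hrp : r ≠ p) {h : ℕ} (hh : h ≤ d)
    (hΩ : r ∣ Nat.card {W : Submodule F (Fin d ⊕ Fin d → F) // finrank F ↥W = h + h ∧
      (∀ u ∈ W, u ≠ 0 → ∃ v ∈ W, Cfsg.sympForm d F u v ≠ 0)}) :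
    ∃ i, d - h ≤ i ∧ i < d ∧ r ∣ Fintype.card F ^ (2 * (i + 1)) - 1 := by
  classical
  have hdh : h + (d - h) = d := by omega
  set E := GL.sympBlockEquiv hdh with hE
  have hsplit : ∀ u v : Fin d ⊕ Fin d → F, Cfsg.sympForm d F u v =
      Cfsg.sympForm h F (fun i => u (E (Sum.inl i))) (fun i => v (E (Sum.inl i))) +
        Cfsg.sympForm (d - h) F (fun i => u (E (Sum.inr i))) (fun i => v (E (Sum.inr i))) := fun u v => by
    simp [hE, GL.sympBlockEquiv, Forms.sympForm_eq_sum, ← Fin.sum_congr' _ hdh, Fin.sum_univ_add]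
    ring
  let L : (Fin h ⊕ Fin h → F) →ₗ[F] (Fin d ⊕ Fin d → F) :=
    { toFun := fun w i => Sum.elim w 0 (E.symm i)
      map_add' := fun a b => by funext i; rcases he : E.symm i with j | j <;> simp [he]
      map_smul' := fun c a => by funext i; rcases he : E.symm i with j | j <;> simp [he] }
  have hLl : ∀ w i, L w (E (Sum.inl i)) = w i := fun w i => by simp [L]
  have hLr : ∀ w i, L w (E (Sum.inr i)) = 0 := fun w i => by simp [L]
  have hLinj : Function.Injective L := fun a b hab => funext fun i => by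
    rw [← hLl a i, hab, hLl]
  have hLB : ∀ a b, Cfsg.sympForm d F (L a) (L b) = Cfsg.sympForm h F a b := fun a b => by
    simp [hsplit, hLl, hLr, Forms.sympForm_eq_sum]
  set W₀ := LinearMap.range L with hW₀
  have hW₀d : finrank F W₀ = h + h := by
    rw [hW₀, LinearMap.finrank_range_of_inj hLinj, Module.finrank_fintype_fun_eq_card, Fintype.card_sum,
      Fintype.card_fin]
  set G := Matrix.symplecticGroup (Fin d) F
  letI : MulAction G (Submodule F (Fin d ⊕ Fin d → F)) :=
    { smul := fun g W => W.map (spEnd g)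
      one_smul := fun W => by
        show W.map (spEnd 1) = W
        rw [map_one]; exact Submodule.map_id _
      mul_smul := fun g g' W => by
        show W.map (spEnd (g * g')) = (W.map (spEnd g')).map (spEnd g)
        rw [map_mul]; exact Submodule.map_comp (spEnd g') (spEnd g) _ }
  have horb : MulAction.orbit G W₀ = {W : Submodule F (Fin d ⊕ Fin d → F) | finrank F ↥W = h + h ∧
      (∀ u ∈ W, u ≠ 0 → ∃ v ∈ W, Cfsg.sympForm d F u v ≠ 0)} := by
    ext W
    constructor
    · rintro ⟨g, rfl⟩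
      refine ⟨?_, ?_⟩
      · show finrank F ↥(W₀.map (spEnd g)) = _
        rw [← (Submodule.equivMapOfInjective _ (SympDecomp.spEnd_injective g) W₀).finrank_eq, hW₀d]
      · rintro _ ⟨u, ⟨a, rfl⟩, rfl⟩ hu0
        have ha : a ≠ 0 := fun h0 => hu0 (by rw [h0, map_zero, map_zero])
        obtain ⟨b, hb⟩ : ∃ b, sympB h F a b ≠ 0 := by
          by_contra! hall; exact ha ((sympB_nondegenerate h).1 a hall)
        refine ⟨_, ⟨L b, ⟨b, rfl⟩, rfl⟩, ?_⟩
        rw [← sympB_apply, spEnd_isom, sympB_apply, hLB, ← sympB_apply]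
        exact hb
    · rintro ⟨hd', hn⟩
      obtain ⟨k, e, hk, he⟩ := Forms.SympTwo.exists_alt_equiv
        (β := (sympB d F).compl₁₂ W.subtype W.subtype) (fun u => sympB_isAlt d u.1) fun u hu => by
          by_contra hne
          obtain ⟨v, hv, huv⟩ := hn u u.2 fun h => hne (Subtype.ext h)
          exact huv (by rw [← sympB_apply]; exact hu ⟨v, hv⟩)
      obtain rfl : k = h := by omega
      let v : Fin k ⊕ Fin k → (Fin d ⊕ Fin d → F) := fun i => L (Pi.single i 1)
      let w : Fin k ⊕ Fin k → (Fin d ⊕ Fin d → F) := fun i => (e.symm (Pi.single i.swap 1) : W).1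
      have hs : LinearIndependent F fun i => (Pi.single i 1 : Fin k ⊕ Fin k → F) := by
        convert (Pi.basisFun F (Fin k ⊕ Fin k)).linearIndependent
        simp
      have hv : LinearIndependent F v := hs.map' L (LinearMap.ker_eq_bot.2 hLinj)
      have hw : LinearIndependent F w := (((hs.comp Sum.swap (Equiv.sumComm _ _).injective).map'
        e.symm.toLinearMap e.symm.ker).map' W.subtype W.ker_subtype)
      obtain ⟨A, hAv⟩ := Forms.exists_symplectic_map (v := v) (w := w) hv hw fun i j => by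
        have e1 := he (e.symm (Pi.single i.swap 1)) (e.symm (Pi.single j.swap 1))
        rw [e.apply_symm_apply, e.apply_symm_apply] at e1
        have e2 : Cfsg.sympForm d F (w i) (w j) =
            Cfsg.sympForm k F (Pi.single j.swap 1) (Pi.single i.swap 1) := by
          rw [← e1, ← sympB_apply]; rfl
        rw [e2, hLB]
        rcases i with i | i <;> rcases j with j | j <;>
          simp [Forms.sympForm_eq_sum, Pi.single_apply, eq_comm]
      refine ⟨A, ?_⟩
      show W₀.map (spEnd A) = W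
      refine Submodule.eq_of_le_of_finrank_eq ?_ ?_
      · rintro _ ⟨_, ⟨a, rfl⟩, rfl⟩
        rw [← (Pi.basisFun F (Fin k ⊕ Fin k)).sum_repr a, map_sum, map_sum]
        refine Submodule.sum_mem _ fun i _ => ?_
        rw [map_smul, map_smul, Pi.basisFun_apply, SympDecomp.spEnd_apply]
        refine Submodule.smul_mem _ _ ?_
        show (A : Matrix _ _ F).mulVec (v i) ∈ W
        rw [hAv]
        exact SetLike.coe_mem _
      · rw [← (Submodule.equivMapOfInjective _ (SympDecomp.spEnd_injective A) W₀).finrank_eq, hW₀d, hd']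
  -- the stabilizer contains a symplectic group on the complement
  set S := MulAction.stabilizer G W₀
  have hmem : ∀ A : Matrix.symplecticGroup (Fin (d - h)) F,
      GL.sympBlock hdh (1, (A : Matrix (Fin (d - h) ⊕ Fin (d - h)) (Fin (d - h) ⊕ Fin (d - h)) F)) ∈
        Matrix.symplecticGroup (Fin d) F := fun A =>
    Forms.mem_symplecticGroup_iff_form.2 (GL.preserves_sympBlock hdh
      (fun u v => by rw [Matrix.one_mulVec, Matrix.one_mulVec]) fun u v => Forms.mem_symplecticGroup_iff_form.1 A.2 u v)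
  have hfixL : ∀ A w, spEnd (⟨_, hmem A⟩ : G) (L w) = L w := fun A w => funext fun i => by
    obtain ⟨x, rfl⟩ := E.surjective i
    rw [SympDecomp.spEnd_apply]
    change ((Matrix.fromBlocks _ 0 0 _).submatrix E.symm E.symm).mulVec (L w) (E x) = _
    rw [Matrix.submatrix_mulVec_equiv]
    rcases x with x | x <;> simp [Matrix.fromBlocks_mulVec, Function.comp_def, hLl, hLr, ← Pi.zero_def]
  let φ : Matrix.symplecticGroup (Fin (d - h)) F →* S := MonoidHom.mk'
    (fun A => ⟨⟨_, hmem A⟩, by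
      show W₀.map (spEnd (⟨_, hmem A⟩ : G)) = W₀
      refine Submodule.eq_of_le_of_finrank_eq ?_
        (Submodule.equivMapOfInjective _ (SympDecomp.spEnd_injective _) W₀).finrank_eq.symm
      rintro _ ⟨_, ⟨w, rfl⟩, rfl⟩
      exact ⟨w, (hfixL A w).symm⟩⟩)
    fun A A' => Subtype.ext (Subtype.ext (by
      show GL.sympBlock hdh _ = GL.sympBlock hdh _ * GL.sympBlock hdh _
      rw [← map_mul, Prod.mk_mul_mk, one_mul]
      rfl))
  have hφ : Function.Injective φ := fun A A' e => Subtype.ext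
    (Matrix.fromBlocks_inj.1 ((Matrix.reindexAlgEquiv F F E).injective
      (congrArg (fun g : S => ((g : G) : Matrix (Fin d ⊕ Fin d) (Fin d ⊕ Fin d) F)) e))).2.2.2
  have hΩ' : Nat.card {W : Submodule F (Fin d ⊕ Fin d → F) // finrank F ↥W = h + h ∧
      (∀ u ∈ W, u ≠ 0 → ∃ v ∈ W, Cfsg.sympForm d F u v ≠ 0)} = S.index := by
    show Nat.card ↥{W : Submodule F (Fin d ⊕ Fin d → F) | _} = _
    rw [← horb]
    exact Nat.card_congr (MulAction.orbitEquivQuotientStabilizer G W₀)
  have hdvd := Nat.mul_dvd_mul (hΩ.trans (dvd_of_eq hΩ')) (Subgroup.card_dvd_of_injective φ hφ)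
  rw [S.index_mul_card, Forms.card_symplecticGroup, Forms.card_symplecticGroup] at hdvd
  set q := Fintype.card F with hq
  have hpos : 0 < ∏ i ∈ Finset.range (d - h), (q ^ (2 * (i + 1)) - 1) :=
    Finset.prod_pos fun i _ => Nat.sub_pos_of_lt (Nat.one_lt_pow (by omega) Fintype.one_lt_card)
  have hq0 : 0 < q := Fintype.card_pos
  rw [← Finset.prod_range_mul_prod_Ico _ (show d - h ≤ d by omega),
    show d ^ 2 = (d - h) ^ 2 + (d ^ 2 - (d - h) ^ 2) from
      (Nat.add_sub_cancel' (Nat.pow_le_pow_left (by omega) 2)).symm, pow_add,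
    mul_mul_mul_comm (q ^ (d - h) ^ 2), mul_comm r] at hdvd
  have hdvd' := Nat.dvd_of_mul_dvd_mul_left (Nat.mul_pos (pow_pos hq0 _) hpos) hdvd
  have hr' := (Fact.out : r.Prime)
  rcases hr'.dvd_mul.1 hdvd' with h1 | h1
  · obtain ⟨n, hp, hn⟩ := FiniteField.card F p
    rw [hq, hn] at h1
    exact absurd ((Nat.prime_dvd_prime_iff_eq hr' hp).1 (hr'.dvd_of_dvd_pow (hr'.dvd_of_dvd_pow h1))) hrp
  · rw [hr'.prime.dvd_finsetProd_iff] at h1
    obtain ⟨i, hi, hdiv⟩ := h1
    rw [Finset.mem_Ico] at hi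
    exact ⟨i, hi.1, hi.2, hdiv⟩

/-- The conditions are necessary. -/
theorem criterion_of_fixes {p : ℕ} [Fact p.Prime] [CharP F p] (hrp : r ≠ p) (hr : (r : F) ≠ 0) (hr2 : r ≠ 2)
    {h : ℕ} (hm : h + h ≤ d)
    (hΩ : r ∣ Nat.card {W : Submodule F (Fin d ⊕ Fin d → F) // finrank F ↥W = h + h ∧
      (∀ u ∈ W, u ≠ 0 → ∃ v ∈ W, Cfsg.sympForm d F u v ≠ 0)})
    (hall : ∀ x : Matrix.symplecticGroup (Fin d) F, x ^ r = 1 →
      (∀ z : F, (x : Matrix (Fin d ⊕ Fin d) (Fin d ⊕ Fin d) F) ≠ z • (1 : Matrix (Fin d ⊕ Fin d) (Fin d ⊕ Fin d) F)) →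
      Fixes (h + h) x) :
    blockDim (Fintype.card F) r ≤ h + h ∧
      (h + h) % blockDim (Fintype.card F) r ≤ (2 * d) % blockDim (Fintype.card F) r := by
  set c := blockDim (Fintype.card F) r with hcdef
  obtain ⟨i, hi1, hi2, hdiv⟩ := exists_factor hrp (show h ≤ d by omega) hΩ
  have hcdvd : c ∣ 2 * (i + 1) := by
    rw [← ZMod.natCast_eq_zero_iff, Nat.cast_sub (Nat.one_le_pow _ _ Fintype.card_pos), Nat.cast_pow, Nat.cast_one,
      sub_eq_zero] at hdiv
    exact SympDecomp.blockDim_dvd (orderOf_dvd_iff_pow_eq_one.2 hdiv) (even_two_mul _)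
  obtain ⟨e, he⟩ := SympDecomp.even_blockDim (Fintype.card F) r
  rw [← hcdef] at he
  have he0 : 0 < e := by
    rcases Nat.eq_zero_or_pos e with rfl | h0
    · rw [he] at hcdvd
      simp at hcdvd
    · exact h0
  rw [he, ← two_mul] at hcdvd
  obtain ⟨β, hβ⟩ := (Nat.mul_dvd_mul_iff_left two_pos).1 hcdvd
  have hlow : d % e ≤ d - (i + 1) := by
    rw [show d = (d - (i + 1)) + e * β by omega, Nat.add_mul_mod_self_left]
    exact (Nat.mod_le _ _).trans (by omega)
  have hde := Nat.mod_add_div d e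
  obtain ⟨x, hxr, hxfix⟩ := SympDecomp.exists_witness (d := d) hr he he0 (M := d / e) (by omega)
  rw [show d - e * (d / e) = d % e by omega] at hxfix
  have hlt : d % e < d := by omega
  obtain ⟨W, hWi, hWn, hWd⟩ := (fixes_iff x).1 (hall x hxr fun z hz => by
    have hd0 : 0 < d := by omega
    have hfz := spEnd_eq_smul hz
    have hzz : z * z = 1 := GL.symp_scalar_sq (n := d) hd0 fun u v => by
      rw [← hz]; exact Forms.mem_symplecticGroup_iff_form.1 x.2 u v
    have hpow : spEnd x ^ r = 1 := by rw [← map_pow, hxr, map_one]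
    rw [hfz, _root_.smul_pow, one_pow] at hpow
    have hzr : z ^ r = 1 := by
      simpa using congrArg (fun g : End F (Fin d ⊕ Fin d → F) => g (fun _ => 1) (Sum.inl ⟨0, hd0⟩)) hpow
    obtain ⟨k, hk⟩ := (Fact.out : r.Prime).odd_of_ne_two hr2
    rw [hk, pow_succ, pow_mul, sq, hzz, one_pow, one_mul] at hzr
    rw [hfz, hzr, one_smul, sub_self, LinearMap.ker_zero, finrank_top_eq] at hxfix
    omega)
  obtain ⟨b, hb⟩ := SympDecomp.dim_symp (sympB_isAlt d) (spEnd_isom x) hr (by rw [← map_pow, hxr, map_one]) hWi hWn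
  rw [← hcdef, hWd] at hb
  have hKW : finrank F ↥(LinearMap.ker (spEnd x - 1) ⊓ W) ≤ 2 * (d % e) :=
    (Submodule.finrank_mono inf_le_left).trans hxfix.le
  have hmodlt := Nat.mod_lt d he0
  refine ⟨?_, ?_⟩
  · by_contra hlt'
    rcases Nat.eq_zero_or_pos b with rfl | hb0
    · omega
    · have := Nat.le_mul_of_pos_left c hb0
      omega
  · rw [show (2 * d) % c = 2 * (d % e) by rw [he, ← two_mul, Nat.mul_mod_mul_left], hb, Nat.add_mul_mod_self_right,
      Nat.mod_eq_of_lt (by omega)]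
    exact hKW

end OddPrime

end Cfsg.Agent.Elusive.SympNdPrime
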