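import Cfsg.Agent.Lib.Elusive.SympDecompositions
import Cfsg.Agent.Lib.UnipForms.Realize
import Cfsg.Agent.Lib.UnipForms.SympUnipotent

/-!
A unipotent isometry of a non-degenerate alternating form splits off cyclic non-degenerate pieces, and hence
invariant non-degenerate subspaces of every admissible type.
-/

set_option autoImplicit false
set_option linter.unusedSectionVars false
set_option linter.style.haveILetI false

namespace Cfsg.Agent.Elusive.SympUnipotent

open Module LinRep.JordanType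
open SympDecomp (Nd nd_split)

variable {F : Type*} [Field F] {V : Type*} [AddCommGroup V] [Module F V] [FiniteDimensional F V]

/-- The Jordan type of `N` on an invariant subspace. -/
def TypeOn (N : End F V) (S : Submodule F V) (μ : Multiset ℕ) : Prop :=
  ∀ k, rankDim N S k = (μ.map (· - k)).sum

theorem TypeOn.finrank_eq {N : End F V} {S : Submodule F V} {μ : Multiset ℕ} (h : TypeOn N S μ) :
    finrank F S = μ.sum := by
  have h0 := h 0
  simp only [Nat.sub_zero, Multiset.map_id'] at h0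
  rw [← h0, rankDim, pow_zero, Module.End.one_eq_id, Submodule.map_id]

theorem rankDim_restrict (N : End F V) {S : Submodule F V} (hS : Inv N S) (k : ℕ) :
    rankDim (N.restrict hS) ⊤ k = rankDim N S k := by
  rw [rankDim, rankDim, Submodule.map_top]
  have h : S.map (N ^ k) = (LinearMap.range ((N.restrict hS) ^ k)).map S.subtype := by
    rw [← LinearMap.range_comp]
    ext v
    rw [Module.End.pow_restrict]
    constructor
    · rintro ⟨s, hs, rfl⟩; exact ⟨⟨s, hs⟩, rfl⟩
    · rintro ⟨s, rfl⟩; exact ⟨s, s.2, rfl⟩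
  rw [h]
  exact (Submodule.equivMapOfInjective _ S.injective_subtype _).finrank_eq

theorem exists_typeOn {N : End F V} {S : Submodule F V} (hS : Inv N S) {n : ℕ} (hn : (N ^ n) = 0) :
    ∃ μ : Multiset ℕ, (∀ a ∈ μ, 0 < a) ∧ TypeOn N S μ := by
  have hnil : IsNilpotent (N.restrict hS) := ⟨n, LinearMap.ext fun v => Subtype.ext (by
    rw [Module.End.pow_restrict, LinearMap.coe_restrict_apply, hn]; rfl)⟩
  obtain ⟨μ, hμ⟩ := UnipForms.SympUnipotent.exists_type hnil rfl
  exact ⟨μ.parts, fun a ha => μ.parts_pos ha, fun k => (rankDim_restrict N hS k).symm.trans (hμ k)⟩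

theorem eq_of_sums {μ ν : Multiset ℕ} (hμ : ∀ a ∈ μ, 0 < a) (hν : ∀ a ∈ ν, 0 < a)
    (h : ∀ k, (μ.map (· - k)).sum = (ν.map (· - k)).sum) : μ = ν := by
  classical
  have hc : ∀ k, μ.countP (k < ·) = ν.countP (k < ·) := fun k => by
    have h1 := sum_map_sub_succ μ k
    have h2 := sum_map_sub_succ ν k
    have h3 := h k
    have h4 := h (k + 1)
    omega
  refine Multiset.ext.2 fun e => ?_
  rcases e with _ | e
  · rw [Multiset.count_eq_zero.2 fun h0 => (hμ 0 h0).false, Multiset.count_eq_zero.2 fun h0 => (hν 0 h0).false]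
  · have h1 := countP_lt_split μ e
    have h2 := countP_lt_split ν e
    rw [hc, hc] at h1
    omega

theorem rankDim_sup (N : End F V) {P Q : Submodule F V} (hP : Inv N P) (hQ : Inv N Q) (hd : P ⊓ Q = ⊥) (k : ℕ) :
    rankDim N (P ⊔ Q) k = rankDim N P k + rankDim N Q k := by
  have hmem : ∀ (W : Submodule F V), Inv N W → W.map (N ^ k) ≤ W := fun W hW => by
    induction k with
    | zero => rw [pow_zero, Module.End.one_eq_id, Submodule.map_id]
    | succ k ih =>
      rw [pow_succ', Module.End.mul_eq_comp, Submodule.map_comp]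
      exact (Submodule.map_mono ih).trans (inv_iff_map.1 hW)
  have h := Submodule.finrank_sup_add_finrank_inf_eq (P.map (N ^ k)) (Q.map (N ^ k))
  rw [le_bot_iff.1 ((inf_le_inf (hmem P hP) (hmem Q hQ)).trans hd.le), finrank_bot, ← Submodule.map_sup] at h
  simpa [rankDim] using h

section Isometry

variable {B : LinearMap.BilinForm F V} (hA : B.IsAlt) {f : End F V} (hf : ∀ u v, B (f u) (f v) = B u v)

theorem inv_nil {S : Submodule F V} : Inv f S ↔ Inv (f - 1) S :=
  ⟨fun h v hv => S.sub_mem (h v hv) hv, fun h v hv => by simpa using S.add_mem (h v hv) hv⟩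

include hf in
/-- Powers of `f - 1` pair as powers of `(1 - f)` on the other side, up to higher terms. -/
theorem pair_high {S : Submodule F V} (hS : Inv f S) {k : ℕ} (hk : ∀ v ∈ S, ((f - 1) ^ k) v = 0) :
    ∀ i l, k ≤ i + l → ∀ u ∈ S, ∀ v ∈ S, B (((f - 1) ^ i) u) (((f - 1) ^ l) v) = 0 := by
  intro i
  induction i with
  | zero =>
    intro l hl u _ v hv
    rw [show l = (l - k) + k by omega, pow_add, Module.End.mul_apply, hk v hv, map_zero, map_zero]
  | succ i ih =>
    intro l hl u hu v hv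
    rw [pow_succ, Module.End.mul_apply]
    have e : B (((f - 1) ^ i) ((f - 1) u)) (((f - 1) ^ l) v) =
        - B (((f - 1) ^ i) (f u)) (((f - 1) ^ (l + 1)) v) := by
      have hc : ∀ x, ((f - 1) ^ i) (f x) = f (((f - 1) ^ i) x) := fun x => by
        rw [← Module.End.mul_apply, ← (((Commute.refl f).sub_right (Commute.one_right f)).pow_right i).eq,
          Module.End.mul_apply]
      rw [hc, pow_succ', Module.End.mul_apply, LinearMap.sub_apply f 1, Module.End.one_apply, map_sub, hc,
        LinearMap.sub_apply f 1, Module.End.one_apply]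
      simp only [map_sub, LinearMap.sub_apply, hf]
      ring
    rw [e, ih (l + 1) (by omega) (f u) (hS u hu) v hv, neg_zero]

include hf in
theorem pair_top {S : Submodule F V} (hS : Inv f S) {k : ℕ} (hk : ∀ v ∈ S, ((f - 1) ^ k) v = 0) :
    ∀ i l, i + l + 1 = k → ∀ u ∈ S, ∀ v ∈ S,
      B (((f - 1) ^ i) u) (((f - 1) ^ l) v) = (-1) ^ i * B u (((f - 1) ^ (k - 1)) v) := by
  intro i
  induction i with
  | zero =>
    intro l hl u _ v _
    rw [pow_zero, Module.End.one_apply, pow_zero, one_mul, show l = k - 1 by omega]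
  | succ i ih =>
    intro l hl u hu v hv
    have h0 := pair_high hf hS hk (i + 1) (l + 1) (by omega) u hu v hv
    have key : ∀ a b, B ((f - 1) a) b + B a ((f - 1) b) + B ((f - 1) a) ((f - 1) b) = 0 := fun a b => by
      simp only [LinearMap.sub_apply, Module.End.one_apply, map_sub, hf]
      ring
    have h := key (((f - 1) ^ i) u) (((f - 1) ^ l) v)
    rw [← Module.End.mul_apply, ← pow_succ', ← Module.End.mul_apply (f - 1) ((f - 1) ^ l), ← pow_succ', h0,
      add_zero, ih (l + 1) (by omega) u hu v hv] at h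
    rw [eq_neg_of_add_eq_zero_left h, pow_succ (-1 : F)]
    ring

include hA hf in
theorem top_swap {S : Submodule F V} (hS : Inv f S) {k : ℕ} (hk0 : 0 < k)
    (hk : ∀ v ∈ S, ((f - 1) ^ k) v = 0) {u v : V} (hu : u ∈ S) (hv : v ∈ S) :
    B v (((f - 1) ^ (k - 1)) u) = (-1) ^ k * B u (((f - 1) ^ (k - 1)) v) := by
  have h := pair_top hf hS hk (k - 1) 0 (by omega) u hu v hv
  rw [pow_zero, Module.End.one_apply] at h
  rw [SympDecomp.swap hA _ v, h, ← neg_mul]
  congr 1
  conv_rhs => rw [show k = k - 1 + 1 by omega, pow_succ, mul_neg_one]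

include hf in
/-- Chains with non-singular top pairing span a non-degenerate piece. -/
theorem piece_of_chains {S : Submodule F V} (hS : Inv f S) {k : ℕ} (hk : ∀ v ∈ S, ((f - 1) ^ k) v = 0)
    {s : ℕ} (v : Fin s → V) (hv : ∀ a, v a ∈ S)
    (hG : ∀ g : Fin s → F, (∀ b, ∑ a, g a * B (v a) (((f - 1) ^ (k - 1)) (v b)) = 0) → g = 0) :
    ∃ P ≤ S, Inv f P ∧ Nd B P ∧ TypeOn (f - 1) P (Multiset.replicate s k) := by
  classical
  set N := f - 1 with hN
  have hNS : ∀ i, ∀ w ∈ S, (N ^ i) w ∈ S := fun i => by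
    induction i with
    | zero => intro w hw; simpa using hw
    | succ i ih => intro w hw; rw [pow_succ', Module.End.mul_apply]; exact inv_nil.1 hS _ (ih w hw)
  let z : Fin k × Fin s → V := fun p => (N ^ (p.1 : ℕ)) (v p.2)
  have sep : ∀ g : Fin k × Fin s → F, (∀ q, B (∑ p, g p • z p) (z q) = 0) → g = 0 := by
    intro g hg
    suffices h : ∀ (n : ℕ) (i : Fin k), (i : ℕ) = n → ∀ a, g (i, a) = 0 from funext fun p => h _ p.1 rfl p.2
    intro n
    induction n using Nat.strong_induction_on with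
    | _ n ih =>
      intro i hi
      refine congrFun (hG (fun a => g (i, a)) fun b => ?_)
      have hik := i.isLt
      have h := hg (⟨k - 1 - i, by omega⟩, b)
      rw [map_sum, LinearMap.sum_apply, Fintype.sum_prod_type, Finset.sum_eq_single i] at h
      · have e : ∀ a, B (g (i, a) • z (i, a)) (z (⟨k - 1 - i, by omega⟩, b)) =
            (-1) ^ (i : ℕ) * (g (i, a) * B (v a) ((N ^ (k - 1)) (v b))) := fun a => by
          rw [map_smul, LinearMap.smul_apply, smul_eq_mul]
          show g (i, a) * B ((N ^ (i : ℕ)) (v a)) ((N ^ (k - 1 - (i : ℕ))) (v b)) = _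
          rw [pair_top hf hS hk _ _ (by omega) _ (hv a) _ (hv b)]
          ring
        simp only [e, ← Finset.mul_sum] at h
        exact (mul_eq_zero.1 h).resolve_left (pow_ne_zero _ (neg_ne_zero.2 one_ne_zero))
      · intro j _ hji
        refine Finset.sum_eq_zero fun a _ => ?_
        rcases lt_or_gt_of_ne (Fin.val_ne_of_ne hji) with hlt | hgt
        · rw [ih (j : ℕ) (by omega) j rfl a, zero_smul, map_zero, LinearMap.zero_apply]
        · rw [map_smul, LinearMap.smul_apply]
          show g (j, a) • B ((N ^ (j : ℕ)) (v a)) ((N ^ (k - 1 - (i : ℕ))) (v b)) = 0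
          rw [pair_high hf hS hk _ _ (by omega) _ (hv a) _ (hv b), smul_zero]
      · simp
  have hli : LinearIndependent F z := Fintype.linearIndependent_iff.2 fun g hg p =>
    congrFun (sep g fun q => by rw [hg, map_zero, LinearMap.zero_apply]) p
  set P := Submodule.span F (Set.range z) with hP
  have hPS : P ≤ S := by
    rw [hP, Submodule.span_le]; rintro _ ⟨p, rfl⟩; exact hNS _ _ (hv _)
  have hzero : ∀ i a, k ≤ i → (N ^ i) (v a) = 0 := fun i a hi => by
    rw [show i = (i - k) + k by omega, pow_add, Module.End.mul_apply, hk _ (hv a), map_zero]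
  have hPN : Inv N P := by
    refine inv_iff_map.2 ?_
    rw [hP, Submodule.map_span_le]
    rintro _ ⟨⟨i, a⟩, rfl⟩
    show N ((N ^ (i : ℕ)) (v a)) ∈ _
    rw [← Module.End.mul_apply, ← pow_succ']
    by_cases hi : (i : ℕ) + 1 < k
    · exact Submodule.subset_span ⟨(⟨_, hi⟩, a), rfl⟩
    · rw [hzero _ _ (by omega)]; exact Submodule.zero_mem _
  refine ⟨P, hPS, inv_nil.2 hPN, fun w hw hw0 => ?_, fun j => ?_⟩
  · obtain ⟨g, rfl⟩ := (Submodule.mem_span_range_iff_exists_fun F).1 hw
    by_contra! hall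
    exact hw0 (by simp [sep g fun q => hall _ (Submodule.subset_span ⟨q, rfl⟩)])
  · let y : Fin (k - j) × Fin s → V := fun p => z (⟨(p.1 : ℕ) + j, by have := p.1.isLt; omega⟩, p.2)
    have hy : LinearIndependent F y := hli.comp
      (fun p : Fin (k - j) × Fin s => ((⟨(p.1 : ℕ) + j, by have := p.1.isLt; omega⟩ : Fin k), p.2)) fun p q h => by
        simp only [Prod.mk.injEq, Fin.ext_iff] at h
        exact Prod.ext (Fin.ext (by omega)) (Fin.ext h.2)
    have hmap : P.map (N ^ j) = Submodule.span F (Set.range y) := by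
      refine le_antisymm ?_ ?_
      · rw [hP, Submodule.map_span_le]
        rintro _ ⟨⟨i, a⟩, rfl⟩
        show (N ^ j) ((N ^ (i : ℕ)) (v a)) ∈ _
        rw [← Module.End.mul_apply, ← pow_add, add_comm]
        by_cases hij : (i : ℕ) + j < k
        · exact Submodule.subset_span ⟨(⟨i, by omega⟩, a), rfl⟩
        · rw [hzero _ _ (by omega)]; exact Submodule.zero_mem _
      · rw [Submodule.span_le]
        rintro _ ⟨⟨i, a⟩, rfl⟩
        refine ⟨z (⟨i, by have := i.isLt; omega⟩, a), Submodule.subset_span ⟨_, rfl⟩, ?_⟩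
        show (N ^ j) ((N ^ (i : ℕ)) (v a)) = (N ^ ((i : ℕ) + j)) (v a)
        rw [← Module.End.mul_apply, ← pow_add, add_comm]
    rw [rankDim, hmap, finrank_span_eq_card hy, Fintype.card_prod, Fintype.card_fin, Fintype.card_fin,
      Multiset.map_replicate, Multiset.sum_replicate, smul_eq_mul, mul_comm]

include hA hf in
/-- A piece of largest block size. -/
theorem exists_piece {S : Submodule F V} (hS : Inv f S) (hSn : Nd B S) (hne : S ≠ ⊥) {n : ℕ}
    (hn : (f - 1) ^ n = 0) :
    ∃ k, 0 < k ∧ k ≤ n ∧ (∀ v ∈ S, ((f - 1) ^ k) v = 0) ∧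
      ((∃ v ∈ S, B v (((f - 1) ^ (k - 1)) v) ≠ 0 ∧
          ∃ P ≤ S, Inv f P ∧ Nd B P ∧ TypeOn (f - 1) P {k}) ∨
        ((∀ v ∈ S, B v (((f - 1) ^ (k - 1)) v) = 0) ∧
          ∃ u ∈ S, ∃ v ∈ S, B u (((f - 1) ^ (k - 1)) v) ≠ 0 ∧
          ∃ P ≤ S, Inv f P ∧ Nd B P ∧ TypeOn (f - 1) P {k, k})) := by
  classical
  have hex : ∃ k, ∀ v ∈ S, ((f - 1 : End F V) ^ k) v = 0 := ⟨n, fun v _ => by rw [hn]; rfl⟩
  have hk0 : 0 < Nat.find hex := by
    refine Nat.pos_of_ne_zero fun h0 => hne ((Submodule.eq_bot_iff _).2 fun v hv => ?_)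
    simpa [h0] using Nat.find_spec hex v hv
  refine ⟨Nat.find hex, hk0, Nat.find_min' hex fun v _ => by rw [hn]; rfl, Nat.find_spec hex, ?_⟩
  set k := Nat.find hex
  by_cases h1 : ∃ v ∈ S, B v (((f - 1) ^ (k - 1)) v) ≠ 0
  · obtain ⟨v, hv, hvv⟩ := h1
    refine Or.inl ⟨v, hv, hvv, ?_⟩
    obtain ⟨P, hP⟩ := piece_of_chains hf hS (Nat.find_spec hex) (fun _ : Fin 1 => v) (fun _ => hv) fun g hg => by
      funext a
      have h := hg 0
      rw [Fin.sum_univ_one] at h
      rw [Subsingleton.elim a 0]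
      exact (mul_eq_zero.1 h).resolve_right hvv
    exact ⟨P, by simpa using hP⟩
  push Not at h1
  refine Or.inr ⟨h1, ?_⟩
  obtain ⟨v, hv, hv0⟩ : ∃ v ∈ S, ((f - 1) ^ (k - 1)) v ≠ 0 := by
    by_contra! hall
    exact Nat.find_min hex (Nat.sub_one_lt hk0.ne') hall
  have hNv : ((f - 1) ^ (k - 1)) v ∈ S := by
    have hall : ∀ i, ((f - 1 : End F V) ^ i) v ∈ S := fun i => by
      induction i with
      | zero => simpa using hv
      | succ i ih => rw [pow_succ', Module.End.mul_apply]; exact inv_nil.1 hS _ ih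
    exact hall _
  obtain ⟨u, hu, huv⟩ := hSn _ hNv hv0
  have huv' : B u (((f - 1) ^ (k - 1)) v) ≠ 0 := by
    rw [SympDecomp.swap hA _ u]; exact neg_ne_zero.2 huv
  refine ⟨u, hu, v, hv, huv', ?_⟩
  have hvu : B v (((f - 1) ^ (k - 1)) u) ≠ 0 := by
    rw [top_swap hA hf hS hk0 (Nat.find_spec hex) hu hv]
    exact mul_ne_zero (pow_ne_zero _ (neg_ne_zero.2 one_ne_zero)) huv'
  obtain ⟨P, hP⟩ := piece_of_chains (k := k) hf hS (Nat.find_spec hex) ![u, v]
    (Fin.forall_fin_two.2 ⟨hu, hv⟩) fun g hg => by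
      have h0 := hg 0
      have h1' := hg 1
      simp [Fin.sum_univ_two, h1 u hu, h1 v hv, hvu, huv'] at h0 h1'
      funext a
      fin_cases a <;> simp [h0, h1']
  exact ⟨P, hP⟩

include hA hf in
/-- Splitting off a piece. -/
theorem split_piece {S P : Submodule F V} (hS : Inv f S) (hSn : Nd B S) (hr : ∃ r, 0 < r ∧ f ^ r = 1) (hPS : P ≤ S)
    (hP : Inv f P) (hPn : Nd B P) :
    Inv f (S ⊓ B.orthogonal P) ∧ Nd B (S ⊓ B.orthogonal P) ∧
      finrank F P + finrank F ↥(S ⊓ B.orthogonal P) = finrank F S ∧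
      ∀ μ ν : Multiset ℕ, TypeOn (f - 1) P μ → TypeOn (f - 1) (S ⊓ B.orthogonal P) ν → TypeOn (f - 1) S (μ + ν) := by
  obtain ⟨r, hr, hpow⟩ := hr
  obtain ⟨hn, hsup, hinf⟩ := nd_split hA hPS hPn hSn
  have hi : Inv f (S ⊓ B.orthogonal P) := hS.inf (SympDecomp.inv_orth hf hr hpow hP)
  refine ⟨hi, hn, SympDecomp.nd_split_finrank hA hPS hPn hSn, fun μ ν h1 h2 k => ?_⟩
  have h := rankDim_sup (f - 1) (inv_nil.1 hP) (inv_nil.1 hi) hinf k
  rw [hsup, h1, h2] at h
  rw [h, Multiset.map_add, Multiset.sum_add]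

theorem nil_of_pow {p : ℕ} [Fact p.Prime] [CharP F p] (hpow : f ^ p = 1) : (f - 1) ^ p = 0 := by
  open Polynomial in
  have h := congrArg (aeval f) (sub_pow_char (R := F[X]) (p := p) X 1)
  simpa [hpow] using h

include hA hf in
/-- Odd characteristic: invariant non-degenerate subspaces of every admissible sub-type. -/
theorem exists_of_subtype {p : ℕ} [Fact p.Prime] [CharP F p] (h2 : (2 : F) ≠ 0) (hpow : f ^ p = 1) :
    ∀ (n : ℕ) (S : Submodule F V) (μ ν : Multiset ℕ), finrank F S = n → Inv f S → Nd B S →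
      (∀ a ∈ μ, 0 < a) → TypeOn (f - 1) S μ → ν ≤ μ → (∀ a : ℕ, Odd a → Even (ν.count a)) →
      ∃ W ≤ S, Inv f W ∧ Nd B W ∧ finrank F W = ν.sum := by
  have hnil := nil_of_pow (f := f) (p := p) hpow
  intro n
  induction n using Nat.strong_induction_on with
  | _ n ih =>
    intro S μ ν hn hS hSn hμpos hμ hν hνe
    rcases eq_or_ne S ⊥ with rfl | hne
    · refine ⟨⊥, le_rfl, hS, hSn, ?_⟩
      have h0 := hμ.finrank_eq
      rw [finrank_bot] at h0
      have : μ = 0 := Multiset.eq_zero_of_forall_notMem fun a ha => by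
        have := Multiset.le_sum_of_mem ha
        have := hμpos a ha
        omega
      rw [this, Multiset.le_zero] at hν
      simp [hν]
    obtain ⟨k, hk0, -, hk, hcase⟩ := exists_piece hA hf hS hSn hne hnil
    have hsym : ∀ a ∈ S, ∀ b ∈ S, B b (((f - 1) ^ (k - 1)) a) = (-1) ^ k * B a (((f - 1) ^ (k - 1)) b) :=
      fun a ha b hb => top_swap hA hf hS hk0 hk ha hb
    obtain ⟨P, π, hPS, hPi, hPn, hPt, hπ, hπpos, hdim⟩ : ∃ (P : Submodule F V) (π : Multiset ℕ), P ≤ S ∧ Inv f P ∧
        Nd B P ∧ TypeOn (f - 1) P π ∧ ((Even k ∧ π = {k}) ∨ (Odd k ∧ π = {k, k})) ∧ (∀ a ∈ π, 0 < a) ∧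
          0 < π.sum := by
      rcases hcase with ⟨v, hv, hvv, P, h1, h2', h3, h4⟩ | ⟨hall, u, hu, v, hv, huv, P, h1, h2', h3, h4⟩
      · refine ⟨P, _, h1, h2', h3, h4, Or.inl ⟨?_, rfl⟩, by simpa using hk0, by simpa using hk0⟩
        by_contra hodd
        have h := hsym v hv v hv
        rw [(Nat.not_even_iff_odd.1 hodd).neg_one_pow] at h
        exact hvv ((mul_eq_zero.1 (show (2 : F) * B v (((f - 1) ^ (k - 1)) v) = 0 by
          linear_combination h)).resolve_left h2)
      · refine ⟨P, _, h1, h2', h3, h4, Or.inr ⟨?_, rfl⟩, by simpa using hk0, by simp; omega⟩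
        by_contra hev
        have h := hsym u hu v hv
        rw [(Nat.not_odd_iff_even.1 hev).neg_one_pow, one_mul] at h
        have h' := hall (u + v) (S.add_mem hu hv)
        simp only [map_add, LinearMap.add_apply, hall u hu, hall v hv] at h'
        exact huv ((mul_eq_zero.1 (show (2 : F) * B u (((f - 1) ^ (k - 1)) v) = 0 by
          linear_combination h' - h)).resolve_left h2)
    obtain ⟨hRi, hRn, hd, htype⟩ := split_piece hA hf hS hSn ⟨p, (Fact.out : p.Prime).pos, hpow⟩ hPS hPi hPn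
    set R := S ⊓ B.orthogonal P with hR
    obtain ⟨μ', hμ'pos, hμ'⟩ := exists_typeOn (inv_nil.1 hRi) hnil
    have hμeq : μ = π + μ' := eq_of_sums hμpos (fun a ha => (Multiset.mem_add.1 ha).elim (hπpos a) (hμ'pos a))
      fun j => (hμ j).symm.trans (htype π μ' hPt hμ' j)
    have hlt : finrank F R < n := by rw [← hn, ← hd, hPt.finrank_eq]; omega
    by_cases hle : π ≤ ν
    · obtain ⟨ν', rfl⟩ := Multiset.le_iff_exists_add.1 hle
      obtain ⟨W, hWR, hWi, hWn, hWd⟩ := ih _ hlt R μ' ν' rfl hRi hRn hμ'pos hμ'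
        (by rw [hμeq] at hν; exact le_of_add_le_add_left hν) fun a ha => by
          have h := hνe a ha
          rw [Multiset.count_add, Nat.even_add] at h
          refine h.1 ?_
          rcases hπ with ⟨hke, rfl⟩ | ⟨-, rfl⟩
          · rw [Multiset.count_singleton, if_neg (fun e => (Nat.not_even_iff_odd.2 ha) (by rwa [e]))]
            exact Even.zero
          · simp only [Multiset.insert_eq_cons, Multiset.count_cons, Multiset.count_singleton]
            split <;> simp
      refine ⟨P ⊔ W, sup_le hPS (hWR.trans inf_le_left), hPi.sup hWi,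
        SympDecomp.nd_sup hA hPn hWn (hWR.trans inf_le_right), ?_⟩
      have h := Submodule.finrank_sup_add_finrank_inf_eq P W
      rw [le_bot_iff.1 ((inf_le_inf_left P hWR).trans (nd_split hA hPS hPn hSn).2.2.le), finrank_bot,
        hPt.finrank_eq, hWd] at h
      rw [Multiset.sum_add]
      omega
    · obtain ⟨W, hWR, hWi, hWn, hWd⟩ := ih _ hlt R μ' ν rfl hRi hRn hμ'pos hμ' (by
        have hk' : ν.count k = 0 := by
          by_contra hpos'
          apply hle
          rcases hπ with ⟨-, rfl⟩ | ⟨hko, rfl⟩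
          · exact Multiset.singleton_le.2 (Multiset.count_pos.1 (Nat.pos_of_ne_zero hpos'))
          · obtain ⟨c, hc⟩ := hνe k hko
            rw [Multiset.le_iff_count]
            intro a
            simp only [Multiset.insert_eq_cons, Multiset.count_cons, Multiset.count_singleton]
            split_ifs with ha <;> subst_vars <;> omega
        rw [Multiset.le_iff_count]
        intro a
        have h := Multiset.le_iff_count.1 hν a
        rw [hμeq, Multiset.count_add] at h
        rcases eq_or_ne a k with rfl | hne'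
        · omega
        · have : π.count a = 0 := Multiset.count_eq_zero.2 fun ha => hne' (by
            rcases hπ with ⟨-, rfl⟩ | ⟨-, rfl⟩ <;> simpa using ha)
          omega) hνe
      exact ⟨W, hWR.trans inf_le_left, hWi, hWn, hWd⟩

include hA hf in
/-- Characteristic two: involutions. -/
theorem exists_involution_sub [CharP F 2] (hpow : f ^ 2 = 1) :
    ∀ (n : ℕ) (S : Submodule F V) (m : ℕ), finrank F S = n → Inv f S → Nd B S → Even m → m ≤ n →
      (n % 4 = 2 ∨ m % 4 = 0) → ∃ W ≤ S, Inv f W ∧ Nd B W ∧ finrank F W = m := by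
  haveI : Fact (Nat.Prime 2) := ⟨Nat.prime_two⟩
  have hnil := nil_of_pow (f := f) (p := 2) hpow
  intro n
  induction n using Nat.strong_induction_on with
  | _ n ih =>
    intro S m hn hS hSn hme hmn hcond
    have hne2 : Even n := hn ▸ SympDecomp.nd_even hA hSn
    rcases Nat.eq_zero_or_pos m with rfl | hm0
    · exact ⟨⊥, bot_le, fun v hv => by rw [Submodule.mem_bot] at hv; simp [hv],
        fun u hu h => absurd ((Submodule.mem_bot F).1 hu) h, finrank_bot F V⟩
    by_cases hfull : m = n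
    · exact ⟨S, le_rfl, hS, hSn, hn.trans hfull.symm⟩
    have hne : S ≠ ⊥ := fun h => by rw [h, finrank_bot] at hn; omega
    obtain ⟨k, hk0, hk2, -, hcase⟩ := exists_piece hA hf hS hSn hne hnil
    obtain ⟨P, hPS, hPi, hPn, hPd⟩ : ∃ P ≤ S, Inv f P ∧ Nd B P ∧ (finrank F P = 2 ∨ finrank F P = 4) := by
      rcases hcase with ⟨v, -, hvv, P, h1, h2', h3, h4⟩ | ⟨-, u, -, v, -, -, P, h1, h2', h3, h4⟩
      · refine ⟨P, h1, h2', h3, Or.inl ?_⟩
        rw [h4.finrank_eq, Multiset.sum_singleton]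
        rcases (show k = 1 ∨ k = 2 by omega) with rfl | rfl
        · exact absurd (by simp [hA.self_eq_zero v]) hvv
        · rfl
      · refine ⟨P, h1, h2', h3, ?_⟩
        rw [h4.finrank_eq]
        rcases (show k = 1 ∨ k = 2 by omega) with rfl | rfl <;> simp
    obtain ⟨hRi, hRn, hd, -⟩ := split_piece hA hf hS hSn ⟨2, two_pos, hpow⟩ hPS hPi hPn
    set R := S ⊓ B.orthogonal P
    rw [hn] at hd
    have hRe := SympDecomp.nd_even hA hRn
    rw [Nat.even_iff] at hRe hme hne2
    have hfin : ∀ m', finrank F P + m' = m → (∃ W ≤ R, Inv f W ∧ Nd B W ∧ finrank F W = m') →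
        ∃ W ≤ S, Inv f W ∧ Nd B W ∧ finrank F W = m := by
      rintro m' hm' ⟨W, hWR, hWi, hWn, hWd⟩
      refine ⟨P ⊔ W, sup_le hPS (hWR.trans inf_le_left), hPi.sup hWi,
        SympDecomp.nd_sup hA hPn hWn (hWR.trans inf_le_right), ?_⟩
      have h := Submodule.finrank_sup_add_finrank_inf_eq P W
      rw [le_bot_iff.1 ((inf_le_inf_left P hWR).trans (nd_split hA hPS hPn hSn).2.2.le), finrank_bot, hWd] at h
      omega
    have hsub : ∀ m', Even m' → m' ≤ finrank F R → (finrank F R % 4 = 2 ∨ m' % 4 = 0) →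
        ∃ W ≤ R, Inv f W ∧ Nd B W ∧ finrank F W = m' := fun m' h1 h2' h3 =>
      ih _ (by rcases hPd with h | h <;> omega) R m' rfl hRi hRn h1 h2' h3
    rcases hPd with hP2 | hP4
    · by_cases h4 : m % 4 = 0
      · obtain ⟨W, hWR, hW⟩ := hsub m (Nat.even_iff.2 hme) (by omega) (Or.inr h4)
        exact ⟨W, hWR.trans inf_le_left, hW⟩
      · exact hfin (m - 2) (by omega) (hsub _ (Nat.even_iff.2 (by omega)) (by omega) (Or.inr (by omega)))
    · by_cases h4 : 4 ≤ m
      · exact hfin (m - 4) (by omega) (hsub _ (Nat.even_iff.2 (by omega)) (by omega) (by omega))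
      · obtain ⟨W, hWR, hW⟩ := hsub m (Nat.even_iff.2 hme) (by omega) (by omega)
        exact ⟨W, hWR.trans inf_le_left, hW⟩

end Isometry

end Cfsg.Agent.Elusive.SympUnipotent
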