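import Cfsg.Agent.Lib.Elusive.Dims
import Cfsg.Agent.Lib.Aschbacher.MatrixUnits

/-!
Area Elusive: how far a Kronecker product is from the scalars, and elements conjugate into a tensor stabilizer.
-/

set_option autoImplicit false
set_option linter.unusedSectionVars false
set_option linter.style.haveILetI false

open scoped MatrixGroups Kronecker Matrix

namespace Cfsg.Agent.Elusive

open Matrix Polynomial Module

variable {F : Type*} [Field F]

theorem kronecker_mulVec_pure {α β α' β' : Type*} [Fintype α'] [Fintype β'] (A : Matrix α α' F) (B : Matrix β β' F)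
    (u : α' → F) (v : β' → F) (p : α × β) :
    ((A ⊗ₖ B) *ᵥ fun p => u p.1 * v p.2) p = (A *ᵥ u) p.1 * (B *ᵥ v) p.2 := by
  simp only [Matrix.mulVec, dotProduct, Matrix.kroneckerMap_apply, Fintype.sum_prod_type]
  rw [Finset.sum_mul_sum]
  exact Finset.sum_congr rfl fun a _ => Finset.sum_congr rfl fun b _ => by ring

variable {α β : Type} [Fintype α] [DecidableEq α] [Fintype β] [DecidableEq β]

/-- The cyclic space of the first factor bounds the rank from below. -/
theorem rank_kronecker_ge (A : Matrix α α F) (B : Matrix β β F) (hB : IsUnit B) (u : α → F) (l : ℕ)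
    (hu : LinearIndependent F fun t : Fin (l + 1) => A ^ (t : ℕ) *ᵥ u) (c : F) :
    Fintype.card β * l ≤ (A ⊗ₖ B - c • 1).rank := by
  let S : (Fin l → β → F) →ₗ[F] (α × β → F) :=
    { toFun := fun w => ∑ t : Fin l, fun p => (A ^ (t : ℕ) *ᵥ u) p.1 * w t p.2
      map_add' := fun w w' => by
        rw [← Finset.sum_add_distrib]
        exact Finset.sum_congr rfl fun t _ => funext fun p => by simp [mul_add]
      map_smul' := fun a w => by
        rw [RingHom.id_apply, Finset.smul_sum]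
        exact Finset.sum_congr rfl fun t _ => funext fun p => by simp; ring }
  let T := Matrix.toLin' (A ⊗ₖ B - c • 1) ∘ₗ S
  have hT : Function.Injective T := by
    rw [injective_iff_map_eq_zero]
    intro w hw
    have hw' : (A ⊗ₖ B - c • 1) *ᵥ S w = 0 := by rw [← Matrix.toLin'_apply]; exact hw
    let G : Fin (l + 1) → β → F := fun t =>
      (Fin.cons (0 : β → F) (fun s => B *ᵥ w s) : Fin (l + 1) → β → F) t -
        (Fin.snoc (fun s => c • w s) (0 : β → F) : Fin (l + 1) → β → F) t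
    have hG : ∀ t, G t = 0 := by
      intro t
      funext k
      refine Fintype.linearIndependent_iff.1 hu (fun t => G t k) (funext fun i => ?_) t
      have h := congrFun hw' (i, k)
      have hsum : ∀ f : Fin l → (α × β → F), (A ⊗ₖ B - c • 1) *ᵥ (∑ t, f t) = ∑ t, (A ⊗ₖ B - c • 1) *ᵥ f t :=
        fun f => map_sum (Matrix.mulVecLin (A ⊗ₖ B - c • 1)) f _
      rw [show S w = ∑ t : Fin l, fun p : α × β => (A ^ (t : ℕ) *ᵥ u) p.1 * w t p.2 from rfl, hsum,
        Finset.sum_apply] at h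
      simp only [Matrix.sub_mulVec, Pi.sub_apply, kronecker_mulVec_pure, Matrix.smul_mulVec, Matrix.one_mulVec,
        Pi.smul_apply, smul_eq_mul, Matrix.mulVec_mulVec, ← pow_succ', Pi.zero_apply, Finset.sum_sub_distrib] at h
      simp only [G, Finset.sum_apply, Pi.sub_apply, Pi.smul_apply, smul_eq_mul, sub_mul, Finset.sum_sub_distrib,
        Pi.zero_apply]
      rw [Fin.sum_univ_succ (fun t => (Fin.cons (0 : β → F) (fun s => B *ᵥ w s) : Fin (l + 1) → β → F) t k * _),
        Fin.sum_univ_castSucc (fun t => (Fin.snoc (fun s => c • w s) (0 : β → F) : Fin (l + 1) → β → F) t k * _)]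
      simp only [Fin.cons_zero, Fin.cons_succ, Fin.snoc_castSucc, Fin.snoc_last, Pi.zero_apply, zero_mul, zero_add,
        add_zero, Fin.val_succ, Fin.val_castSucc, Pi.smul_apply, smul_eq_mul]
      rw [← h]
      congr 1 <;> refine Finset.sum_congr rfl fun t _ => ?_ <;> ring
    have hinj := Matrix.mulVec_injective_iff_isUnit.2 hB
    have hall : ∀ (j : ℕ) (s : Fin l), l - s.val = j → w s = 0 := by
      intro j
      induction j using Nat.strong_induction_on with
      | _ j ih =>
        intro s hs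
        have h := hG s.succ
        simp only [G, Fin.cons_succ] at h
        refine hinj ?_
        show B *ᵥ w s = B *ᵥ 0
        rw [Matrix.mulVec_zero]
        by_cases hlast : s.val + 1 = l
        · rw [show s.succ = Fin.last l from Fin.ext hlast, Fin.snoc_last, sub_zero] at h
          exact h
        · have hlt : s.val + 1 < l := by have := s.isLt; omega
          rw [show s.succ = (⟨s.val + 1, hlt⟩ : Fin l).castSucc from Fin.ext rfl, Fin.snoc_castSucc,
            ih (l - (s.val + 1)) (by omega) ⟨s.val + 1, hlt⟩ rfl, smul_zero, sub_zero] at h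
          exact h
    exact funext fun s => hall _ s rfl
  have h1 := LinearMap.finrank_range_of_inj hT
  have h2 : finrank F (LinearMap.range T) ≤ finrank F (LinearMap.range (Matrix.toLin' (A ⊗ₖ B - c • 1))) :=
    Submodule.finrank_mono (LinearMap.range_comp_le_range _ _)
  rw [h1, Module.finrank_pi_fintype] at h2
  convert h2 using 1
  · simp [mul_comm]
  · rfl

theorem rank_kronecker_swap (A : Matrix α α F) (B : Matrix β β F) (c : F) :
    (B ⊗ₖ A - c • 1).rank = (A ⊗ₖ B - c • 1).rank := by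
  rw [← Matrix.rank_reindex (Equiv.prodComm α β) (Equiv.prodComm α β) (A ⊗ₖ B - c • 1)]
  congr 1
  ext ⟨k, i⟩ ⟨k', i'⟩
  by_cases h1 : i = i' <;> by_cases h2 : k = k' <;> simp [h1, h2, mul_comm]

theorem rank_one_kronecker (B : Matrix β β F) :
    ((1 : Matrix α α F) ⊗ₖ B).rank = Fintype.card α * B.rank := by
  let Φ : (α → β → F) ≃ₗ[F] (α × β → F) := (LinearEquiv.curry F F α β).symm
  have h : Matrix.toLin' ((1 : Matrix α α F) ⊗ₖ B) = Φ.toLinearMap ∘ₗ
      (LinearMap.pi fun a => Matrix.toLin' B ∘ₗ LinearMap.proj a) ∘ₗ Φ.symm.toLinearMap := by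
    refine LinearMap.ext fun x => funext fun p => ?_
    simp [Φ, Matrix.toLin'_apply, Matrix.mulVec, dotProduct, Fintype.sum_prod_type, Matrix.one_apply, Function.uncurry]
  rw [Matrix.rank, ← Matrix.toLin'_apply', h, LinearMap.range_comp, LinearEquiv.finrank_map_eq,
    LinearMap.range_comp_of_range_eq_top _ Φ.symm.range]
  let E : (α → LinearMap.range (Matrix.toLin' B)) →ₗ[F] (α → β → F) :=
    LinearMap.pi fun a => (LinearMap.range (Matrix.toLin' B)).subtype ∘ₗ LinearMap.proj a
  have hE : LinearMap.range (LinearMap.pi fun a : α => Matrix.toLin' B ∘ₗ LinearMap.proj a) = LinearMap.range E := by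
    ext x
    constructor
    · rintro ⟨y, rfl⟩
      exact ⟨fun a => ⟨_, y a, rfl⟩, rfl⟩
    · rintro ⟨y, rfl⟩
      choose z hz using fun a => (y a).2
      exact ⟨z, funext hz⟩
  rw [hE, LinearMap.finrank_range_of_inj (fun x y h => _root_.funext fun a => Subtype.ext (congrFun h a)),
    Module.finrank_pi_fintype, Finset.sum_const, Finset.card_univ, smul_eq_mul, Matrix.toLin'_apply']
  rfl

/-- Either a scalar matrix or one with a two-dimensional cyclic subspace. -/
theorem scalar_or_pair (A : Matrix α α F) :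
    (∃ a : F, A = a • 1) ∨ ∃ u : α → F, LinearIndependent F fun t : Fin (1 + 1) => A ^ (t : ℕ) *ᵥ u := by
  by_cases h : ∀ v, ¬ LinearIndependent F ![v, Matrix.toLin' A v]
  · obtain ⟨a, ha⟩ := LinearMap.exists_eq_smul_id_of_forall_notLinearIndependent h
    exact Or.inl ⟨a, Matrix.toLin'.injective (by rw [ha, map_smul, Matrix.toLin'_one]; rfl)⟩
  · push Not at h
    obtain ⟨v, hv⟩ := h
    refine Or.inr ⟨v, ?_⟩
    convert hv using 1
    funext t
    fin_cases t <;> simp [Matrix.toLin'_apply]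

/-- How far a Kronecker product is from the identity. -/
theorem kronecker_trichotomy (A : Matrix α α F) (B : Matrix β β F) (hA : IsUnit A) (hB : IsUnit B) {c : ℕ}
    (hc : (A ⊗ₖ B - 1).rank = c) :
    ((¬ ∃ a : F, A = a • 1) ∧ (¬ ∃ a : F, B = a • 1) ∧ Fintype.card β ≤ c ∧ Fintype.card α ≤ c) ∨
    (∃ a : F, A = a • 1 ∧ A ⊗ₖ B = (1 : Matrix α α F) ⊗ₖ (a • B) ∧ c = Fintype.card α * (a • B - 1).rank) ∨
    (∃ a : F, B = a • 1 ∧ A ⊗ₖ B = (a • A) ⊗ₖ (1 : Matrix β β F) ∧ c = Fintype.card β * (a • A - 1).rank) := by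
  rcases scalar_or_pair A with ⟨a, rfl⟩ | ⟨u, hu⟩
  · refine Or.inr (Or.inl ⟨a, rfl, by rw [Matrix.smul_kronecker, Matrix.kronecker_smul], ?_⟩)
    rw [← hc, ← rank_one_kronecker]
    congr 1
    ext ⟨i, k⟩ ⟨i', k'⟩
    by_cases h1 : i = i' <;> by_cases h2 : k = k' <;> simp [h1, h2]
  rcases scalar_or_pair B with ⟨a, rfl⟩ | ⟨v, hv⟩
  · refine Or.inr (Or.inr ⟨a, rfl, by rw [Matrix.smul_kronecker, Matrix.kronecker_smul], ?_⟩)
    rw [← hc, ← rank_one_kronecker,
      ← Matrix.rank_reindex (Equiv.prodComm α β) (Equiv.prodComm α β) (A ⊗ₖ (a • (1 : Matrix β β F)) - 1)]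
    congr 1
    ext ⟨k, i⟩ ⟨k', i'⟩
    by_cases h1 : i = i' <;> by_cases h2 : k = k' <;> simp [h1, h2, mul_comm]
  have hA' : ¬ ∃ a : F, A = a • 1 := by
    rintro ⟨a, rfl⟩
    have h := Fintype.linearIndependent_iff.1 hu ![a, -1] (by simp [Fin.sum_univ_two, Matrix.smul_mulVec]) 1
    simp at h
  have hB' : ¬ ∃ a : F, B = a • 1 := by
    rintro ⟨a, rfl⟩
    have h := Fintype.linearIndependent_iff.1 hv ![a, -1] (by simp [Fin.sum_univ_two, Matrix.smul_mulVec]) 1
    simp at h
  refine Or.inl ⟨hA', hB', ?_, ?_⟩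
  · have := rank_kronecker_ge A B hB u 1 hu 1
    rwa [one_smul, mul_one, hc] at this
  · have := rank_kronecker_ge B A hA v 1 hv 1
    rwa [rank_kronecker_swap, one_smul, mul_one, hc] at this

section order

variable [Fintype F] {r : ℕ} [Fact r.Prime]

/-- A vector moved by a map of order `r` spans a cyclic space of dimension at least the order of `q`. -/
theorem cyclic_independent (hr : (r : F) ≠ 0) (A : Matrix α α F) (hA : A ^ r = 1) (u : α → F) (hu : A *ᵥ u ≠ u) :
    LinearIndependent F fun t : Fin (orderOf (Fintype.card F : ZMod r)) => A ^ (t : ℕ) *ᵥ u := by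
  classical
  set i := orderOf (Fintype.card F : ZMod r)
  rw [Fintype.linearIndependent_iff]
  intro g hg t
  by_contra hgt
  set P : F[X] := ∑ t : Fin i, C (g t) * X ^ (t : ℕ) with hP
  have hcoef : P.coeff t = g t := by
    rw [hP, finset_sum_coeff, Finset.sum_eq_single t]
    · simp
    · intro b _ hb
      simp [coeff_X_pow, Fin.val_injective.ne (Ne.symm hb)]
    · simp
  have hP0 : P ≠ 0 := fun h => hgt (by rw [← hcoef, h, coeff_zero])
  have hdeg : P.natDegree < i := by
    rw [natDegree_lt_iff_degree_lt hP0]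
    refine (degree_sum_le _ _).trans_lt ((Finset.sup_lt_iff (WithBot.bot_lt_coe i)).2 fun b _ => ?_)
    exact (degree_C_mul_X_pow_le _ _).trans_lt (WithBot.coe_lt_coe.2 b.isLt)
  set Ψ := (∑ j ∈ Finset.range r, X ^ j : F[X]) with hΨ
  have hcop : IsCoprime P Ψ := isCoprime_of_irreducible_dvd (fun h => hP0 h.1) fun z hz hzP hzΨ => by
    have h1 := factorDeg_geom (F := F) hr z hz hzΨ
    have h2 := natDegree_le_of_dvd hzP hP0
    omega
  obtain ⟨s, w, hsw⟩ := hcop
  have hPu : aeval A P *ᵥ u = 0 := by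
    rw [hP, map_sum, Matrix.sum_mulVec, ← hg]
    refine Finset.sum_congr rfl fun b _ => ?_
    rw [map_mul, aeval_C, map_pow, aeval_X, Algebra.algebraMap_eq_smul_one, Matrix.smul_mul, one_mul,
      Matrix.smul_mulVec]
  have hΨ0 : aeval A ((X - 1) * Ψ : F[X]) = 0 := by
    rw [hΨ, mul_comm, geom_sum_mul, map_sub, map_pow, aeval_X, map_one, hA, sub_self]
  apply hu
  have key : aeval A (X - 1 : F[X]) *ᵥ u = 0 := by
    rw [show (X - 1 : F[X]) = (X - 1) * s * P + w * ((X - 1) * Ψ) by linear_combination (1 - X) * hsw,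
      map_add, Matrix.add_mulVec, map_mul (aeval A) ((X - 1) * s) P, map_mul (aeval A) w ((X - 1) * Ψ), hΨ0, mul_zero, Matrix.zero_mulVec, add_zero,
      ← Matrix.mulVec_mulVec, hPu, Matrix.mulVec_zero]
  simpa [Matrix.sub_mulVec, sub_eq_zero] using key

theorem order_le_card (hr : (r : F) ≠ 0) (A : Matrix α α F) (hA : A ^ r = 1) (h1 : A ≠ 1) :
    orderOf (Fintype.card F : ZMod r) ≤ Fintype.card α := by
  obtain ⟨u, hu⟩ : ∃ u, A *ᵥ u ≠ u := by
    by_contra h
    push Not at h
    exact h1 (Matrix.toLin'.injective (LinearMap.ext fun u => by simp [h u]))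
  have h := (cyclic_independent hr A hA u hu).fintype_card_le_finrank
  simpa [Module.finrank_pi] using h

/-- A map of order `r` moves at least as many dimensions as the order of `q`. -/
theorem order_le_rank (hr : (r : F) ≠ 0) (A : Matrix α α F) (hA : A ^ r = 1) (h1 : A ≠ 1) :
    orderOf (Fintype.card F : ZMod r) ≤ (A - 1).rank := by
  obtain ⟨w, hw⟩ : ∃ w, (A - 1) *ᵥ w ≠ 0 := by
    by_contra h
    push Not at h
    exact h1 (sub_eq_zero.1 (Matrix.toLin'.injective (LinearMap.ext fun u => by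
      rw [map_zero, LinearMap.zero_apply, Matrix.toLin'_apply, h u])))
  set v := (A - 1) *ᵥ w with hv
  have hAv : A *ᵥ v ≠ v := by
    intro h
    have hAw : ∀ k : ℕ, A ^ k *ᵥ w = w + (k : F) • v := by
      intro k
      induction k with
      | zero => simp
      | succ k ih =>
        rw [pow_succ', ← Matrix.mulVec_mulVec, ih, Matrix.mulVec_add, Matrix.mulVec_smul, h, Nat.cast_succ, add_smul,
          one_smul, show A *ᵥ w = w + v by rw [hv, Matrix.sub_mulVec, Matrix.one_mulVec, add_sub_cancel]]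
        abel
    have h2 := hAw r
    rw [hA, Matrix.one_mulVec, left_eq_add, smul_eq_zero] at h2
    exact hw (h2.resolve_left hr)
  have h := cyclic_independent hr A hA v hAv
  have hmem : Submodule.span F (Set.range fun t : Fin (orderOf (Fintype.card F : ZMod r)) => A ^ (t : ℕ) *ᵥ v) ≤
      LinearMap.range (A - 1).mulVecLin := by
    rw [Submodule.span_le]
    rintro _ ⟨t, rfl⟩
    refine ⟨A ^ (t : ℕ) *ᵥ w, ?_⟩
    show (A - 1) *ᵥ (A ^ (t : ℕ) *ᵥ w) = A ^ (t : ℕ) *ᵥ v
    rw [hv, Matrix.mulVec_mulVec, Matrix.mulVec_mulVec,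
      ((Commute.pow_self A (t : ℕ)).sub_right (Commute.one_right _)).eq]
  have := Submodule.finrank_mono hmem
  rwa [finrank_span_eq_card h, Fintype.card_fin] at this

theorem scalar_pow_of_kronecker (A : Matrix α α F) (B : Matrix β β F) (hB : IsUnit B) [Nonempty β]
    (h : A ⊗ₖ B = 1) : ∃ a : F, A = a • 1 := by
  obtain ⟨k, k', hk⟩ : ∃ k k', B k k' ≠ 0 := by
    by_contra h0
    push Not at h0
    exact not_isUnit_zero (show IsUnit (0 : Matrix β β F) from (show B = 0 from Matrix.ext h0) ▸ hB)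
  refine ⟨(B k k')⁻¹ * (1 : Matrix β β F) k k', ?_⟩
  ext i i'
  have e := congrFun (congrFun h (i, k)) (i', k')
  rw [Matrix.kroneckerMap_apply] at e
  rw [Matrix.smul_apply, smul_eq_mul, eq_comm, mul_assoc, inv_mul_eq_iff_eq_mul₀ hk, mul_comm (B k k'), e]
  by_cases h1 : i = i' <;> by_cases h2 : k = k' <;> simp [Matrix.one_apply, h1, h2]

/-- Both factors non-scalar: the rank is at least `(i - 1)` times each size. -/
theorem order_bound (hr : (r : F) ≠ 0) (hr1 : ¬ r ∣ Fintype.card F - 1) (A : Matrix α α F) (B : Matrix β β F)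
    (hA : IsUnit A) (hB : IsUnit B) [Nonempty α] [Nonempty β] (hAs : ¬ ∃ a : F, A = a • 1)
    (hBs : ¬ ∃ a : F, B = a • 1) (hpow : (A ⊗ₖ B) ^ r = 1) :
    orderOf (Fintype.card F : ZMod r) ≤ Fintype.card α ∧ orderOf (Fintype.card F : ZMod r) ≤ Fintype.card β ∧
      Fintype.card β * (orderOf (Fintype.card F : ZMod r) - 1) ≤ (A ⊗ₖ B - 1).rank ∧
      Fintype.card α * (orderOf (Fintype.card F : ZMod r) - 1) ≤ (A ⊗ₖ B - 1).rank := by
  classical
  have hr' := (Fact.out : r.Prime)
  have hpk : ∀ k, (A ⊗ₖ B) ^ k = (A ^ k) ⊗ₖ (B ^ k) := by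
    intro k
    induction k with
    | zero => rw [pow_zero, pow_zero, pow_zero, Matrix.one_kronecker_one]
    | succ k ih => rw [pow_succ, ih, ← Matrix.mul_kronecker_mul, ← pow_succ, ← pow_succ]
  rw [hpk] at hpow
  obtain ⟨a, ha⟩ := scalar_pow_of_kronecker _ _ (hB.pow r) hpow
  have ha0 : a ≠ 0 := by
    rintro rfl
    rw [zero_smul] at ha
    exact not_isUnit_zero (ha ▸ hA.pow r)
  have hcop : (Nat.card Fˣ).Coprime r := by
    rw [Nat.card_units, Nat.card_eq_fintype_card, Nat.coprime_comm]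
    exact hr'.coprime_iff_not_dvd.2 hr1
  obtain ⟨w, hw⟩ := (powCoprime hcop).surjective (Units.mk0 a ha0)
  rw [powCoprime_apply] at hw
  have hwa : (w : F) ^ r = a := by rw [← Units.val_pow_eq_pow_val, hw]; rfl
  have hA'r : ((w : F)⁻¹ • A) ^ r = 1 := by
    rw [_root_.smul_pow, ha, smul_smul, inv_pow, hwa, inv_mul_cancel₀ ha0, one_smul]
  have hB'r : ((w : F) • B) ^ r = 1 := by
    rw [ha, Matrix.smul_kronecker] at hpow
    rw [_root_.smul_pow, hwa]
    ext k k'
    obtain ⟨i⟩ := (inferInstance : Nonempty α)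
    have e := congrFun (congrFun hpow (i, k)) (i, k')
    simpa [Matrix.one_apply] using e
  have hA'1 : (w : F)⁻¹ • A ≠ 1 := fun h => hAs ⟨w, by rw [← h, smul_smul, mul_inv_cancel₀ w.ne_zero, one_smul]⟩
  have hB'1 : (w : F) • B ≠ 1 := fun h => hBs ⟨(w : F)⁻¹, by
    rw [← h, smul_smul, inv_mul_cancel₀ w.ne_zero, one_smul]⟩
  set i := orderOf (Fintype.card F : ZMod r) with hi
  have hkron : ((w : F)⁻¹ • A) ⊗ₖ ((w : F) • B) = A ⊗ₖ B := by
    rw [Matrix.smul_kronecker, Matrix.kronecker_smul, smul_smul, inv_mul_cancel₀ w.ne_zero, one_smul]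
  have hbound : ∀ {γ δ : Type} [Fintype γ] [DecidableEq γ] [Fintype δ] [DecidableEq δ] (M : Matrix γ γ F)
      (N : Matrix δ δ F), IsUnit N → M ^ r = 1 → M ≠ 1 → Fintype.card δ * (i - 1) ≤ (M ⊗ₖ N - 1).rank := by
    intro γ δ _ _ _ _ M N hN hM hM1
    rcases Nat.eq_zero_or_pos i with h0 | h0
    · rw [h0]; simp
    obtain ⟨u, hu⟩ : ∃ u, M *ᵥ u ≠ u := by
      by_contra h
      push Not at h
      exact hM1 (Matrix.toLin'.injective (LinearMap.ext fun u => by simp [h u]))
    have hLI := (cyclic_independent hr M hM u hu).comp (Fin.cast (show i - 1 + 1 = i by omega)) (Fin.cast_injective _)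
    have := rank_kronecker_ge M N hN u (i - 1) hLI 1
    rwa [one_smul] at this
  refine ⟨order_le_card hr _ hA'r hA'1, order_le_card hr _ hB'r hB'1, ?_, ?_⟩
  · rw [← hkron]
    exact hbound _ _ (hB.smul w) hA'r hA'1
  · rw [← hkron, ← one_smul F (1 : Matrix (α × β) (α × β) F), ← rank_kronecker_swap, one_smul]
    exact hbound _ _ (by simpa [Units.smul_def] using hA.smul w⁻¹) hB'r hB'1

end order

section member

variable {ι : Type} [Fintype ι] [DecidableEq ι] {a b : ℕ} {e : ι ≃ Fin a × Fin b} {P : GL ι F}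

/-- The factors of an element conjugate into a tensor stabilizer. -/
theorem exists_kronecker {x g : GL ι F} (h : g⁻¹ * x * g ∈ Geo.tensorProductSubgroup a b e P) :
    ∃ (A : Matrix (Fin a) (Fin a) F) (B : Matrix (Fin b) (Fin b) F), IsUnit A ∧ IsUnit B ∧
      (g⁻¹ * x * g).val = Aschbacher.coordEquiv e P (A ⊗ₖ B) ∧
      (x.val - 1).rank = (A ⊗ₖ B - 1).rank ∧ ∀ k, x ^ k = 1 → (A ⊗ₖ B) ^ k = 1 := by
  obtain ⟨_, ⟨s, ⟨A, B, hs⟩, rfl⟩, hy⟩ := h
  have hval : (g⁻¹ * x * g).val = Aschbacher.coordEquiv e P (A.val ⊗ₖ B.val) := by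
    rw [← hy, ← hs, ← Aschbacher.coordGL_val, Aschbacher.coordGL_eq]
    rfl
  refine ⟨A, B, A.isUnit, B.isUnit, hval, ?_, fun k hk => ?_⟩
  · have h1 : (g⁻¹ : GL ι F).val * (x.val - 1) * g.val =
        Aschbacher.coordEquiv e P (A.val ⊗ₖ B.val - 1) := by
      rw [map_sub, map_one, ← hval, Units.val_mul, Units.val_mul, mul_sub, sub_mul, mul_one, Units.inv_mul]
    have h2 := congrArg Matrix.rank h1
    rw [Aschbacher.coordEquiv_apply, Matrix.rank_mul_eq_left_of_isUnit_det _ _
        ((Matrix.isUnit_iff_isUnit_det _).1 (P⁻¹).isUnit),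
      Matrix.rank_mul_eq_right_of_isUnit_det _ _ ((Matrix.isUnit_iff_isUnit_det _).1 P.isUnit),
      Matrix.rank_submatrix, Matrix.rank_mul_eq_left_of_isUnit_det _ _ ((Matrix.isUnit_iff_isUnit_det _).1 g.isUnit),
      Matrix.rank_mul_eq_right_of_isUnit_det _ _ ((Matrix.isUnit_iff_isUnit_det _).1 (g⁻¹).isUnit)] at h2
    exact h2
  · have h1 := congrArg (fun M => M ^ k) hval
    have h2 : (g⁻¹ * x * g) ^ k = 1 := by
      have := conj_pow (a := g⁻¹) (b := x) (i := k)
      rwa [inv_inv, hk, mul_one, inv_mul_cancel] at this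
    simp only [← map_pow, ← Units.val_pow_eq_pow_val, h2] at h1
    apply (Aschbacher.coordEquiv e P).injective
    rw [← h1, map_one]
    simp

end member

end Cfsg.Agent.Elusive
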