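import Cfsg.Agent.Lib.Forms.Herm
import Mathlib.NumberTheory.Padics.PadicVal.Basic

/-!
Arithmetic of the group of elements of norm one and of the order of `-q` modulo an odd prime.
-/

set_option autoImplicit false
set_option linter.unusedSectionVars false
set_option linter.style.haveILetI false

namespace Cfsg.Agent.Elusive.Unitary

variable {F : Type*} [Field F] [Fintype F] {q : ℕ} (hF : Fintype.card F = q ^ 2) {r : ℕ} [Fact r.Prime]

include hF in
/-- A generator of the norm one elements. -/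
theorem exists_gen : ∃ g : F, g ^ (q + 1) = 1 ∧ (∀ k : ℕ, g ^ k = 1 → q + 1 ∣ k) ∧
    ∀ z : F, z ^ (q + 1) = 1 → ∃ k : ℕ, z = g ^ k := by
  classical
  obtain ⟨g, hg⟩ := IsCyclic.exists_generator (α := (powMonoidHom (α := Fˣ) (q + 1)).ker)
  have hord : orderOf g = q + 1 := by
    rw [orderOf_eq_card_of_forall_mem_zpowers hg, Forms.card_norm_kernel hF]
  have hmem : ∀ x : (powMonoidHom (α := Fˣ) (q + 1)).ker, ((x : Fˣ) : F) ^ (q + 1) = 1 := fun x => by
    have h : (x : Fˣ) ^ (q + 1) = 1 := x.2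
    rw [← Units.val_pow_eq_pow_val, h, Units.val_one]
  refine ⟨((g : Fˣ) : F), hmem g, fun k hk => ?_, fun z hz => ?_⟩
  · rw [← hord]
    refine orderOf_dvd_of_pow_eq_one (Subtype.ext (Units.ext ?_))
    simpa using hk
  · have hz0 : z ≠ 0 := fun h => by rw [h, zero_pow q.succ_ne_zero] at hz; exact zero_ne_one hz
    let x : (powMonoidHom (α := Fˣ) (q + 1)).ker := ⟨Units.mk0 z hz0, Units.ext (by simpa using hz)⟩
    obtain ⟨k, hk⟩ := (isOfFinOrder_of_finite g).mem_powers_iff_mem_zpowers.2 (hg x)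
    exact ⟨k, by simpa [x] using congrArg (fun y : (powMonoidHom (α := Fˣ) (q + 1)).ker => ((y : Fˣ) : F)) hk.symm⟩

include hF in
/-- A norm one element is an `r`-th power of one, if `r` is prime to `q + 1`. -/
theorem exists_root_of_not_dvd (hr : ¬ r ∣ q + 1) {z : F} (hz : z ^ (q + 1) = 1) :
    ∃ w : F, w ^ (q + 1) = 1 ∧ w ^ r = z := by
  have hcop : (Nat.card (powMonoidHom (α := Fˣ) (q + 1)).ker).Coprime r := by
    rw [Forms.card_norm_kernel hF, Nat.coprime_comm]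
    exact (Fact.out : r.Prime).coprime_iff_not_dvd.2 hr
  have hz0 : z ≠ 0 := fun h => by rw [h, zero_pow q.succ_ne_zero] at hz; exact zero_ne_one hz
  obtain ⟨u, hu⟩ := (powCoprime hcop).surjective ⟨Units.mk0 z hz0, Units.ext (by simpa using hz)⟩
  have h1 : (u : Fˣ) ^ (q + 1) = 1 := u.2
  refine ⟨((u : Fˣ) : F), by rw [← Units.val_pow_eq_pow_val, h1, Units.val_one], ?_⟩
  have h2 := congrArg (fun y : (powMonoidHom (α := Fˣ) (q + 1)).ker => ((y : Fˣ) : F)) hu
  simpa [powCoprime_apply] using h2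

include hF in
theorem exists_root_iff (hr : r ∣ q + 1) {z : F} (hz : z ^ (q + 1) = 1) :
    (∃ w : F, w ^ (q + 1) = 1 ∧ w ^ r = z) ↔ z ^ ((q + 1) / r) = 1 := by
  constructor
  · rintro ⟨w, hw, rfl⟩
    rw [← pow_mul, Nat.mul_div_cancel' hr, hw]
  · intro h
    obtain ⟨g, hg1, hg2, hg3⟩ := exists_gen hF
    obtain ⟨k, rfl⟩ := hg3 z hz
    rw [← pow_mul] at h
    obtain ⟨e, he⟩ := hr
    have he' : (q + 1) / r = e := by rw [he, Nat.mul_div_cancel_left _ (Fact.out : r.Prime).pos]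
    have h' := hg2 _ h
    rw [he', he, mul_comm r e, mul_comm k e] at h'
    obtain ⟨l, rfl⟩ := (Nat.mul_dvd_mul_iff_left (Nat.pos_of_ne_zero fun h0 => by simp [h0] at he)).1 h'
    exact ⟨g ^ l, by rw [pow_right_comm, hg1, one_pow], by rw [← pow_mul, mul_comm]⟩

/-- An element killed by `q + 1` and by `n / r` is killed by `(q + 1) / r` when `n` has small `r`-part. -/
theorem pow_div_eq_one {G : Type*} [Monoid G] {n N : ℕ} (hn : n ≠ 0) (hN : N ≠ 0) (hrn : r ∣ n) (hrN : r ∣ N)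
    (hv : padicValNat r n ≤ padicValNat r N) {x : G} (h1 : x ^ N = 1) (h2 : x ^ (n / r) = 1) :
    x ^ (N / r) = 1 := by
  have hr := (Fact.out : r.Prime)
  rw [← orderOf_dvd_iff_pow_eq_one] at h1 h2 ⊢
  set d := orderOf x with hd
  have hd0 : d ≠ 0 := fun h => by rw [h] at h1; exact hN (zero_dvd_iff.1 h1)
  rw [Nat.dvd_div_iff_mul_dvd hrn] at h2
  rw [Nat.dvd_div_iff_mul_dvd hrN]
  obtain ⟨a, d', hd', he⟩ := Nat.exists_eq_pow_mul_and_not_dvd hd0 r hr.ne_one
  have ha : a + 1 ≤ padicValNat r N := le_trans ((padicValNat_dvd_iff_le hn).1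
    (dvd_trans ⟨d', by rw [he]; ring⟩ h2)) hv
  rw [he, ← mul_assoc, ← pow_succ']
  refine Nat.Coprime.mul_dvd_of_dvd_of_dvd (Nat.Coprime.pow_left _ (hr.coprime_iff_not_dvd.2 hd'))
    ((padicValNat_dvd_iff_le hN).2 ha) ?_
  exact dvd_trans ⟨r ^ a, by rw [he]; ring⟩ h1

include hF in
/-- A norm one element killed by `n / r`, not by `(q + 1) / r`. -/
theorem exists_bad {n : ℕ} (hn : n ≠ 0) (hr : r ∣ q + 1) (hv : padicValNat r (q + 1) < padicValNat r n) :
    ∃ t : F, t ^ (q + 1) = 1 ∧ t ^ (n / r) = 1 ∧ t ^ ((q + 1) / r) ≠ 1 ∧ r ∣ n := by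
  have hr' := (Fact.out : r.Prime)
  obtain ⟨g, hg1, hg2, -⟩ := exists_gen hF
  set e := padicValNat r (q + 1) with he
  obtain ⟨Q, hQ⟩ : r ^ e ∣ q + 1 := (padicValNat_dvd_iff_le (p := r) (Nat.succ_ne_zero q)).2 (le_refl e)
  have hrn : r ∣ n := dvd_of_one_le_padicValNat (show 1 ≤ padicValNat r n by omega)
  have he1 : 1 ≤ e := (padicValNat_dvd_iff_le (Nat.succ_ne_zero q)).1 (by rwa [pow_one])
  refine ⟨g ^ Q, by rw [pow_right_comm, hg1, one_pow], ?_, fun h => ?_, hrn⟩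
  · have hd : r ^ e ∣ n / r := by
      rw [Nat.dvd_div_iff_mul_dvd hrn, ← pow_succ']
      exact (padicValNat_dvd_iff_le hn).2 hv
    obtain ⟨t, ht⟩ := hd
    rw [ht, pow_mul, ← pow_mul g, mul_comm Q, ← hQ, hg1, one_pow]
  · rw [← pow_mul] at h
    have h' := hg2 _ h
    have hqe : (q + 1) / r = r ^ (e - 1) * Q := by
      rw [hQ, show r ^ e = r * r ^ (e - 1) by rw [← pow_succ', Nat.sub_add_cancel he1], mul_assoc,
        Nat.mul_div_cancel_left _ hr'.pos]
    rw [hqe, ← mul_assoc, mul_comm Q, mul_comm (r ^ (e - 1) * Q) Q] at h'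
    have h'' : r ^ (e + 0) ∣ r ^ (e - 1) * Q := by
      have hQ0 : 0 < Q := Nat.pos_of_ne_zero fun h0 => by simp [h0] at hQ
      rw [hQ, mul_comm (r ^ e)] at h'
      exact (Nat.mul_dvd_mul_iff_left hQ0).1 h'
    have hdvd : r ∣ Q := by
      rw [add_zero, show r ^ e = r ^ (e - 1) * r by rw [← pow_succ, Nat.sub_add_cancel he1]] at h''
      exact (Nat.mul_dvd_mul_iff_left (pow_pos hr'.pos _)).1 h''
    have := (padicValNat_dvd_iff_le (p := r) (Nat.succ_ne_zero q)).1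
      (show r ^ (e + 1) ∣ q + 1 by rw [hQ, pow_succ]; exact mul_dvd_mul_left _ hdvd)
    rw [← he] at this
    omega

include hF in
/-- Odd `r`: every admissible scalar is an `r`-th power iff the `r`-part of `n` is small. -/
theorem roots_iff_odd {n : ℕ} (hn : n ≠ 0) (hr2 : r ≠ 2) (hr : r ∣ q + 1) :
    (∀ z : F, z ^ (q + 1) = 1 → r ∣ n → ((-1) ^ (r - 1) * z) ^ (n / r) = 1 →
      ∃ w : F, w ^ (q + 1) = 1 ∧ w ^ r = z) ↔ padicValNat r n ≤ padicValNat r (q + 1) := by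
  obtain ⟨k, hk⟩ := (Fact.out : r.Prime).odd_of_ne_two hr2
  have hsign : ((-1 : F)) ^ (r - 1) = 1 := by rw [show r - 1 = 2 * k by omega, pow_mul, neg_one_sq, one_pow]
  simp only [hsign, one_mul]
  constructor
  · intro h
    by_contra hlt
    push Not at hlt
    obtain ⟨t, h1, h2, h3, h4⟩ := exists_bad hF hn hr hlt
    exact h3 ((exists_root_iff hF hr h1).1 (h t h1 h4 h2))
  · exact fun hv z hz hrn hz' => (exists_root_iff hF hr hz).2 (pow_div_eq_one hn q.succ_ne_zero hrn hr hv hz hz')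

include hF in
/-- `r = 2`. -/
theorem roots_iff_two {n : ℕ} (hn : n ≠ 0) (hq : Odd q) (h2 : (2 : F) ≠ 0) :
    (∀ z : F, z ^ (q + 1) = 1 → 2 ∣ n → ((-1) ^ (2 - 1) * z) ^ (n / 2) = 1 →
      ∃ w : F, w ^ (q + 1) = 1 ∧ w ^ 2 = z) ↔
      (Odd n ∨ (padicValNat 2 n ≤ padicValNat 2 (q + 1) ∧ q % 4 = 3)) := by
  obtain ⟨k, hk⟩ := hq
  have h2q : 2 ∣ q + 1 := ⟨k + 1, by omega⟩
  have hhalf : (q + 1) / 2 = k + 1 := by omega
  have hne : (-1 : F) ≠ 1 := fun h => h2 (by linear_combination -h)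
  have hev : (-1 : F) ^ (q + 1) = 1 := Even.neg_one_pow ⟨k + 1, by omega⟩
  simp only [show (2 : ℕ) - 1 = 1 from rfl, pow_one, neg_one_mul]
  constructor
  · intro h
    rcases Nat.even_or_odd n with hev' | hodd
    swap
    · exact Or.inl hodd
    have h2n : 2 ∣ n := hev'.two_dvd
    by_contra hnot
    push Not at hnot
    by_cases hq4 : q % 4 = 3
    · obtain ⟨t, h1, h2', h3, -⟩ := exists_bad hF hn h2q (by
        by_contra hle
        exact hnot.2 (not_lt.1 hle) hq4)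
      obtain ⟨w, hw⟩ := h (-t) (by rw [neg_pow, hev, one_mul, h1]) h2n (by rw [neg_neg, h2'])
      have h4 := (exists_root_iff hF h2q (z := -t) (by rw [neg_pow, hev, one_mul, h1])).1 ⟨w, hw⟩
      rw [neg_pow, hhalf, Even.neg_one_pow (Nat.even_iff.2 (by omega)), one_mul, ← hhalf] at h4
      exact h3 h4
    · obtain ⟨w, hw⟩ := h (-1) hev h2n (by rw [neg_neg, one_pow])
      have h4 := (exists_root_iff hF h2q hev).1 ⟨w, hw⟩
      rw [hhalf, Odd.neg_one_pow (Nat.odd_iff.2 (by omega))] at h4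
      exact hne h4
  · rintro (hodd | ⟨hv, hq4⟩) z hz h2n hz'
    · exact absurd h2n (fun h => by rw [Nat.odd_iff] at hodd; omega)
    refine (exists_root_iff hF h2q hz).2 ?_
    have h4 := pow_div_eq_one (G := F) hn q.succ_ne_zero h2n h2q hv (x := -z) (by rw [neg_pow, hev, one_mul, hz]) hz'
    rwa [neg_pow, hhalf, Even.neg_one_pow (Nat.even_iff.2 (by omega)), one_mul, ← hhalf] at h4

/-- The order of `-q` modulo an odd prime. -/
theorem order_neg (hr2 : r ≠ 2) {a : ZMod r} {i : ℕ} (hi : i = orderOf a) (hi0 : 0 < i) :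
    orderOf (-a) = if i % 4 = 0 then i else if i % 4 = 2 then i / 2 else 2 * i := by
  have hr := (Fact.out : r.Prime)
  have hne : (-1 : ZMod r) ≠ 1 := fun h => by
    have h2 : ((2 : ℕ) : ZMod r) = 0 := by push_cast; linear_combination -h
    rw [ZMod.natCast_eq_zero_iff] at h2
    exact hr2 ((Nat.prime_dvd_prime_iff_eq hr Nat.prime_two).1 h2)
  set c := orderOf (-a)
  have h1 : (-a) ^ c = 1 := pow_orderOf_eq_one _
  have hai : a ^ i = 1 := by rw [hi]; exact pow_orderOf_eq_one a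
  have h2c : i ∣ 2 * c := by
    rw [hi]
    exact orderOf_dvd_of_pow_eq_one (by rw [pow_mul, ← neg_sq, ← pow_mul, mul_comm, pow_mul, h1, one_pow])
  have heven : Even c → i ∣ c := fun he => by
    rw [hi]; exact orderOf_dvd_of_pow_eq_one (by rwa [he.neg_pow] at h1)
  split_ifs with h4 h4'
  · refine Nat.dvd_antisymm (orderOf_dvd_of_pow_eq_one ?_) (heven ?_)
    · rw [Even.neg_pow (Nat.even_iff.2 (by omega)), hai]
    · obtain ⟨l, hl⟩ := h2c
      obtain ⟨j, hj⟩ : ∃ j, i = 4 * j := ⟨i / 4, by omega⟩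
      rw [hj, mul_assoc] at hl
      exact ⟨j * l, by omega⟩
  · refine Nat.dvd_antisymm (orderOf_dvd_of_pow_eq_one ?_) ?_
    · obtain ⟨k, hk⟩ : ∃ k, i = 2 * (2 * k + 1) := ⟨i / 4, by omega⟩
      rw [show i / 2 = 2 * k + 1 by omega, Odd.neg_pow ⟨k, rfl⟩]
      rw [hk, mul_comm, pow_mul, sq] at hai
      rcases mul_self_eq_one_iff.1 hai with h | h
      · exfalso
        have := Nat.le_of_dvd (by omega) (hi ▸ orderOf_dvd_of_pow_eq_one h)
        omega
      · rw [h, neg_neg]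
    · obtain ⟨k, hk⟩ : ∃ k, i = 2 * k := ⟨i / 2, by omega⟩
      rw [hk] at h2c ⊢
      rw [Nat.mul_div_cancel_left _ two_pos]
      exact (Nat.mul_dvd_mul_iff_left two_pos).1 h2c
  · have hodd : Odd i := Nat.odd_iff.2 (by omega)
    refine Nat.dvd_antisymm (orderOf_dvd_of_pow_eq_one ?_) ?_
    · rw [(even_two_mul i).neg_pow, mul_comm, pow_mul, hai, one_pow]
    · have hic : i ∣ c := (Nat.Coprime.dvd_of_dvd_mul_left (Nat.coprime_two_right.2 hodd) h2c)
      refine Nat.Coprime.mul_dvd_of_dvd_of_dvd (Nat.coprime_two_left.2 hodd) ?_ hic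
      by_contra hodd'
      have hco : Odd c := Nat.odd_iff.2 (by omega)
      obtain ⟨l, hl⟩ := hic
      rw [hco.neg_pow, hl, pow_mul, hai, one_pow] at h1
      exact hne h1

end Cfsg.Agent.Elusive.Unitary
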