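import Cfsg.Agent.Lib.Elusive.UnitaryNd
import Cfsg.Agent.Lib.GL.UnitaryOrders

/-!
Unitary isometries whose `r`-th power is a scalar that is no `r`-th power: monomial blocks of size `r`.
-/

set_option autoImplicit false
set_option linter.unusedSectionVars false
set_option linter.style.haveILetI false

namespace Cfsg.Agent.Elusive.Unitary

open Module Matrix
open Forms (qEnd qEnd_qEnd)

variable {F : Type*} [Field F] [Fintype F] {q : ℕ} {hF : Fintype.card F = q ^ 2}

/-- The monomial cycle with product `z`. -/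
def cyc (r : ℕ) (z : F) : Matrix (Fin r) (Fin r) F :=
  (Matrix.diagonal fun j : Fin r => if (j : ℕ) + 1 = r then z else 1).submatrix (finRotate r).symm id

theorem det_cyc (r : ℕ) (hr : 0 < r) (z : F) : (cyc r z).det = (-1) ^ (r - 1) * z := by
  rw [cyc, Matrix.det_permute, Matrix.det_diagonal, Equiv.Perm.sign_symm, sign_finRotate]
  congr 1
  · push_cast; rfl
  · rw [Finset.prod_eq_single (⟨r - 1, by omega⟩ : Fin r)]
    · rw [if_pos (show r - 1 + 1 = r by omega)]
    · intro b _ hb
      rw [if_neg fun h => hb (Fin.ext (show (b : ℕ) = r - 1 by omega))]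
    · simp

theorem cyc_mulVec (r : ℕ) (z : F) (v : Fin r → F) (i : Fin r) :
    (cyc r z *ᵥ v) i = (if ((finRotate r).symm i : ℕ) + 1 = r then z else 1) * v ((finRotate r).symm i) := by
  show ∑ j, cyc r z i j * v j = _
  rw [Finset.sum_eq_single ((finRotate r).symm i)]
  · rw [cyc, Matrix.submatrix_apply, id_eq, Matrix.diagonal_apply_eq]
  · intro j _ hj
    rw [cyc, Matrix.submatrix_apply, id_eq, Matrix.diagonal_apply_ne _ (Ne.symm hj), zero_mul]
  · simp

theorem cyc_single (r : ℕ) (z : F) (j : Fin r) :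
    cyc r z *ᵥ Pi.single j 1 = (if (j : ℕ) + 1 = r then z else 1) • Pi.single (finRotate r j) 1 := by
  funext i
  rw [cyc_mulVec, Pi.smul_apply, smul_eq_mul, Pi.single_apply, Pi.single_apply]
  by_cases h : (finRotate r).symm i = j
  · obtain rfl : i = finRotate r j := (Equiv.symm_apply_eq _).1 h
    rw [h, if_pos rfl, if_pos rfl, mul_one]
  · have h' : i ≠ finRotate r j := fun h' => h (by rw [h', Equiv.symm_apply_apply])
    rw [if_neg h, if_neg h', mul_zero, mul_zero]

theorem cyc_pow (r : ℕ) (hr : 0 < r) (z : F) : cyc r z ^ r = z • (1 : Matrix (Fin r) (Fin r) F) := by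
  obtain ⟨k, rfl⟩ : ∃ k, r = k + 1 := ⟨r - 1, by omega⟩
  have hstep : ∀ (i : ℕ) (hi : i < k + 1), (cyc (k + 1) z ^ i) *ᵥ Pi.single 0 1 = Pi.single ⟨i, hi⟩ 1 := by
    intro i
    induction i with
    | zero => intro _; rw [pow_zero, Matrix.one_mulVec]; rfl
    | succ i ih =>
      intro hi
      rw [pow_succ', ← Matrix.mulVec_mulVec, ih (by omega), cyc_single, if_neg (by simp only; omega), one_smul,
        finRotate_of_lt (by omega)]
  have h0 : (cyc (k + 1) z ^ (k + 1)) *ᵥ Pi.single 0 1 = z • Pi.single 0 1 := by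
    rw [pow_succ', ← Matrix.mulVec_mulVec, hstep k (by omega), cyc_single, if_pos rfl, finRotate_last']
    rfl
  refine Matrix.ext_of_mulVec_single fun j => ?_
  rw [← hstep j j.isLt, Matrix.mulVec_mulVec, (Commute.pow_pow_self (cyc (k + 1) z) (k + 1) j).eq,
    ← Matrix.mulVec_mulVec, h0,
    Matrix.mulVec_smul, hstep j j.isLt, Matrix.smul_mulVec, Matrix.one_mulVec]

theorem preserves_cyc (r : ℕ) {z : F} (hz : z ^ (q + 1) = 1) :
    GL.Preserves (Cfsg.hermForm r F q) (cyc r z) := fun u v => by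
  simp only [Cfsg.hermForm, cyc_mulVec]
  refine Fintype.sum_equiv (finRotate r).symm _ _ fun i => ?_
  split
  · rw [mul_pow]
    linear_combination (u ((finRotate r).symm i) * v ((finRotate r).symm i) ^ q) * hz
  · simp

include hF in
/-- Copies of a block. -/
theorem exists_blocks {k r : ℕ} {z : F} (hz : z ^ (q + 1) = 1) (A₀ : Matrix (Fin k) (Fin k) F)
    (hA₀ : GL.Preserves (Cfsg.hermForm k F q) A₀) (hA₀r : A₀ ^ r = z • (1 : Matrix (Fin k) (Fin k) F)) :
    ∀ M : ℕ, ∃ A : Matrix (Fin (k * M)) (Fin (k * M)) F, GL.Preserves (Cfsg.hermForm (k * M) F q) A ∧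
      A ^ r = z • (1 : Matrix (Fin (k * M)) (Fin (k * M)) F) ∧ A.det = A₀.det ^ M ∧
      ((LinearMap.ker (Matrix.toLin' A₀ - 1) = ⊥) → LinearMap.ker (Matrix.toLin' A - 1) = ⊥) := by
  intro M
  induction M with
  | zero =>
    haveI : IsEmpty (Fin (k * 0)) := by rw [Nat.mul_zero]; exact Fin.isEmpty'
    exact ⟨1, fun u v => by rw [Matrix.one_mulVec, Matrix.one_mulVec], Matrix.ext fun i => isEmptyElim i,
      by simp, fun _ => (Submodule.eq_bot_iff _).2 fun v _ => funext fun i => isEmptyElim i⟩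
  | succ M ih =>
    obtain ⟨A, hA, hAr, hAd, hA0⟩ := ih
    have h : k * M + k = k * (M + 1) := (Nat.mul_succ k M).symm
    refine ⟨GL.twoBlock h (A, A₀), GL.preserves_twoBlock hF h hA hA₀, ?_, ?_, fun hk0 => ?_⟩
    · rw [← map_pow, Prod.pow_mk, hAr, hA₀r, GL.twoBlock_eq_smul_one]
      exact ⟨rfl, rfl⟩
    · rw [GL.det_twoBlock, hAd, pow_succ]
    · refine (Submodule.eq_bot_iff _).2 fun v hv => ?_
      set e := finSumFinEquiv.trans (finCongr h) with he
      have hv' : (GL.twoBlock h (A, A₀)) *ᵥ v = v := by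
        rw [← Matrix.toLin'_apply]; exact sub_eq_zero.1 (show (Matrix.toLin' (GL.twoBlock h (A, A₀)) - 1) v = 0 from hv)
      have hw : (Matrix.fromBlocks A 0 0 A₀) *ᵥ (v ∘ e) = v ∘ e := by
        change ((Matrix.fromBlocks A 0 0 A₀).submatrix e.symm e.symm) *ᵥ v = v at hv'
        rw [Matrix.submatrix_mulVec_equiv] at hv'
        funext i
        have := congrFun hv' (e i)
        simpa using this
      rw [Matrix.fromBlocks_mulVec] at hw
      have h1 : (fun i => v (e (Sum.inl i))) = 0 := (Submodule.mem_bot F).1 (hA0 hk0 ▸ sub_eq_zero.2 (by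
        funext i
        simpa [Function.comp_def] using congrFun hw (Sum.inl i)))
      have h2 : (fun i => v (e (Sum.inr i))) = 0 := (Submodule.mem_bot F).1 (hk0 ▸ sub_eq_zero.2 (by
        funext i
        simpa [Function.comp_def] using congrFun hw (Sum.inr i)))
      funext j
      obtain ⟨i, rfl⟩ := e.surjective j
      rcases i with i | i
      · exact congrFun h1 i
      · exact congrFun h2 i

variable {V : Type*} [AddCommGroup V] [Module F V] [FiniteDimensional F V]
  {B : V →ₛₗ[qEnd hF] V →ₗ[F] F} (hS : ∀ x y, qEnd hF (B x y) = B y x)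
  {f : End F V} (hf : ∀ u v, B (f u) (f v) = B u v) (hsep : Nd B (⊤ : Submodule F V))
  {r : ℕ} [Fact r.Prime]

include hS hf hsep in
/-- A block of dimension `r`, with its determinant. -/
theorem exists_cyclic_block (hr : (r : F) ≠ 0) {z : F} (hz : f ^ r = z • (1 : End F V)) (hzq : z ^ (q + 1) = 1)
    (hno : ∀ w : F, w ^ (q + 1) = 1 → w ^ r ≠ z) {T : Submodule F V} (hT : Inv f T) (hTn : Nd B T) (hne : T ≠ ⊥) :
    ∃ (U : Submodule F V) (hU : Inv f U), U ≤ T ∧ Nd B U ∧ finrank F U = r ∧
      LinearMap.det (f.restrict hU) = (-1) ^ (r - 1) * z := by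
  have hr' := (Fact.out : r.Prime)
  have hz0 : z ≠ 0 := fun h => by rw [h, zero_pow q.succ_ne_zero] at hzq; exact zero_ne_one hzq
  obtain ⟨v, hv, U, hUle, hUT, hUi, hUn, hUpos⟩ := exists_small_block hS hf hsep hr hz0 hz hT hTn hne
  set z₀ : Fin r → V := fun i => (f ^ (i : ℕ)) v with hz₀
  have hdvd : r ∣ finrank F U := by
    by_contra h
    obtain ⟨w, hw1, hw2⟩ := exists_root_of_dim hS hf hz hzq hUi hUn h
    exact hno w hw1 hw2
  have hspan : finrank F (Submodule.span F (Set.range z₀)) ≤ r :=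
    (finrank_range_le_card z₀).trans (Fintype.card_fin r).le
  have hUd : finrank F U = r := le_antisymm ((Submodule.finrank_mono hUle).trans hspan) (Nat.le_of_dvd hUpos hdvd)
  have hUeq : U = Submodule.span F (Set.range z₀) := Submodule.eq_of_le_of_finrank_le hUle (by omega)
  refine ⟨U, hUi, hUT, hUn, hUd, ?_⟩
  have hmem : ∀ i, z₀ i ∈ U := fun i => hUeq ▸ Submodule.subset_span ⟨i, rfl⟩
  have hli : LinearIndependent F z₀ := linearIndependent_iff_card_eq_finrank_span.2 (by
    rw [Fintype.card_fin, Set.finrank, ← hUeq, hUd])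
  let w : Fin r → U := fun i => ⟨z₀ i, hmem i⟩
  have hwli : LinearIndependent F w := LinearIndependent.of_comp U.subtype hli
  haveI : Nonempty (Fin r) := ⟨⟨0, hr'.pos⟩⟩
  let b := basisOfLinearIndependentOfCardEqFinrank hwli (by rw [Fintype.card_fin, hUd])
  have hb : ∀ i, b i = w i := fun i => congrFun (coe_basisOfLinearIndependentOfCardEqFinrank hwli _) i
  have hmat : LinearMap.toMatrix b b (f.restrict hUi) = cyc r z := by
    refine (LinearMap.toMatrix b b).symm.injective ?_
    rw [LinearEquiv.symm_apply_apply]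
    refine b.ext fun j => ?_
    rw [LinearMap.toMatrix_symm, Matrix.toLin_self, hb]
    have hcol : ∀ i, cyc r z i j = (cyc r z *ᵥ Pi.single j 1) i := fun i => by simp
    simp only [hcol, cyc_single, Pi.smul_apply, smul_eq_mul, hb]
    rw [Finset.sum_eq_single (finRotate r j) (fun i _ hi => by rw [Pi.single_eq_of_ne hi, mul_zero, zero_smul])
      (by simp), Pi.single_eq_same, mul_one]
    refine Subtype.ext ?_
    show f ((f ^ (j : ℕ)) v) = (if (j : ℕ) + 1 = r then z else 1) • (f ^ ((finRotate r j : Fin r) : ℕ)) v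
    rw [← Module.End.mul_apply, ← pow_succ']
    obtain ⟨k, rfl⟩ : ∃ k, r = k + 1 := ⟨r - 1, by have := hr'.pos; omega⟩
    by_cases hj : (j : ℕ) + 1 = k + 1
    · rw [if_pos hj, hj, show j = Fin.last k from Fin.ext (by simpa using hj), finRotate_last, hz]
      simp
    · rw [if_neg hj, one_smul, coe_finRotate_of_ne_last fun h => hj (by simp [h])]
  rw [← LinearMap.det_toMatrix b, hmat, det_cyc r hr'.pos]

include hS hf hsep in
/-- The determinant is a power of that of a block. -/
theorem det_of_no_root (hr : (r : F) ≠ 0) {z : F} (hz : f ^ r = z • (1 : End F V)) (hzq : z ^ (q + 1) = 1)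
    (hno : ∀ w : F, w ^ (q + 1) = 1 → w ^ r ≠ z) :
    r ∣ finrank F V ∧ LinearMap.det f = ((-1) ^ (r - 1) * z) ^ (finrank F V / r) := by
  have hr' := (Fact.out : r.Prime)
  have main : ∀ (n : ℕ) (S : Submodule F V) (hSi : Inv f S), finrank F S = n → Nd B S →
      r ∣ n ∧ LinearMap.det (f.restrict hSi) = ((-1) ^ (r - 1) * z) ^ (n / r) := by
    intro n
    induction n using Nat.strong_induction_on with
    | _ n ih =>
      intro S hSi hn hSn
      rcases eq_or_ne S ⊥ with rfl | hne
      · rw [finrank_bot] at hn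
        subst hn
        exact ⟨dvd_zero r, by rw [Nat.zero_div, pow_zero, LinearMap.det_eq_one_of_subsingleton]⟩
      obtain ⟨U, hU, hUS, hUn, hUd, hdet⟩ := exists_cyclic_block hS hf hsep hr hz hzq hno hSi hSn hne
      obtain ⟨hRn, hsup, hinf⟩ := nd_split hS hUS hUn hSn
      have hRi : Inv f (S ⊓ perp B U) := hSi.inf (inv_perp hS hf hsep hU)
      have hd := nd_split_finrank hS hUS hUn hSn
      obtain ⟨hdvd, hdetR⟩ := ih _ (by rw [← hn, ← hd, hUd]; have := hr'.pos; omega) _ hRi rfl hRn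
      refine ⟨by rw [← hn, ← hd, hUd]; exact dvd_add dvd_rfl hdvd, ?_⟩
      let Ψ₀ : (U × ↥(S ⊓ perp B U)) →ₗ[F] S :=
        (Submodule.inclusion hUS).coprod (Submodule.inclusion inf_le_left)
      have hΨ : Function.Injective Ψ₀ := (injective_iff_map_eq_zero Ψ₀).2 fun p hp => by
        have h : (p.1 : V) + p.2 = 0 := congrArg Subtype.val hp
        have h1 : p.1 = 0 := Subtype.ext ((Submodule.mem_bot F).1 (hinf ▸ ⟨p.1.2, by
          rw [eq_neg_of_add_eq_zero_left h]; exact Submodule.neg_mem _ p.2.2⟩))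
        have h2 : p.2 = 0 := Subtype.ext (by rw [h1, Submodule.coe_zero, zero_add] at h; exact h)
        exact Prod.ext h1 h2
      let Ψ := LinearMap.linearEquivOfInjective Ψ₀ hΨ (by rw [Module.finrank_prod, hd])
      have hconj : f.restrict hSi = Ψ.conj ((f.restrict hU).prodMap (f.restrict hRi)) := by
        refine LinearMap.ext fun s => ?_
        obtain ⟨p, rfl⟩ := Ψ.surjective s
        rw [LinearEquiv.conj_apply_apply, LinearEquiv.symm_apply_apply]
        refine Subtype.ext ?_
        show f ((p.1 : V) + p.2) = f p.1 + f p.2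
        rw [map_add]
      rw [hconj, LinearEquiv.conj_apply, LinearMap.comp_assoc, LinearMap.det_conj, LinearMap.det_prodMap, hdet,
        hdetR, ← pow_succ', ← hn, ← hd, hUd, add_comm r, Nat.add_div_right _ hr'.pos]
  obtain ⟨h1, h2⟩ := main _ ⊤ (fun _ _ => trivial) rfl hsep
  rw [finrank_top] at h1 h2
  refine ⟨h1, ?_⟩
  have e : f = (LinearEquiv.ofTop ⊤ rfl).toLinearMap ∘ₗ f.restrict (p := (⊤ : Submodule F V)) (q := ⊤)
      (fun _ _ => trivial) ∘ₗ (LinearEquiv.ofTop ⊤ rfl).symm.toLinearMap := rfl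
  conv_lhs => rw [e]
  rw [LinearMap.det_conj]
  exact h2

end Cfsg.Agent.Elusive.Unitary
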