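import Cfsg.Agent.Lib.Elusive.UnitaryNdPrime
import Cfsg.Agent.Lib.Forms.FrameCounts

/-!
Totally isotropic invariant subspaces of unitary maps: general constructions and bounds.
-/

set_option autoImplicit false
set_option linter.unusedSectionVars false
set_option linter.style.haveILetI false

namespace Cfsg.Agent.Elusive.UnitaryIso

open Polynomial Module
open Forms (qEnd qEnd_apply qEnd_qEnd)
open Unitary (Nd perp nd_split nd_split_finrank swap0 inv_perp exists_aniso nd_span_singleton)

variable {F : Type*} [Field F] [Fintype F] {q : ℕ} {hF : Fintype.card F = q ^ 2}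
  {V : Type*} [AddCommGroup V] [Module F V] [FiniteDimensional F V]
  {B : V →ₛₗ[qEnd hF] V →ₗ[F] F}

/-- The form vanishes on the subspace. -/
def Iso (B : V →ₛₗ[qEnd hF] V →ₗ[F] F) (W : Submodule F V) : Prop := ∀ u ∈ W, ∀ v ∈ W, B u v = 0

/-- The pairing with a family of vectors. -/
def pairMap (B : V →ₛₗ[qEnd hF] V →ₗ[F] F) (S : Submodule F V) {k : ℕ} (w : Fin k → V) : S →ₗ[F] (Fin k → F) :=
  LinearMap.pi fun i => (B (w i)).comp S.subtype

variable (hS : ∀ x y, qEnd hF (B x y) = B y x)
include hS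

/-- Independent vectors of a non-degenerate subspace have independent functionals. -/
theorem pairMap_surjective {S : Submodule F V} (hSn : Nd B S) {k : ℕ} {w : Fin k → V} (hw : ∀ i, w i ∈ S)
    (hli : LinearIndependent F w) : Function.Surjective (pairMap B S w) := by
  rw [← LinearMap.range_eq_top]
  by_contra hne
  obtain ⟨φ, hφ0, hφ⟩ := Submodule.exists_dual_map_eq_bot_of_lt_top (lt_top_iff_ne_top.2 hne) inferInstance
  have key : ∀ v : S, ∑ i, φ (Pi.single i 1) * B (w i) v = 0 := fun v => by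
    have h : φ (pairMap B S w v) = 0 :=
      (Submodule.mem_bot F).1 (hφ ▸ Submodule.mem_map_of_mem (LinearMap.mem_range_self _ v))
    rw [← (Pi.basisFun F (Fin k)).sum_repr (pairMap B S w v), map_sum] at h
    refine Eq.trans (Finset.sum_congr rfl fun i _ => ?_) h
    rw [map_smul, Pi.basisFun_apply, Pi.basisFun_repr, smul_eq_mul, mul_comm]
    rfl
  set u := ∑ i, qEnd hF (φ (Pi.single i 1)) • w i with hu
  have hu0 : u = 0 := by
    by_contra h0
    obtain ⟨v, hv, huv⟩ := hSn u (Submodule.sum_mem _ fun i _ => Submodule.smul_mem _ _ (hw i)) h0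
    refine huv ?_
    rw [hu, map_sum, LinearMap.sum_apply]
    refine Eq.trans (Finset.sum_congr rfl fun i _ => ?_) (key ⟨v, hv⟩)
    rw [map_smulₛₗ B, LinearMap.smul_apply, smul_eq_mul, qEnd_qEnd]
  refine hφ0 ((Pi.basisFun F (Fin k)).ext fun i => ?_)
  have h := Fintype.linearIndependent_iff.1 hli _ hu0 i
  rw [Pi.basisFun_apply, LinearMap.zero_apply, ← qEnd_qEnd hF (φ (Pi.single i 1)), h, map_zero]

/-- A totally isotropic subspace has at most half the dimension. -/
theorem two_finrank_le {S P : Submodule F V} (hSn : Nd B S) (hP : P ≤ S) (hiso : Iso B P) :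
    2 * finrank F P ≤ finrank F S := by
  let b := Module.finBasis F P
  have hli : LinearIndependent F fun i => (b i : V) := b.linearIndependent.map' P.subtype P.ker_subtype
  have hsurj := pairMap_surjective hS hSn (fun i => hP (b i).2) hli
  have h1 := LinearMap.finrank_range_add_finrank_ker (pairMap B S fun i => (b i : V))
  rw [LinearMap.range_eq_top.2 hsurj, finrank_top, Module.finrank_fin_fun] at h1
  have h2 : finrank F (P.comap S.subtype) ≤ finrank F (LinearMap.ker (pairMap B S fun i => (b i : V))) :=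
    Submodule.finrank_mono fun v hv => funext fun i => hiso _ (b i).2 _ hv
  rw [(Submodule.comapSubtypeEquivOfLe hP).finrank_eq] at h2
  omega

/-- A value of the form on one vector is fixed by the involution. -/
theorem self_fixed (v : V) : B v v ^ q = B v v := by rw [← qEnd_apply hF, hS]

/-- Two orthogonal anisotropic vectors give an isotropic one. -/
theorem exists_scalar {v w : V} (hv : B v v ≠ 0) (hw : B w w ≠ 0) :
    ∃ α : F, α ≠ 0 ∧ B v v + α ^ (q + 1) * B w w = 0 := by
  have hc : -B v v / B w w ≠ 0 := div_ne_zero (neg_ne_zero.2 hv) hw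
  obtain ⟨α, hα, h⟩ := Forms.exists_norm_eq hF hc (by
    rw [div_pow, ← qEnd_apply hF (-B v v), map_neg, qEnd_apply, self_fixed hS, self_fixed hS])
  exact ⟨α, hα, by rw [h, div_mul_cancel₀ _ hw, add_neg_cancel]⟩

variable {f : End F V} (hf : ∀ u v, B (f u) (f v) = B u v) (hsep : Nd B (⊤ : Submodule F V))
include hf hsep

/-- Isotropic invariant subspaces built from pairs of blocks. -/
theorem exists_iso_pairs {c : ℕ} (hc : 0 < c)
    (hpair : ∀ U U' : Submodule F V, Inv f U → Inv f U' → Nd B U → Nd B U' → finrank F U = c → finrank F U' = c →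
      U' ≤ perp B U → ∃ W ≤ U ⊔ U', Inv f W ∧ Iso B W ∧ finrank F W = c) :
    ∀ (j : ℕ) (S : Submodule F V), Inv f S → Nd B S →
      (∀ T ≤ S, Inv f T → Nd B T → T ≠ ⊥ → ∃ U ≤ T, Inv f U ∧ Nd B U ∧ finrank F U = c) →
      2 * (j * c) ≤ finrank F S → ∃ W ≤ S, Inv f W ∧ Iso B W ∧ finrank F W = j * c := by
  intro j
  induction j with
  | zero =>
    exact fun _ _ _ _ _ => ⟨⊥, bot_le, Unitary.inv_bot,
      fun u hu _ _ => by rw [(Submodule.mem_bot F).1 hu, map_zero, LinearMap.zero_apply], by simp⟩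
  | succ j ih =>
    intro S hSi hSn hblock hj
    have hjc : (j + 1) * c = j * c + c := Nat.succ_mul j c
    obtain ⟨U, hUS, hU, hUn, hUd⟩ := hblock S le_rfl hSi hSn fun h => by rw [h, finrank_bot] at hj; omega
    have hd1 := nd_split_finrank hS hUS hUn hSn
    have hS1i : Inv f (S ⊓ perp B U) := hSi.inf (inv_perp hS hf hsep hU)
    obtain ⟨hS1n, -, hinf1⟩ := nd_split hS hUS hUn hSn
    obtain ⟨U', hU'S, hU', hU'n, hU'd⟩ := hblock _ inf_le_left hS1i hS1n fun h => by
      rw [h, finrank_bot] at hd1; omega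
    have hd2 := nd_split_finrank hS hU'S hU'n hS1n
    have hS2i : Inv f (S ⊓ perp B U ⊓ perp B U') := hS1i.inf (inv_perp hS hf hsep hU')
    obtain ⟨hS2n, -, -⟩ := nd_split hS hU'S hU'n hS1n
    obtain ⟨W', hW'S, hW', hW'iso, hW'd⟩ := ih _ hS2i hS2n
      (fun T hT => hblock T (hT.trans (inf_le_left.trans inf_le_left))) (by omega)
    obtain ⟨W, hWU, hW, hWiso, hWd⟩ := hpair U U' hU hU' hUn hU'n hUd hU'd (hU'S.trans inf_le_right)
    have horth : ∀ a ∈ U ⊔ U', ∀ b ∈ S ⊓ perp B U ⊓ perp B U', B a b = 0 := by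
      intro a ha b hb
      obtain ⟨a₁, h1, a₂, h2, rfl⟩ := Submodule.mem_sup.1 ha
      rw [map_add, LinearMap.add_apply, hb.1.2 a₁ h1, hb.2 a₂ h2, add_zero]
    refine ⟨W ⊔ W', sup_le (hWU.trans (sup_le hUS (hU'S.trans inf_le_left)))
      (hW'S.trans (inf_le_left.trans inf_le_left)), hW.sup hW', fun u hu v hv => ?_, ?_⟩
    · obtain ⟨a, ha, b, hb, rfl⟩ := Submodule.mem_sup.1 hu
      obtain ⟨a', ha', b', hb', rfl⟩ := Submodule.mem_sup.1 hv
      simp only [map_add, LinearMap.add_apply, hWiso a ha a' ha', hW'iso b hb b' hb',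
        horth a (hWU ha) b' (hW'S hb'), swap0 hS (horth a' (hWU ha') b (hW'S hb)), add_zero]
    · have hUn' : Nd B (U ⊔ U') := Unitary.nd_sup hS hUn hU'n (hU'S.trans inf_le_right)
      have hdis : W ⊓ W' = ⊥ := le_bot_iff.1 fun x hx =>
        (Submodule.mem_bot F).2 ((Submodule.mem_bot F).1 ((Unitary.inf_perp_eq_bot hS hUn') ▸
          ⟨hWU hx.1, fun y hy => horth y hy x (hW'S hx.2)⟩))
      have h := Submodule.finrank_sup_add_finrank_inf_eq W W'
      rw [hdis, finrank_bot, hWd, hW'd] at h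
      omega

/-- Where `f` is scalar there are isotropic subspaces of every possible dimension. -/
theorem exists_iso_scalar {S : Submodule F V} (hSn : Nd B S) {l : F} (hl : ∀ v ∈ S, f v = l • v) {j : ℕ}
    (hj : 2 * j ≤ finrank F S) : ∃ W ≤ S, Inv f W ∧ Iso B W ∧ finrank F W = j := by
  -- the restriction to `S` of `f` is scalar, so work with lines
  have hline : ∀ {v : V}, v ∈ S → Inv f (Submodule.span F {v}) := fun {v} hv u hu => by
    obtain ⟨s, rfl⟩ := Submodule.mem_span_singleton.1 hu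
    rw [hl _ (S.smul_mem s hv)]
    exact Submodule.smul_mem _ _ hu
  suffices h : ∀ (j : ℕ) (T : Submodule F V), T ≤ S → Nd B T → 2 * j ≤ finrank F T →
      ∃ W ≤ T, Iso B W ∧ finrank F W = j by
    obtain ⟨W, hW, h1, h2⟩ := h j S le_rfl hSn hj
    refine ⟨W, hW, fun u hu => ?_, h1, h2⟩
    rw [hl u (hW hu)]
    exact W.smul_mem l hu
  intro j
  induction j with
  | zero =>
    exact fun T _ _ _ => ⟨⊥, bot_le, fun u hu _ _ => by
      rw [(Submodule.mem_bot F).1 hu, map_zero, LinearMap.zero_apply], by simp⟩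
  | succ j ih =>
    intro T hT hTn hd
    obtain ⟨v, hv, hvv⟩ := exists_aniso hS hTn fun h => by rw [h, finrank_bot] at hd; omega
    have hv0 : v ≠ 0 := fun h => hvv (by simp [h])
    have hvT : Submodule.span F {v} ≤ T := (Submodule.span_singleton_le_iff_mem _ _).2 hv
    have hd1 := nd_split_finrank hS hvT (nd_span_singleton hS hvv) hTn
    rw [finrank_span_singleton hv0] at hd1
    obtain ⟨hT1n, -, -⟩ := nd_split hS hvT (nd_span_singleton hS hvv) hTn
    obtain ⟨w, hw, hww⟩ := exists_aniso hS hT1n fun h => by rw [h, finrank_bot] at hd1; omega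
    have hw0 : w ≠ 0 := fun h => hww (by simp [h])
    have hwT : Submodule.span F {w} ≤ T ⊓ perp B (Submodule.span F {v}) :=
      (Submodule.span_singleton_le_iff_mem _ _).2 hw
    have hd2 := nd_split_finrank hS hwT (nd_span_singleton hS hww) hT1n
    rw [finrank_span_singleton hw0] at hd2
    obtain ⟨hT2n, -, -⟩ := nd_split hS hwT (nd_span_singleton hS hww) hT1n
    obtain ⟨W', hW'T, hW'iso, hW'd⟩ := ih _ (inf_le_left.trans (inf_le_left.trans hT)) hT2n (by omega)
    obtain ⟨α, -, hαe⟩ := exists_scalar hS hvv hww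
    have hvw : B v w = 0 := hw.2 v (Submodule.mem_span_singleton_self v)
    set u := v + α • w with hu
    have huu : B u u = 0 := by
      rw [← hαe, hu]
      simp only [map_add, LinearMap.add_apply, map_smulₛₗ B, LinearMap.smul_apply, map_smul, smul_eq_mul,
        hvw, swap0 hS hvw, qEnd_apply, mul_zero, add_zero, zero_add, pow_succ]
      ring
    have hu' : ∀ b ∈ W', B u b = 0 := fun b hb => by
      rw [hu, map_add, LinearMap.add_apply, map_smulₛₗ B, LinearMap.smul_apply,
        (hW'T hb).1.2 v (Submodule.mem_span_singleton_self v), (hW'T hb).2 w (Submodule.mem_span_singleton_self w),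
        smul_zero, add_zero]
    refine ⟨Submodule.span F {u} ⊔ W', sup_le ((Submodule.span_singleton_le_iff_mem _ _).2
      (T.add_mem hv (T.smul_mem _ hw.1))) (hW'T.trans (inf_le_left.trans inf_le_left)), ?_, ?_⟩
    · intro a ha b hb
      obtain ⟨a₁, ha₁, a₂, ha₂, rfl⟩ := Submodule.mem_sup.1 ha
      obtain ⟨b₁, hb₁, b₂, hb₂, rfl⟩ := Submodule.mem_sup.1 hb
      obtain ⟨s, rfl⟩ := Submodule.mem_span_singleton.1 ha₁
      obtain ⟨t, rfl⟩ := Submodule.mem_span_singleton.1 hb₁
      simp only [map_add, LinearMap.add_apply, map_smulₛₗ B, LinearMap.smul_apply, map_smul, smul_eq_mul, huu,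
        hu' b₂ hb₂, swap0 hS (hu' a₂ ha₂), hW'iso a₂ ha₂ b₂ hb₂, mul_zero, add_zero]
    · have hu0 : u ∉ W' := fun h => hvv (by
        have h' := (hW'T h).1.2 v (Submodule.mem_span_singleton_self v)
        rwa [hu, map_add, map_smul, hvw, smul_zero, add_zero] at h')
      have hne : u ≠ 0 := fun h => hu0 (h ▸ W'.zero_mem)
      have h := Submodule.finrank_sup_add_finrank_inf_eq (Submodule.span F {u}) W'
      have hdis : Submodule.span F {u} ⊓ W' = ⊥ := le_bot_iff.1 fun x hx => by
        obtain ⟨s, rfl⟩ := Submodule.mem_span_singleton.1 hx.1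
        rcases eq_or_ne s 0 with rfl | hs
        · simp
        · exact absurd ((Submodule.smul_mem_iff _ hs).1 hx.2) hu0
      rw [hdis, finrank_bot, finrank_span_singleton hne, hW'd] at h
      omega

section Two

/-- An involution has isotropic invariant subspaces up to the sum of the halves of its eigenspaces. -/
theorem exists_iso_two (h2 : (2 : F) ≠ 0) (hpow : f ^ 2 = 1) {m : ℕ}
    (hm : m ≤ finrank F ↥(LinearMap.ker (f - 1) ⊓ (⊤ : Submodule F V)) / 2 +
      finrank F ↥((⊤ : Submodule F V).map (f - 1)) / 2) :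
    ∃ W : Submodule F V, Inv f W ∧ Iso B W ∧ finrank F W = m := by
  haveI : Fact (Nat.Prime 2) := ⟨Nat.prime_two⟩
  have hrq : (q : ZMod 2) ≠ 0 := fun h => by
    rw [ZMod.natCast_eq_zero_iff] at h
    obtain ⟨p, k, hp, hchar, hk⟩ := Forms.exists_prime_pow_q hF
    have hp2 : p = 2 := ((Nat.prime_dvd_prime_iff_eq Nat.prime_two hp).1 (Nat.prime_two.dvd_of_dvd_pow (hk ▸ h))).symm
    subst hp2
    exact h2 (by exact_mod_cast CharP.cast_eq_zero F 2)
  obtain ⟨hCn, hMn, -, -, -, horth, -⟩ := Unitary.split_fixed hS hf hsep (r := 2) (by exact_mod_cast h2) hrq hpow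
    (S := ⊤) (fun _ _ => trivial) hsep
  set C := LinearMap.ker (f - 1) ⊓ (⊤ : Submodule F V) with hC
  set M := (⊤ : Submodule F V).map (f - 1) with hM
  have hneg : ∀ v ∈ M, f v = (-1 : F) • v := by
    rintro _ ⟨w, -, rfl⟩
    have hw : f (f w) = w := by rw [← Module.End.mul_apply, ← pow_two, hpow]; rfl
    simp only [LinearMap.sub_apply, Module.End.one_apply, map_sub, hw, neg_one_smul]
    abel
  obtain ⟨W₁, h1, i1, iso1, d1⟩ := exists_iso_scalar hS hf hsep hCn (l := 1)
    (fun v hv => by rw [one_smul]; exact sub_eq_zero.1 (show (f - 1) v = 0 from hv.1))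
    (j := min m (finrank F C / 2)) (by omega)
  obtain ⟨W₂, h2', i2, iso2, d2⟩ := exists_iso_scalar hS hf hsep hMn hneg
    (j := m - min m (finrank F C / 2)) (by omega)
  refine ⟨W₁ ⊔ W₂, i1.sup i2, fun u hu v hv => ?_, ?_⟩
  · obtain ⟨a, ha, b, hb, rfl⟩ := Submodule.mem_sup.1 hu
    obtain ⟨a', ha', b', hb', rfl⟩ := Submodule.mem_sup.1 hv
    simp only [map_add, LinearMap.add_apply, iso1 a ha a' ha', iso2 b hb b' hb', horth (h2' hb') a (h1 ha),
      swap0 hS (horth (h2' hb) a' (h1 ha')), add_zero]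
  · have hdis : W₁ ⊓ W₂ = ⊥ := le_bot_iff.1 fun x hx => (Submodule.mem_bot F).2 ((Submodule.mem_bot F).1
      ((Unitary.inf_perp_eq_bot hS hCn) ▸ ⟨h1 hx.1, horth (h2' hx.2)⟩))
    have h := Submodule.finrank_sup_add_finrank_inf_eq W₁ W₂
    rw [hdis, finrank_bot, d1, d2] at h
    omega

/-- The square of `f` is a scalar without norm one square root: the eigenspaces are isotropic. -/
theorem exists_iso_two_no_root (h2 : (2 : F) ≠ 0) {w : F} (hw : w ^ (q + 1) = -1)
    (hfw : ∀ v, f (f v) = (w * w) • v) {m : ℕ} (hm : 2 * m ≤ finrank F V) :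
    ∃ W : Submodule F V, Inv f W ∧ Iso B W ∧ finrank F W = m := by
  have hw0 : w ≠ 0 := fun h => by
    rw [h, zero_pow q.succ_ne_zero] at hw
    exact one_ne_zero (neg_eq_zero.1 hw.symm)
  have hiso : ∀ s : F, s ^ (q + 1) = -1 → Iso B (LinearMap.ker (f - s • (1 : End F V))) := by
    intro s hs u hu v hv
    have hu' : f u = s • u := sub_eq_zero.1 (show (f - s • (1 : End F V)) u = 0 from hu)
    have hv' : f v = s • v := sub_eq_zero.1 (show (f - s • (1 : End F V)) v = 0 from hv)
    have h := hf u v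
    rw [hu', hv', map_smulₛₗ B, LinearMap.smul_apply, map_smul, smul_eq_mul, smul_eq_mul, qEnd_apply, ← mul_assoc,
      ← pow_succ, hs] at h
    exact (mul_eq_zero.1 (show (2 : F) * B u v = 0 by linear_combination -h)).resolve_left h2
  set U := LinearMap.ker (f - w • (1 : End F V)) with hU
  set U' := LinearMap.ker (f - (-w) • (1 : End F V)) with hU'
  have hbound : ∀ P : Submodule F V, Iso B P → 2 * finrank F P ≤ finrank F V := fun P hP => by
    have h := two_finrank_le hS hsep le_top hP
    rwa [finrank_top] at h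
  have h1 := hbound U (hiso w hw)
  have h1' := hbound U' (hiso (-w) (by
    have hev : Even (q + 1) := by
      by_contra h
      have hq : Even q := by rw [Nat.even_add_one] at h; exact not_not.1 h
      obtain ⟨p, k, hp, hchar, hk⟩ := Forms.exists_prime_pow_q hF
      have hp2 : p = 2 := ((Nat.prime_dvd_prime_iff_eq Nat.prime_two hp).1
        (Nat.prime_two.dvd_of_dvd_pow (hk ▸ hq.two_dvd))).symm
      subst hp2
      exact h2 (by exact_mod_cast CharP.cast_eq_zero F 2)
    rw [hev.neg_pow, hw]))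
  have htop : (⊤ : Submodule F V) ≤ U ⊔ U' := fun v _ => by
    have h2w : 2 * w ≠ 0 := mul_ne_zero h2 hw0
    have hsum : v = (2 * w)⁻¹ • ((f v + w • v) + (w • v - f v)) := by
      rw [show (f v + w • v) + (w • v - f v) = (2 * w) • v by rw [two_mul, add_smul]; abel, inv_smul_smul₀ h2w]
    rw [hsum]
    refine Submodule.smul_mem _ _ (Submodule.add_mem_sup ?_ ?_)
    · show f (f v + w • v) - w • (f v + w • v) = 0
      rw [map_add, map_smul, hfw, smul_add, smul_smul]
      abel
    · show f (w • v - f v) - (-w) • (w • v - f v) = 0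
      rw [map_sub, map_smul, hfw, neg_smul, smul_sub, smul_smul]
      abel
  have h3 := Submodule.finrank_mono htop
  have h4 := Submodule.finrank_sup_add_finrank_inf_eq U U'
  rw [finrank_top] at h3
  obtain ⟨P, hPU, hPd⟩ : ∃ P ≤ U, finrank F P = m := by
    obtain ⟨w', hw'⟩ := exists_linearIndependent_of_le_finrank (R := F) (M := U) (n := m) (by omega)
    refine ⟨Submodule.span F (Set.range fun i => (w' i : V)), ?_, ?_⟩
    · rw [Submodule.span_le]; rintro _ ⟨i, rfl⟩; exact (w' i).2
    · have hli : LinearIndependent F fun i => (w' i : V) := hw'.map' U.subtype U.ker_subtype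
      rw [finrank_span_eq_card hli, Fintype.card_fin]
  refine ⟨P, fun v hv => ?_, fun u hu v hv => hiso w hw u (hPU hu) v (hPU hv), hPd⟩
  rw [show f v = w • v from sub_eq_zero.1 (show (f - w • (1 : End F V)) v = 0 from hPU hv)]
  exact P.smul_mem w hv

end Two

section NoRoot

variable {r : ℕ} [Fact r.Prime]

/-- A block on which `f ^ r = z` without root has characteristic polynomial `X ^ r - z`. -/
theorem charpoly_block {z : F} (hz : f ^ r = z • (1 : End F V)) (hno : ∀ w : F, w ^ r ≠ z) {U : Submodule F V}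
    (hU : Inv f U) (hUd : finrank F U = r) : LinearMap.charpoly (f.restrict hU) = X ^ r - C z := by
  have hr := (Fact.out : r.Prime)
  have hirr : Irreducible (X ^ r - C z : F[X]) := X_pow_sub_C_irreducible_of_prime hr hno
  have hmon : (X ^ r - C z : F[X]).Monic := monic_X_pow_sub_C z hr.ne_zero
  haveI : Nontrivial U := Module.nontrivial_of_finrank_pos (R := F) (by rw [hUd]; exact hr.pos)
  have haz : aeval (f.restrict hU) (X ^ r - C z : F[X]) = 0 := by
    rw [map_sub, map_pow, aeval_X, aeval_C, Unitary.restrict_pow_apply hS hU hz, Algebra.algebraMap_eq_smul_one,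
      sub_self]
  have hmin : minpoly F (f.restrict hU) = X ^ r - C z :=
    (minpoly.eq_of_irreducible_of_monic hirr haz hmon).symm
  refine (eq_of_monic_of_dvd_of_natDegree_le hmon (LinearMap.charpoly_monic (f.restrict hU)) ?_ ?_)
  · rw [← hmin]; exact LinearMap.minpoly_dvd_charpoly (f.restrict hU)
  · rw [LinearMap.charpoly_natDegree, hUd, natDegree_X_pow_sub_C]

/-- Totally isotropic invariant subspaces when `f ^ r = z` has no root. -/
theorem exists_iso_no_root (hr : (r : F) ≠ 0) {z : F} (hz : f ^ r = z • (1 : End F V)) (hzq : z ^ (q + 1) = 1)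
    (hno : ∀ w : F, w ^ r ≠ z) {m : ℕ} (hrm : r ∣ m) (hm : 2 * m ≤ finrank F V) :
    ∃ W : Submodule F V, Inv f W ∧ Iso B W ∧ finrank F W = m := by
  have hr' := (Fact.out : r.Prime)
  have hq1 : ((q + 1 : ℕ) : F) ≠ 0 := by
    obtain ⟨p, k, hp, hchar, hk⟩ := Forms.exists_prime_pow_q hF
    haveI := hchar
    rcases Nat.eq_zero_or_pos k with rfl | hk0
    · have := Forms.one_lt_q hF; rw [hk, pow_zero] at this; omega
    · rw [Nat.cast_add, hk, Nat.cast_pow, CharP.cast_eq_zero, zero_pow hk0.ne', zero_add, Nat.cast_one]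
      exact one_ne_zero
  have hNunit : ((r * (q + 1) : ℕ) : F) ≠ 0 := by rw [Nat.cast_mul]; exact mul_ne_zero hr hq1
  have hfN : f ^ (r * (q + 1)) = 1 := by rw [pow_mul, hz, _root_.smul_pow, one_pow, hzq, one_smul]
  obtain ⟨t, ht⟩ := hrm
  obtain ⟨W, -, hWi, hWiso, hWd⟩ := exists_iso_pairs hS hf hsep hr'.pos (c := r) (fun U U' hU hU' hUn hU'n hUd hU'd
    horth => by
    have hPres : ∀ {P : Submodule F V} (hP : Inv f P), Nd B P →
        Semisimple.IsHerm (qEnd hF) (1 : F) (Forms.restrictForm B P) ∧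
          Semisimple.IsSSIsom (Forms.restrictForm B P) (f.restrict hP) (r * (q + 1)) := by
      intro P hP hPn
      refine ⟨⟨fun x y => by rw [one_mul]; exact (hS x y).symm, qEnd_qEnd hF, fun x hx => ?_⟩,
        ⟨fun x y => hf x y, ?_, hNunit⟩⟩
      · by_contra h0
        obtain ⟨y, hy, hxy⟩ := hPn x x.2 fun h => h0 (Subtype.ext h)
        exact hxy (hx ⟨y, hy⟩)
      · refine LinearMap.ext fun x => Subtype.ext ?_
        rw [Module.End.pow_restrict, LinearMap.coe_restrict_apply, hfN]
        rfl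
    obtain ⟨hH, hI⟩ := hPres hU hUn
    obtain ⟨hH', hI'⟩ := hPres hU' hU'n
    obtain ⟨T, hT, hTB⟩ := Semisimple.exists_isometric_conj (σ := qEnd hF) (ε := (1 : F)) _ U U'
      (Forms.restrictForm B U) (Forms.restrictForm B U') (f.restrict hU) (f.restrict hU') rfl hH hH' hI hI'
      (fun h => absurd h (Forms.qEnd_ne_id hF)) (fun h => absurd h (Forms.qEnd_ne_id hF))
      (by rw [charpoly_block hS hf hsep hz hno hU hUd, charpoly_block hS hf hsep hz hno hU' hU'd])
    obtain ⟨α, hα0, hα⟩ := Forms.exists_norm_eq hF (c := -1) (neg_ne_zero.2 one_ne_zero)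
      (by rw [← qEnd_apply hF, map_neg, map_one])
    let L : U →ₗ[F] V := U.subtype + α • (U'.subtype.comp T.toLinearMap)
    have hLapp : ∀ u : U, L u = (u : V) + α • (T u : V) := fun u => rfl
    have hTB' : ∀ a b : U, B (T a : V) (T b : V) = B (a : V) (b : V) := hTB
    have h0 : ∀ a b : U, B (a : V) (T b : V) = 0 := fun a b => horth (T b).2 a a.2
    have hL : Function.Injective L := by
      rw [injective_iff_map_eq_zero]
      intro u hu
      rw [hLapp] at hu
      refine Subtype.ext ((Submodule.mem_bot F).1 ((Unitary.inf_perp_eq_bot hS hUn) ▸ ⟨u.2, ?_⟩))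
      rw [eq_neg_of_add_eq_zero_left hu]
      exact Submodule.neg_mem _ (Submodule.smul_mem _ _ (horth (T u).2))
    refine ⟨LinearMap.range L, ?_, ?_, ?_, by rw [LinearMap.finrank_range_of_inj hL, hUd]⟩
    · rintro _ ⟨u, rfl⟩
      exact Submodule.add_mem_sup u.2 (Submodule.smul_mem _ _ (T u).2)
    · rintro _ ⟨u, rfl⟩
      refine ⟨f.restrict hU u, ?_⟩
      rw [hLapp, hLapp, hT, map_add, map_smul]
      rfl
    · rintro _ ⟨a, rfl⟩ _ ⟨b, rfl⟩
      rw [hLapp, hLapp]
      simp only [map_add, LinearMap.add_apply, map_smulₛₗ B, LinearMap.smul_apply, map_smul, smul_eq_mul,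
        h0 a b, swap0 hS (h0 b a), hTB' a b, qEnd_apply]
      linear_combination (B (a : V) (b : V)) * hα)
    t ⊤ (fun _ _ => trivial) hsep
    (fun T _ hTi hTn hne => by
      obtain ⟨U, hU, hUT, hUn, hUd, -⟩ := Unitary.exists_cyclic_block hS hf hsep hr hz hzq
        (fun w _ => hno w) hTi hTn hne
      exact ⟨U, hUT, hU, hUn, hUd⟩)
    (by rw [finrank_top, mul_comm t, ← ht]; exact hm)
  exact ⟨W, hWi, hWiso, by rw [hWd, ht, mul_comm]⟩

end NoRoot

end Cfsg.Agent.Elusive.UnitaryIso
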