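import Cfsg.Agent.Lib.Elusive.UnitaryIsotropic
import Cfsg.Agent.Lib.Elusive.Count
import Cfsg.Agent.Lib.Forms.HermStab

/-!
Elements of prime order of the special unitary group and totally isotropic subspaces of given dimension.
-/

set_option autoImplicit false
set_option linter.unusedSectionVars false
set_option linter.style.haveILetI false

namespace Cfsg.Agent.Elusive.UnitaryIso

open Polynomial Module Matrix
open Forms (qEnd qEnd_apply qEnd_qEnd hermB hermB_apply)
open Semisimple (RootField Orb orbMult negOrb twistOrb)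
open Unitary (Nd perp hermB_swap nd_top scalar_facts normalise endOf_isom exists_sl Roots)

variable {F : Type*} [Field F] [Fintype F] {q : ℕ} (hF : Fintype.card F = q ^ 2) {n m : ℕ}

/-- The matrix fixes a totally isotropic `m`-space. -/
def Fixes (q m : ℕ) (x : Matrix.SpecialLinearGroup (Fin n) F) : Prop :=
  ∃ W : Submodule F (Fin n → F), finrank F ↥W = m ∧ (∀ u ∈ W, ∀ v ∈ W, Cfsg.hermForm n F q u v = 0) ∧
    W.map (Matrix.toLin' (x : Matrix (Fin n) (Fin n) F)) ≤ W

/-- Every element of order `r` modulo scalars fixes a totally isotropic `m`-space. -/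
def AllFix (F : Type*) [Field F] [Fintype F] (q n m r : ℕ) : Prop :=
  ∀ x : Matrix.SpecialLinearGroup (Fin n) F, x ∈ Cfsg.SU n F q →
    (∃ z : F, ((x ^ r : Matrix.SpecialLinearGroup (Fin n) F) : Matrix (Fin n) (Fin n) F) =
      z • (1 : Matrix (Fin n) (Fin n) F)) →
    (∀ z : F, (x : Matrix (Fin n) (Fin n) F) ≠ z • (1 : Matrix (Fin n) (Fin n) F)) → Fixes q m x

theorem fixes_iff (x : Matrix.SpecialLinearGroup (Fin n) F) :
    Fixes q m x ↔ ∃ W : Submodule F (Fin n → F), Inv (endOf x) W ∧ Iso (hermB hF n) W ∧ finrank F ↥W = m := by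
  constructor
  · rintro ⟨W, h1, h2, h3⟩
    exact ⟨W, inv_iff_map.2 h3, fun u hu v hv => by rw [hermB_apply]; exact h2 v hv u hu, h1⟩
  · rintro ⟨W, h1, h2, h3⟩
    exact ⟨W, h3, fun u hu v hv => by rw [← hermB_apply hF]; exact h2 v hv u hu, inv_iff_map.1 h1⟩

theorem fixes_of_normalised {x : Matrix.SpecialLinearGroup (Fin n) F} {w : F} (hw : w ^ (q + 1) = 1)
    {W : Submodule F (Fin n → F)} (hW : Inv (w⁻¹ • endOf x) W) (hi : Iso (hermB hF n) W) (hd : finrank F W = m) :
    Fixes q m x := by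
  have hw0 : w ≠ 0 := fun h => by rw [h, zero_pow q.succ_ne_zero] at hw; exact zero_ne_one hw
  exact (fixes_iff hF x).2 ⟨W, (inv_smul_iff (inv_ne_zero hw0) W).1 hW, hi, hd⟩

section Count

include hF in
theorem factor_zero {r : ℕ} [Fact r.Prime] {j : ℕ} (h : r ∣ Forms.guFactor q j) :
    (q : ZMod r) ≠ 0 ∧ orderOf (-(q : ZMod r)) ∣ j + 1 := by
  have h0 := (ZMod.natCast_eq_zero_iff _ _).2 h
  have hq1 : 1 ≤ q ^ (j + 1) := Nat.one_le_pow _ _ (by have := Forms.one_lt_q hF; omega)
  have key : (-(q : ZMod r)) ^ (j + 1) = 1 := by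
    rcases Nat.even_or_odd j with he | he
    · rw [Forms.guFactor, if_pos he, Nat.cast_add, Nat.cast_pow, Nat.cast_one] at h0
      rw [he.add_one.neg_pow, eq_neg_of_add_eq_zero_left h0, neg_neg]
    · rw [Forms.guFactor, if_neg (Nat.not_even_iff_odd.2 he), Nat.cast_sub hq1, Nat.cast_pow, Nat.cast_one,
        sub_eq_zero] at h0
      rw [he.add_one.neg_pow, h0]
  refine ⟨fun h => ?_, orderOf_dvd_of_pow_eq_one key⟩
  rw [h, neg_zero, zero_pow (Nat.succ_ne_zero j)] at key
  exact zero_ne_one key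

include hF in
/-- A prime dividing the number of totally isotropic subspaces. -/
theorem facts_of_dvd {r : ℕ} [Fact r.Prime] (hm : 2 * m ≤ n)
    (h : r ∣ Nat.card {W : Submodule F (Fin n → F) //
        finrank F ↥W = m ∧ (∀ u ∈ W, ∀ v ∈ W, Cfsg.hermForm n F q u v = 0)}) :
    (q : ZMod r) ≠ 0 ∧ ∃ j, n - 2 * m ≤ j ∧ j < n ∧ orderOf (-(q : ZMod r)) ∣ j + 1 := by
  classical
  have e : Nat.card {W : Submodule F (Fin n → F) //
        finrank F ↥W = m ∧ (∀ u ∈ W, ∀ v ∈ W, Cfsg.hermForm n F q u v = 0)} =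
      Nat.card {W : Submodule F (Fin n → F) // finrank F W = m ∧ ∀ u ∈ W, ∀ v ∈ W, hermB hF n u v = 0} :=
    Nat.card_congr (Equiv.subtypeEquivRight fun W => and_congr_right fun _ =>
      ⟨fun h u hu v hv => by rw [hermB_apply]; exact h v hv u hu,
        fun h u hu v hv => by rw [← hermB_apply hF]; exact h v hv u hu⟩)
  have hcard := Forms.card_isoSubspace_mul (B := hermB hF n) m
  rw [← e, Forms.card_isoFrame_herm hF (Forms.hermB_polar hF n), Nat.card_eq_fintype_card (α := F),
    prod_frames _ le_rfl, Finset.prod_mul_distrib,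
    Finset.prod_range_reflect (fun j => Fintype.card F ^ j) m, mul_left_comm,
    mul_comm (∏ x ∈ Finset.range m, (Nat.card _ - 1))] at hcard
  have h' := h.mul_right (fallProd (Fintype.card F) m m)
  rw [Nat.eq_of_mul_eq_mul_left (Finset.prod_pos fun j _ => pow_pos Fintype.card_pos j) hcard,
    (Fact.out : r.Prime).prime.dvd_finsetProd_iff] at h'
  obtain ⟨i, hi, hd⟩ := h'
  have hi' := Finset.mem_range.1 hi
  rw [Module.finrank_fin_fun] at hd
  obtain ⟨d, hd'⟩ : ∃ d, n - 2 * i = d + 2 := ⟨n - 2 * i - 2, by omega⟩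
  rw [hd', Forms.card_herm_isotropic_sub_one hF] at hd
  rcases (Fact.out : r.Prime).dvd_mul.1 hd with h1 | h1
  · obtain ⟨hq0, hj⟩ := factor_zero hF h1
    exact ⟨hq0, d, by omega, by omega, hj⟩
  · obtain ⟨hq0, hj⟩ := factor_zero hF h1
    exact ⟨hq0, d + 1, by omega, by omega, hj⟩

end Count

section Two

variable (h2 : (2 : F) ≠ 0)

include hF h2 in
theorem odd_q : Odd q := by
  rw [← Nat.not_even_iff_odd]
  intro h
  obtain ⟨p, k, hp, hchar, hk⟩ := Forms.exists_prime_pow_q hF
  have hp2 : p = 2 := ((Nat.prime_dvd_prime_iff_eq Nat.prime_two hp).1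
    (Nat.prime_two.dvd_of_dvd_pow (hk ▸ h.two_dvd))).symm
  subst hp2
  exact h2 (by exact_mod_cast CharP.cast_eq_zero F 2)

include hF h2 in
theorem allFix_two (hn : 0 < n) (hm : 2 * m ≤ n)
    (hcrit : 2 * m < n ∨ padicValNat 2 (q + 1) ≤ padicValNat 2 n) : AllFix F q n m 2 := by
  rintro x hx ⟨z, hz⟩ -
  haveI : Fact (Nat.Prime 2) := ⟨Nat.prime_two⟩
  obtain ⟨hzq, hxr⟩ := scalar_facts hF hn hx hz
  have hf := endOf_isom hF hx
  have hodd := odd_q hF h2
  have h2q : 2 ∣ q + 1 := by obtain ⟨k, hk⟩ := hodd; exact ⟨k + 1, by omega⟩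
  have hne : (-1 : F) ≠ 1 := fun h => h2 (by linear_combination -h)
  by_cases hw : ∃ w : F, w ^ (q + 1) = 1 ∧ w ^ 2 = z
  · obtain ⟨w, hw, hwr⟩ := hw
    obtain ⟨hg, hpow⟩ := normalise hF hx hxr hw hwr
    set g := w⁻¹ • endOf x with hgdef
    have hS := hermB_swap (n := n) hF
    have hrq : (q : ZMod 2) ≠ 0 := fun h => by
      rw [ZMod.natCast_eq_zero_iff] at h
      rw [Nat.odd_iff] at hodd
      omega
    obtain ⟨hCn, -, -, hMi, hd, horth, -⟩ := Unitary.split_fixed hS hg (nd_top hF) (r := 2) (by exact_mod_cast h2) hrq hpow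
      (S := ⊤) (fun _ _ => trivial) (nd_top hF)
    rw [finrank_top, Module.finrank_fin_fun] at hd
    set C := LinearMap.ker (g - 1) ⊓ (⊤ : Submodule F (Fin n → F)) with hC
    set M := (⊤ : Submodule F (Fin n → F)).map (g - 1) with hM
    have hpar : 2 * m = n → Even (finrank F M) := by
      intro hnm
      by_contra hMo
      have hv := hcrit.resolve_left (by omega)
      -- the determinant of the involution
      let Ψ₀ : (C × M) →ₗ[F] (Fin n → F) := C.subtype.coprod M.subtype
      have hΨ : Function.Injective Ψ₀ := (injective_iff_map_eq_zero Ψ₀).2 fun p hp => by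
        have h : (p.1 : Fin n → F) + p.2 = 0 := hp
        have h1 : p.1 = 0 := Subtype.ext ((Submodule.mem_bot F).1 ((Unitary.inf_perp_eq_bot hS hCn) ▸ ⟨p.1.2, by
          rw [eq_neg_of_add_eq_zero_left h]; exact Submodule.neg_mem _ (horth p.2.2)⟩))
        exact Prod.ext h1 (Subtype.ext (by rw [h1, Submodule.coe_zero, zero_add] at h; exact h))
      let Ψ := LinearMap.linearEquivOfInjective Ψ₀ hΨ (by rw [Module.finrank_prod, hd, Module.finrank_fin_fun])
      have hneg : ∀ v ∈ M, g v = (-1 : F) • v := by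
        rintro _ ⟨u, -, rfl⟩
        have hu : g (g u) = u := by rw [← Module.End.mul_apply, ← pow_two, hpow]; rfl
        simp only [LinearMap.sub_apply, Module.End.one_apply, map_sub, hu, neg_one_smul]
        abel
      have hconj : g = Ψ.conj (LinearMap.id.prodMap ((-1 : F) • LinearMap.id)) := by
        refine LinearMap.ext fun v => ?_
        obtain ⟨p, rfl⟩ := Ψ.surjective v
        rw [LinearEquiv.conj_apply_apply, LinearEquiv.symm_apply_apply]
        show g ((p.1 : Fin n → F) + p.2) = (p.1 : Fin n → F) + (-1 : F) • (p.2 : Fin n → F)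
        rw [map_add, hneg _ p.2.2, sub_eq_zero.1 (show (g - 1) p.1 = 0 from p.1.2.1)]
        rfl
      have h1 : LinearMap.det g = -1 := by
        rw [hconj, LinearEquiv.conj_apply, LinearMap.comp_assoc, LinearMap.det_conj, LinearMap.det_prodMap,
          LinearMap.det_id, LinearMap.det_smul, LinearMap.det_id, one_mul, mul_one,
          (Nat.not_even_iff_odd.1 hMo).neg_one_pow]
      rw [hgdef, LinearMap.det_smul, Module.finrank_fin_fun, LinearMap.det_toLin',
        show (x : Matrix (Fin n) (Fin n) F).det = 1 from x.2, mul_one] at h1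
      obtain ⟨Q, hQ⟩ : 2 ^ padicValNat 2 (q + 1) ∣ q + 1 := pow_padicValNat_dvd
      obtain ⟨t, ht⟩ : 2 ^ padicValNat 2 (q + 1) ∣ n := (pow_dvd_pow 2 hv).trans pow_padicValNat_dvd
      have hQodd : Odd Q := by
        rw [← Nat.not_even_iff_odd]
        intro hQe
        obtain ⟨l, hl⟩ := hQe.two_dvd
        have h3 : padicValNat 2 (q + 1) + 1 ≤ padicValNat 2 (q + 1) := (padicValNat_dvd_iff_le (p := 2) q.succ_ne_zero).1
          (show 2 ^ (padicValNat 2 (q + 1) + 1) ∣ q + 1 from ⟨l, by rw [pow_succ, mul_assoc, ← hl]; exact hQ⟩)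
        omega
      refine hne ?_
      calc (-1 : F) = (-1) ^ Q := hQodd.neg_one_pow.symm
        _ = (w⁻¹) ^ ((q + 1) * t) := by
          rw [← h1, ← pow_mul]
          congr 1
          rw [hQ, ht]
          ring
        _ = 1 := by rw [pow_mul, inv_pow, hw, inv_one, one_pow]
    obtain ⟨W, hWi, hWiso, hWd⟩ := exists_iso_two hS hg (nd_top hF) h2 hpow (m := m) (by
      rw [← hC, ← hM]
      rcases Nat.lt_or_eq_of_le hm with h | h
      · omega
      · obtain ⟨k, hk⟩ := hpar h
        omega)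
    exact fixes_of_normalised hF hw hWi hWiso hWd
  · have hz0 : z ≠ 0 := fun h => by rw [h, zero_pow q.succ_ne_zero] at hzq; exact zero_ne_one hzq
    obtain ⟨k, hk⟩ := hodd
    have hzsq : IsSquare z := by
      refine (FiniteField.isSquare_iff (fun h => h2 (by
        haveI : CharP F 2 := ringChar.of_eq h
        exact CharTwo.two_eq_zero)) hz0).2 ?_
      have hexp : Fintype.card F / 2 = (q + 1) * k := by
        rw [hF, hk, show (2 * k + 1) ^ 2 = 2 * ((2 * k + 1 + 1) * k) + 1 by ring]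
        omega
      rw [hexp, pow_mul, hzq, one_pow]
    obtain ⟨w, rfl⟩ := hzsq
    have hwn : w ^ (q + 1) = -1 := by
      rcases mul_self_eq_one_iff.1 (show w ^ (q + 1) * w ^ (q + 1) = 1 by rw [← mul_pow, hzq]) with h | h
      · exact absurd ⟨w, h, sq w⟩ hw
      · exact h
    obtain ⟨W, hWi, hWiso, hWd⟩ := exists_iso_two_no_root (hermB_swap hF) hf (nd_top hF) h2 hwn
      (fun v => by rw [← Module.End.mul_apply, ← pow_two, hxr]; simp) (m := m)
      (by rw [Module.finrank_fin_fun]; exact hm)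
    exact (fixes_iff hF x).2 ⟨W, hWi, hWiso, hWd⟩

include hF h2 in
theorem crit_two (hn : 3 ≤ n) (hm : 2 * m ≤ n) (hall : AllFix F q n m 2) :
    2 * m < n ∨ padicValNat 2 (q + 1) ≤ padicValNat 2 n := by
  by_contra hnot
  push Not at hnot
  haveI : Fact (Nat.Prime 2) := ⟨Nat.prime_two⟩
  have hnm : 2 * m = n := by omega
  obtain ⟨hodd1, hlt⟩ := hnot
  have hne : (-1 : F) ≠ 1 := fun h => h2 (by linear_combination -h)
  obtain ⟨g, hg1, hg2, -⟩ := Unitary.exists_gen hF
  set t := padicValNat 2 n with ht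
  obtain ⟨n', hn'⟩ : 2 ^ t ∣ n := pow_padicValNat_dvd
  obtain ⟨Q, hQ⟩ : 2 ^ (t + 1) ∣ q + 1 := (pow_dvd_pow 2 hlt).trans pow_padicValNat_dvd
  have hQ0 : 0 < Q := Nat.pos_of_ne_zero fun h => by simp [h] at hQ
  have hn'odd : Odd n' := by
    rw [← Nat.not_even_iff_odd]
    intro he
    obtain ⟨l, hl⟩ := he.two_dvd
    have h3 := (padicValNat_dvd_iff_le (p := 2) (show n ≠ 0 by omega)).1
      (show 2 ^ (t + 1) ∣ n from ⟨l, by rw [pow_succ, mul_assoc, ← hl]; exact hn'⟩)
    omega
  set w := g ^ Q with hwdef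
  have hwq : w ^ (q + 1) = 1 := by rw [hwdef, pow_right_comm, hg1, one_pow]
  have hw0 : w ≠ 0 := fun h => by rw [h, zero_pow q.succ_ne_zero] at hwq; exact zero_ne_one hwq
  have hwt : w ^ 2 ^ t = -1 := by
    have h1 : w ^ 2 ^ t * w ^ 2 ^ t = 1 := by
      rw [← pow_add, hwdef, ← pow_mul, show Q * (2 ^ t + 2 ^ t) = q + 1 by rw [hQ]; ring, hg1]
    rcases mul_self_eq_one_iff.1 h1 with h | h
    · rw [hwdef, ← pow_mul] at h
      have h' := Nat.le_of_dvd (Nat.mul_pos hQ0 (pow_pos two_pos t)) (hg2 _ h)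
      rw [hQ, pow_succ] at h'
      nlinarith [Nat.mul_pos hQ0 (pow_pos two_pos t)]
    · exact h
  have hwn : w ^ n = -1 := by rw [hn', pow_mul, hwt, hn'odd.neg_one_pow]
  have hev : Even (q + 1) := ⟨2 ^ t * Q, by rw [hQ]; ring⟩
  let i₀ : Fin n := ⟨0, by omega⟩
  set d : Fin n → F := fun i => if i = i₀ then -w else w with hddef
  have hdq : ∀ i, d i ^ (q + 1) = 1 := fun i => by
    simp only [hddef]; split
    · rw [hev.neg_pow, hwq]
    · exact hwq
  have hA : GL.Preserves (Cfsg.hermForm n F q) (Matrix.diagonal d) := fun u v => by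
    simp only [Cfsg.hermForm, Matrix.mulVec_diagonal]
    refine Finset.sum_congr rfl fun i _ => ?_
    rw [mul_pow]
    linear_combination (u i * v i ^ q) * hdq i
  have hdet : (Matrix.diagonal d).det = 1 := by
    rw [Matrix.det_diagonal, ← Finset.mul_prod_erase _ _ (Finset.mem_univ i₀),
      Finset.prod_congr rfl (g := fun _ => w) (fun i hi => if_neg (Finset.ne_of_mem_erase hi)),
      Finset.prod_const, Finset.card_erase_of_mem (Finset.mem_univ _), Finset.card_univ, Fintype.card_fin, hddef]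
    simp only [if_true]
    rw [neg_mul, ← pow_succ', Nat.sub_add_cancel (show 1 ≤ n by omega), hwn, neg_neg]
  obtain ⟨x, hx, hxA⟩ := exists_sl hA hdet
  obtain ⟨W, hWi, hWiso, hWd⟩ := (fixes_iff hF x).1 (hall x hx ⟨w * w, by
      rw [Matrix.SpecialLinearGroup.coe_pow, hxA, Matrix.diagonal_pow, Matrix.smul_one_eq_diagonal]
      congr 1
      funext i
      simp only [hddef, Pi.pow_apply]; split <;> ring⟩ fun z hz => by
      rw [hxA] at hz
      have h0 := congrFun (congrFun hz i₀) i₀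
      have h1 := congrFun (congrFun hz ⟨1, by omega⟩) ⟨1, by omega⟩
      simp [hddef, i₀] at h0 h1
      rw [← h1] at h0
      exact h2 ((mul_eq_zero.1 (show (2 : F) * w = 0 by linear_combination -h0)).resolve_right hw0))
  have hS := hermB_swap (n := n) hF
  have hzero : ∀ v ∈ W, v i₀ = 0 := fun v hv => by
    have hu : endOf x v - w • v ∈ W := W.sub_mem (hWi v hv) (W.smul_mem w hv)
    have heq : endOf x v - w • v = Pi.single i₀ (-(2 * w) * v i₀) := by
      funext i
      rw [Pi.sub_apply, Pi.smul_apply, Matrix.toLin'_apply, hxA, Matrix.mulVec_diagonal, smul_eq_mul]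
      rcases eq_or_ne i i₀ with rfl | h
      · simp [hddef]; ring
      · simp [hddef, h]
    have h0 := hWiso _ hu _ hu
    rw [heq, hermB_apply] at h0
    have hq0 : q ≠ 0 := by have := Forms.one_lt_q hF; omega
    simp [Cfsg.hermForm, Pi.single_apply, zero_pow hq0, hw0, h2] at h0
    tauto
  set e : Fin n → F := Pi.single i₀ 1 with he
  have hee : hermB hF n e e ≠ 0 := by
    have hq0 : q ≠ 0 := by have := Forms.one_lt_q hF; omega
    rw [hermB_apply]
    simp [Cfsg.hermForm, e, Pi.single_apply, zero_pow hq0]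
  have hd := Unitary.nd_split_finrank hS (le_top (a := Submodule.span F {e})) (Unitary.nd_span_singleton hS hee)
    (nd_top hF)
  rw [finrank_span_singleton (fun h => hee (by simp [h])), finrank_top, Module.finrank_fin_fun] at hd
  obtain ⟨hSn, -, -⟩ := Unitary.nd_split hS (le_top (a := Submodule.span F {e})) (Unitary.nd_span_singleton hS hee)
    (nd_top hF)
  have h3 := two_finrank_le hS hSn (P := W) (fun v hv => ⟨trivial, fun u hu => by
    obtain ⟨s, rfl⟩ := Submodule.mem_span_singleton.1 hu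
    rw [map_smulₛₗ (hermB hF n), LinearMap.smul_apply, hermB_apply]
    simp [Cfsg.hermForm, e, Pi.single_apply, hzero v hv, ite_pow, zero_pow (show q ≠ 0 by
      have := Forms.one_lt_q hF; omega)]⟩) hWiso
  omega

end Two

section OddPrime

variable {r : ℕ} [Fact r.Prime]

include hF in
/-- A root in the field gives a root of norm one. -/
theorem root_mu (hr2 : r ≠ 2) (hr : r ∣ q + 1) {z w : F} (hzq : z ^ (q + 1) = 1) (hw : w ^ r = z) :
    ∃ w : F, w ^ (q + 1) = 1 ∧ w ^ r = z := by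
  refine (Unitary.exists_root_iff hF hr hzq).2 ?_
  set t := z ^ ((q + 1) / r)
  have htw : t = w ^ (q + 1) := by
    show z ^ ((q + 1) / r) = _
    rw [← hw, ← pow_mul, Nat.mul_div_cancel' hr]
  have htr : t ^ r = 1 := by
    show (z ^ ((q + 1) / r)) ^ r = 1
    rw [← pow_mul, Nat.div_mul_cancel hr, hzq]
  have hw0 : w ≠ 0 := fun h => by
    rw [h, zero_pow (Fact.out : r.Prime).ne_zero] at hw
    rw [← hw, zero_pow q.succ_ne_zero] at hzq
    exact zero_ne_one hzq
  have hq1 := Forms.one_lt_q hF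
  have h1 : t ^ (q - 1) = 1 := by
    rw [htw, ← pow_mul, show (q + 1) * (q - 1) = Fintype.card F - 1 by
      rw [hF, ← Nat.sq_sub_sq, one_pow], FiniteField.pow_card_sub_one_eq_one w hw0]
  have h2 : t ^ (q + 1) = 1 := by
    obtain ⟨s, hs⟩ := hr
    rw [hs, pow_mul, htr, one_pow]
  have h3 : t ^ 2 = 1 := by rwa [show q + 1 = (q - 1) + 2 by omega, pow_add, h1, one_mul] at h2
  have h4 := pow_gcd_eq_one.2 ⟨h3, htr⟩
  rwa [((Nat.coprime_primes Nat.prime_two (Fact.out : r.Prime)).2 (Ne.symm hr2)).gcd_eq_one, pow_one] at h4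

include hF in
theorem det_eq_one_of_pow (hndvd : ¬ r ∣ q + 1) {f : End F (Fin n → F)}
    (hf : ∀ u v, hermB hF n (f u) (f v) = hermB hF n u v) (hpow : f ^ r = 1) : LinearMap.det f = 1 := by
  have h1 : LinearMap.det f ^ r = 1 := by rw [← map_pow, hpow, map_one]
  have hpres : GL.Preserves (Cfsg.hermForm n F q) (LinearMap.toMatrix' f) := fun u v => by
    rw [← Matrix.toLin'_apply, ← Matrix.toLin'_apply, Matrix.toLin'_toMatrix', ← hermB_apply hF,
      ← hermB_apply hF, hf]
  have hu : IsUnit (LinearMap.toMatrix' f) := by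
    refine (Matrix.isUnit_iff_isUnit_det _).2 (IsUnit.of_pow_eq_one ?_ (Fact.out : r.Prime).ne_zero)
    rw [LinearMap.det_toMatrix']; exact h1
  have h2 := Forms.det_pow_of_mem_GU hF (g := hu.unit) hpres
  rw [IsUnit.unit_spec, LinearMap.det_toMatrix'] at h2
  have h3 := pow_gcd_eq_one.2 ⟨h1, h2⟩
  rwa [((Fact.out : r.Prime).coprime_iff_not_dvd.2 hndvd).gcd_eq_one, pow_one] at h3

include hF in
/-- Every element of order `r` fixing a subspace, on endomorphisms. -/
theorem fix_end (hall : AllFix F q n m r) {f : End F (Fin n → F)}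
    (hf : ∀ u v, hermB hF n (f u) (f v) = hermB hF n u v) (hpow : f ^ r = 1) (hdet : LinearMap.det f = 1)
    (hns : ∀ z : F, f ≠ z • 1) :
    ∃ W : Submodule F (Fin n → F), Inv f W ∧ Iso (hermB hF n) W ∧ finrank F ↥W = m := by
  have hpres : GL.Preserves (Cfsg.hermForm n F q) (LinearMap.toMatrix' f) := fun u v => by
    rw [← Matrix.toLin'_apply, ← Matrix.toLin'_apply, Matrix.toLin'_toMatrix', ← hermB_apply hF,
      ← hermB_apply hF, hf]
  obtain ⟨x, hx, hxA⟩ := exists_sl hpres (by rw [LinearMap.det_toMatrix', hdet])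
  have hxf : endOf x = f := by show Matrix.toLin' _ = f; rw [hxA, Matrix.toLin'_toMatrix']
  have h := (fixes_iff hF x).1 (hall x hx ⟨1, (endOf_pow_iff x r 1).1 (by rw [hxf, hpow, one_smul])⟩
    fun z hz => hns z (hxf ▸ (endOf_scalar_iff x z).2 hz))
  rwa [hxf] at h

variable {K : Type} [Field K] [Algebra F K] [Finite K] {ζ : K} (hK : RootField F r K ζ)

local notation "b₀" => orderOf (Fintype.card F : ZMod r)

include hK in
theorem card_orb : Fintype.card (Orb F r) = (r - 1) / b₀ :=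
  hK.card_orb (Nat.div_mul_cancel (ZMod.orderOf_dvd_card_sub_one hK.card_ne_zero))

include hF hK in
/-- What a witness says when every element fixes an isotropic `m`-space. -/
theorem witness (hr2 : r ≠ 2) (hn : 0 < n) (hall : AllFix F q n m r) {h : ℕ} (a e : Orb F r → ℕ)
    (he : e = 0 ∨ twistOrb F q r = 1) (hdim : h + b₀ * (2 * ∑ c, a c + ∑ c, e c) = n) (hne : h < n)
    (hside : ¬ r ∣ q + 1 ∨ (a = 0 ∧ ∀ c, e (c * negOrb F r) = e c)) :
    ∃ (o : Orb F r → ℕ) (j : ℕ), (∀ c, o c + o (c * twistOrb F q r) ≤ a c + a (c * twistOrb F q r) + e c) ∧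
      m = j + b₀ * ∑ c, o c ∧ 2 * j ≤ h := by
  classical
  have hr := (Fact.out : r.Prime)
  obtain ⟨f, hf, hpow, hfa, -⟩ := exists_model hF hK hr2 a e he hdim
  have hfix := SympIsotropic.finrank_fix hK hpow
  have hsum : ∑ c, (orbMult ζ f : Orb F r → ℕ) c = 2 * ∑ c, a c + ∑ c, e c := by
    have h1 : ∑ c, a (c * twistOrb F q r) = ∑ c, a c :=
      Fintype.sum_equiv (Equiv.mulRight (twistOrb F q r)) _ _ fun c => rfl
    rw [Finset.sum_congr rfl fun c _ => hfa c, Finset.sum_add_distrib, Finset.sum_add_distrib, h1, two_mul]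
  rw [hsum, Module.finrank_fin_fun] at hfix
  have hfix2 : finrank F (LinearMap.ker (f - 1)) = h := by omega
  have hns1 : f ≠ (1 : F) • 1 := fun h1 => by
    rw [h1, one_smul, sub_self, LinearMap.ker_zero, finrank_top, Module.finrank_fin_fun] at hfix2
    omega
  obtain ⟨hdet, hns⟩ : LinearMap.det f = 1 ∧ ∀ z : F, f ≠ z • 1 := by
    have hzr : ∀ z : F, f = z • 1 → z ^ r = 1 := fun z hz => by
      have := congrArg (fun g : End F (Fin n → F) => g (fun _ => 1) ⟨0, hn⟩) hpow
      rw [hz, _root_.smul_pow, one_pow] at this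
      simpa using this
    rcases hside with hndvd | ⟨ha, hsym⟩
    · refine ⟨det_eq_one_of_pow hF hndvd hf hpow, fun z hz => hns1 ?_⟩
      have hzq : z ^ (q + 1) = 1 := by
        have hee := hf (Pi.single ⟨0, hn⟩ 1) (Pi.single ⟨0, hn⟩ 1)
        have hq0 : q ≠ 0 := by have := Forms.one_lt_q hF; omega
        rw [hz] at hee
        simp [hermB_apply, Cfsg.hermForm, Pi.single_apply, zero_pow hq0] at hee
        rw [pow_succ']
        exact hee
      have h3 := pow_gcd_eq_one.2 ⟨hzr z hz, hzq⟩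
      rw [(hr.coprime_iff_not_dvd.2 hndvd).gcd_eq_one, pow_one] at h3
      rw [hz, h3]
    · have hpow' : (f ^ (r - 1)) ^ r = 1 := by rw [← pow_mul, mul_comm, pow_mul, hpow, one_pow]
      have hc : (f ^ (r - 1)).charpoly = f.charpoly := hK.charpoly_eq_of_orbMult _ _ hpow' hpow rfl (funext fun c => by
        have h1 := hK.orbMult_inv f hpow (c * negOrb F r)
        rw [mul_assoc, Semisimple.negOrb_mul_self, mul_one, hfa, ha] at h1
        rw [h1, hfa, ha]
        simpa using hsym c)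
      obtain ⟨k, hk⟩ := hr.odd_of_ne_two hr2
      have key : ∀ d : F, d ^ r = 1 → d ^ (r - 1) = d → d = 1 := fun d h1 h2 => by
        have h3 : d ^ 2 = 1 := by
          rw [sq]
          nth_rw 1 [← h2]
          rw [← pow_succ, Nat.sub_add_cancel hr.pos, h1]
        have h4 := pow_gcd_eq_one.2 ⟨h3, h1⟩
        rwa [((Nat.coprime_primes Nat.prime_two hr).2 (Ne.symm hr2)).gcd_eq_one, pow_one] at h4
      refine ⟨key _ (by rw [← map_pow, hpow, map_one]) ?_, fun z hz => hns1 ?_⟩
      · rw [← map_pow, LinearMap.det_eq_sign_charpoly_coeff, LinearMap.det_eq_sign_charpoly_coeff f, hc]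
      · obtain ⟨T, hT⟩ := Semisimple.exists_intertwine (finrank F (Fin n → F)) (Fin n → F) (Fin n → F) (f ^ (r - 1)) f
          rfl (hK.ss_of_pow _ hpow') (hK.ss_of_pow _ hpow) hc
        have h1 := hT (fun _ => 1)
        rw [hz, _root_.smul_pow, one_pow, LinearMap.smul_apply, LinearMap.smul_apply, Module.End.one_apply,
          Module.End.one_apply, map_smul] at h1
        have hne0 : T (fun _ => 1) ≠ 0 := fun h0 => by
          have := congrFun (T.injective (h0.trans (map_zero T).symm)) (⟨0, hn⟩ : Fin n)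
          simp at this
        rw [hz, key z (hzr z hz) (smul_left_injective F hne0 h1)]
  obtain ⟨W, hW, hiso, hWd⟩ := fix_end hF hall hf hpow hdet hns
  obtain ⟨o, j, ho, hj, hj2⟩ := iso_bound hF hK hf hpow hW hiso
  exact ⟨o, j, fun c => hfa c ▸ ho c, hWd ▸ hj, by omega⟩

include hF hK in
/-- The conditions are necessary, `r` prime to `q + 1`. -/
theorem criterion_of_fixes (hr2 : r ≠ 2) (hn : 0 < n) (hm1 : 1 ≤ m) (hndvd : ¬ r ∣ q + 1)
    (hc : ∃ j, n - 2 * m ≤ j ∧ j < n ∧ (if twistOrb F q r = 1 then b₀ else 2 * b₀) ∣ j + 1)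
    (hall : AllFix F q n m r) :
    b₀ ≤ m ∧ 2 * (m % b₀) ≤ n % (if twistOrb F q r = 1 then b₀ else 2 * b₀) ∧
      (twistOrb F q r ≠ 1 ∨ (r - 1) / b₀ + 2 * (m / b₀) ≤ n / b₀) := by
  classical
  have hb := SympIsotropic.order_pos hK
  set cB := (if twistOrb F q r = 1 then b₀ else 2 * b₀) with hcB
  have hcpos : 0 < cB := by rw [hcB]; split <;> omega
  have hc2 : cB ≤ 2 * b₀ := by rw [hcB]; split <;> omega
  obtain ⟨j₀, hj1, hj2, β, hβ⟩ := hc
  have hklow : n % cB < 2 * m := by
    rw [show n = (n - (j₀ + 1)) + cB * β by omega, Nat.add_mul_mod_self_left]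
    exact (Nat.mod_le _ _).trans_lt (by omega)
  have hcle : cB ≤ n := by
    rcases Nat.eq_zero_or_pos β with rfl | hb'
    · omega
    · have := Nat.le_mul_of_pos_right cB hb'; omega
  have hk := Nat.mod_lt n hcpos
  let c₀ : Orb F r := 1
  -- as many blocks as possible
  obtain ⟨a, e, he, hdim⟩ : ∃ (a e : Orb F r → ℕ), (e = 0 ∨ twistOrb F q r = 1) ∧
      n % cB + b₀ * (2 * ∑ x, a x + ∑ x, e x) = n := by
    have hdd := Nat.mod_add_div n cB
    by_cases htw : twistOrb F q r = 1
    · refine ⟨Pi.single c₀ (n / b₀ / 2), Pi.single c₀ (n / b₀ % 2), Or.inr htw, ?_⟩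
      rw [Finset.sum_pi_single', Finset.sum_pi_single', if_pos (Finset.mem_univ _), if_pos (Finset.mem_univ _),
        Nat.div_add_mod]
      rw [hcB, if_pos htw] at hdd ⊢
      exact hdd
    · refine ⟨Pi.single c₀ (n / cB), 0, Or.inl rfl, ?_⟩
      rw [Finset.sum_pi_single', if_pos (Finset.mem_univ _)]
      have e1 : b₀ * (2 * (n / cB)) = cB * (n / cB) := by rw [hcB, if_neg htw]; ring
      simpa [e1] using hdd
  obtain ⟨o, j, -, hj, hjh⟩ := witness hF hK hr2 hn hall a e he hdim (by omega) (Or.inl hndvd)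
  have hjb : j < b₀ := by omega
  have hmod : m % b₀ = j := by rw [hj, Nat.add_mul_mod_self_left, Nat.mod_eq_of_lt hjb]
  have hbm : b₀ ≤ m := by
    rcases Nat.eq_zero_or_pos (∑ x, o x) with h0 | h0
    · rw [h0, mul_zero] at hj; omega
    · have := Nat.le_mul_of_pos_right b₀ h0; omega
  refine ⟨hbm, by rw [hmod]; omega, ?_⟩
  -- as many odd multiplicities as possible
  by_contra hcon
  push Not at hcon
  obtain ⟨htw, hlt2⟩ := hcon
  have hci : cB = b₀ := by rw [hcB, if_pos htw]
  have hmd := Nat.mod_add_div m b₀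
  have hdd := Nat.mod_add_div n b₀
  rw [hci] at hklow hk
  set n' := n / b₀ with hn'def
  set t := (r - 1) / b₀ with htdef
  rcases le_or_gt t n' with htn | htn
  · have hdim' : n % b₀ + b₀ * ((n' - t) % 2) +
        b₀ * (2 * ∑ x, (Pi.single c₀ ((n' - t) / 2) : Orb F r → ℕ) x + ∑ _x : Orb F r, 1) = n := by
      rw [Finset.sum_pi_single', if_pos (Finset.mem_univ _), Finset.sum_const, smul_eq_mul, mul_one,
        Finset.card_univ, card_orb hK, ← htdef, add_assoc, ← mul_add,
        show (n' - t) % 2 + (2 * ((n' - t) / 2) + t) = n' by omega]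
      exact hdd
    obtain ⟨o, j, ho, hj, hjh⟩ := witness hF hK hr2 hn hall (Pi.single c₀ ((n' - t) / 2)) (fun _ => 1)
      (Or.inr htw) hdim' (by
        have : 0 < b₀ * (2 * ∑ x, (Pi.single c₀ ((n' - t) / 2) : Orb F r → ℕ) x + ∑ _x : Orb F r, 1) :=
          Nat.mul_pos hb (by
            have h1 : 0 < ∑ _x : Orb F r, 1 := by
              rw [Finset.sum_const, smul_eq_mul, mul_one]; exact Finset.card_pos.2 Finset.univ_nonempty
            omega)
        omega) (Or.inl hndvd)
    have hsum : ∑ x, o x ≤ (n' - t) / 2 := by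
      refine le_trans (Finset.sum_le_sum fun x _ => ?_)
        (le_of_eq ((Finset.sum_pi_single' c₀ ((n' - t) / 2) Finset.univ).trans (if_pos (Finset.mem_univ _))))
      have := ho x
      rw [htw, mul_one] at this
      omega
    have h3 := Nat.mul_le_mul_left b₀ hsum
    have h4 : b₀ * (2 * ((n' - t) / 2) + (n' - t) % 2 + 1) ≤ b₀ * (2 * (m / b₀)) := Nat.mul_le_mul_left b₀ (by omega)
    rw [mul_add, mul_add, mul_one, mul_left_comm, mul_left_comm b₀ 2 (m / b₀)] at h4
    omega
  · obtain ⟨S, hS⟩ := Finset.exists_subset_card_eq (s := (Finset.univ : Finset (Orb F r))) (n := n') (by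
      rw [Finset.card_univ, card_orb hK, ← htdef]; omega)
    have hsumS : ∑ x : Orb F r, (if x ∈ S then 1 else 0) = n' := by
      rw [Finset.sum_boole, Finset.filter_mem_eq_inter, Finset.univ_inter, hS.2]
      rfl
    obtain ⟨o, j, ho, hj, hjh⟩ := witness hF hK hr2 hn hall (h := n % b₀) 0 (fun x => if x ∈ S then 1 else 0)
      (Or.inr htw) (by rw [hsumS]; simpa using hdd) (by omega) (Or.inl hndvd)
    have hsum : ∑ x, o x = 0 := Finset.sum_eq_zero fun x _ => by
      have := ho x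
      rw [htw, mul_one] at this
      simp only [Pi.zero_apply] at this
      split at this <;> omega
    rw [hsum] at hj
    omega

include hF hK in
/-- The conditions are necessary, `r` dividing `q + 1`. -/
theorem criterion_of_fixes_dvd (hr2 : r ≠ 2) (hb : b₀ = 1) (htw : twistOrb F q r = 1) (hm1 : 1 ≤ m)
    (hm : 2 * m ≤ n) (hall : AllFix F q n m r) : r - 1 + 2 * m ≤ n := by
  classical
  by_contra hlt
  push Not at hlt
  have hneg : negOrb F r ≠ 1 := fun h => by
    have := (hK.negOrb_eq_one_iff hr2).1 h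
    rw [hb] at this
    exact Nat.not_even_one this
  have hnn := Semisimple.negOrb_mul_self F r
  obtain ⟨D, hD, hDs⟩ := Semisimple.exists_half (negOrb F r) hnn hneg (fun _ => 1) fun _ => rfl
  rw [Finset.sum_const, smul_eq_mul, mul_one, Finset.card_univ, card_orb hK, hb, Nat.div_one] at hDs
  set x := (n - 2 * m) / 2 + 1 with hx
  have hsupp : ∑ c, D c = (Finset.univ.filter fun c => D c = 1).card := by
    rw [Finset.card_filter]
    refine Finset.sum_congr rfl fun c _ => ?_
    have := hD c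
    split <;> omega
  obtain ⟨S, hSsub, hS⟩ := Finset.exists_subset_card_eq (s := Finset.univ.filter fun c => D c = 1) (n := x) (by omega)
  set e : Orb F r → ℕ := fun c => (if c ∈ S then 1 else 0) + (if c * negOrb F r ∈ S then 1 else 0) with hedef
  have he1 : ∀ c, e c ≤ 1 := fun c => by
    have := hD c
    simp only [hedef]
    split_ifs with h1 h2 <;> try omega
    have e1 := (Finset.mem_filter.1 (hSsub h1)).2
    have e2 := (Finset.mem_filter.1 (hSsub h2)).2
    omega
  have hesum : ∑ c, e c = 2 * x := by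
    have h1 : ∑ c : Orb F r, (if c ∈ S then 1 else 0) = x := by
      rw [Finset.sum_boole, Finset.filter_mem_eq_inter, Finset.univ_inter, hS]
      rfl
    have h2 : ∑ c : Orb F r, (if c * negOrb F r ∈ S then 1 else 0) = x :=
      (Fintype.sum_equiv (Equiv.mulRight (negOrb F r)) _ _ fun c => rfl).trans h1
    rw [hedef, Finset.sum_add_distrib, h1, h2]
    omega
  have hesym : ∀ c, e (c * negOrb F r) = e c := fun c => by
    simp only [hedef]
    rw [mul_assoc, hnn, mul_one, add_comm]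
  obtain ⟨o, j, ho, hj, hjh⟩ := witness hF hK hr2 (show 0 < n by omega) hall (h := n - 2 * x) 0 e (Or.inr htw)
    (by rw [hesum, hb]; simp; omega) (by omega) (Or.inr ⟨rfl, hesym⟩)
  have hsum : ∑ c, o c = 0 := Finset.sum_eq_zero fun c _ => by
    have h1 := ho c
    rw [htw, mul_one] at h1
    have := he1 c
    simp only [Pi.zero_apply] at h1
    omega
  rw [hsum, mul_zero] at hj
  omega

include hF in
/-- An element without eigenvalue of norm one has invariant subspaces of dimension divisible by `r` only. -/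
theorem cond_of_fixes (hr2 : r ≠ 2) (hrdvd : r ∣ q + 1) (hn : 0 < n) (hall : AllFix F q n m r) :
    Roots F q r n ∨ r ∣ m := by
  by_contra hnot
  push Not at hnot
  obtain ⟨hroots, hdvd⟩ := hnot
  simp only [Roots] at hroots
  push Not at hroots
  obtain ⟨z, hzq, hrn, hdet, hno⟩ := hroots
  have hr' := (Fact.out : r.Prime)
  obtain ⟨M, rfl⟩ := hrn
  rw [Nat.mul_div_cancel_left _ hr'.pos] at hdet
  obtain ⟨A, hA, hAr, hAd, -⟩ := Unitary.exists_blocks (hF := hF) hzq (Unitary.cyc r z) (Unitary.preserves_cyc r hzq)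
    (Unitary.cyc_pow r hr'.pos z) M
  rw [Unitary.det_cyc r hr'.pos, hdet] at hAd
  obtain ⟨x, hx, hxA⟩ := exists_sl hA hAd
  have hxr : ((x ^ r : Matrix.SpecialLinearGroup (Fin (r * M)) F) : Matrix (Fin (r * M)) (Fin (r * M)) F) = z • 1 := by
    rw [Matrix.SpecialLinearGroup.coe_pow, hxA, hAr]
  obtain ⟨-, hxend⟩ := scalar_facts hF hn hx hxr
  obtain ⟨W, hWi, -, hWd⟩ := (fixes_iff hF x).1 (hall x hx ⟨z, hxr⟩ fun t ht => by
    obtain ⟨htq, -⟩ := scalar_facts hF hn (r := 1) hx (z := t) (by rw [pow_one, ht])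
    refine hno t htq ?_
    have h := congrArg (fun N : Matrix (Fin (r * M)) (Fin (r * M)) F => N ⟨0, hn⟩ ⟨0, hn⟩) hxr
    rw [Matrix.SpecialLinearGroup.coe_pow, ht] at h
    simpa [_root_.smul_pow] using h)
  -- the determinant on `W`
  set δ := LinearMap.det ((endOf x).restrict hWi) with hδ
  have hδr : δ ^ r = z ^ m := by
    rw [hδ, ← map_pow, Unitary.restrict_pow_apply (hermB_swap hF) hWi hxend, LinearMap.det_smul, map_one, mul_one,
      hWd]
  set a := ((m : ZMod r)⁻¹).val
  have hka : ((m * a : ℕ) : ZMod r) = 1 := by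
    rw [Nat.cast_mul, ZMod.natCast_val, ZMod.cast_id, mul_inv_cancel₀]
    rwa [Ne, ZMod.natCast_eq_zero_iff]
  have hmod : (m * a) % r = 1 := by
    haveI : Fact (1 < r) := ⟨hr'.one_lt⟩
    rw [← ZMod.val_natCast, hka, ZMod.val_one]
  set s := (m * a) / r
  have ht : m * a = r * s + 1 := (Nat.div_add_mod (m * a) r).symm.trans (by rw [hmod])
  obtain ⟨w, hw1, hw2⟩ := root_mu hF hr2 hrdvd hzq (w := δ ^ a * (z ^ q) ^ s) (by
    rw [mul_pow, pow_right_comm δ, hδr, ← pow_mul z m, ht]
    calc z ^ (r * s + 1) * ((z ^ q) ^ s) ^ r = z * (z ^ (q + 1)) ^ (r * s) := by ring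
      _ = z := by rw [hzq, one_pow, mul_one])
  exact hno w hw1 hw2

include hF hK in
/-- The conditions are sufficient, `r` dividing `q + 1`. -/
theorem allFix_dvd (hr2 : r ≠ 2) (hrdvd : r ∣ q + 1) (hb : b₀ = 1) (hn : 0 < n) (hm : 2 * m ≤ n)
    (hcrit : twistOrb F q r ≠ 1 ∨ r - 1 + 2 * m ≤ n) (hcond : Roots F q r n ∨ r ∣ m) : AllFix F q n m r := by
  rintro x hx ⟨z, hz⟩ -
  obtain ⟨hzq, hxr⟩ := scalar_facts hF hn hx hz
  have hf := endOf_isom hF hx
  by_cases hw : ∃ w : F, w ^ (q + 1) = 1 ∧ w ^ r = z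
  · obtain ⟨w, hw1, hw2⟩ := hw
    obtain ⟨hg, hpow⟩ := normalise hF hx hxr hw1 hw2
    obtain ⟨W, hWi, hWiso, hWd⟩ := fixes_of_criterion hF hK hr2 hm (by rw [hb, Nat.mod_one]; exact Nat.zero_le _)
      (by rw [hb, Nat.div_one, Nat.div_one, Nat.div_one]; exact hcrit) _ hg hpow
    exact fixes_of_normalised hF hw1 hWi hWiso hWd
  push Not at hw
  rcases hcond with hroots | hdvd
  · obtain ⟨hdvd, hdet⟩ := Unitary.det_of_no_root (hermB_swap hF) hf (nd_top hF) hK.unit hxr hzq hw
    rw [Module.finrank_fin_fun] at hdvd hdet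
    have h1 : LinearMap.det (endOf x) = 1 := by rw [LinearMap.det_toLin']; exact x.2
    obtain ⟨w, hw1, hw2⟩ := hroots z hzq hdvd (hdet ▸ h1)
    exact absurd hw2 (hw w hw1)
  · obtain ⟨W, hWi, hWiso, hWd⟩ := exists_iso_no_root (hermB_swap hF) hf (nd_top hF) hK.unit hxr hzq
      (fun w hwr => by
        obtain ⟨w', h1, h2⟩ := root_mu hF hr2 hrdvd hzq hwr
        exact hw w' h1 h2) hdvd (by rw [Module.finrank_fin_fun]; exact hm)
    exact (fixes_iff hF x).2 ⟨W, hWi, hWiso, hWd⟩

include hF hK in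
/-- The conditions are sufficient, `r` prime to `q + 1`. -/
theorem allFix_ndvd (hr2 : r ≠ 2) (hndvd : ¬ r ∣ q + 1) (hn : 0 < n) (hm : 2 * m ≤ n)
    (hk : 2 * (m % b₀) ≤ n % (if twistOrb F q r = 1 then b₀ else 2 * b₀))
    (ht : twistOrb F q r ≠ 1 ∨ (r - 1) / b₀ + 2 * (m / b₀) ≤ n / b₀) : AllFix F q n m r := by
  rintro x hx ⟨z, hz⟩ -
  obtain ⟨hzq, hxr⟩ := scalar_facts hF hn hx hz
  obtain ⟨w, hw1, hw2⟩ := Unitary.exists_root_of_not_dvd hF hndvd hzq
  obtain ⟨hg, hpow⟩ := normalise hF hx hxr hw1 hw2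
  obtain ⟨W, hWi, hWiso, hWd⟩ := fixes_of_criterion hF hK hr2 hm hk ht _ hg hpow
  exact fixes_of_normalised hF hw1 hWi hWiso hWd

end OddPrime

end Cfsg.Agent.Elusive.UnitaryIso
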