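import Cfsg.Agent.Lib.Elusive.UnitaryIso
import Cfsg.Agent.Lib.Elusive.SympIsotropic
import Cfsg.Agent.Lib.Semisimple.UnitaryClasses

/-!
Totally isotropic invariant subspaces of unitary isometries of odd prime order, in terms of the
multiplicities of the Frobenius orbits of eigenvalues.
-/

set_option autoImplicit false
set_option linter.unusedSectionVars false
set_option linter.style.haveILetI false

namespace Cfsg.Agent.Elusive.UnitaryIso

open Polynomial Module
open Forms (qEnd qEnd_apply qEnd_qEnd hermB hermB_apply)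
open Semisimple (RootField Orb orbMult negOrb twistOrb qOrb RealU)
open Unitary (Nd perp hermB_swap nd_top)
open scoped Matrix

variable {F : Type*} [Field F] [Fintype F] {q : ℕ} (hF : Fintype.card F = q ^ 2) {r : ℕ} [Fact r.Prime]
  {K : Type} [Field K] [Algebra F K] [Finite K] {ζ : K} (hK : RootField F r K ζ)

local notation "b₀" => orderOf (Fintype.card F : ZMod r)

include hF hK

theorem qOrb_mul_self : qOrb F q r * qOrb F q r = 1 := by
  have h := hK.twist_mul_self hF
  calc qOrb F q r * qOrb F q r = (negOrb F r * negOrb F r) * (qOrb F q r * qOrb F q r) := by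
        rw [Semisimple.negOrb_mul_self, one_mul]
    _ = (negOrb F r * qOrb F q r) * (negOrb F r * qOrb F q r) := by
        simp only [mul_assoc, mul_left_comm (qOrb F q r) (negOrb F r)]
    _ = 1 := h

theorem charpoly_matrix {k : ℕ} (M : Matrix (Fin k) (Fin k) F) :
    (Matrix.toLinAlgEquiv' M : End F (Fin k → F)).charpoly = M.charpoly := by
  rw [← LinearMap.charpoly_toMatrix (Matrix.toLinAlgEquiv' M) (Pi.basisFun F (Fin k))]
  congr 1
  rw [LinearMap.toMatrix_eq_toMatrix']
  exact LinearMap.toMatrix'_toLin' M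

/-- The conjugate inverse transpose twists the multiplicities. -/
theorem orbMult_twist {k : ℕ} (A : Matrix (Fin k) (Fin k) F) (hA : A ^ r = 1) (c : Orb F r) :
    orbMult ζ (Matrix.toLinAlgEquiv' ((A ^ (r - 1)).map (qEnd hF))ᵀ : End F (Fin k → F)) c =
      orbMult ζ (Matrix.toLinAlgEquiv' A : End F (Fin k → F)) (c * twistOrb F q r) := by
  have hg : (Matrix.toLinAlgEquiv' A : End F (Fin k → F)) ^ r = 1 := by rw [← map_pow, hA, map_one]
  have key : ∀ d : (ZMod r)ˣ,
      orbMult ζ (Matrix.toLinAlgEquiv' ((A ^ (r - 1)).map (qEnd hF))ᵀ : End F (Fin k → F))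
          ((d : Orb F r) * qOrb F q r) =
        orbMult ζ ((Matrix.toLinAlgEquiv' A : End F (Fin k → F)) ^ (r - 1)) (d : Orb F r) := by
    intro d
    rw [hK.qOrb_eq hF, ← QuotientGroup.mk_mul, hK.orbMult_mk, hK.orbMult_mk, Units.val_mul, Units.val_mk0,
      ← map_pow, charpoly_matrix hF hK, charpoly_matrix hF hK, Matrix.charpoly_transpose, Matrix.charpoly_map,
      hK.mult_map_qEnd hF]
  obtain ⟨d, hd⟩ := QuotientGroup.mk_surjective (c * qOrb F q r)
  have h1 := key d
  rw [hd, mul_assoc c, qOrb_mul_self hF hK, mul_one] at h1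
  have h2 := hK.orbMult_inv _ hg (c * twistOrb F q r)
  rw [h1, ← h2]
  congr 1
  rw [twistOrb, mul_assoc, mul_comm (negOrb F r) (qOrb F q r), mul_assoc (qOrb F q r), Semisimple.negOrb_mul_self,
    mul_one]

section Bound

variable {n : ℕ} {f : End F (Fin n → F)} (hf : ∀ u v, hermB hF n (f u) (f v) = hermB hF n u v) (hpow : f ^ r = 1)
include hf hpow

/-- A totally isotropic invariant subspace takes at most half of the fixed and of every moved part. -/
theorem iso_bound {W : Submodule F (Fin n → F)} (hW : Inv f W) (hiso : Iso (hermB hF n) W) :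
    ∃ (o : Orb F r → ℕ) (j : ℕ),
      (∀ c, o c + o (c * twistOrb F q r) ≤ (orbMult ζ f : Orb F r → ℕ) c) ∧
      finrank F W = j + b₀ * ∑ c, o c ∧ 2 * j ≤ finrank F (LinearMap.ker (f - 1)) := by
  classical
  have hr' := (Fact.out : r.Prime)
  have hr := hK.unit
  have hS := hermB_swap (n := n) hF
  have hss := isSemisimple_of_pow hr hpow
  have hWle : W ≤ perp (hermB hF n) W := fun v hv u hu => hiso u hu v hv
  obtain ⟨W', hW', hcompl⟩ := exists_compl hss (Unitary.inv_perp hS hf (nd_top hF) hW)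
  set g := f.restrict hW
  set g' := f.restrict hW'
  have hg : g ^ r = 1 := SympIsotropic.restrict_pow hK hpow hW
  let bw := Module.finBasis F W
  let w : Fin (finrank F W) → (Fin n → F) := fun i => bw i
  let T : (Fin n → F) →ₗ[F] (Fin (finrank F W) → F) := LinearMap.pi fun i => hermB hF n (w i)
  have hT : ∀ v i, T v i = hermB hF n (w i) v := fun v i => rfl
  have hsurj : Function.Surjective T := fun y => by
    obtain ⟨v, hv⟩ := pairMap_surjective hS (nd_top hF) (fun i => Submodule.mem_top (x := w i))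
      (bw.linearIndependent.map' W.subtype W.ker_subtype) y
    exact ⟨v, hv⟩
  have hker : ∀ v, T v = 0 → v ∈ perp (hermB hF n) W := fun v hv u hu => by
    rw [← show ((⟨u, hu⟩ : W) : Fin n → F) = u from rfl, ← bw.sum_repr ⟨u, hu⟩]
    simp only [Submodule.coe_sum, Submodule.coe_smul, map_sum, LinearMap.sum_apply]
    refine Finset.sum_eq_zero fun i _ => ?_
    rw [map_smulₛₗ (hermB hF n), LinearMap.smul_apply, show hermB hF n (bw i : Fin n → F) v = 0 from congrFun hv i,
      smul_zero]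
  have hinj : Function.Injective (T.comp W'.subtype) := (injective_iff_map_eq_zero _).2 fun y hy =>
    Subtype.ext ((Submodule.mem_bot F).1 (hcompl.inf_eq_bot ▸ ⟨hker _ hy, y.2⟩))
  have hsurj' : Function.Surjective (T.comp W'.subtype) := fun y => by
    obtain ⟨v, rfl⟩ := hsurj y
    have hv : v ∈ perp (hermB hF n) W ⊔ W' := by rw [hcompl.sup_eq_top]; trivial
    obtain ⟨a, ha, c, hc, rfl⟩ := Submodule.mem_sup.1 hv
    refine ⟨⟨c, hc⟩, ?_⟩
    rw [map_add, show T a = 0 from funext fun i => ha _ (bw i).2, zero_add]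
    rfl
  let E : W' ≃ₗ[F] (Fin (finrank F W) → F) := LinearEquiv.ofBijective _ ⟨hinj, hsurj'⟩
  set A := LinearMap.toMatrix bw bw g with hAdef
  have hAr : A ^ r = 1 := by
    rw [hAdef, LinearMap.toMatrix_pow, hg, LinearMap.toMatrix_one]
  have hconj : E.conj g' = (Matrix.toLinAlgEquiv' ((A ^ (r - 1)).map (qEnd hF))ᵀ : End F (Fin (finrank F W) → F)) := by
    refine LinearMap.ext fun ψ => ?_
    obtain ⟨y, rfl⟩ := E.surjective ψ
    rw [LinearEquiv.conj_apply_apply, LinearEquiv.symm_apply_apply, Matrix.toLinAlgEquiv'_apply]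
    funext i
    show T (f y) i = ∑ l, ((A ^ (r - 1)).map (qEnd hF))ᵀ i l * T y l
    have hexp : (g ^ (r - 1)) (bw i) = ∑ l, (A ^ (r - 1)) l i • bw l := by
      rw [hAdef, LinearMap.toMatrix_pow]
      simp [LinearMap.toMatrix_apply, bw.sum_repr]
    have e : f ((g ^ (r - 1)) (bw i) : Fin n → F) = w i := by
      show (((g * g ^ (r - 1)) (bw i) : W) : Fin n → F) = w i
      rw [← pow_succ', Nat.sub_add_cancel hr'.pos, hg]
      rfl
    rw [hT]
    conv_lhs => rw [← e, hf, hexp]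
    simp only [Submodule.coe_sum, Submodule.coe_smul, map_sum, LinearMap.sum_apply]
    refine Finset.sum_congr rfl fun l _ => ?_
    rw [map_smulₛₗ (hermB hF n), LinearMap.smul_apply, smul_eq_mul, Matrix.transpose_apply, Matrix.map_apply]
    rfl
  have hgA : (orbMult ζ g : Orb F r → ℕ) =
      orbMult ζ (Matrix.toLinAlgEquiv' A : End F (Fin (finrank F W) → F)) := by
    funext c
    rw [orbMult, orbMult, charpoly_matrix hF hK, hAdef, LinearMap.charpoly_toMatrix]
  have hg'a : ∀ c, (orbMult ζ g' : Orb F r → ℕ) c = orbMult ζ g (c * twistOrb F q r) := fun c => by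
    rw [← RootField.orbMult_conj g' E, hconj, orbMult_twist hF hK A hAr, hgA]
  -- the rest
  obtain ⟨Q, hQ, hYQ⟩ := exists_compl hss (hW.sup hW')
  let Ψ₀ : ((W × W') × Q) →ₗ[F] (Fin n → F) := (W.subtype.coprod W'.subtype).coprod Q.subtype
  have hΨ : Function.Bijective Ψ₀ := by
    constructor
    · rw [injective_iff_map_eq_zero]
      rintro ⟨⟨w, w'⟩, v⟩ h
      have h' : (w : Fin n → F) + w' + v = 0 := h
      have hv : v = 0 := Subtype.ext ((Submodule.mem_bot F).1 (hYQ.inf_eq_bot ▸ ⟨by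
        rw [eq_neg_of_add_eq_zero_right h']
        exact Submodule.neg_mem _ (Submodule.add_mem_sup w.2 w'.2), v.2⟩))
      subst hv
      rw [Submodule.coe_zero, add_zero] at h'
      have hw' : w' = 0 := Subtype.ext ((Submodule.mem_bot F).1 (hcompl.inf_eq_bot ▸ ⟨by
        rw [eq_neg_of_add_eq_zero_right h']
        exact Submodule.neg_mem _ (hWle w.2), w'.2⟩))
      subst hw'
      rw [Submodule.coe_zero, add_zero] at h'
      obtain rfl : w = 0 := Subtype.ext h'
      rfl
    · rw [← LinearMap.range_eq_top]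
      show LinearMap.range ((W.subtype.coprod W'.subtype).coprod Q.subtype) = ⊤
      rw [LinearMap.range_coprod, LinearMap.range_coprod, Submodule.range_subtype, Submodule.range_subtype,
        Submodule.range_subtype, hYQ.sup_eq_top]
  have hsum : (orbMult ζ f : Orb F r → ℕ) = orbMult ζ g + orbMult ζ g' + orbMult ζ (f.restrict hQ) := by
    rw [← hK.orbMult_prodMap g g']
    exact SympIsotropic.orbMult_of_equiv hK (LinearEquiv.ofBijective Ψ₀ hΨ) _ _ f fun a b => by
      show f ((a.1 : Fin n → F) + a.2 + b) = f a.1 + f a.2 + f b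
      rw [map_add, map_add]
  -- fixed vectors of `W`
  have hn : finrank F W = finrank F ↥(LinearMap.ker (f - 1) ⊓ W) + b₀ * ∑ c, (orbMult ζ g : Orb F r → ℕ) c := by
    rw [← SympIsotropic.finrank_fix hK hg]
    congr 1
    let e : LinearMap.ker (g - 1) ≃ₗ[F] ↥(LinearMap.ker (f - 1) ⊓ W) :=
      { toFun := fun v => ⟨v.1.1, congrArg Subtype.val v.2, v.1.2⟩
        map_add' := fun _ _ => rfl
        map_smul' := fun _ _ => rfl
        invFun := fun v => ⟨⟨v.1, v.2.2⟩, Subtype.ext v.2.1⟩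
        left_inv := fun _ => rfl
        right_inv := fun _ => rfl }
    exact e.finrank_eq
  refine ⟨orbMult ζ g, _, fun c => ?_, hn, ?_⟩
  · have h := congrFun hsum c
    rw [Pi.add_apply, Pi.add_apply, hg'a] at h
    omega
  · have hCn := (Unitary.split_fixed hS hf (nd_top hF) hr (hK.q_ne_zero hF) hpow (S := ⊤) (fun _ _ => trivial)
      (nd_top hF)).1
    rw [inf_top_eq] at hCn
    exact two_finrank_le hS hCn inf_le_left fun u hu v hv => hiso u hu.2 v hv.2

end Bound

/-- An isometry with multiplicities `a + a^* + e` and isotropic invariant subspaces in its moved part. -/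
theorem exists_model (hr2 : r ≠ 2) {n h : ℕ} (a e : Orb F r → ℕ) (he : e = 0 ∨ twistOrb F q r = 1)
    (hdim : h + b₀ * (2 * ∑ c, a c + ∑ c, e c) = n) :
    ∃ f : End F (Fin n → F), (∀ u v, hermB hF n (f u) (f v) = hermB hF n u v) ∧ f ^ r = 1 ∧
      (∀ c, (orbMult ζ f : Orb F r → ℕ) c = a c + a (c * twistOrb F q r) + e c) ∧
      ∀ w : ℕ, w ≤ ∑ c, a c → ∃ W : Submodule F (Fin n → F), Inv f W ∧ Iso (hermB hF n) W ∧
        finrank F W = w * b₀ ∧ W ≤ LinearMap.range (f - 1) := by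
  classical
  have hr' := (Fact.out : r.Prime)
  obtain ⟨N, hN, f₀, hf₀, hf₀a⟩ : ∃ N, N = b₀ * ∑ c, a c ∧ ∃ f₀ : End F (Fin N → F), f₀ ^ r = 1 ∧
      (orbMult ζ f₀ : Orb F r → ℕ) = a := by
    obtain ⟨f₀, h1, h2, -⟩ := hK.exists_realisation a
    exact ⟨_, rfl, f₀, h1, h2⟩
  set n₂ := h + b₀ * ∑ c, e c with hn₂
  obtain ⟨f₂, hp₂, hm₂, ha₂⟩ : RealU ζ q n₂ e := by
    rcases he with rfl | htw
    · exact hK.realU_zero hF n₂
    · have h1 := hK.realU_sum hF (fun c => Pi.single c 1)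
        (fun c => hK.realU_self_dual hF ((hK.twist_eq_one_iff hF hr2).1 htw) c) e
      rw [hK.deg, show ∑ c, e c • (Pi.single c 1 : Orb F r → ℕ) = e from funext fun x => by
        simp [Finset.sum_apply, Pi.single_apply]] at h1
      exact hK.realU_mono hF h1 (by omega)
  set A₀ := LinearMap.toMatrix' f₀ with hA₀
  have hf₀A : (Matrix.toLinAlgEquiv' A₀ : End F (Fin N → F)) = f₀ := Matrix.toLin'_toMatrix' f₀
  have hA₀r : A₀ ^ r = 1 := Matrix.toLinAlgEquiv'.injective (by rw [map_pow, map_one, hf₀A, hf₀])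
  set M₀ := ((A₀ ^ (r - 1)).map (qEnd hF))ᵀ with hM₀
  have hM₀r : M₀ ^ r = 1 := by
    have e1 : (A₀ ^ (r - 1)).map (qEnd hF) = (qEnd hF).mapMatrix (A₀ ^ (r - 1)) := rfl
    rw [hM₀, ← Matrix.transpose_pow, e1, ← map_pow, ← pow_mul, mul_comm, pow_mul, hA₀r, one_pow, map_one,
      Matrix.transpose_one]
  set g₁ : End F (Fin N → F) := Matrix.toLinAlgEquiv' M₀ with hg₁
  have hcomm : ∀ x v : Fin N → F, dotProduct (fun i => qEnd hF (f₀ x i)) (g₁ v) =
      dotProduct (fun i => qEnd hF (x i)) v := by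
    intro x v
    rw [hg₁, Matrix.toLinAlgEquiv'_apply, Matrix.dotProduct_mulVec, hM₀, Matrix.vecMul_transpose]
    congr 1
    funext i
    show ((A₀ ^ (r - 1)).map (qEnd hF) *ᵥ (qEnd hF ∘ f₀ x)) i = _
    rw [← RingHom.map_mulVec (qEnd hF)]
    show qEnd hF ((A₀ ^ (r - 1) *ᵥ f₀ x) i) = _
    rw [← hf₀A, Matrix.toLinAlgEquiv'_apply, Matrix.mulVec_mulVec, ← pow_succ, Nat.sub_add_cancel hr'.pos, hA₀r,
      Matrix.one_mulVec]
  let f' : End F (((Fin N → F) × (Fin N → F)) × (Fin n₂ → F)) := (f₀.prodMap g₁).prodMap f₂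
  let P : (((Fin N → F) × (Fin N → F)) × (Fin n₂ → F)) →ₛₗ[qEnd hF]
      (((Fin N → F) × (Fin N → F)) × (Fin n₂ → F)) →ₗ[F] F :=
    LinearMap.mk₂'ₛₗ (qEnd hF) (RingHom.id F)
      (fun x y => dotProduct (fun i => qEnd hF (x.1.1 i)) y.1.2 +
        qEnd hF (dotProduct (fun i => qEnd hF (y.1.1 i)) x.1.2) + hermB hF n₂ x.2 y.2)
      (fun a a' c => by simp [dotProduct, add_mul, mul_add, Finset.sum_add_distrib]; abel)
      (fun s a c => by
        simp [dotProduct, map_smulₛₗ, Finset.mul_sum, mul_add, mul_left_comm, mul_assoc])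
      (fun a c c' => by simp [dotProduct, add_mul, mul_add, Finset.sum_add_distrib]; abel)
      (fun s a c => by
        simp [dotProduct, Finset.mul_sum, mul_add, qEnd_qEnd, mul_left_comm, mul_assoc])
  have hP : ∀ x y, P x y = dotProduct (fun i => qEnd hF (x.1.1 i)) y.1.2 +
      qEnd hF (dotProduct (fun i => qEnd hF (y.1.1 i)) x.1.2) + hermB hF n₂ x.2 y.2 := fun x y => rfl
  have hPS : ∀ x y, qEnd hF (P x y) = P y x := fun x y => by
    rw [hP, hP, map_add, map_add, qEnd_qEnd, hermB_swap hF]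
    ring
  have hPN : ∀ x, (∀ y, P x y = 0) → x = 0 := fun x hx => by
    have h1 : x.1.1 = 0 := funext fun i => by
      have h := hx ((0, Pi.single i 1), 0)
      simpa [hP, dotProduct, Pi.single_apply] using h
    have h2 : x.1.2 = 0 := funext fun i => by
      have h := hx ((Pi.single i 1, 0), 0)
      simpa [hP, dotProduct, Pi.single_apply, apply_ite (qEnd hF)] using h
    have h3 : x.2 = 0 := (Forms.hermB_polar hF n₂).sep _ fun y => by
      have h := hx ((0, 0), y)
      simpa [hP] using h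
    exact Prod.ext (Prod.ext h1 h2) h3
  have hPf : ∀ x y, P (f' x) (f' y) = P x y := fun x y => by
    rw [hP, hP]
    show dotProduct (fun i => qEnd hF (f₀ x.1.1 i)) (g₁ y.1.2) +
        qEnd hF (dotProduct (fun i => qEnd hF (f₀ y.1.1 i)) (g₁ x.1.2)) + hermB hF n₂ (f₂ x.2) (f₂ y.2) = _
    rw [hcomm, hcomm, hermB_apply, hm₂, ← hermB_apply hF]
  have hf'k : ∀ k, f' ^ k = ((f₀ ^ k).prodMap (g₁ ^ k)).prodMap (f₂ ^ k) := fun k => by
    induction k with
    | zero => exact LinearMap.ext fun x => rfl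
    | succ k ih =>
      rw [pow_succ, ih, pow_succ f₀, pow_succ g₁, pow_succ f₂]
      exact LinearMap.ext fun x => rfl
  have hg₁r : g₁ ^ r = 1 := by rw [hg₁, ← map_pow, hM₀r, map_one]
  have hf'r : f' ^ r = 1 := by
    rw [hf'k, hf₀, hg₁r, hp₂]
    exact LinearMap.ext fun x => rfl
  obtain ⟨E, hE⟩ := Forms.exists_herm_coords hF hPS hPN
  have hdim' : finrank F (((Fin N → F) × (Fin N → F)) × (Fin n₂ → F)) = n := by
    rw [Module.finrank_prod, Module.finrank_prod, Module.finrank_fin_fun, Module.finrank_fin_fun, hN, hn₂, ← hdim]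
    ring
  revert E
  rw [hdim']
  intro E hE
  refine ⟨E.conj f', fun u v => ?_, ?_, fun c => ?_, fun w hw => ?_⟩
  · obtain ⟨x, rfl⟩ := E.surjective u
    obtain ⟨y, rfl⟩ := E.surjective v
    rw [LinearEquiv.conj_apply_apply, LinearEquiv.conj_apply_apply, LinearEquiv.symm_apply_apply,
      LinearEquiv.symm_apply_apply, hermB_apply, hermB_apply, ← hE, ← hE, hPf]
  · show (E.conjRingEquiv f') ^ r = 1
    rw [← map_pow, hf'r, map_one]
  · rw [RootField.orbMult_conj, hK.orbMult_prodMap, hK.orbMult_prodMap, Pi.add_apply, Pi.add_apply, ha₂, hf₀a,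
      hg₁, hM₀, orbMult_twist hF hK A₀ hA₀r, hf₀A, hf₀a]
  · have hfix := SympIsotropic.finrank_fix hK hf₀
    rw [hf₀a, Module.finrank_fin_fun, ← hN] at hfix
    obtain ⟨-, S, -, hS, -, -, hSd⟩ := exists_nested hK.unit hf₀ (a := 0) (b := w) (le_refl 0) (le_refl w)
      (Nat.zero_le _) (by
        rw [Module.finrank_fin_fun]
        have := Nat.mul_le_mul_right b₀ hw
        have := mul_comm b₀ (∑ c, a c)
        omega)
    let L : (Fin N → F) →ₗ[F] (Fin n → F) :=
      E.toLinearMap.comp ((LinearMap.inl F _ _).comp (LinearMap.inl F (Fin N → F) (Fin N → F)))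
    have hfL : ∀ s, E.conj f' (L s) = L (f₀ s) := fun s => by
      show E.conj f' (E ((s, 0), 0)) = E ((f₀ s, 0), 0)
      rw [LinearEquiv.conj_apply_apply, LinearEquiv.symm_apply_apply]
      congr 1
      simp [f']
    refine ⟨S.map L, ?_, ?_, ?_, ?_⟩
    · rintro _ ⟨s, hs, rfl⟩
      exact ⟨f₀ s, hS s hs, (hfL s).symm⟩
    · rintro _ ⟨s, -, rfl⟩ _ ⟨s', -, rfl⟩
      show hermB hF n (E ((s, 0), 0)) (E ((s', 0), 0)) = 0
      rw [hermB_apply, ← hE, hP]
      simp
    · rw [← (Submodule.equivMapOfInjective L (fun a c hac => congrArg (fun x => x.1.1) (E.injective hac)) S).finrank_eq,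
        hSd, zero_add]
    · rintro _ ⟨s, -, rfl⟩
      have hbot : LinearMap.ker (f₀ - 1) = ⊥ := Submodule.finrank_eq_zero.1 (by omega)
      obtain ⟨t, rfl⟩ := LinearMap.injective_iff_surjective.1 (LinearMap.ker_eq_bot.1 hbot) s
      exact ⟨L t, by rw [LinearMap.sub_apply, Module.End.one_apply, hfL, ← map_sub]; rfl⟩

/-- Totally isotropic invariant subspaces of an element of order `r`. -/
theorem fixes_of_criterion (hr2 : r ≠ 2) {n m : ℕ} (hm : 2 * m ≤ n)
    (hk : 2 * (m % b₀) ≤ n % (if twistOrb F q r = 1 then b₀ else 2 * b₀))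
    (ht : twistOrb F q r ≠ 1 ∨ (r - 1) / b₀ + 2 * (m / b₀) ≤ n / b₀)
    (f : End F (Fin n → F)) (hf : ∀ u v, hermB hF n (f u) (f v) = hermB hF n u v) (hpow : f ^ r = 1) :
    ∃ W : Submodule F (Fin n → F), Inv f W ∧ Iso (hermB hF n) W ∧ finrank F W = m := by
  classical
  set a : Orb F r → ℕ := orbMult ζ f with ha
  have hfm : ∀ u v, Cfsg.hermForm n F q (f u) (f v) = Cfsg.hermForm n F q u v := fun u v => by
    rw [← hermB_apply hF, ← hermB_apply hF, hf]
  have hfix := SympIsotropic.finrank_fix hK hpow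
  rw [← ha, Module.finrank_fin_fun] at hfix
  obtain ⟨bb, e, he, hab, hsum, hesum⟩ : ∃ bb e : Orb F r → ℕ, (e = 0 ∨ twistOrb F q r = 1) ∧
      (∀ c, bb c + bb (c * twistOrb F q r) + e c = a c) ∧ 2 * ∑ c, bb c + ∑ c, e c = ∑ c, a c ∧
      (∑ c, e c = 0 ∨ (twistOrb F q r = 1 ∧ ∑ c, e c ≤ (r - 1) / b₀)) := by
    by_cases htw : twistOrb F q r = 1
    · refine ⟨fun c => a c / 2, fun c => a c % 2, Or.inr htw, fun c => ?_, ?_, Or.inr ⟨htw, ?_⟩⟩
      · rw [htw, mul_one]
        show a c / 2 + a c / 2 + a c % 2 = a c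
        omega
      · rw [Finset.mul_sum, ← Finset.sum_add_distrib]
        exact Finset.sum_congr rfl fun c _ => by show 2 * (a c / 2) + a c % 2 = a c; omega
      · calc ∑ c, a c % 2 ≤ ∑ _c : Orb F r, 1 := Finset.sum_le_sum fun c _ => by omega
          _ = _ := by rw [Finset.sum_const, smul_eq_mul, mul_one, Finset.card_univ,
              hK.card_orb (Nat.div_mul_cancel (ZMod.orderOf_dvd_card_sub_one hK.card_ne_zero))]
    · obtain ⟨bb, hb, hbs⟩ := Semisimple.exists_half _ (hK.twist_mul_self hF) htw a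
        fun c => hK.orbMult_herm_symm hF f hpow hfm c
      exact ⟨bb, 0, Or.inl rfl, fun c => by simpa using hb c, by simpa using hbs, Or.inl (by simp)⟩
  set h := finrank F (LinearMap.ker (f - 1)) with hh
  rw [← hsum] at hfix
  obtain ⟨f₀, hf₀, hp₀, ha₀, hW⟩ := exists_model hF hK hr2 (n := n) (h := h) bb e he hfix
  have hc₀ : f₀.charpoly = f.charpoly := hK.charpoly_eq_of_orbMult f₀ f hp₀ hpow rfl
    (funext fun c => by rw [ha₀, hab])
  have hHerm : Semisimple.IsHerm (qEnd hF) (1 : F) (hermB hF n) :=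
    ⟨fun x y => by rw [one_mul, hermB_swap hF], qEnd_qEnd hF, (Forms.hermB_polar hF n).sep⟩
  obtain ⟨T, hT, hTf⟩ := Semisimple.exists_isometric_conj (σ := qEnd hF) (ε := (1 : F)) (N := r) _ _ _
    (hermB hF n) (hermB hF n) f₀ f rfl hHerm hHerm ⟨hf₀, hp₀, hK.unit⟩ ⟨hf, hpow, hK.unit⟩
    (fun h => absurd h (Forms.qEnd_ne_id hF)) (fun h => absurd h (Forms.qEnd_ne_id hF)) hc₀
  -- the dimensions
  obtain ⟨w, hw, hw1, hw2⟩ : ∃ w ≤ ∑ c, bb c, w * b₀ ≤ m ∧ 2 * (m - w * b₀) ≤ h := by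
    have hmd := Nat.mod_add_div m b₀
    have hnd := Nat.mod_add_div n b₀
    refine ⟨min (∑ c, bb c) (m / b₀), Nat.min_le_left _ _,
      (Nat.mul_le_mul_right _ (Nat.min_le_right _ _)).trans (Nat.div_mul_le_self m _), ?_⟩
    rcases le_total (∑ c, bb c) (m / b₀) with hle | hle
    · rw [min_eq_left hle, mul_comm _ b₀]
      rcases hesum with h0 | ⟨htw, h0⟩
      · rw [h0, add_zero, mul_left_comm] at hfix
        omega
      · have ht' := Nat.mul_le_mul_left b₀ (ht.resolve_left (not_not.2 htw))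
        have h0' := Nat.mul_le_mul_left b₀ h0
        rw [mul_add, mul_left_comm] at ht' hfix
        rw [if_pos htw] at hk
        omega
    · rw [min_eq_right hle]
      have := mul_comm b₀ (m / b₀)
      have : n % (if twistOrb F q r = 1 then b₀ else 2 * b₀) ≤ h := by
        split
        · rw [← hfix, Nat.add_mul_mod_self_left]; exact Nat.mod_le _ _
        · rename_i htw
          rw [he.resolve_right htw] at hfix
          rw [← hfix]
          simp only [Pi.zero_apply, Finset.sum_const_zero, add_zero]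
          rw [show b₀ * (2 * ∑ c, bb c) = 2 * b₀ * ∑ c, bb c by ring, Nat.add_mul_mod_self_left]
          exact Nat.mod_le _ _
      omega
  obtain ⟨W₀, hWi, hWiso, hWd, hWr⟩ := hW w hw
  have hS := hermB_swap (n := n) hF
  obtain ⟨hCn, -, -, -, -, horth, -⟩ := Unitary.split_fixed hS hf (nd_top hF) hK.unit (hK.q_ne_zero hF) hpow
    (S := ⊤) (fun _ _ => trivial) (nd_top hF)
  set C := LinearMap.ker (f - 1) ⊓ (⊤ : Submodule F (Fin n → F)) with hC
  obtain ⟨W₁, h1, i1, iso1, d1⟩ := exists_iso_scalar hS hf (nd_top hF) hCn (l := 1)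
    (fun v hv => by rw [one_smul]; exact sub_eq_zero.1 (show (f - 1) v = 0 from hv.1))
    (j := m - w * b₀) (by rw [hC, inf_top_eq, ← hh]; exact hw2)
  have hW₂ : W₀.map T.toLinearMap ≤ (⊤ : Submodule F (Fin n → F)).map (f - 1) := by
    rintro _ ⟨v, hv, rfl⟩
    obtain ⟨u, rfl⟩ := hWr hv
    exact ⟨T u, trivial, by simp [hT]⟩
  refine ⟨W₁ ⊔ W₀.map T.toLinearMap, i1.sup ?_, ?_, ?_⟩
  · rintro _ ⟨v, hv, rfl⟩
    exact ⟨f₀ v, hWi v hv, hT v⟩
  · intro u hu v hv
    obtain ⟨x, hx, _, ⟨y, hy, rfl⟩, rfl⟩ := Submodule.mem_sup.1 hu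
    obtain ⟨x', hx', _, ⟨y', hy', rfl⟩, rfl⟩ := Submodule.mem_sup.1 hv
    have hyy : hermB hF n (T y) (T y') = 0 := (hTf y y').trans (hWiso y hy y' hy')
    have hxy : ∀ a ∈ W₁, ∀ c ∈ W₀, hermB hF n a (T c) = 0 := fun a ha c hc =>
      horth (hW₂ ⟨c, hc, rfl⟩) a (h1 ha)
    simp only [map_add, LinearMap.add_apply, LinearEquiv.coe_coe, iso1 x hx x' hx', hyy, hxy x hx y' hy',
      Unitary.swap0 hS (hxy x' hx' y hy), add_zero]
  · have hdis : W₁ ⊓ W₀.map T.toLinearMap = ⊥ := le_bot_iff.1 fun x hx => (Submodule.mem_bot F).2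
      ((Submodule.mem_bot F).1 ((Unitary.inf_perp_eq_bot hS hCn) ▸ ⟨h1 hx.1, horth (hW₂ hx.2)⟩))
    have h := Submodule.finrank_sup_add_finrank_inf_eq W₁ (W₀.map T.toLinearMap)
    rw [hdis, finrank_bot, d1, LinearEquiv.finrank_map_eq, hWd] at h
    omega

end Cfsg.Agent.Elusive.UnitaryIso
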