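import Cfsg.Agent.Lib.Elusive.Decompositions
import Cfsg.Agent.Lib.Semisimple.Isometry
import Cfsg.Agent.Lib.Forms.Herm
import Cfsg.Agent.Lib.GL.UnitaryOrders

/-!
Non-degenerate invariant subspaces of unitary isometries whose `r`-th power is scalar.
-/

set_option autoImplicit false
set_option linter.unusedSectionVars false
set_option linter.style.haveILetI false

namespace Cfsg.Agent.Elusive.Unitary

open Polynomial Module
open Forms (qEnd qEnd_apply qEnd_qEnd qEnd_ne_id)

variable {F : Type*} [Field F] [Fintype F] {q : ℕ} {hF : Fintype.card F = q ^ 2}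
  {V : Type*} [AddCommGroup V] [Module F V] [FiniteDimensional F V]
  {B : V →ₛₗ[qEnd hF] V →ₗ[F] F}

/-- The form is non-degenerate on the subspace. -/
def Nd (B : V →ₛₗ[qEnd hF] V →ₗ[F] F) (S : Submodule F V) : Prop := ∀ u ∈ S, u ≠ 0 → ∃ v ∈ S, B u v ≠ 0

/-- The orthogonal of a subspace. -/
def perp (B : V →ₛₗ[qEnd hF] V →ₗ[F] F) (P : Submodule F V) : Submodule F V where
  carrier := {x | ∀ n ∈ P, B n x = 0}
  add_mem' ha hb n hn := by rw [map_add, ha n hn, hb n hn, add_zero]
  zero_mem' n _ := map_zero _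
  smul_mem' c x hx n hn := by rw [map_smul, hx n hn, smul_zero]

theorem mem_perp {P : Submodule F V} {x : V} : x ∈ perp B P ↔ ∀ n ∈ P, B n x = 0 := Iff.rfl

theorem nd_bot : Nd B ⊥ := fun _ hu h => absurd ((Submodule.mem_bot F).1 hu) h

theorem inv_bot {f : End F V} : Inv f ⊥ := fun v hv => by rw [Submodule.mem_bot] at hv; simp [hv]

variable (hS : ∀ x y, qEnd hF (B x y) = B y x)
include hS

theorem swap0 {x y : V} (h : B x y = 0) : B y x = 0 := by rw [← hS, h, map_zero]

theorem inf_perp_eq_bot {P : Submodule F V} (hP : Nd B P) : P ⊓ perp B P = ⊥ :=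
  (Submodule.eq_bot_iff _).2 fun v hv => by
    by_contra h0
    obtain ⟨w, hw, hvw⟩ := hP v hv.1 h0
    exact hvw (swap0 hS (hv.2 w hw))

theorem finrank_sup_perp {P Q : Submodule F V} (hP : Nd B P) (hQ : Q ≤ perp B P) :
    finrank F ↥(P ⊔ Q) = finrank F P + finrank F Q := by
  have h := Submodule.finrank_sup_add_finrank_inf_eq P Q
  rw [le_bot_iff.1 ((inf_le_inf_left P hQ).trans (inf_perp_eq_bot hS hP).le), finrank_bot] at h
  omega

theorem nd_sup {P Q : Submodule F V} (hP : Nd B P) (hQ : Nd B Q) (horth : Q ≤ perp B P) : Nd B (P ⊔ Q) := by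
  intro u hu hu0
  obtain ⟨p, hp, x, hx, rfl⟩ := Submodule.mem_sup.1 hu
  by_cases hp0 : p = 0
  · subst hp0
    rw [zero_add] at hu0 ⊢
    obtain ⟨v, hv, h⟩ := hQ x hx hu0
    exact ⟨v, Submodule.mem_sup_right hv, h⟩
  · obtain ⟨v, hv, h⟩ := hP p hp hp0
    refine ⟨v, Submodule.mem_sup_left hv, ?_⟩
    rwa [map_add, LinearMap.add_apply, swap0 hS (horth hx v hv), add_zero]

theorem nd_split {S P : Submodule F V} (hPS : P ≤ S) (hP : Nd B P) (hSn : Nd B S) :
    Nd B (S ⊓ perp B P) ∧ P ⊔ S ⊓ perp B P = S ∧ P ⊓ (S ⊓ perp B P) = ⊥ := by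
  let b := Module.finBasis F P
  let L : V →ₗ[F] (Fin (finrank F P) → F) := LinearMap.pi fun i => B (b i : V)
  have hker : ∀ x, L x = 0 → x ∈ perp B P := fun x hx n hn => by
    have e := congrArg Subtype.val (b.sum_repr ⟨n, hn⟩)
    rw [Submodule.coe_sum] at e
    rw [show n = _ from e.symm, map_sum, LinearMap.sum_apply]
    refine Finset.sum_eq_zero fun i _ => ?_
    rw [Submodule.coe_smul, map_smulₛₗ, LinearMap.smul_apply, show B (b i : V) x = 0 from congrFun hx i, smul_zero]
  have hinj : Function.Injective (L.comp P.subtype) := (injective_iff_map_eq_zero _).2 fun u hu => Subtype.ext (by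
    have h : (u : V) ∈ P ⊓ perp B P := ⟨u.2, hker _ hu⟩
    rwa [inf_perp_eq_bot hS hP, Submodule.mem_bot] at h)
  have hsurj := (LinearMap.injective_iff_surjective_of_finrank_eq_finrank (Module.finrank_fin_fun F).symm).1 hinj
  have hsup : P ⊔ S ⊓ perp B P = S := by
    refine le_antisymm (sup_le hPS inf_le_left) fun s hs => ?_
    obtain ⟨p, hp⟩ := hsurj (L s)
    rw [show s = (p : V) + (s - p) by abel]
    refine Submodule.add_mem_sup p.2 ⟨S.sub_mem hs (hPS p.2), hker _ ?_⟩
    rw [map_sub, sub_eq_zero]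
    exact hp.symm
  refine ⟨fun u hu hu0 => ?_, hsup, ?_⟩
  · obtain ⟨v, hv, huv⟩ := hSn u hu.1 hu0
    rw [← hsup] at hv
    obtain ⟨p, hp, x, hx, rfl⟩ := Submodule.mem_sup.1 hv
    refine ⟨x, hx, fun h => huv ?_⟩
    rw [map_add, h, swap0 hS (hu.2 p hp), add_zero]
  · exact le_bot_iff.1 ((inf_le_inf_left P inf_le_right).trans (inf_perp_eq_bot hS hP).le)

theorem nd_split_finrank {S P : Submodule F V} (hPS : P ≤ S) (hP : Nd B P) (hSn : Nd B S) :
    finrank F P + finrank F ↥(S ⊓ perp B P) = finrank F S := by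
  conv_rhs => rw [← (nd_split hS hPS hP hSn).2.1]
  exact (finrank_sup_perp hS hP inf_le_right).symm

theorem exists_aniso {T : Submodule F V} (hT : Nd B T) (hne : T ≠ ⊥) : ∃ v ∈ T, B v v ≠ 0 := by
  haveI : Nontrivial T := Submodule.nontrivial_iff_ne_bot.2 hne
  obtain ⟨v, hv⟩ := Forms.exists_self_ne_zero (qEnd_ne_id hF) (B := Forms.restrictForm B T) (fun x y => hS x y)
    fun x hx => by
      by_contra h0
      obtain ⟨w, hw, hxw⟩ := hT x x.2 fun h => h0 (Subtype.ext h)
      exact hxw (hx ⟨w, hw⟩)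
  exact ⟨v, v.2, hv⟩

theorem nd_span_singleton {v : V} (hv : B v v ≠ 0) : Nd B (Submodule.span F {v}) := by
  intro u hu hu0
  obtain ⟨s, rfl⟩ := Submodule.mem_span_singleton.1 hu
  refine ⟨v, Submodule.mem_span_singleton_self v, ?_⟩
  rw [map_smulₛₗ, LinearMap.smul_apply, smul_eq_mul]
  exact mul_ne_zero ((_root_.map_ne_zero _).2 fun h => hu0 (by rw [h, zero_smul])) hv

theorem exists_coords {S : Submodule F V} (hSn : Nd B S) :
    ∃ e : S ≃ₗ[F] (Fin (finrank F S) → F), ∀ x y : S,
      B (x : V) (y : V) = Cfsg.hermForm (finrank F S) F q (e y) (e x) :=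
  Forms.exists_herm_coords hF (B := Forms.restrictForm B S) (fun x y => hS x y) fun x hx => by
    by_contra h0
    obtain ⟨w, hw, hxw⟩ := hSn x x.2 fun h => h0 (Subtype.ext h)
    exact hxw (hx ⟨w, hw⟩)

variable {f : End F V} (hf : ∀ u v, B (f u) (f v) = B u v)
include hf

theorem injective_of_isometry (hsep : Nd B (⊤ : Submodule F V)) : Function.Injective f :=
  (injective_iff_map_eq_zero f).2 fun v hv => by
    by_contra h0
    obtain ⟨w, -, hvw⟩ := hsep v trivial h0
    exact hvw (by rw [← hf, hv, map_zero, LinearMap.zero_apply])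

theorem inv_perp (hsep : Nd B (⊤ : Submodule F V)) {P : Submodule F V} (hP : Inv f P) : Inv f (perp B P) := by
  intro x hx n hn
  have hle : P.map f ≤ P := inv_iff_map.1 hP
  have heq : P.map f = P := Submodule.eq_of_le_of_finrank_eq hle
    (Submodule.equivMapOfInjective f (injective_of_isometry hS hf hsep) P).finrank_eq.symm
  rw [← heq] at hn
  obtain ⟨m, hm, rfl⟩ := hn
  rw [hf]
  exact hx m hm

/-- The determinant of an isometry on a non-degenerate invariant subspace, as a unitary matrix. -/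
theorem exists_GU {U : Submodule F V} (hU : Inv f U) (hUn : Nd B U) :
    ∃ (g : Cfsg.GU (finrank F U) F q) (e : U ≃ₗ[F] (Fin (finrank F U) → F)),
      Matrix.toLinAlgEquiv' ((g : GL (Fin (finrank F U)) F) : Matrix (Fin (finrank F U)) (Fin (finrank F U)) F) =
        e.conjAlgEquiv F (f.restrict hU) := by
  obtain ⟨e, he⟩ := exists_coords hS hUn
  set M := Matrix.toLinAlgEquiv'.symm (e.conjAlgEquiv F (f.restrict hU)) with hM
  have happ : ∀ w, M.mulVec w = e (f.restrict hU (e.symm w)) := fun w => by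
    rw [← Matrix.toLinAlgEquiv'_apply, hM, AlgEquiv.apply_symm_apply]
    rfl
  have hinj : Function.Injective M.mulVec := fun a b h => by
    rw [happ, happ] at h
    have h' := congrArg Subtype.val (e.injective h)
    refine e.symm.injective (Subtype.ext ?_)
    by_contra hne
    obtain ⟨w, hw, hvw⟩ := hUn _ (U.sub_mem (e.symm a).2 (e.symm b).2) (sub_ne_zero.2 hne)
    refine hvw ?_
    rw [← hf, map_sub, show f (e.symm a : V) = f (e.symm b : V) from h', sub_self, map_zero, LinearMap.zero_apply]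
  have hu : IsUnit M := Matrix.mulVec_injective_iff_isUnit.1 hinj
  refine ⟨⟨hu.unit, fun u v => ?_⟩, e, ?_⟩
  · show Cfsg.hermForm (finrank F U) F q (M.mulVec u) (M.mulVec v) = _
    rw [happ, happ, ← he, LinearMap.coe_restrict_apply, LinearMap.coe_restrict_apply, hf, he,
      LinearEquiv.apply_symm_apply, LinearEquiv.apply_symm_apply]
  · show Matrix.toLinAlgEquiv' M = _
    rw [hM, AlgEquiv.apply_symm_apply]

theorem det_pow {U : Submodule F V} (hU : Inv f U) (hUn : Nd B U) :
    LinearMap.det (f.restrict hU) ^ (q + 1) = 1 := by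
  obtain ⟨g, e, hg⟩ := exists_GU hS hf hU hUn
  have h := Forms.det_pow_of_mem_GU hF g.2
  have hg' : Matrix.toLin' ((g : GL (Fin (finrank F U)) F) : Matrix (Fin (finrank F U)) (Fin (finrank F U)) F) =
      e.conjAlgEquiv F (f.restrict hU) := hg
  rw [← LinearMap.det_toLin', hg', LinearEquiv.conjAlgEquiv_apply, LinearMap.det_conj] at h
  exact h

omit hf in
theorem restrict_pow_apply {U : Submodule F V} (hU : Inv f U) {r : ℕ} {z : F}
    (hz : f ^ r = z • (1 : End F V)) : (f.restrict hU) ^ r = z • (1 : End F U) :=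
  LinearMap.ext fun x => Subtype.ext (by
    rw [Module.End.pow_restrict, LinearMap.coe_restrict_apply, hz]
    rfl)

/-- If a non-degenerate invariant subspace has dimension prime to `r`, the scalar `f ^ r` is an `r`-th power. -/
theorem exists_root_of_dim {r : ℕ} [Fact r.Prime] {z : F} (hz : f ^ r = z • (1 : End F V)) (hzq : z ^ (q + 1) = 1)
    {U : Submodule F V} (hU : Inv f U) (hUn : Nd B U) (hr : ¬ r ∣ finrank F U) :
    ∃ w : F, w ^ (q + 1) = 1 ∧ w ^ r = z := by
  set k := finrank F U with hk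
  set δ := LinearMap.det (f.restrict hU)
  have hδq : δ ^ (q + 1) = 1 := det_pow hS hf hU hUn
  have hδr : δ ^ r = z ^ k := by
    rw [← map_pow, restrict_pow_apply hS hU hz, LinearMap.det_smul, map_one, mul_one]
  set a := ((k : ZMod r)⁻¹).val
  have hka : ((k * a : ℕ) : ZMod r) = 1 := by
    rw [Nat.cast_mul, ZMod.natCast_val, ZMod.cast_id, mul_inv_cancel₀]
    rwa [Ne, ZMod.natCast_eq_zero_iff]
  have hmod : (k * a) % r = 1 := by
    haveI : Fact (1 < r) := ⟨(Fact.out : r.Prime).one_lt⟩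
    rw [← ZMod.val_natCast, hka, ZMod.val_one]
  set t := (k * a) / r
  have ht : k * a = r * t + 1 := (Nat.div_add_mod (k * a) r).symm.trans (by rw [hmod])
  refine ⟨δ ^ a * (z ^ q) ^ t, ?_, ?_⟩
  · rw [mul_pow, pow_right_comm, hδq, one_pow, one_mul, pow_right_comm (z ^ q), pow_right_comm z, hzq, one_pow,
      one_pow]
  · rw [mul_pow, pow_right_comm δ, hδr, ← pow_mul z k, ht]
    calc z ^ (r * t + 1) * ((z ^ q) ^ t) ^ r = z * (z ^ (q + 1)) ^ (r * t) := by ring
      _ = z := by rw [hzq, one_pow, mul_one]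

/-- Non-degenerate invariant subspaces built from blocks. -/
theorem exists_nd_sub (hsep : Nd B (⊤ : Submodule F V)) {S : Submodule F V} (hSi : Inv f S) (hSn : Nd B S) {c : ℕ}
    (hblock : ∀ T ≤ S, Inv f T → Nd B T → T ≠ ⊥ → ∃ U ≤ T, Inv f U ∧ Nd B U ∧ finrank F U = c) :
    ∀ j, j * c ≤ finrank F S → ∃ P ≤ S, Inv f P ∧ Nd B P ∧ finrank F P = j * c := by
  intro j
  induction j with
  | zero => exact fun _ => ⟨⊥, bot_le, inv_bot, nd_bot, by simp⟩
  | succ j ih =>
    intro hj
    rw [Nat.succ_mul] at hj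
    obtain ⟨P, hPS, hP, hPn, hPd⟩ := ih (by omega)
    rcases Nat.eq_zero_or_pos c with rfl | hc
    · exact ⟨P, hPS, hP, hPn, by simpa using hPd⟩
    obtain ⟨hTn, -, -⟩ := nd_split hS hPS hPn hSn
    have hd := nd_split_finrank hS hPS hPn hSn
    obtain ⟨U, hUT, hU, hUn, hUd⟩ := hblock _ inf_le_left (hSi.inf (inv_perp hS hf hsep hP)) hTn (fun h => by
      rw [h, finrank_bot] at hd; omega)
    refine ⟨P ⊔ U, sup_le hPS (hUT.trans inf_le_left), hP.sup hU, nd_sup hS hPn hUn (hUT.trans inf_le_right), ?_⟩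
    rw [finrank_sup_perp hS hPn (hUT.trans inf_le_right), hPd, hUd, Nat.succ_mul]

/-- Where `f` is scalar every dimension occurs. -/
theorem exists_scalar_sub (hsep : Nd B (⊤ : Submodule F V)) {S : Submodule F V} (hSn : Nd B S) {l : F}
    (hl : ∀ v ∈ S, f v = l • v) {j : ℕ} (hj : j ≤ finrank F S) :
    ∃ P ≤ S, Inv f P ∧ Nd B P ∧ finrank F P = j := by
  obtain ⟨P, h1, h2, h3, h4⟩ := exists_nd_sub hS hf hsep (S := S) (fun v hv => by rw [hl v hv]; exact S.smul_mem l hv)
    hSn (c := 1) (fun T hT _ hTn hne => by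
      obtain ⟨v, hv, hvv⟩ := exists_aniso hS hTn hne
      refine ⟨Submodule.span F {v}, (Submodule.span_singleton_le_iff_mem _ _).2 hv, fun u hu => ?_,
        nd_span_singleton hS hvv, finrank_span_singleton fun h => hvv (by simp [h])⟩
      rw [hl u (hT ((Submodule.span_singleton_le_iff_mem _ _).2 hv hu))]
      exact Submodule.smul_mem _ _ hu) j (by omega)
  exact ⟨P, h1, h2, h3, h4.trans (mul_one j)⟩

omit hf in
/-- The order of `GU` sees the order of `-q`. -/
theorem order_le_of_dvd {r : ℕ} [Fact r.Prime] (hrq : (q : ZMod r) ≠ 0) {k : ℕ}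
    (h : r ∣ Nat.card (Cfsg.GU k F q)) :
    ∃ j, j < k ∧ orderOf (-(q : ZMod r)) ∣ j + 1 := by
  have hr := (Fact.out : r.Prime)
  rw [Forms.card_GU hF] at h
  rcases hr.dvd_mul.1 h with h1 | h1
  · exact absurd ((ZMod.natCast_eq_zero_iff _ _).2 (hr.dvd_of_dvd_pow h1)) hrq
  obtain ⟨j, hj, hd⟩ := hr.prime.dvd_finsetProd_iff _ |>.1 h1
  refine ⟨j, Finset.mem_range.1 hj, orderOf_dvd_of_pow_eq_one ?_⟩
  have h0 := (ZMod.natCast_eq_zero_iff _ _).2 hd
  have hq1 : 1 ≤ q ^ (j + 1) := Nat.one_le_pow _ _ (by have := Forms.one_lt_q hF; omega)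
  rcases Nat.even_or_odd j with he | he
  · rw [if_pos he, Nat.cast_add, Nat.cast_pow, Nat.cast_one] at h0
    rw [he.add_one.neg_pow, eq_neg_of_add_eq_zero_left h0, neg_neg]
  · rw [if_neg (Nat.not_even_iff_odd.2 he), Nat.cast_sub hq1, Nat.cast_pow, Nat.cast_one, sub_eq_zero] at h0
    rw [he.add_one.neg_pow, h0]

variable {r : ℕ} [Fact r.Prime]

/-- An isometry of order `r` of a non-degenerate subspace bounds its dimension below. -/
theorem order_le_finrank (hrq : (q : ZMod r) ≠ 0) (hpow : f ^ r = 1) {U : Submodule F V} (hU : Inv f U)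
    (hUn : Nd B U) (hne : ∃ v ∈ U, f v ≠ v) : orderOf (-(q : ZMod r)) ≤ finrank F U := by
  obtain ⟨g, e, hg⟩ := exists_GU hS hf hU hUn
  have hgr : g ^ r = 1 := by
    refine Subtype.ext (Units.ext (Matrix.toLinAlgEquiv'.injective ?_))
    rw [SubgroupClass.coe_pow, Units.val_pow_eq_pow_val, map_pow, hg, ← map_pow,
      restrict_pow_apply hS hU (z := 1) (by rw [hpow, one_smul]), one_smul, map_one, OneMemClass.coe_one,
      Units.val_one, map_one]
  have hg1 : g ≠ 1 := by
    rintro rfl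
    obtain ⟨v, hv, hfv⟩ := hne
    rw [OneMemClass.coe_one, Units.val_one, map_one, ← map_one (e.conjAlgEquiv F)] at hg
    exact hfv (congrArg (fun t : End F U => (t ⟨v, hv⟩ : V)) ((e.conjAlgEquiv F).injective hg)).symm
  obtain ⟨j, hj, hd⟩ := order_le_of_dvd hS hrq
    (orderOf_eq_prime hgr hg1 ▸ orderOf_dvd_natCard g)
  exact (Nat.le_of_dvd (by omega) hd).trans hj

variable (hsep : Nd B (⊤ : Submodule F V))
include hsep

/-- The cyclic subspace of an anisotropic vector contains a non-degenerate invariant subspace. -/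
theorem exists_small_block (hr : (r : F) ≠ 0) {z : F} (hz0 : z ≠ 0) (hz : f ^ r = z • (1 : End F V))
    {T : Submodule F V} (hT : Inv f T) (hTn : Nd B T) (hne : T ≠ ⊥) :
    ∃ v ∈ T, ∃ U ≤ Submodule.span F (Set.range fun i : Fin r => (f ^ (i : ℕ)) v),
      U ≤ T ∧ Inv f U ∧ Nd B U ∧ 0 < finrank F U := by
  have hr' := (Fact.out : r.Prime)
  obtain ⟨v, hv, hvv⟩ := exists_aniso hS hTn hne
  set U₀ := Submodule.span F (Set.range fun i : Fin r => (f ^ (i : ℕ)) v) with hU₀
  have hpowT : ∀ i : ℕ, (f ^ i) v ∈ T := fun i => by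
    induction i with
    | zero => simpa using hv
    | succ i ih => rw [pow_succ', Module.End.mul_apply]; exact hT _ ih
  have hU₀T : U₀ ≤ T := Submodule.span_le.2 (by rintro _ ⟨i, rfl⟩; exact hpowT i)
  have hvU : v ∈ U₀ := Submodule.subset_span ⟨⟨0, hr'.pos⟩, by simp⟩
  have hU₀i : Inv f U₀ := by
    refine inv_iff_map.2 ?_
    rw [hU₀, Submodule.map_span_le]
    rintro _ ⟨i, rfl⟩
    show f ((f ^ (i : ℕ)) v) ∈ _
    rw [← Module.End.mul_apply, ← pow_succ']
    by_cases hi : (i : ℕ) + 1 < r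
    · exact Submodule.subset_span ⟨⟨_, hi⟩, rfl⟩
    · rw [show (i : ℕ) + 1 = r by have := i.isLt; omega, hz]
      exact Submodule.smul_mem _ z hvU
  have hss : f.IsSemisimple :=
    Module.End.isSemisimple_of_squarefree_aeval_eq_zero (separable_X_pow_sub_C z hr hz0).squarefree
      (by simp [hz, Algebra.algebraMap_eq_smul_one])
  set R := U₀ ⊓ perp B U₀ with hR
  obtain ⟨Q, hQ, hRQ⟩ := exists_compl hss (hU₀i.inf (inv_perp hS hf hsep hU₀i))
  have hsup : R ⊔ U₀ ⊓ Q = U₀ := by
    rw [inf_comm U₀ Q, ← sup_inf_assoc_of_le Q (inf_le_left : R ≤ U₀), hRQ.sup_eq_top, top_inf_eq]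
  refine ⟨v, hv, U₀ ⊓ Q, inf_le_left, inf_le_left.trans hU₀T, hU₀i.inf hQ, fun u hu hu0 => ?_, ?_⟩
  · by_contra! hall
    refine hu0 ((Submodule.mem_bot F).1 (hRQ.inf_eq_bot ▸ ⟨⟨hu.1, fun y hy => ?_⟩, hu.2⟩))
    apply swap0 hS
    rw [← hsup] at hy
    obtain ⟨a, ha, b, hb, rfl⟩ := Submodule.mem_sup.1 hy
    rw [map_add, ha.2 u hu.1, hall b hb, add_zero]
  · refine Nat.pos_of_ne_zero fun h0 => hvv ?_
    rw [Submodule.finrank_eq_zero.1 h0, sup_bot_eq] at hsup
    rw [← hsup] at hvU
    exact hvU.2 v (hsup ▸ hvU)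

/-- A non-degenerate block of dimension `orderOf (-q)` without fixed vectors. -/
theorem exists_moved_block (hr : (r : F) ≠ 0) (hrq : (q : ZMod r) ≠ 0) (hpow : f ^ r = 1) {T : Submodule F V}
    (hT : Inv f T) (hTn : Nd B T) (hne : T ≠ ⊥)
    (hann : ∀ v ∈ T, aeval f (∑ j ∈ Finset.range r, X ^ j : F[X]) v = 0) :
    ∃ U ≤ T, Inv f U ∧ Nd B U ∧ finrank F U = orderOf (-(q : ZMod r)) := by
  classical
  have hr' := (Fact.out : r.Prime)
  set c := orderOf (-(q : ZMod r)) with hc
  set b := orderOf (Fintype.card F : ZMod r) with hb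
  have hdeg := factorDeg_geom (F := F) hr
  rw [← hb] at hdeg
  have hcard : (Fintype.card F : ZMod r) = (-(q : ZMod r)) ^ 2 := by rw [hF, Nat.cast_pow, neg_sq]
  have hcpos : 0 < c := orderOf_pos_iff.2 (Ne.isUnit (neg_ne_zero.2 hrq)).isOfFinOrder
  have hbpos : 0 < b := by
    refine orderOf_pos_iff.2 (Ne.isUnit ?_).isOfFinOrder
    rw [hcard]; exact pow_ne_zero _ (neg_ne_zero.2 hrq)
  have hbc : b ∣ c := orderOf_dvd_of_pow_eq_one (by rw [hcard, pow_right_comm, hc, pow_orderOf_eq_one, one_pow])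
  have hc2b : c ∣ 2 * b := orderOf_dvd_of_pow_eq_one (by rw [pow_mul, ← hcard, hb, pow_orderOf_eq_one])
  -- nothing in `T` is fixed
  have hnofix : ∀ U ≤ T, U ≠ ⊥ → ∃ v ∈ U, f v ≠ v := by
    intro U hU hU0
    obtain ⟨v, hv, hv0⟩ := Submodule.exists_mem_ne_zero_of_ne_bot hU0
    refine ⟨v, hv, fun hfv => hv0 ?_⟩
    have h := hann v (hU hv)
    rw [map_sum, LinearMap.sum_apply] at h
    have hk : ∀ k : ℕ, (f ^ k) v = v := fun k => by
      induction k with
      | zero => simp
      | succ k ih => rw [pow_succ', Module.End.mul_apply, ih, hfv]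
    simp only [map_pow, aeval_X, hk, Finset.sum_const, Finset.card_range, ← Nat.cast_smul_eq_nsmul F] at h
    exact (smul_eq_zero.1 h).resolve_left hr
  have hlow : ∀ U ≤ T, Inv f U → Nd B U → U ≠ ⊥ → c ≤ finrank F U := fun U h1 h2 h3 h4 =>
    order_le_finrank hS hf hrq hpow h2 h3 (hnofix U h1 h4)
  -- an invariant block is totally isotropic or non-degenerate
  have hdich : ∀ U ≤ T, Inv f U → finrank F U = b → Nd B U ∨ ∀ u ∈ U, ∀ v ∈ U, B u v = 0 := by
    intro U hUT hU hUd
    set R := U ⊓ perp B U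
    obtain ⟨m, hm⟩ := dvd_finrank hdeg (hU.inf (inv_perp hS hf hsep hU)) fun v hv => hann v (hUT hv.1)
    rcases Nat.eq_zero_or_pos m with rfl | hm0
    · refine Or.inl fun u hu hu0 => ?_
      by_contra! hall
      refine hu0 ((Submodule.mem_bot F).1 ?_)
      rw [← Submodule.finrank_eq_zero.1 (hm.trans (mul_zero _))]
      exact ⟨hu, fun n hn => swap0 hS (hall n hn)⟩
    · refine Or.inr fun u hu v hv => ?_
      have hUR : R = U := Submodule.eq_of_le_of_finrank_le inf_le_left (by
        rw [hm, hUd]; exact Nat.le_mul_of_pos_right b hm0)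
      rw [← hUR] at hv
      exact hv.2 u hu
  by_cases hnon : ∃ U ≤ T, Inv f U ∧ finrank F U = b ∧ Nd B U
  · obtain ⟨U, hUT, hU, hUd, hUn⟩ := hnon
    refine ⟨U, hUT, hU, hUn, le_antisymm ?_ (hlow U hUT hU hUn fun h => ?_)⟩
    · rw [hUd]; exact Nat.le_of_dvd hcpos hbc
    · rw [h, finrank_bot] at hUd; omega
  push Not at hnon
  have hiso : ∀ U ≤ T, Inv f U → finrank F U = b → ∀ u ∈ U, ∀ v ∈ U, B u v = 0 := fun U h1 h2 h3 =>
    (hdich U h1 h2 h3).resolve_left (hnon U h1 h2 h3)
  have hcb : c = 2 * b := by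
    obtain ⟨e, he⟩ := hbc
    have hle := Nat.le_of_dvd (by omega) hc2b
    rw [he] at hle hcpos
    rcases (show e = 1 ∨ e = 2 by
      have h1 : e ≤ 2 := Nat.le_of_mul_le_mul_left (hle.trans_eq (mul_comm 2 b)) hbpos
      have h2 : 0 < e := Nat.pos_of_mul_pos_left hcpos
      omega) with rfl | rfl
    · -- for `-q` of order `b` some block is not totally isotropic
      exfalso
      rw [mul_one] at he
      have hodd : Odd b := by
        by_contra hev
        obtain ⟨k, hk⟩ := Nat.not_odd_iff_even.1 hev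
        have h1 : (Fintype.card F : ZMod r) ^ k = 1 := by
          rw [hcard, ← pow_mul, show 2 * k = c by omega, hc, pow_orderOf_eq_one]
        have := Nat.le_of_dvd (by omega) (hb ▸ orderOf_dvd_of_pow_eq_one h1)
        omega
      have hqb : (q : ZMod r) ^ b = -1 := by
        have h1 : (-(q : ZMod r)) ^ b = 1 := by rw [← he, hc, pow_orderOf_eq_one]
        rw [hodd.neg_pow] at h1
        exact neg_eq_iff_eq_neg.1 h1
      obtain ⟨k, hk⟩ := hodd
      have hpos : 0 < finrank F T := Nat.pos_of_ne_zero fun h0 => hne (Submodule.finrank_eq_zero.1 h0)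
      obtain ⟨π, hπm, hπ, hd⟩ := Polynomial.exists_monic_irreducible_factor (f.restrict hT).charpoly (fun hu => by
        have := natDegree_eq_zero_of_isUnit hu
        rw [LinearMap.charpoly_natDegree] at this
        omega)
      obtain ⟨hπg, v, hvT, hv0, hv⟩ := factor_dvd hT hann hπ hd
      set g : End F T := f.restrict hT
      have key : ∀ (P : F[X]) (x : T), ((aeval g P x : T) : V) = aeval f P x := by
        intro P
        induction P using Polynomial.induction_on' with
        | add a a' iha ihb => intro x; simp [iha, ihb]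
        | monomial m a =>
          intro x
          simp only [aeval_monomial, Module.End.mul_apply, Module.algebraMap_end_apply, Submodule.coe_smul]
          congr 1
          rw [Module.End.pow_restrict]
          rfl
      have hH : Semisimple.IsHerm (qEnd hF) (1 : F) (Forms.restrictForm B T) :=
        ⟨fun x y => by show B y x = 1 * qEnd hF (B x y); rw [one_mul, hS], qEnd_qEnd hF, fun x hx => by
          by_contra hne'
          obtain ⟨w, hw, hxw⟩ := hTn x x.2 fun h => hne' (Subtype.ext h)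
          exact hxw (hx ⟨w, hw⟩)⟩
      have hg : Semisimple.IsSSIsom (Forms.restrictForm B T) g r :=
        ⟨fun x y => hf x y, by rw [restrict_pow_apply hS hT (z := 1) (by rw [hpow, one_smul]), one_smul], hr⟩
      haveI : Fact (Irreducible π) := ⟨hπ⟩
      haveI : Module.Finite F (AdjoinRoot π) := (AdjoinRoot.powerBasis' hπm).finite
      haveI : Finite (AdjoinRoot π) := Module.finite_of_finite F
      set α := AdjoinRoot.root π with hα
      have hαr : α ^ r = 1 := by
        have h0 : AdjoinRoot.mk π (X ^ r - 1 : F[X]) = 0 :=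
          AdjoinRoot.mk_eq_zero.2 ((geom_sum_mul (X : F[X]) r) ▸ hπg.mul_right _)
        simpa [sub_eq_zero] using h0
      have hdvd : π ∣ Semisimple.star (qEnd hF) r π := by
        rw [← AdjoinRoot.mk_eq_zero, ← AdjoinRoot.aeval_eq, Semisimple.aeval_star]
        have e1 : α ^ (r - 1) = (α ^ (Fintype.card F ^ k)) ^ q := by
          rw [← pow_mul]
          refine pow_eq_pow_of_modEq ?_ hαr
          rw [← ZMod.natCast_eq_natCast_iff, Nat.cast_sub hr'.one_le, ZMod.natCast_self, Nat.cast_one, Nat.cast_mul,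
            hF, Nat.cast_pow, Nat.cast_pow, ← pow_mul, ← pow_succ, ← hk, hqb, zero_sub]
        have hroot : aeval (α ^ (Fintype.card F ^ k)) π = 0 := by
          have h := Polynomial.aeval_algHom_apply ((FiniteField.frobeniusAlgHom F (AdjoinRoot π)) ^ k) α π
          rw [AdjoinRoot.aeval_eq π, AdjoinRoot.mk_self, map_zero, AlgHom.coe_pow,
            FiniteField.coe_frobeniusAlgHom, pow_iterate] at h
          exact h
        obtain ⟨p', n, hp', hchar, hqn⟩ := Forms.exists_prime_pow_q hF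
        haveI := Fact.mk hp'
        haveI : CharP (AdjoinRoot π) p' :=
          charP_of_injective_algebraMap (algebraMap F (AdjoinRoot π)).injective p'
        haveI : ExpChar (AdjoinRoot π) p' := ExpChar.prime hp'
        let φ : AdjoinRoot π →+* AdjoinRoot π := iterateFrobenius (AdjoinRoot π) p' n
        have hφ : ∀ y, φ y = y ^ q := fun y => by rw [iterateFrobenius_def, ← hqn]
        rw [e1, ← hφ, aeval_def, eval₂_map,
          show (algebraMap F (AdjoinRoot π)).comp (qEnd hF) = φ.comp (algebraMap F (AdjoinRoot π)) from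
            RingHom.ext fun x => by rw [RingHom.comp_apply, RingHom.comp_apply, hφ, qEnd_apply, map_pow],
          ← Polynomial.hom_eval₂, ← aeval_def, hroot, map_zero]
      have hstar : ∀ y : T, aeval g (Semisimple.star (qEnd hF) r π) y = 0 → aeval g π y = 0 := fun y hy => by
        obtain ⟨t, ht⟩ := hdvd
        rw [← hg.star_invol hH π, ht, map_mul, mul_comm, map_mul, Module.End.mul_apply, hy, map_zero]
      have hself : ∀ x : T, aeval g π x = 0 → B (x : V) (x : V) = 0 := by
        intro x hx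
        rcases eq_or_ne x 0 with rfl | hx0
        · simp
        have hxf : aeval f π (x : V) = 0 := by rw [← key, hx]; rfl
        obtain ⟨j, hj⟩ := Semisimple.exists_embed f hxf
        have hU : Inv f (LinearMap.range j) := by
          rintro _ ⟨y, rfl⟩
          obtain ⟨P, rfl⟩ := AdjoinRoot.mk_surjective y
          exact ⟨AdjoinRoot.mk π (X * P), by rw [hj, hj, map_mul, aeval_X, Module.End.mul_apply]⟩
        have hUT : LinearMap.range j ≤ T := by
          rintro _ ⟨y, rfl⟩
          obtain ⟨P, rfl⟩ := AdjoinRoot.mk_surjective y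
          rw [hj]
          exact hT.aeval_mem P _ x.2
        have hUd : finrank F (LinearMap.range j) = b := by
          rw [LinearMap.finrank_range_of_inj
            (Semisimple.embed_injective f hπ (fun h => hx0 (Subtype.ext h)) hxf j hj),
            (AdjoinRoot.powerBasis' hπm).finrank, AdjoinRoot.powerBasis'_dim, hdeg π hπ hπg]
        have hx1 : (x : V) ∈ LinearMap.range j := ⟨AdjoinRoot.mk π 1, by rw [hj, map_one, Module.End.one_apply]⟩
        exact hiso _ hUT hU hUd _ hx1 _ hx1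
      obtain ⟨y, hy, hxy⟩ := hg.exists_partner hH (x := ⟨v, hvT⟩) (π := π) (fun h => hv0 (congrArg Subtype.val h))
        (Subtype.ext (by rw [key]; exact hv))
      have hyπ := hstar y hy
      obtain ⟨a, ha⟩ : ∃ a, qEnd hF a ≠ a := by
        by_contra h'
        push Not at h'
        exact qEnd_ne_id hF (RingHom.ext h')
      have hxπ : aeval g π (⟨v, hvT⟩ : T) = 0 := Subtype.ext (by rw [key]; exact hv)
      have h1 := hself (⟨v, hvT⟩ + y) (by rw [map_add, hxπ, hyπ, add_zero])
      have h2 := hself (⟨v, hvT⟩ + a • y) (by rw [map_add, map_smul, hxπ, hyπ, smul_zero, add_zero])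
      have hx' := hself ⟨v, hvT⟩ hxπ
      have hy' := hself y hyπ
      simp only [Submodule.coe_add, Submodule.coe_smul, map_add, LinearMap.add_apply, map_smulₛₗ,
        LinearMap.smul_apply, smul_eq_mul, RingHom.id_apply, hx', hy', mul_zero, zero_add, add_zero] at h1 h2
      refine hxy ((mul_eq_zero.1 (show (qEnd hF a - a) * B v (y : V) = 0 from ?_)).resolve_left (sub_ne_zero.2 ha))
      linear_combination qEnd hF a * h1 - h2
    · rw [he, mul_comm]
  obtain ⟨U, hUT, hU, hUd⟩ := exists_block hdeg hT hann hne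
  have hUiso := hiso U hUT hU hUd
  have hUn : U ≠ ⊥ := fun h => by rw [h, finrank_bot] at hUd; omega
  set R := T ⊓ perp B U
  obtain ⟨Q, hQ, hRQ⟩ := exists_compl (isSemisimple_of_pow hr hpow) (hT.inf (inv_perp hS hf hsep hU))
  have hTQ : T ⊓ Q ≠ ⊥ := by
    intro h
    obtain ⟨u, hu, hu0⟩ := Submodule.exists_mem_ne_zero_of_ne_bot hUn
    obtain ⟨v, hv, huv⟩ := hTn u (hUT hu) hu0
    have hsup : R ⊔ T ⊓ Q = T := by
      rw [inf_comm T Q, ← sup_inf_assoc_of_le Q (inf_le_left : R ≤ T), hRQ.sup_eq_top, top_inf_eq]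
    rw [h, sup_bot_eq] at hsup
    rw [← hsup] at hv
    exact huv (hv.2 u hu)
  obtain ⟨U', hU'le, hU', hU'd⟩ := exists_block hdeg (hT.inf hQ) (fun v hv => hann v hv.1) hTQ
  have hU'iso := hiso U' (hU'le.trans inf_le_left) hU' hU'd
  have hU'R : U' ⊓ R = ⊥ :=
    le_bot_iff.1 ((inf_le_inf_right R (hU'le.trans inf_le_right)).trans (by rw [inf_comm]; exact hRQ.inf_eq_bot.le))
  have hUR : U ≤ R := fun u hu => ⟨hUT hu, fun n hn => hUiso n hn u hu⟩
  refine ⟨U ⊔ U', sup_le hUT (hU'le.trans inf_le_left), hU.sup hU', fun w hw hw0 => ?_, ?_⟩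
  · obtain ⟨u, hu, u', hu', rfl⟩ := Submodule.mem_sup.1 hw
    by_cases hu'0 : u' = 0
    · subst hu'0
      rw [add_zero] at hw0 ⊢
      by_contra! hall
      obtain ⟨m, hm⟩ := dvd_finrank hdeg (hU.inf (inv_perp hS hf hsep hU')) fun v hv => hann v (hUT hv.1)
      have hmem : u ∈ U ⊓ perp B U' := ⟨hu, fun n hn => swap0 hS (hall n (Submodule.mem_sup_right hn))⟩
      rcases Nat.eq_zero_or_pos m with rfl | hm0
      · rw [Submodule.finrank_eq_zero.1 (hm.trans (mul_zero _)), Submodule.mem_bot] at hmem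
        exact hw0 hmem
      have hUle : U ⊓ perp B U' = U := Submodule.eq_of_le_of_finrank_le inf_le_left (by
        rw [hm, hUd]; exact Nat.le_mul_of_pos_right b hm0)
      obtain ⟨x, hx, hx0⟩ := Submodule.exists_mem_ne_zero_of_ne_bot (p := U') (fun h => by
        rw [h, finrank_bot] at hU'd; omega)
      refine hx0 ((Submodule.mem_bot F).1 (hU'R ▸ ⟨hx, (hU'le hx).1, fun n hn => ?_⟩))
      rw [← hUle] at hn
      exact swap0 hS (hn.2 x hx)
    · have : ∃ n ∈ U, B n u' ≠ 0 := by
        by_contra! hall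
        exact hu'0 ((Submodule.mem_bot F).1 (hU'R ▸ ⟨hu', (hU'le hu').1, hall⟩))
      obtain ⟨n, hn, hne'⟩ := this
      refine ⟨n, Submodule.mem_sup_left hn, ?_⟩
      rw [map_add, LinearMap.add_apply, hUiso u hu n hn, zero_add]
      exact fun h => hne' (swap0 hS h)
  · have h := Submodule.finrank_sup_add_finrank_inf_eq U U'
    rw [le_bot_iff.1 ((inf_le_inf_right U' hUR).trans (by rw [inf_comm]; exact hU'R.le)), finrank_bot, hUd,
      hU'd] at h
    rw [hcb]
    omega

/-- Fixed part, moved part, and the dimension of the moved part. -/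
theorem split_fixed (hr : (r : F) ≠ 0) (hrq : (q : ZMod r) ≠ 0) (hpow : f ^ r = 1) {S : Submodule F V}
    (hSi : Inv f S) (hSn : Nd B S) :
    Nd B (LinearMap.ker (f - 1) ⊓ S) ∧ Nd B (S.map (f - 1)) ∧ S.map (f - 1) ≤ S ∧ Inv f (S.map (f - 1)) ∧
      finrank F ↥(LinearMap.ker (f - 1) ⊓ S) + finrank F (S.map (f - 1)) = finrank F S ∧
      S.map (f - 1) ≤ perp B (LinearMap.ker (f - 1) ⊓ S) ∧
      orderOf (-(q : ZMod r)) ∣ finrank F (S.map (f - 1)) := by
  set K := LinearMap.ker (f - 1) with hK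
  have hM : S.map (f - 1) ≤ LinearMap.ker (aeval f (∑ j ∈ Finset.range r, X ^ j : F[X])) := by
    rintro _ ⟨w, -, rfl⟩
    exact LinearMap.congr_fun (Decomp.geom_mul_sub_one hpow) w
  have hS' : S.map (f - 1) ≤ S := by
    rintro _ ⟨w, hw, rfl⟩
    exact S.sub_mem (hSi w hw) hw
  have hinv : Inv f (S.map (f - 1)) := by
    rintro _ ⟨w, hw, rfl⟩
    exact ⟨f w, hSi w hw, by simp⟩
  have hd : finrank F ↥(K ⊓ S) + finrank F (S.map (f - 1)) = finrank F S := by
    have h := LinearMap.finrank_range_add_finrank_ker ((f - 1).comp S.subtype)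
    rw [LinearMap.range_comp, Submodule.range_subtype, LinearMap.ker_comp,
      LinearEquiv.finrank_eq (Submodule.equivMapOfInjective S.subtype S.injective_subtype
        (Submodule.comap S.subtype K)), Submodule.map_comap_subtype, inf_comm] at h
    omega
  have horth : S.map (f - 1) ≤ perp B (K ⊓ S) := by
    rintro _ ⟨w, -, rfl⟩ k hk
    have hk' : f k = k := sub_eq_zero.1 (show (f - 1) k = 0 from hk.1)
    rw [LinearMap.sub_apply, Module.End.one_apply, map_sub, sub_eq_zero]
    conv_lhs => rw [← hk', hf]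
  have hdis : (K ⊓ S) ⊓ S.map (f - 1) = ⊥ :=
    le_bot_iff.1 ((inf_le_inf inf_le_left hM).trans (isCompl_parts hr hpow).inf_eq_bot.le)
  have hsup : (K ⊓ S) ⊔ S.map (f - 1) = S := by
    refine Submodule.eq_of_le_of_finrank_eq (sup_le inf_le_right hS') ?_
    have h := Submodule.finrank_sup_add_finrank_inf_eq (K ⊓ S) (S.map (f - 1))
    rw [hdis, finrank_bot] at h
    omega
  have hn1 : Nd B (K ⊓ S) := fun u hu hu0 => by
    obtain ⟨v, hv, huv⟩ := hSn u hu.2 hu0
    rw [← hsup] at hv
    obtain ⟨k, hk, x, hx, rfl⟩ := Submodule.mem_sup.1 hv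
    exact ⟨k, hk, fun h => huv (by rw [map_add, h, horth hx u hu, add_zero])⟩
  have hn2 : Nd B (S.map (f - 1)) := fun u hu hu0 => by
    obtain ⟨v, hv, huv⟩ := hSn u (hS' hu) hu0
    rw [← hsup] at hv
    obtain ⟨k, hk, x, hx, rfl⟩ := Submodule.mem_sup.1 hv
    exact ⟨x, hx, fun h => huv (by rw [map_add, h, swap0 hS (horth hu k hk), add_zero])⟩
  refine ⟨hn1, hn2, hS', hinv, hd, horth, ?_⟩
  set M := S.map (f - 1) with hMdef
  set c := orderOf (-(q : ZMod r))
  have hblock : ∀ T ≤ M, Inv f T → Nd B T → T ≠ ⊥ → ∃ U ≤ T, Inv f U ∧ Nd B U ∧ finrank F U = c :=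
    fun T hT hTi hTn hne => exists_moved_block hS hf hsep hr hrq hpow hTi hTn hne fun v hv => hM (hT hv)
  obtain ⟨P, hPM, hP, hPn, hPd⟩ := exists_nd_sub hS hf hsep hinv hn2 hblock (finrank F M / c)
    (Nat.div_mul_le_self _ _)
  have hsplit := nd_split_finrank hS hPM hPn hn2
  by_contra hndvd
  obtain ⟨U, hUle, -, -, hUd⟩ := hblock _ inf_le_left (hinv.inf (inv_perp hS hf hsep hP))
    (nd_split hS hPM hPn hn2).1 (fun h => hndvd ⟨finrank F M / c, by
      rw [h, finrank_bot, hPd] at hsplit; rw [mul_comm]; omega⟩)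
  have := Submodule.finrank_mono hUle
  have hcpos : 0 < c := orderOf_pos_iff.2 (Ne.isUnit (neg_ne_zero.2 hrq)).isOfFinOrder
  have := Nat.mod_lt (finrank F M) hcpos
  have := Nat.div_add_mod' (finrank F M) c
  omega

/-- With few fixed vectors needed, every dimension `m` occurs. -/
theorem exists_nd_dim (hr : (r : F) ≠ 0) (hrq : (q : ZMod r) ≠ 0) (hpow : f ^ r = 1) {m : ℕ}
    (hm : m ≤ finrank F V)
    (hcrit : m % orderOf (-(q : ZMod r)) ≤ finrank F V % orderOf (-(q : ZMod r))) :
    ∃ W : Submodule F V, Inv f W ∧ Nd B W ∧ finrank F W = m := by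
  set c := orderOf (-(q : ZMod r))
  obtain ⟨hKn, hMn, -, hMi, hdd, horth, C, hC⟩ := split_fixed hS hf hsep hr hrq hpow (S := ⊤) (fun _ _ => trivial) hsep
  rw [finrank_top, hC] at hdd
  set K := LinearMap.ker (f - 1) ⊓ (⊤ : Submodule F V) with hK
  have hdd' : finrank F K + c * C = finrank F V := hdd
  have hfix : finrank F V % c ≤ finrank F K := by
    rw [← hdd', Nat.add_mul_mod_self_left]
    exact Nat.mod_le _ _
  have hmd := Nat.mod_add_div m c
  set w := min (m / c) C with hw
  have hwA : c * w ≤ c * (m / c) := Nat.mul_le_mul_left c (Nat.min_le_left _ _)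
  have hwcase : c * w = c * (m / c) ∨ c * w = c * C := by
    rcases le_total (m / c) C with h | h
    · exact Or.inl (by rw [hw, min_eq_left h])
    · exact Or.inr (by rw [hw, min_eq_right h])
  obtain ⟨P, hPK, hPi, hPn, hPd⟩ := exists_scalar_sub hS hf hsep (S := K) hKn (l := 1)
    (fun v hv => by rw [one_smul]; exact sub_eq_zero.1 (show (f - 1) v = 0 from hv.1))
    (j := m - c * w) (by rcases hwcase with h | h <;> omega)
  obtain ⟨Q, hQM, hQi, hQn, hQd⟩ := exists_nd_sub hS hf hsep hMi hMn (c := c)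
    (fun T hT hTi hTn hne => exists_moved_block hS hf hsep hr hrq hpow hTi hTn hne fun v hv => by
      obtain ⟨y, -, rfl⟩ := hT hv
      exact LinearMap.congr_fun (Decomp.geom_mul_sub_one hpow) y)
    w (by rw [hC, mul_comm w]; exact Nat.mul_le_mul_left c (Nat.min_le_right _ _))
  have horth' : Q ≤ perp B P := fun v hv n hn => horth (hQM hv) n (hPK hn)
  refine ⟨P ⊔ Q, hPi.sup hQi, nd_sup hS hPn hQn horth', ?_⟩
  rw [finrank_sup_perp hS hPn horth', hPd, hQd, mul_comm w]
  omega

end Cfsg.Agent.Elusive.Unitary
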