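import Cfsg.Agent.Lib.Elusive.UnitaryPieces
import Cfsg.Agent.Lib.Elusive.UnitaryCyclic
import Cfsg.Agent.Lib.Elusive.UnitaryArith
import Cfsg.Agent.Lib.Semisimple.UnitaryUnipotent

/-!
Elements of prime order of the special unitary group and non-degenerate subspaces of given dimension.
-/

set_option autoImplicit false
set_option linter.unusedSectionVars false
set_option linter.style.haveILetI false

namespace Cfsg.Agent.Elusive.Unitary

open Module Matrix
open Forms (qEnd qEnd_apply qEnd_qEnd hermB hermB_apply)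
open SympUnipotent (TypeOn)

variable {F : Type*} [Field F] [Fintype F] {q : ℕ} (hF : Fintype.card F = q ^ 2) {n m : ℕ}

/-- The matrix fixes a non-degenerate `m`-space. -/
def Fixes (q m : ℕ) (x : Matrix.SpecialLinearGroup (Fin n) F) : Prop :=
  ∃ W : Submodule F (Fin n → F), finrank F ↥W = m ∧
    (∀ u ∈ W, u ≠ 0 → ∃ v ∈ W, Cfsg.hermForm n F q u v ≠ 0) ∧
    W.map (Matrix.toLin' (x : Matrix (Fin n) (Fin n) F)) ≤ W

theorem hermB_swap (u v : Fin n → F) : qEnd hF (hermB hF n u v) = hermB hF n v u := by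
  rw [hermB_apply, hermB_apply, Forms.hermForm_swap hF]

theorem nd_iff (W : Submodule F (Fin n → F)) :
    Nd (hermB hF n) W ↔ ∀ u ∈ W, u ≠ 0 → ∃ v ∈ W, Cfsg.hermForm n F q u v ≠ 0 := by
  refine forall₃_congr fun u _ _ => exists_congr fun v => and_congr_right fun _ => not_congr ?_
  rw [hermB_apply]
  exact ⟨fun h => by rw [← Forms.hermForm_swap hF, h, map_zero], fun h => by
    rw [← Forms.hermForm_swap hF, h, map_zero]⟩

theorem nd_top : Nd (hermB hF n) ⊤ := fun u _ hu => by
  by_contra! h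
  obtain ⟨i, hi⟩ : ∃ i, u i ≠ 0 := by
    by_contra! h'; exact hu (funext h')
  have h' := h (Pi.single i 1) trivial
  rw [hermB_apply] at h'
  simp [Cfsg.hermForm, Pi.single_apply, ite_mul] at h'
  exact hi h'.1

theorem fixes_iff (x : Matrix.SpecialLinearGroup (Fin n) F) :
    Fixes q m x ↔ ∃ W : Submodule F (Fin n → F), Inv (endOf x) W ∧ Nd (hermB hF n) W ∧ finrank F ↥W = m := by
  constructor
  · rintro ⟨W, h1, h2, h3⟩
    exact ⟨W, inv_iff_map.2 h3, (nd_iff hF W).2 h2, h1⟩
  · rintro ⟨W, h1, h2, h3⟩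
    exact ⟨W, h3, (nd_iff hF W).1 h2, inv_iff_map.1 h1⟩

theorem endOf_isom {x : Matrix.SpecialLinearGroup (Fin n) F} (hx : x ∈ Cfsg.SU n F q) (u v : Fin n → F) :
    hermB hF n (endOf x u) (endOf x v) = hermB hF n u v := by
  rw [hermB_apply, hermB_apply, Matrix.toLin'_apply, Matrix.toLin'_apply]
  exact hx v u

include hF in
theorem scalar_facts (hn : 0 < n) {r : ℕ} {x : Matrix.SpecialLinearGroup (Fin n) F} (hx : x ∈ Cfsg.SU n F q) {z : F}
    (hz : ((x ^ r : Matrix.SpecialLinearGroup (Fin n) F) : Matrix (Fin n) (Fin n) F) =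
      z • (1 : Matrix (Fin n) (Fin n) F)) :
    z ^ (q + 1) = 1 ∧ endOf x ^ r = z • 1 := by
  refine ⟨?_, (endOf_pow_iff x r z).2 hz⟩
  let e : Fin n → F := Pi.single ⟨0, hn⟩ 1
  have he : Cfsg.hermForm n F q e e = 1 := by
    have hq0 : q ≠ 0 := by have := Forms.one_lt_q hF; omega
    simp [Cfsg.hermForm, e, Pi.single_apply, zero_pow hq0]
  have h : Cfsg.hermForm n F q (((x ^ r : Matrix.SpecialLinearGroup (Fin n) F) : Matrix (Fin n) (Fin n) F) *ᵥ e)
      (((x ^ r : Matrix.SpecialLinearGroup (Fin n) F) : Matrix (Fin n) (Fin n) F) *ᵥ e) =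
      Cfsg.hermForm n F q e e := (Cfsg.SU n F q).pow_mem hx r e e
  rw [hz, Matrix.smul_mulVec, Matrix.one_mulVec, Forms.hermForm_smul, he, mul_one] at h
  exact h

include hF in
/-- Divide by a root of the scalar. -/
theorem normalise {r : ℕ} {x : Matrix.SpecialLinearGroup (Fin n) F} (hx : x ∈ Cfsg.SU n F q) {z w : F}
    (hxr : endOf x ^ r = z • 1) (hw : w ^ (q + 1) = 1) (hwr : w ^ r = z) :
    (∀ u v, hermB hF n ((w⁻¹ • endOf x) u) ((w⁻¹ • endOf x) v) = hermB hF n u v) ∧ (w⁻¹ • endOf x) ^ r = 1 := by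
  have hw0 : w ≠ 0 := fun h => by rw [h, zero_pow q.succ_ne_zero] at hw; exact zero_ne_one hw
  have hwi : (w⁻¹) ^ (q + 1) = 1 := by rw [inv_pow, hw, inv_one]
  refine ⟨fun u v => ?_, ?_⟩
  · rw [LinearMap.smul_apply, LinearMap.smul_apply, map_smul, map_smulₛₗ (hermB hF n), LinearMap.smul_apply,
      endOf_isom hF hx, smul_eq_mul, smul_eq_mul, ← mul_assoc, qEnd_apply, ← pow_succ', hwi, one_mul]
  · rw [_root_.smul_pow, hxr, smul_smul, inv_pow, ← hwr, inv_mul_cancel₀ (pow_ne_zero r hw0), one_smul]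

theorem fixes_of_normalised {x : Matrix.SpecialLinearGroup (Fin n) F} {w : F} (hw : w ^ (q + 1) = 1)
    {W : Submodule F (Fin n → F)} (hW : Inv (w⁻¹ • endOf x) W) (hn : Nd (hermB hF n) W) (hd : finrank F W = m) :
    Fixes q m x := by
  have hw0 : w ≠ 0 := fun h => by rw [h, zero_pow q.succ_ne_zero] at hw; exact zero_ne_one hw
  exact (fixes_iff hF x).2 ⟨W, (inv_smul_iff (inv_ne_zero hw0) W).1 hW, hn, hd⟩

/-- A unitary matrix of determinant one as an element of `SU`. -/
theorem exists_sl {A : Matrix (Fin n) (Fin n) F} (hA : GL.Preserves (Cfsg.hermForm n F q) A) (hd : A.det = 1) :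
    ∃ x : Matrix.SpecialLinearGroup (Fin n) F, x ∈ Cfsg.SU n F q ∧ (x : Matrix (Fin n) (Fin n) F) = A :=
  ⟨⟨A, hd⟩, hA, rfl⟩

section Unipotent

variable {p : ℕ} [Fact p.Prime] [CharP F p]

/-- Every type of elements of order `p` has a sub-type of sum `m`. -/
def TypeCrit (p n m : ℕ) : Prop :=
  ∀ μ : Multiset ℕ, (∀ a ∈ μ, 0 < a ∧ a ≤ p) → μ.sum = n → ∃ ν : Multiset ℕ, ν ≤ μ ∧ ν.sum = m

theorem typeCrit_two (hm : m ≤ n) : TypeCrit 2 n m ↔ (Odd n ∨ Even m) := by
  constructor
  · intro h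
    rcases Nat.even_or_odd n with ⟨k, hk⟩ | ho
    · obtain ⟨ν, hν, hsum⟩ := h (Multiset.replicate k 2)
        (fun a ha => by rw [Multiset.eq_of_mem_replicate ha]; omega)
        (by rw [Multiset.sum_replicate, smul_eq_mul]; omega)
      obtain ⟨l, -, rfl⟩ := Multiset.le_replicate_iff.1 hν
      rw [Multiset.sum_replicate, smul_eq_mul] at hsum
      exact Or.inr ⟨l, by omega⟩
    · exact Or.inl ho
  · intro h μ hμ hsum
    have hμ' : μ = Multiset.replicate (μ.count 1) 1 + Multiset.replicate (μ.count 2) 2 := by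
      ext a
      rw [Multiset.count_add, Multiset.count_replicate, Multiset.count_replicate]
      rcases eq_or_ne a 1 with rfl | h1
      · simp
      rcases eq_or_ne a 2 with rfl | h2
      · simp
      rw [if_neg (Ne.symm h1), if_neg (Ne.symm h2), Multiset.count_eq_zero]
      intro ha
      have := hμ a ha
      omega
    set b := μ.count 1
    set a := μ.count 2
    rw [hμ', Multiset.sum_add, Multiset.sum_replicate, Multiset.sum_replicate, smul_eq_mul, smul_eq_mul] at hsum
    refine ⟨Multiset.replicate (m - 2 * min a (m / 2)) 1 + Multiset.replicate (min a (m / 2)) 2, ?_, ?_⟩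
    · rw [hμ']
      refine add_le_add ((Multiset.replicate_le_replicate 1).2 ?_) ((Multiset.replicate_le_replicate 2).2
        (Nat.min_le_left _ _))
      rcases h with h | h
      · rw [Nat.odd_iff] at h; omega
      · rw [Nat.even_iff] at h; omega
    · rw [Multiset.sum_add, Multiset.sum_replicate, Multiset.sum_replicate, smul_eq_mul, smul_eq_mul]
      omega

include hF in
theorem not_dvd_succ {p : ℕ} [Fact p.Prime] [hp : CharP F p] : ¬ p ∣ q + 1 := by
  obtain ⟨p', k, hp', hchar, hqk⟩ := Forms.exists_prime_pow_q hF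
  obtain rfl : p = p' := CharP.eq F hp hchar
  intro h
  rcases Nat.eq_zero_or_pos k with rfl | hk
  · have := Forms.one_lt_q hF; rw [hqk, pow_zero] at this; omega
  · exact hp'.not_dvd_one ((Nat.dvd_add_right (hqk ▸ dvd_pow_self p hk.ne')).1 h)

theorem eq_one_of_pow_char {z : F} (h : z ^ p = 1) : z = 1 := by
  have h' : (z - 1) ^ p = 0 := by rw [sub_pow_char, h, one_pow, sub_self]
  exact sub_eq_zero.1 (eq_zero_of_pow_eq_zero h')

include hF in
theorem fixes_unipotent (hn : 0 < n) (hcrit : TypeCrit p n m) (x : Matrix.SpecialLinearGroup (Fin n) F)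
    (hx : x ∈ Cfsg.SU n F q) {z : F}
    (hz : ((x ^ p : Matrix.SpecialLinearGroup (Fin n) F) : Matrix (Fin n) (Fin n) F) =
      z • (1 : Matrix (Fin n) (Fin n) F)) : Fixes q m x := by
  obtain ⟨hzq, hxr⟩ := scalar_facts hF hn hx hz
  obtain ⟨w, hw, hwr⟩ := exists_root_of_not_dvd hF (not_dvd_succ (p := p) hF) hzq
  obtain ⟨hf, hpow⟩ := normalise hF hx hxr hw hwr
  have hnil := SympUnipotent.nil_of_pow (p := p) hpow
  have hT : Inv (w⁻¹ • endOf x - 1) ⊤ := fun _ _ => trivial
  obtain ⟨μ, hμpos, hμ⟩ := SympUnipotent.exists_typeOn hT hnil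
  have hle : ∀ a ∈ μ, a ≤ p := fun a ha => by
    have h := hμ p
    rw [LinRep.JordanType.rankDim, hnil, Submodule.map_zero, finrank_bot] at h
    have h' := Multiset.le_sum_of_mem (Multiset.mem_map_of_mem (· - p) ha)
    omega
  obtain ⟨ν, hν, hνs⟩ := hcrit μ (fun a ha => ⟨hμpos a ha, hle a ha⟩)
    (by rw [← hμ.finrank_eq, finrank_top, Module.finrank_fin_fun])
  obtain ⟨W, -, hWi, hWn, hWd⟩ := exists_of_subtype hf (hermB_swap hF) (nd_top hF) hnil _ ⊤ μ ν rfl
    (fun _ _ => trivial) (nd_top hF) hμpos hμ hν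
  exact fixes_of_normalised hF hw hWi hWn (hWd.trans hνs)

include hF in
theorem crit_of_fixes (hn : 0 < n) (hm : m ≤ n)
    (hall : ∀ x : Matrix.SpecialLinearGroup (Fin n) F, x ∈ Cfsg.SU n F q →
      (∃ z : F, ((x ^ p : Matrix.SpecialLinearGroup (Fin n) F) : Matrix (Fin n) (Fin n) F) =
        z • (1 : Matrix (Fin n) (Fin n) F)) →
      (∀ z : F, (x : Matrix (Fin n) (Fin n) F) ≠ z • (1 : Matrix (Fin n) (Fin n) F)) → Fixes q m x) :
    TypeCrit p n m := by
  intro μ hμp hsum
  by_cases hone : ∀ a ∈ μ, a = 1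
  · have hμ : μ = Multiset.replicate (Multiset.card μ) 1 := Multiset.eq_replicate.2 ⟨rfl, hone⟩
    have hc : Multiset.card μ = n := by
      rw [← hsum]; conv_rhs => rw [hμ, Multiset.sum_replicate, smul_eq_mul, mul_one]
    refine ⟨Multiset.replicate m 1, ?_, by simp⟩
    rw [hμ, hc]
    exact (Multiset.replicate_le_replicate 1).2 hm
  obtain ⟨A, hA, -, hAt⟩ := UnitaryConj.exists_unitary_type hF μ (fun a ha => (hμp a ha).1) n hsum
  set f : End F (Fin n → F) := Matrix.toLin' A with hfdef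
  have hft : TypeOn (f - 1) ⊤ μ := by
    have e : Matrix.toLinAlgEquiv' (A - 1) = f - 1 := by rw [map_sub, map_one]; rfl
    rw [← e]; exact hAt
  have hM : (f - 1) ^ p = 0 := by
    have h := hft p
    rw [Multiset.sum_eq_zero (fun a ha => by
      obtain ⟨b, hb, rfl⟩ := Multiset.mem_map.1 ha
      exact Nat.sub_eq_zero_of_le (hμp b hb).2)] at h
    rwa [UnipForms.rankDim_eq_range, Submodule.finrank_eq_zero, LinearMap.range_eq_bot] at h
  have hpow : f ^ p = 1 := by
    open Polynomial in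
    have h := congrArg (aeval f) (sub_pow_char (R := F[X]) (p := p) X 1)
    simp only [hM, map_sub, map_pow, Polynomial.aeval_X, map_one, one_pow] at h
    exact sub_eq_zero.1 h.symm
  have hdet : A.det = 1 := eq_one_of_pow_char (p := p) (by
    rw [← LinearMap.det_toLin', ← map_pow, show Matrix.toLin' A ^ p = 1 from hpow, map_one])
  obtain ⟨x, hx, hxA⟩ := exists_sl hA hdet
  have hxf : endOf x = f := by rw [hfdef, ← hxA]
  obtain ⟨W, hWi, hWn, hWd⟩ := (fixes_iff hF x).1 (hall x hx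
    ⟨1, (endOf_pow_iff x p 1).1 (by rw [hxf, hpow, one_smul])⟩ fun z hz => by
      have hfz : f = z • 1 := hxf ▸ (endOf_scalar_iff x z).2 hz
      have hzp : z ^ p = 1 := by
        have h := hpow
        rw [hfz, _root_.smul_pow, one_pow] at h
        simpa using congrArg (fun g : End F (Fin n → F) => g (fun _ => 1) ⟨0, hn⟩) h
      refine hone fun a ha => ?_
      have h := hft 1
      rw [hfz, eq_one_of_pow_char hzp, one_smul, sub_self, UnipForms.rankDim_eq_range, pow_one,
        LinearMap.range_zero, finrank_bot] at h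
      have h' := Multiset.le_sum_of_mem (Multiset.mem_map_of_mem (· - 1) ha)
      have := (hμp a ha).1
      omega)
  rw [hxf] at hWi
  have hf : ∀ u v, hermB hF n (f u) (f v) = hermB hF n u v := fun u v => hxf ▸ endOf_isom hF hx u v
  obtain ⟨hRi, hRn, -, htype⟩ := split_piece hf (hermB_swap hF) (nd_top hF) (S := ⊤) (fun _ _ => trivial)
    (nd_top hF) le_top hWi hWn
  obtain ⟨ν, hνpos, hν⟩ := SympUnipotent.exists_typeOn (inv_nil.1 hWi) hM
  obtain ⟨ν', hν'pos, hν'⟩ := SympUnipotent.exists_typeOn (inv_nil.1 hRi) hM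
  have hμeq : μ = ν + ν' := SympUnipotent.eq_of_sums (fun a ha => (hμp a ha).1)
    (fun a ha => (Multiset.mem_add.1 ha).elim (hνpos a) (hν'pos a))
    fun j => (hft j).symm.trans (htype ν ν' hν hν' j)
  exact ⟨ν, hμeq ▸ Multiset.le_add_right ν ν', by rw [← hν.finrank_eq, hWd]⟩

end Unipotent

section Semisimple

variable {r : ℕ} [Fact r.Prime]

include hF in
theorem fixes_of_root (hr : (r : F) ≠ 0) (hrq : (q : ZMod r) ≠ 0) (hm : m ≤ n)
    (hcrit : m % orderOf (-(q : ZMod r)) ≤ n % orderOf (-(q : ZMod r)))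
    (x : Matrix.SpecialLinearGroup (Fin n) F) (hx : x ∈ Cfsg.SU n F q) {z w : F}
    (hxr : endOf x ^ r = z • 1) (hw : w ^ (q + 1) = 1) (hwr : w ^ r = z) : Fixes q m x := by
  obtain ⟨hf, hpow⟩ := normalise hF hx hxr hw hwr
  obtain ⟨W, hWi, hWn, hWd⟩ := exists_nd_dim (hermB_swap hF) hf (nd_top hF) hr hrq hpow (m := m)
    (by rwa [Module.finrank_fin_fun]) (by rwa [Module.finrank_fin_fun])
  exact fixes_of_normalised hF hw hWi hWn hWd

/-- Every admissible scalar is an `r`-th power of a norm one element. -/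
def Roots (F : Type*) [Field F] (q r n : ℕ) : Prop :=
  ∀ z : F, z ^ (q + 1) = 1 → r ∣ n → ((-1) ^ (r - 1) * z) ^ (n / r) = 1 →
    ∃ w : F, w ^ (q + 1) = 1 ∧ w ^ r = z

include hF in
/-- `r` divides `q + 1`. -/
theorem fixes_one (hr : (r : F) ≠ 0) (hrq : (q : ZMod r) ≠ 0) (hc : orderOf (-(q : ZMod r)) = 1) (hn : 0 < n)
    (hm : m ≤ n) (hcond : Roots F q r n ∨ r ∣ m) (x : Matrix.SpecialLinearGroup (Fin n) F)
    (hx : x ∈ Cfsg.SU n F q) {z : F}
    (hz : ((x ^ r : Matrix.SpecialLinearGroup (Fin n) F) : Matrix (Fin n) (Fin n) F) =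
      z • (1 : Matrix (Fin n) (Fin n) F)) : Fixes q m x := by
  obtain ⟨hzq, hxr⟩ := scalar_facts hF hn hx hz
  have hf := endOf_isom hF hx
  by_cases hw : ∃ w : F, w ^ (q + 1) = 1 ∧ w ^ r = z
  · obtain ⟨w, hw1, hw2⟩ := hw
    exact fixes_of_root hF hr hrq hm (by rw [hc, Nat.mod_one, Nat.mod_one]) x hx hxr hw1 hw2
  push Not at hw
  rcases hcond with hroots | hdvd
  · obtain ⟨hdvd, hdet⟩ := det_of_no_root (hermB_swap hF) hf (nd_top hF) hr hxr hzq hw
    rw [Module.finrank_fin_fun] at hdvd hdet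
    have h1 : LinearMap.det (endOf x) = 1 := by rw [LinearMap.det_toLin']; exact x.2
    obtain ⟨w, hw1, hw2⟩ := hroots z hzq hdvd (hdet ▸ h1)
    exact absurd hw2 (hw w hw1)
  · obtain ⟨P, -, hPi, hPn, hPd⟩ := exists_nd_sub (hermB_swap hF) hf (nd_top hF) (S := ⊤) (fun _ _ => trivial)
      (nd_top hF) (c := r)
      (fun T _ hTi hTn hne => by
        obtain ⟨U, hU, hUT, hUn, hUd, -⟩ := exists_cyclic_block (hermB_swap hF) hf (nd_top hF) hr hxr hzq hw hTi hTn hne
        exact ⟨U, hUT, hU, hUn, hUd⟩)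
      (m / r) (by rw [finrank_top, Module.finrank_fin_fun]; exact (Nat.div_mul_le_self m r).trans hm)
    exact (fixes_iff hF x).2 ⟨P, hPi, hPn, hPd.trans (Nat.div_mul_cancel hdvd)⟩

include hF in
theorem cond_of_fixes (hn : 0 < n)
    (hall : ∀ x : Matrix.SpecialLinearGroup (Fin n) F, x ∈ Cfsg.SU n F q →
      (∃ z : F, ((x ^ r : Matrix.SpecialLinearGroup (Fin n) F) : Matrix (Fin n) (Fin n) F) =
        z • (1 : Matrix (Fin n) (Fin n) F)) →
      (∀ z : F, (x : Matrix (Fin n) (Fin n) F) ≠ z • (1 : Matrix (Fin n) (Fin n) F)) → Fixes q m x) :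
    Roots F q r n ∨ r ∣ m := by
  by_contra hnot
  push Not at hnot
  obtain ⟨hroots, hdvd⟩ := hnot
  simp only [Roots] at hroots
  push Not at hroots
  obtain ⟨z, hzq, hrn, hdet, hno⟩ := hroots
  have hr' := (Fact.out : r.Prime)
  obtain ⟨M, rfl⟩ := hrn
  rw [Nat.mul_div_cancel_left _ hr'.pos] at hdet
  obtain ⟨A, hA, hAr, hAd, -⟩ := exists_blocks (hF := hF) hzq (cyc r z) (preserves_cyc r hzq) (cyc_pow r hr'.pos z) M
  rw [det_cyc r hr'.pos, hdet] at hAd
  obtain ⟨x, hx, hxA⟩ := exists_sl hA hAd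
  have hxr : ((x ^ r : Matrix.SpecialLinearGroup (Fin (r * M)) F) : Matrix (Fin (r * M)) (Fin (r * M)) F) = z • 1 := by
    rw [Matrix.SpecialLinearGroup.coe_pow, hxA, hAr]
  obtain ⟨hzq', hxend⟩ := scalar_facts hF hn hx hxr
  obtain ⟨W, hWi, hWn, hWd⟩ := (fixes_iff hF x).1 (hall x hx ⟨z, hxr⟩ fun t ht => by
    obtain ⟨htq, -⟩ := scalar_facts hF hn (r := 1) hx (z := t) (by rw [pow_one, ht])
    refine hno t htq ?_
    have h := congrArg (fun N : Matrix (Fin (r * M)) (Fin (r * M)) F => N ⟨0, hn⟩ ⟨0, hn⟩) hxr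
    rw [Matrix.SpecialLinearGroup.coe_pow, ht] at h
    simpa [_root_.smul_pow] using h)
  obtain ⟨w, hw1, hw2⟩ := exists_root_of_dim (hermB_swap hF) (endOf_isom hF hx) hxend hzq hWi hWn (hWd ▸ hdvd)
  exact hno w hw1 hw2

include hF in
/-- A prime dividing the number of non-degenerate `m`-spaces divides one of the top factors of the order. -/
theorem exists_factor (hrq : (q : ZMod r) ≠ 0) (hm : m ≤ n)
    (hΩ : r ∣ Nat.card {W : Submodule F (Fin n → F) // finrank F ↥W = m ∧
      (∀ u ∈ W, u ≠ 0 → ∃ v ∈ W, Cfsg.hermForm n F q u v ≠ 0)}) :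
    ∃ j, n - m ≤ j ∧ j < n ∧ orderOf (-(q : ZMod r)) ∣ j + 1 := by
  classical
  have hmn : m + (n - m) = n := by omega
  set E := finSumFinEquiv.trans (finCongr hmn) with hE
  have hsplit : ∀ u v : Fin n → F, Cfsg.hermForm n F q u v =
      Cfsg.hermForm m F q (fun i => u (E (Sum.inl i))) (fun i => v (E (Sum.inl i))) +
        Cfsg.hermForm (n - m) F q (fun i => u (E (Sum.inr i))) (fun i => v (E (Sum.inr i))) := fun u v => by
    simp only [Cfsg.hermForm]
    rw [← Fintype.sum_sum_type (fun i => u (E i) * v (E i) ^ q), Equiv.sum_comp E (fun i => u i * v i ^ q)]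
  have hq0 : q ≠ 0 := by have := Forms.one_lt_q hF; omega
  let L : (Fin m → F) →ₗ[F] (Fin n → F) :=
    { toFun := fun w i => Sum.elim w 0 (E.symm i)
      map_add' := fun a b => by funext i; rcases he : E.symm i with j | j <;> simp [he]
      map_smul' := fun c a => by funext i; rcases he : E.symm i with j | j <;> simp [he] }
  have hLl : ∀ w i, L w (E (Sum.inl i)) = w i := fun w i => by simp [L]
  have hLr : ∀ w i, L w (E (Sum.inr i)) = 0 := fun w i => by simp [L]
  have hLinj : Function.Injective L := fun a b hab => funext fun i => by rw [← hLl a i, hab, hLl]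
  have hLB : ∀ a b, Cfsg.hermForm n F q (L a) (L b) = Cfsg.hermForm m F q a b := fun a b => by
    rw [hsplit]; simp [hLl, hLr, Cfsg.hermForm, zero_pow hq0]
  set W₀ := LinearMap.range L with hW₀
  have hW₀d : finrank F W₀ = m := by
    rw [hW₀, LinearMap.finrank_range_of_inj hLinj, Module.finrank_fin_fun]
  set G := Cfsg.GU n F q
  let act : G →* End F (Fin n → F) :=
    (Matrix.toLinAlgEquiv' (R := F) (n := Fin n)).toMonoidHom.comp
      ((Units.coeHom (Matrix (Fin n) (Fin n) F)).comp G.subtype)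
  have hact : ∀ (g : G) v, act g v = ((g : GL (Fin n) F) : Matrix (Fin n) (Fin n) F) *ᵥ v := fun g v => rfl
  have hinj : ∀ g : G, Function.Injective (act g) := fun g a b h => by
    have := congrArg (act g⁻¹) h
    simpa [← Module.End.mul_apply, ← map_mul] using this
  letI : MulAction G (Submodule F (Fin n → F)) :=
    { smul := fun g W => W.map (act g)
      one_smul := fun W => by
        show W.map (act 1) = W
        rw [map_one]; exact Submodule.map_id _
      mul_smul := fun g g' W => by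
        show W.map (act (g * g')) = (W.map (act g')).map (act g)
        rw [map_mul]; exact Submodule.map_comp (act g') (act g) _ }
  have horb : MulAction.orbit G W₀ = {W : Submodule F (Fin n → F) | finrank F ↥W = m ∧
      (∀ u ∈ W, u ≠ 0 → ∃ v ∈ W, Cfsg.hermForm n F q u v ≠ 0)} := by
    ext W
    constructor
    · rintro ⟨g, rfl⟩
      refine ⟨?_, ?_⟩
      · show finrank F ↥(W₀.map (act g)) = _
        rw [← (Submodule.equivMapOfInjective _ (hinj g) W₀).finrank_eq, hW₀d]
      · rintro _ ⟨u, ⟨a, rfl⟩, rfl⟩ hu0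
        have ha : a ≠ 0 := fun h0 => hu0 (by rw [h0, map_zero, map_zero])
        obtain ⟨b, -, hb⟩ := (nd_iff hF (⊤ : Submodule F (Fin m → F))).1 (nd_top hF) a trivial ha
        refine ⟨_, ⟨L b, ⟨b, rfl⟩, rfl⟩, ?_⟩
        rw [hact, hact]
        refine fun h => hb ?_
        rw [← hLB]
        exact (g.2 _ _).symm.trans h
    · rintro ⟨hd', hn'⟩
      obtain ⟨e, he⟩ := exists_coords (hermB_swap hF) ((nd_iff hF W).2 hn')
      revert e
      rw [hd']
      intro e he
      let v : Fin m → (Fin n → F) := fun i => L (Pi.single i 1)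
      let w : Fin m → (Fin n → F) := fun i => (e.symm (Pi.single i 1) : W).1
      have hs : LinearIndependent F fun i => (Pi.single i 1 : Fin m → F) := by
        convert (Pi.basisFun F (Fin m)).linearIndependent
        simp
      have hv : LinearIndependent F v := hs.map' L (LinearMap.ker_eq_bot.2 hLinj)
      have hw : LinearIndependent F w := (hs.map' e.symm.toLinearMap e.symm.ker).map' W.subtype W.ker_subtype
      obtain ⟨T, hT, hTv⟩ := Forms.witt_herm_tuple hF hv hw fun i j => by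
        rw [hLB, ← hermB_apply hF, he, e.apply_symm_apply, e.apply_symm_apply]
      refine ⟨(Forms.guEquiv n F q).symm ⟨T, hT⟩, ?_⟩
      have hTact : ∀ u, act ((Forms.guEquiv n F q).symm ⟨T, hT⟩) u = T u := fun u => by
        have h := Forms.preservingEquiv_apply (Cfsg.hermForm n F q) ((Forms.guEquiv n F q).symm ⟨T, hT⟩) u
        rw [show Forms.preservingEquiv (Cfsg.hermForm n F q) ((Forms.guEquiv n F q).symm ⟨T, hT⟩) = ⟨T, hT⟩ from
          (Forms.guEquiv n F q).apply_symm_apply _] at h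
        exact h.symm
      show W₀.map (act _) = W
      refine Submodule.eq_of_le_of_finrank_eq ?_ ?_
      · rintro _ ⟨_, ⟨a, rfl⟩, rfl⟩
        rw [← (Pi.basisFun F (Fin m)).sum_repr a, map_sum, map_sum]
        refine Submodule.sum_mem _ fun i _ => ?_
        rw [map_smul, map_smul, Pi.basisFun_apply, hTact]
        refine Submodule.smul_mem _ _ ?_
        show T (v i) ∈ W
        rw [hTv]
        exact SetLike.coe_mem _
      · rw [← (Submodule.equivMapOfInjective _ (hinj _) W₀).finrank_eq, hW₀d, hd']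
  -- the stabilizer contains the unitary group of the complement
  set S := MulAction.stabilizer G W₀
  let ψ : Matrix (Fin (n - m)) (Fin (n - m)) F →* Matrix (Fin n) (Fin n) F :=
    (GL.twoBlock hmn).comp (MonoidHom.inr _ _)
  have hmem : ∀ A : Cfsg.GU (n - m) F q, Units.map ψ (A : GL (Fin (n - m)) F) ∈ G := fun A =>
    GL.preserves_twoBlock hF hmn (fun u v => by rw [Matrix.one_mulVec, Matrix.one_mulVec]) A.2
  have hfixL : ∀ A w, act ⟨_, hmem A⟩ (L w) = L w := fun A w => funext fun i => by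
    obtain ⟨x, rfl⟩ := E.surjective i
    rw [hact]
    change ((Matrix.fromBlocks _ 0 0 _).submatrix E.symm E.symm).mulVec (L w) (E x) = _
    rw [Matrix.submatrix_mulVec_equiv]
    rcases x with x | x <;> simp [Matrix.fromBlocks_mulVec, Function.comp_def, hLl, hLr, ← Pi.zero_def]
  let φ : Cfsg.GU (n - m) F q →* S := MonoidHom.mk'
    (fun A => ⟨⟨_, hmem A⟩, by
      show W₀.map (act ⟨_, hmem A⟩) = W₀
      refine Submodule.eq_of_le_of_finrank_eq ?_
        (Submodule.equivMapOfInjective _ (hinj _) W₀).finrank_eq.symm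
      rintro _ ⟨_, ⟨w, rfl⟩, rfl⟩
      exact ⟨w, (hfixL A w).symm⟩⟩)
    fun A A' => Subtype.ext (Subtype.ext (map_mul (Units.map ψ) _ _))
  have hφ : Function.Injective φ := fun A A' e => Subtype.ext (Units.ext
    (Matrix.fromBlocks_inj.1 ((Matrix.reindex E E).injective
      (congrArg (fun g : S => (((g : G) : GL (Fin n) F) : Matrix (Fin n) (Fin n) F)) e))).2.2.2)
  have hΩ' : Nat.card {W : Submodule F (Fin n → F) // finrank F ↥W = m ∧
      (∀ u ∈ W, u ≠ 0 → ∃ v ∈ W, Cfsg.hermForm n F q u v ≠ 0)} = S.index := by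
    show Nat.card ↥{W : Submodule F (Fin n → F) | _} = _
    rw [← horb]
    exact Nat.card_congr (MulAction.orbitEquivQuotientStabilizer G W₀)
  have hdvd := Nat.mul_dvd_mul (hΩ.trans (dvd_of_eq hΩ')) (Subgroup.card_dvd_of_injective φ hφ)
  rw [S.index_mul_card, Forms.card_GU hF, Forms.card_GU hF] at hdvd
  have hq1 : 1 < q := Forms.one_lt_q hF
  set fac : ℕ → ℕ := fun i => if Even i then q ^ (i + 1) + 1 else q ^ (i + 1) - 1 with hfac
  change r * (q ^ ((n - m) * (n - m - 1) / 2) * ∏ i ∈ Finset.range (n - m), fac i) ∣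
    q ^ (n * (n - 1) / 2) * ∏ i ∈ Finset.range n, fac i at hdvd
  have hpos : 0 < ∏ i ∈ Finset.range (n - m), fac i := Finset.prod_pos fun i _ => by
    have : 1 < q ^ (i + 1) := Nat.one_lt_pow (by omega) hq1
    simp only [hfac]; split <;> omega
  have hexp : (n - m) * (n - m - 1) / 2 ≤ n * (n - 1) / 2 :=
    Nat.div_le_div_right (Nat.mul_le_mul (by omega) (by omega))
  rw [← Finset.prod_range_mul_prod_Ico _ (show n - m ≤ n by omega), ← Nat.add_sub_cancel' hexp, pow_add,
    mul_mul_mul_comm (q ^ ((n - m) * (n - m - 1) / 2)), mul_comm r] at hdvd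
  have hdvd' := Nat.dvd_of_mul_dvd_mul_left (Nat.mul_pos (pow_pos (by omega) _) hpos) hdvd
  have hr' := (Fact.out : r.Prime)
  rcases hr'.dvd_mul.1 hdvd' with h1 | h1
  · exact absurd ((ZMod.natCast_eq_zero_iff _ _).2 (hr'.dvd_of_dvd_pow h1)) hrq
  · obtain ⟨j, hj, hd⟩ := hr'.prime.dvd_finsetProd_iff _ |>.1 h1
    rw [Finset.mem_Ico] at hj
    refine ⟨j, hj.1, hj.2, orderOf_dvd_of_pow_eq_one ?_⟩
    have h0 := (ZMod.natCast_eq_zero_iff _ _).2 hd
    simp only [hfac] at h0
    have hq1' : 1 ≤ q ^ (j + 1) := Nat.one_le_pow _ _ (by omega)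
    rcases Nat.even_or_odd j with he | he
    · rw [if_pos he, Nat.cast_add, Nat.cast_pow, Nat.cast_one] at h0
      rw [he.add_one.neg_pow, eq_neg_of_add_eq_zero_left h0, neg_neg]
    · rw [if_neg (Nat.not_even_iff_odd.2 he), Nat.cast_sub hq1', Nat.cast_pow, Nat.cast_one, sub_eq_zero] at h0
      rw [he.add_one.neg_pow, h0]

include hF in
/-- A fixed-point-free element of order `r` in dimension `orderOf (-q)`. -/
theorem exists_moved_model (hr : (r : F) ≠ 0) (hrq : (q : ZMod r) ≠ 0) :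
    ∃ A : Matrix (Fin (orderOf (-(q : ZMod r)))) (Fin (orderOf (-(q : ZMod r)))) F,
      GL.Preserves (Cfsg.hermForm _ F q) A ∧ A ^ r = (1 : F) • 1 ∧
        LinearMap.ker (Matrix.toLin' A - 1) = ⊥ := by
  set c := orderOf (-(q : ZMod r)) with hc
  have hcpos : 0 < c := orderOf_pos_iff.2 (Ne.isUnit (neg_ne_zero.2 hrq)).isOfFinOrder
  have hdvd : r ∣ Nat.card (Cfsg.GU c F q) := by
    rw [Forms.card_GU hF]
    refine Dvd.dvd.mul_left (Dvd.dvd.trans ?_ (Finset.dvd_prod_of_mem
      (fun i => if Even i then q ^ (i + 1) + 1 else q ^ (i + 1) - 1) (Finset.mem_range.2 (show c - 1 < c by omega)))) _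
    simp only [show c - 1 + 1 = c by omega]
    rw [← ZMod.natCast_eq_zero_iff]
    have h1 : (-(q : ZMod r)) ^ c = 1 := pow_orderOf_eq_one _
    have hq1' : 1 ≤ q ^ c := Nat.one_le_pow _ _ (by have := Forms.one_lt_q hF; omega)
    rcases Nat.even_or_odd (c - 1) with he | he
    · have ho : Odd c := by have := he.add_one; rwa [show c - 1 + 1 = c by omega] at this
      rw [ho.neg_pow] at h1
      rw [if_pos he, Nat.cast_add, Nat.cast_pow, Nat.cast_one, ← h1]
      ring
    · have he' : Even c := by have := he.add_one; rwa [show c - 1 + 1 = c by omega] at this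
      rw [he'.neg_pow] at h1
      rw [if_neg (Nat.not_even_iff_odd.2 he), Nat.cast_sub hq1', Nat.cast_pow, Nat.cast_one, h1, sub_self]
  haveI : Finite (Cfsg.GU c F q) := Subtype.finite
  obtain ⟨g, hg⟩ := exists_prime_orderOf_dvd_card' r hdvd
  set A := ((g : GL (Fin c) F) : Matrix (Fin c) (Fin c) F) with hA
  have hAr : A ^ r = 1 := by
    rw [hA, ← Units.val_pow_eq_pow_val, ← SubgroupClass.coe_pow, ← hg, pow_orderOf_eq_one]
    rfl
  set f : End F (Fin c → F) := Matrix.toLin' A with hfdef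
  have hf : ∀ u v, hermB hF c (f u) (f v) = hermB hF c u v := fun u v => by
    rw [hermB_apply, hermB_apply, hfdef, Matrix.toLin'_apply, Matrix.toLin'_apply]
    exact g.2 v u
  have hpow : f ^ r = 1 := by
    show Matrix.toLinAlgEquiv' A ^ r = 1
    rw [← map_pow, hAr, map_one]
  refine ⟨A, g.2, by rw [hAr, one_smul], ?_⟩
  obtain ⟨-, -, -, -, hdd, -, hcd⟩ := split_fixed (hermB_swap hF) hf (nd_top hF) hr hrq hpow (S := ⊤)
    (fun _ _ => trivial) (nd_top hF)
  rw [finrank_top, Module.finrank_fin_fun, inf_top_eq] at hdd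
  refine Submodule.finrank_eq_zero.1 ?_
  by_contra hne
  have h0 : finrank F ((⊤ : Submodule F (Fin c → F)).map (f - 1)) = 0 := by
    by_contra h
    have := Nat.le_of_dvd (Nat.pos_of_ne_zero h) hcd
    have hne' : finrank F (LinearMap.ker (f - 1)) ≠ 0 := hne
    omega
  rw [Submodule.finrank_eq_zero, Submodule.map_top, LinearMap.range_eq_bot, sub_eq_zero] at h0
  have : g = 1 := Subtype.ext (Units.ext (Matrix.toLin'.injective (h0.trans Matrix.toLin'_one.symm)))
  rw [this, orderOf_one] at hg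
  exact (Fact.out : r.Prime).one_lt.ne hg

include hF in
/-- Necessity, `r` prime to `q + 1`. -/
theorem criterion_of_fixes (hr : (r : F) ≠ 0) (hrq : (q : ZMod r) ≠ 0) (hndvd : ¬ r ∣ q + 1) (hm : m < n)
    (hΩ : r ∣ Nat.card {W : Submodule F (Fin n → F) // finrank F ↥W = m ∧
      (∀ u ∈ W, u ≠ 0 → ∃ v ∈ W, Cfsg.hermForm n F q u v ≠ 0)})
    (hall : ∀ x : Matrix.SpecialLinearGroup (Fin n) F, x ∈ Cfsg.SU n F q →
      (∃ z : F, ((x ^ r : Matrix.SpecialLinearGroup (Fin n) F) : Matrix (Fin n) (Fin n) F) =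
        z • (1 : Matrix (Fin n) (Fin n) F)) →
      (∀ z : F, (x : Matrix (Fin n) (Fin n) F) ≠ z • (1 : Matrix (Fin n) (Fin n) F)) → Fixes q m x) :
    orderOf (-(q : ZMod r)) ≤ m ∧ m % orderOf (-(q : ZMod r)) ≤ n % orderOf (-(q : ZMod r)) := by
  classical
  obtain ⟨j, hj1, hj2, hjd⟩ := exists_factor hF hrq hm.le hΩ
  set c := orderOf (-(q : ZMod r)) with hc
  have hcpos : 0 < c := orderOf_pos_iff.2 (Ne.isUnit (neg_ne_zero.2 hrq)).isOfFinOrder
  have hlow : n % c < m := by
    obtain ⟨e, he⟩ := hjd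
    rw [show n = (n - (j + 1)) + c * e by omega, Nat.add_mul_mod_self_left]
    exact (Nat.mod_le _ _).trans_lt (by omega)
  obtain ⟨A₀, hA₀, hA₀r, hA₀k⟩ := exists_moved_model (r := r) hF hr hrq
  obtain ⟨A₁, hA₁, hA₁r, -, hA₁k⟩ := exists_blocks (hF := hF) (r := r) (one_pow (q + 1)) A₀ hA₀ hA₀r (n / c)
  have hk := hA₁k hA₀k
  have h : c * (n / c) + n % c = n := Nat.div_add_mod n c
  set A := GL.twoBlock h (A₁, (1 : Matrix (Fin (n % c)) (Fin (n % c)) F)) with hA
  have hApres : GL.Preserves (Cfsg.hermForm n F q) A :=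
    GL.preserves_twoBlock hF h hA₁ fun u v => by rw [Matrix.one_mulVec, Matrix.one_mulVec]
  have hAr : A ^ r = 1 := by
    rw [hA, ← map_pow, Prod.pow_mk, hA₁r, one_smul, one_pow, Prod.mk_one_one, map_one]
  have hdetq : A.det ^ (q + 1) = 1 := by
    have hu : IsUnit A := IsUnit.of_pow_eq_one hAr (Fact.out : r.Prime).ne_zero
    exact Forms.det_pow_of_mem_GU hF (g := hu.unit) hApres
  have hdet : A.det = 1 := by
    have h1 : A.det ^ r = 1 := by rw [← Matrix.det_pow, hAr, Matrix.det_one]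
    have h2 := pow_gcd_eq_one.2 ⟨h1, hdetq⟩
    rwa [((Fact.out : r.Prime).coprime_iff_not_dvd.2 hndvd).gcd_eq_one, pow_one] at h2
  obtain ⟨x, hx, hxA⟩ := exists_sl hApres hdet
  -- few fixed vectors
  set e := finSumFinEquiv.trans (finCongr h) with he
  let R : (Fin n → F) →ₗ[F] (Fin (n % c) → F) := LinearMap.funLeft F F fun i => e (Sum.inr i)
  have hfix : finrank F (LinearMap.ker (endOf x - 1)) ≤ n % c := by
    refine le_trans (LinearMap.finrank_le_finrank_of_injective (f := R.comp (LinearMap.ker (endOf x - 1)).subtype)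
      ((injective_iff_map_eq_zero _).2 fun v hv0 => Subtype.ext ?_)) (Module.finrank_fin_fun F).le
    have hv' : A *ᵥ (v : Fin n → F) = v := by
      rw [← hxA, ← Matrix.toLin'_apply]; exact sub_eq_zero.1 (show (endOf x - 1) v.1 = 0 from v.2)
    have hw : (Matrix.fromBlocks A₁ 0 0 1) *ᵥ ((v : Fin n → F) ∘ e) = (v : Fin n → F) ∘ e := by
      change ((Matrix.fromBlocks A₁ 0 0 1).submatrix e.symm e.symm) *ᵥ (v : Fin n → F) = v at hv'
      rw [Matrix.submatrix_mulVec_equiv] at hv'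
      funext i
      have := congrFun hv' (e i)
      simpa using this
    rw [Matrix.fromBlocks_mulVec] at hw
    have h1 : (fun i => (v : Fin n → F) (e (Sum.inl i))) = 0 := (Submodule.mem_bot F).1 (hk ▸ sub_eq_zero.2 (by
      funext i
      simpa [Function.comp_def] using congrFun hw (Sum.inl i)))
    funext j
    obtain ⟨i, rfl⟩ := e.surjective j
    rcases i with i | i
    · exact congrFun h1 i
    · exact congrFun hv0 i
  have hmod := Nat.mod_lt n hcpos
  have hxr : endOf x ^ r = 1 := by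
    show Matrix.toLinAlgEquiv' (x : Matrix (Fin n) (Fin n) F) ^ r = 1
    rw [← map_pow, hxA, hAr, map_one]
  obtain ⟨W, hWi, hWn, hWd⟩ := (fixes_iff hF x).1 (hall x hx
    ⟨1, (endOf_pow_iff x r 1).1 (by rw [hxr, one_smul])⟩ fun z hz => by
      have hfz := (endOf_scalar_iff x z).2 hz
      obtain ⟨hzq, -⟩ := scalar_facts hF (show 0 < n by omega) (r := 1) hx (z := z) (by rw [pow_one, hz])
      have hzr : z ^ r = 1 := by
        have hp := hxr
        rw [hfz, _root_.smul_pow, one_pow] at hp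
        simpa using congrArg (fun g : End F (Fin n → F) => g (fun _ => 1) ⟨0, by omega⟩) hp
      have h2 := pow_gcd_eq_one.2 ⟨hzr, hzq⟩
      rw [((Fact.out : r.Prime).coprime_iff_not_dvd.2 hndvd).gcd_eq_one, pow_one] at h2
      rw [hfz, h2, one_smul, sub_self, LinearMap.ker_zero, finrank_top, Module.finrank_fin_fun] at hfix
      omega)
  obtain ⟨-, -, -, -, hdd, -, b, hb⟩ := split_fixed (hermB_swap hF) (endOf_isom hF hx) (nd_top hF) hr hrq hxr hWi hWn
  rw [hWd, hb] at hdd
  have hKW : finrank F ↥(LinearMap.ker (endOf x - 1) ⊓ W) ≤ n % c :=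
    (Submodule.finrank_mono inf_le_left).trans hfix
  refine ⟨?_, ?_⟩
  · rcases Nat.eq_zero_or_pos b with rfl | hb0
    · omega
    · have : c ≤ c * b := Nat.le_mul_of_pos_right c hb0
      rw [← hc] at hdd
      omega
  · rw [← hdd]
    show (_ + c * b) % c ≤ _
    rw [Nat.add_mul_mod_self_left, Nat.mod_eq_of_lt (by omega)]
    exact hKW

end Semisimple

end Cfsg.Agent.Elusive.Unitary
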