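import Cfsg.Agent.Lib.Elusive.UnitaryNd
import Cfsg.Agent.Lib.Elusive.SympUnipotentPieces

/-!
Unipotent unitary isometries: single blocks of largest size split off orthogonally.
-/

set_option autoImplicit false
set_option linter.unusedSectionVars false
set_option linter.style.haveILetI false

namespace Cfsg.Agent.Elusive.Unitary

open Module
open Forms (qEnd qEnd_qEnd qEnd_ne_id)
open SympUnipotent (TypeOn)

variable {F : Type*} [Field F] [Fintype F] {q : ℕ} {hF : Fintype.card F = q ^ 2}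
  {V : Type*} [AddCommGroup V] [Module F V] [FiniteDimensional F V]
  {B : V →ₛₗ[qEnd hF] V →ₗ[F] F} {f : End F V} (hf : ∀ u v, B (f u) (f v) = B u v)

theorem inv_nil {S : Submodule F V} : Inv f S ↔ Inv (f - 1) S :=
  ⟨fun h v hv => S.sub_mem (h v hv) hv, fun h v hv => by simpa using S.add_mem (h v hv) hv⟩

include hf

/-- High powers of `f - 1` are orthogonal. -/
theorem pair_high {S : Submodule F V} (hS : Inv f S) {k : ℕ} (hk : ∀ v ∈ S, ((f - 1) ^ k) v = 0) :
    ∀ i l, k ≤ i + l → ∀ u ∈ S, ∀ v ∈ S, B (((f - 1) ^ i) u) (((f - 1) ^ l) v) = 0 := by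
  intro i
  induction i with
  | zero =>
    intro l hl u _ v hv
    rw [show l = (l - k) + k by omega, pow_add, Module.End.mul_apply, hk v hv, map_zero, map_zero]
  | succ i ih =>
    intro l hl u hu v hv
    rw [pow_succ, Module.End.mul_apply]
    have e : B (((f - 1) ^ i) ((f - 1) u)) (((f - 1) ^ l) v) =
        - B (((f - 1) ^ i) (f u)) (((f - 1) ^ (l + 1)) v) := by
      have hc : ∀ x, ((f - 1) ^ i) (f x) = f (((f - 1) ^ i) x) := fun x => by
        rw [← Module.End.mul_apply, ← (((Commute.refl f).sub_right (Commute.one_right f)).pow_right i).eq,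
          Module.End.mul_apply]
      rw [hc, pow_succ', Module.End.mul_apply, LinearMap.sub_apply f 1, Module.End.one_apply, map_sub, hc,
        LinearMap.sub_apply f 1, Module.End.one_apply]
      simp only [map_sub, LinearMap.sub_apply, hf]
      ring
    rw [e, ih (l + 1) (by omega) (f u) (hS u hu) v hv, neg_zero]

theorem pair_top {S : Submodule F V} (hS : Inv f S) {k : ℕ} (hk : ∀ v ∈ S, ((f - 1) ^ k) v = 0) :
    ∀ i l, i + l + 1 = k → ∀ u ∈ S, ∀ v ∈ S,
      B (((f - 1) ^ i) u) (((f - 1) ^ l) v) = (-1) ^ i * B u (((f - 1) ^ (k - 1)) v) := by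
  intro i
  induction i with
  | zero =>
    intro l hl u _ v _
    rw [pow_zero, Module.End.one_apply, pow_zero, one_mul, show l = k - 1 by omega]
  | succ i ih =>
    intro l hl u hu v hv
    have h0 := pair_high hf hS hk (i + 1) (l + 1) (by omega) u hu v hv
    have key : ∀ a b, B ((f - 1) a) b + B a ((f - 1) b) + B ((f - 1) a) ((f - 1) b) = 0 := fun a b => by
      simp only [LinearMap.sub_apply, Module.End.one_apply, map_sub, hf]
      ring
    have h := key (((f - 1) ^ i) u) (((f - 1) ^ l) v)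
    rw [← Module.End.mul_apply, ← pow_succ', ← Module.End.mul_apply (f - 1) ((f - 1) ^ l), ← pow_succ', h0,
      add_zero, ih (l + 1) (by omega) u hu v hv] at h
    rw [eq_neg_of_add_eq_zero_left h, pow_succ (-1 : F)]
    ring

variable (hS : ∀ x y, qEnd hF (B x y) = B y x)
include hS

/-- A single block of largest size. -/
theorem exists_piece {S : Submodule F V} (hSi : Inv f S) (hSn : Nd B S) (hne : S ≠ ⊥) {n : ℕ}
    (hn : (f - 1) ^ n = 0) :
    ∃ k, 0 < k ∧ ∃ P ≤ S, Inv f P ∧ Nd B P ∧ TypeOn (f - 1) P {k} := by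
  classical
  set N := f - 1 with hN
  have hex : ∃ k, ∀ v ∈ S, (N ^ k) v = 0 := ⟨n, fun v _ => by rw [hn]; rfl⟩
  have hk0 : 0 < Nat.find hex := by
    refine Nat.pos_of_ne_zero fun h0 => hne ((Submodule.eq_bot_iff _).2 fun v hv => ?_)
    simpa [h0] using Nat.find_spec hex v hv
  set k := Nat.find hex
  have hk : ∀ v ∈ S, (N ^ k) v = 0 := Nat.find_spec hex
  have hNS : ∀ i, ∀ w ∈ S, (N ^ i) w ∈ S := fun i => by
    induction i with
    | zero => intro w hw; simpa using hw
    | succ i ih => intro w hw; rw [pow_succ', Module.End.mul_apply]; exact inv_nil.1 hSi _ (ih w hw)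
  obtain ⟨v, hv, hvv⟩ : ∃ v ∈ S, B v ((N ^ (k - 1)) v) ≠ 0 := by
    by_contra! hall
    obtain ⟨w, hw, hw0⟩ : ∃ w ∈ S, (N ^ (k - 1)) w ≠ 0 := by
      by_contra! h
      exact Nat.find_min hex (Nat.sub_one_lt hk0.ne') h
    obtain ⟨u, hu, huw⟩ := hSn _ (hNS _ w hw) hw0
    obtain ⟨a, ha⟩ : ∃ a, qEnd hF a ≠ a := by
      by_contra h'
      push Not at h'
      exact qEnd_ne_id hF (RingHom.ext h')
    have h1 := hall (u + w) (S.add_mem hu hw)
    have h2 := hall (u + a • w) (S.add_mem hu (S.smul_mem a hw))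
    simp only [map_add, map_smul, LinearMap.add_apply, map_smulₛₗ, LinearMap.smul_apply, smul_eq_mul,
      RingHom.id_apply, hall u hu, hall w hw, mul_zero, zero_add, add_zero] at h1 h2
    refine huw (swap0 hS ((mul_eq_zero.1 (show (qEnd hF a - a) * B u ((N ^ (k - 1)) w) = 0 from ?_)).resolve_left
      (sub_ne_zero.2 ha)))
    linear_combination qEnd hF a * h1 - h2
  refine ⟨k, hk0, ?_⟩
  let z : Fin k → V := fun i => (N ^ (i : ℕ)) v
  have sep : ∀ g : Fin k → F, (∀ l, B (∑ i, g i • z i) (z l) = 0) → g = 0 := by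
    intro g hg
    suffices h : ∀ (n : ℕ) (i : Fin k), (i : ℕ) = n → g i = 0 from funext fun i => h _ i rfl
    intro n
    induction n using Nat.strong_induction_on with
    | _ n ih =>
      intro i hi
      have hik := i.isLt
      have h := hg ⟨k - 1 - i, by omega⟩
      rw [map_sum, LinearMap.sum_apply, Finset.sum_eq_single i] at h
      · rw [map_smulₛₗ, LinearMap.smul_apply, smul_eq_mul] at h
        have h' : qEnd hF (g i) * B ((N ^ (i : ℕ)) v) ((N ^ (k - 1 - (i : ℕ))) v) = 0 := h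
        rw [pair_top hf hSi hk _ _ (by omega) _ hv _ hv, mul_eq_zero, mul_eq_zero, _root_.map_eq_zero] at h'
        exact h'.resolve_right fun h'' =>
          h''.elim (pow_ne_zero _ (neg_ne_zero.2 one_ne_zero)) hvv
      · intro j _ hji
        rcases lt_or_gt_of_ne (Fin.val_ne_of_ne hji) with hlt | hgt
        · rw [ih (j : ℕ) (by omega) j rfl, zero_smul, map_zero, LinearMap.zero_apply]
        · rw [map_smulₛₗ, LinearMap.smul_apply]
          show qEnd hF (g j) • B ((N ^ (j : ℕ)) v) ((N ^ (k - 1 - (i : ℕ))) v) = 0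
          rw [pair_high hf hSi hk _ _ (by omega) _ hv _ hv, smul_zero]
      · simp
  have hli : LinearIndependent F z := Fintype.linearIndependent_iff.2 fun g hg p =>
    congrFun (sep g fun l => by rw [hg, map_zero, LinearMap.zero_apply]) p
  have hzero : ∀ i, k ≤ i → (N ^ i) v = 0 := fun i hi => by
    rw [show i = (i - k) + k by omega, pow_add, Module.End.mul_apply, hk _ hv, map_zero]
  set P := Submodule.span F (Set.range z) with hP
  have hPN : Inv N P := by
    refine inv_iff_map.2 ?_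
    rw [hP, Submodule.map_span_le]
    rintro _ ⟨i, rfl⟩
    show N ((N ^ (i : ℕ)) v) ∈ _
    rw [← Module.End.mul_apply, ← pow_succ']
    by_cases hi : (i : ℕ) + 1 < k
    · exact Submodule.subset_span ⟨⟨_, hi⟩, rfl⟩
    · rw [hzero _ (by omega)]; exact Submodule.zero_mem _
  refine ⟨P, Submodule.span_le.2 (by rintro _ ⟨i, rfl⟩; exact hNS _ _ hv), inv_nil.2 hPN, fun w hw hw0 => ?_,
    fun j => ?_⟩
  · obtain ⟨g, rfl⟩ := (Submodule.mem_span_range_iff_exists_fun F).1 hw
    by_contra! hall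
    exact hw0 (by simp [sep g fun l => hall _ (Submodule.subset_span ⟨l, rfl⟩)])
  · let y : Fin (k - j) → V := fun i => z ⟨(i : ℕ) + j, by have := i.isLt; omega⟩
    have hy : LinearIndependent F y := hli.comp
      (fun i : Fin (k - j) => (⟨(i : ℕ) + j, by have := i.isLt; omega⟩ : Fin k)) fun a b h => by
        simp only [Fin.ext_iff] at h
        exact Fin.ext (by omega)
    have hmap : P.map (N ^ j) = Submodule.span F (Set.range y) := by
      refine le_antisymm ?_ ?_
      · rw [hP, Submodule.map_span_le]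
        rintro _ ⟨i, rfl⟩
        show (N ^ j) ((N ^ (i : ℕ)) v) ∈ _
        rw [← Module.End.mul_apply, ← pow_add, add_comm]
        by_cases hij : (i : ℕ) + j < k
        · exact Submodule.subset_span ⟨⟨i, by omega⟩, rfl⟩
        · rw [hzero _ (by omega)]; exact Submodule.zero_mem _
      · rw [Submodule.span_le]
        rintro _ ⟨i, rfl⟩
        refine ⟨z ⟨i, by have := i.isLt; omega⟩, Submodule.subset_span ⟨_, rfl⟩, ?_⟩
        show (N ^ j) ((N ^ (i : ℕ)) v) = (N ^ ((i : ℕ) + j)) v
        rw [← Module.End.mul_apply, ← pow_add, add_comm]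
    rw [LinRep.JordanType.rankDim, hmap, finrank_span_eq_card hy, Fintype.card_fin]
    simp

/-- The complement of a piece. -/
theorem split_piece (hsep : Nd B (⊤ : Submodule F V)) {S P : Submodule F V} (hSi : Inv f S) (hSn : Nd B S)
    (hPS : P ≤ S) (hP : Inv f P) (hPn : Nd B P) :
    Inv f (S ⊓ perp B P) ∧ Nd B (S ⊓ perp B P) ∧ finrank F P + finrank F ↥(S ⊓ perp B P) = finrank F S ∧
      ∀ μ ν : Multiset ℕ, TypeOn (f - 1) P μ → TypeOn (f - 1) (S ⊓ perp B P) ν → TypeOn (f - 1) S (μ + ν) := by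
  obtain ⟨hn, hsup, hinf⟩ := nd_split hS hPS hPn hSn
  have hi : Inv f (S ⊓ perp B P) := hSi.inf (inv_perp hS hf hsep hP)
  refine ⟨hi, hn, nd_split_finrank hS hPS hPn hSn, fun μ ν h1 h2 k => ?_⟩
  have h := SympUnipotent.rankDim_sup (f - 1) (inv_nil.1 hP) (inv_nil.1 hi) hinf k
  rw [hsup, h1, h2] at h
  rw [h, Multiset.map_add, Multiset.sum_add]

/-- Invariant non-degenerate subspaces of every sub-type. -/
theorem exists_of_subtype (hsep : Nd B (⊤ : Submodule F V)) {m : ℕ} (hnil : (f - 1) ^ m = 0) :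
    ∀ (n : ℕ) (S : Submodule F V) (μ ν : Multiset ℕ), finrank F S = n → Inv f S → Nd B S →
      (∀ a ∈ μ, 0 < a) → TypeOn (f - 1) S μ → ν ≤ μ →
      ∃ W ≤ S, Inv f W ∧ Nd B W ∧ finrank F W = ν.sum := by
  intro n
  induction n using Nat.strong_induction_on with
  | _ n ih =>
    intro S μ ν hn hSi hSn hμpos hμ hν
    rcases eq_or_ne S ⊥ with rfl | hne
    · refine ⟨⊥, le_rfl, hSi, hSn, ?_⟩
      have h0 := hμ.finrank_eq
      rw [finrank_bot] at h0
      obtain rfl : μ = 0 := Multiset.eq_zero_of_forall_notMem fun a ha => by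
        have := Multiset.le_sum_of_mem ha
        have := hμpos a ha
        omega
      simp [Multiset.le_zero.1 hν]
    obtain ⟨k, hk0, P, hPS, hPi, hPn, hPt⟩ := exists_piece hf hS hSi hSn hne hnil
    obtain ⟨hRi, hRn, hd, htype⟩ := split_piece hf hS hsep hSi hSn hPS hPi hPn
    set R := S ⊓ perp B P with hR
    obtain ⟨μ', hμ'pos, hμ'⟩ := SympUnipotent.exists_typeOn (inv_nil.1 hRi) hnil
    have hμeq : μ = k ::ₘ μ' := by
      rw [← Multiset.singleton_add]
      refine SympUnipotent.eq_of_sums hμpos (fun a ha => ?_) fun j => (hμ j).symm.trans (htype {k} μ' hPt hμ' j)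
      rcases Multiset.mem_add.1 ha with h | h
      · rw [Multiset.mem_singleton.1 h]; exact hk0
      · exact hμ'pos a h
    have hlt : finrank F R < n := by
      rw [← hn, ← hd, hPt.finrank_eq, Multiset.sum_singleton]; omega
    rw [hμeq] at hν
    by_cases hmem : k ∈ ν
    · obtain ⟨ν', rfl⟩ := Multiset.exists_cons_of_mem hmem
      obtain ⟨W, hWR, hWi, hWn, hWd⟩ := ih _ hlt R μ' ν' rfl hRi hRn hμ'pos hμ' ((Multiset.cons_le_cons_iff k).1 hν)
      refine ⟨P ⊔ W, sup_le hPS (hWR.trans inf_le_left), hPi.sup hWi,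
        nd_sup hS hPn hWn (hWR.trans inf_le_right), ?_⟩
      rw [finrank_sup_perp hS hPn (hWR.trans inf_le_right), hPt.finrank_eq, Multiset.sum_singleton, hWd,
        Multiset.sum_cons]
    · obtain ⟨W, hWR, hWi, hWn, hWd⟩ := ih _ hlt R μ' ν rfl hRi hRn hμ'pos hμ'
        ((Multiset.le_cons_of_notMem hmem).1 hν)
      exact ⟨W, hWR.trans inf_le_left, hWi, hWn, hWd⟩

end Cfsg.Agent.Elusive.Unitary
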